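import Mathlib
import Cfsg.Agent.Lib.AutPSL.Main

/-!
`SL_n` over a field: generation by transvections, perfectness, simplicity of `PSL_n`, and orders.
-/

set_option autoImplicit false

namespace CfsgLib.Classical

open Matrix

variable {F : Type*} [Field F] {n : ℕ}

/-- A subgroup containing all elementary transvections is everything. -/
theorem sl_eq_top (H : Subgroup (Matrix.SpecialLinearGroup (Fin n) F))
    (h : ∀ (i j : Fin n) (hij : i ≠ j) (c : F), SpecialLinearGroup.transvection hij c ∈ H) : H = ⊤ := by
  refine eq_top_iff.2 fun M _ => ?_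
  rcases Nat.lt_or_ge n 2 with hn | hn
  · have : M = 1 := by
      apply Subtype.ext
      have hd := M.2
      ext i j
      interval_cases n
      · exact i.elim0
      · have hi : i = 0 := Subsingleton.elim _ _
        have hj : j = 0 := Subsingleton.elim _ _
        subst hi hj
        simpa [det_fin_one] using hd
    exact this ▸ H.one_mem
  haveI : Nontrivial (Fin n) := ⟨⟨⟨0, by omega⟩, ⟨1, by omega⟩, by simp [Fin.ext_iff]⟩⟩
  refine Matrix.SpecialLinearGroup.diagonal_transvection_induction' (· ∈ H) M
    (fun i j hij c hc => ?_) (fun i j hij c => h i j hij c) fun A B => H.mul_mem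
  rw [AutPSL.diag2n_eq hij c hc]
  simp only [AutPSL.xr_eq_transvection]
  exact H.mul_mem (H.mul_mem (H.mul_mem (H.mul_mem (H.mul_mem (h _ _ _ _) (h _ _ _ _))
    (h _ _ _ _)) (h _ _ _ _)) (h _ _ _ _)) (h _ _ _ _)

open scoped commutatorElement in
theorem commutator_transvection {i j k : Fin n} (hik : i ≠ k) (hkj : k ≠ j) (hij : i ≠ j) (a b : F) :
    ⁅SpecialLinearGroup.transvection hik a, SpecialLinearGroup.transvection hkj b⁆ =
      SpecialLinearGroup.transvection hij (a * b) := by
  rw [commutatorElement_def, SpecialLinearGroup.transvection_inv, SpecialLinearGroup.transvection_inv]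
  apply Subtype.ext
  have key : ∀ A B : Matrix (Fin n) (Fin n) F, A * A = 0 → B * B = 0 → B * A = 0 →
      (1 + A) * (1 + B) * (1 + -A) * (1 + -B) = 1 + A * B := by
    intro A B h1 h2 h3
    have h4 : A * B * A = 0 := by rw [mul_assoc, h3, mul_zero]
    have h5 : A * B * B = 0 := by rw [mul_assoc, h2, mul_zero]
    have h6 : A * A * B = 0 := by rw [h1, zero_mul]
    simp only [mul_add, add_mul, mul_one, one_mul, mul_neg, neg_mul, h1, h2, h3, h4, h5,
      zero_mul, neg_zero, add_zero]
    abel
  show ((1 : Matrix (Fin n) (Fin n) F) + single i k a) * (1 + single k j b) * (1 + single i k (-a)) *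
    (1 + single k j (-b)) = 1 + single i j (a * b)
  rw [← single_neg, ← single_neg, key _ _ (single_mul_single_of_ne _ _ _ _ hik.symm _)
    (single_mul_single_of_ne _ _ _ _ hkj.symm _) (single_mul_single_of_ne _ _ _ _ hij.symm _),
    single_mul_single_same]

/-- `SL_n`, `n ≥ 3`, is perfect. -/
theorem sl_commutator (hn : 3 ≤ n) : commutator (Matrix.SpecialLinearGroup (Fin n) F) = ⊤ := by
  refine sl_eq_top _ fun i j hij c => ?_
  obtain ⟨k, hki, hkj⟩ : ∃ k : Fin n, k ≠ i ∧ k ≠ j := by
    by_contra hc
    simp only [not_exists, not_and, not_not] at hc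
    have : (Finset.univ : Finset (Fin n)) ⊆ {i, j} := fun k _ => by
      rcases eq_or_ne k i with rfl | hk
      · simp
      · simp [hc k hk]
    have h2 := (Finset.card_le_card this).trans Finset.card_le_two
    simp at h2
    omega
  rw [← one_mul c, ← commutator_transvection hki.symm hkj hij]
  exact Subgroup.commutator_mem_commutator (Subgroup.mem_top _) (Subgroup.mem_top _)

open scoped LinearAlgebra.Projectivization in
/-- `PSL_n`, `n ≥ 3`, is simple. -/
theorem psl_isSimple (hn : 3 ≤ n) : IsSimpleGroup (Matrix.ProjectiveSpecialLinearGroup (Fin n) F) := by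
  let π : Matrix.SpecialLinearGroup (Fin n) F →* Matrix.ProjectiveSpecialLinearGroup (Fin n) F :=
    QuotientGroup.mk' _
  have hπ : Function.Surjective π := QuotientGroup.mk'_surjective _
  haveI : Nontrivial (Fin n) := ⟨⟨⟨0, by omega⟩, ⟨1, by omega⟩, by simp [Fin.ext_iff]⟩⟩
  haveI : Nontrivial (Matrix.ProjectiveSpecialLinearGroup (Fin n) F) := SL2Simple.PSL_nontrivial
  refine MulAction.IwasawaStructure.isSimpleGroup (α := ℙ F (Fin n → F)) ?_
    { T := PSL.iwasawaT
      is_comm := fun p => by
        have hSL : IsMulCommutative (SpecialLinearGroup.lineStab (F := F) (ι := Fin n) p.submodule) := by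
          rw [← Projectivization.mk_rep p, Projectivization.submodule_mk]
          exact SpecialLinearGroup.lineStab_isMulCommutative_of_span p.rep p.rep_nonzero
        exact Subgroup.map_isMulCommutative _ _
      is_conj := fun g p => by
        obtain ⟨g_SL, rfl⟩ := QuotientGroup.mk_surjective g
        rw [Matrix.ProjectiveSpecialLinearGroup.smul_proj_mk]
        change Subgroup.map _ _ = _
        rw [PSL.smul_submodule, Matrix.SpecialLinearGroup.lineStab_smul, PSL.iwasawaT_map_conj]
      is_generator := ?_ } inferInstance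
  · have h := (sl_commutator (F := F) hn)
    rw [commutator_def] at h ⊢
    rw [← Subgroup.map_top_of_surjective π hπ, ← Subgroup.map_commutator, h]
  · have h : (⨆ p : ℙ F (Fin n → F), SpecialLinearGroup.lineStab (F := F) p.submodule) = ⊤ := by
      refine sl_eq_top _ fun i j hij c => ?_
      refine Subgroup.mem_iSup_of_mem (Projectivization.mk F (Pi.single i (1 : F)) (by simp)) ?_
      rw [Projectivization.submodule_mk]
      exact SL2Gen.transvection_mem_lineStab hij c
    show (⨆ p, PSL.iwasawaT p) = ⊤
    rw [← Subgroup.map_top_of_surjective π hπ, ← h, Subgroup.map_iSup]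

variable [Fintype F]

theorem det_gl_surjective (hn : 1 ≤ n) :
    Function.Surjective (GeneralLinearGroup.det : GL (Fin n) F → Fˣ) := by
  intro u
  haveI : Nonempty (Fin n) := ⟨⟨0, hn⟩⟩
  exact GeneralLinearGroup.det_surjective u

theorem card_sl_mul (hn : 1 ≤ n) :
    (Fintype.card F - 1) * Nat.card (Matrix.SpecialLinearGroup (Fin n) F) =
      ∏ i : Fin n, (Fintype.card F ^ n - Fintype.card F ^ (i : ℕ)) := by
  rw [← Matrix.card_GL_field]
  set d : GL (Fin n) F →* Fˣ := GeneralLinearGroup.det
  rw [Subgroup.card_eq_card_quotient_mul_card_subgroup d.ker,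
    Nat.card_congr (QuotientGroup.quotientKerEquivOfSurjective d (det_gl_surjective hn)).toEquiv,
    Nat.card_units, Nat.card_eq_fintype_card (α := F)]
  congr 1
  exact Nat.card_congr
    { toFun := fun A => ⟨SpecialLinearGroup.toGL A, by
        rw [MonoidHom.mem_ker]; exact Units.ext A.2⟩
      invFun := fun g => ⟨g.1.1, congrArg Units.val (MonoidHom.mem_ker.1 g.2)⟩
      left_inv := fun A => rfl
      right_inv := fun g => Subtype.ext (Units.ext rfl) }

theorem card_center_sl (hn : 1 ≤ n) :
    Nat.card (Subgroup.center (Matrix.SpecialLinearGroup (Fin n) F)) =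
      Nat.gcd n (Fintype.card F - 1) := by
  haveI : Nonempty (Fin n) := ⟨⟨0, hn⟩⟩
  rw [Nat.card_congr (SpecialLinearGroup.center_equiv_rootsOfUnity (n := Fin n) (R := F)).toEquiv,
    Fintype.card_fin, max_eq_left hn]
  have e : rootsOfUnity n F = (powMonoidHom n : Fˣ →* Fˣ).ker := by
    ext x; rw [mem_rootsOfUnity, MonoidHom.mem_ker, powMonoidHom_apply]
  rw [e, IsCyclic.card_powMonoidHom_ker, Nat.card_units, Nat.card_eq_fintype_card, Nat.gcd_comm]

theorem card_psl_mul (hn : 1 ≤ n) :
    Nat.gcd n (Fintype.card F - 1) *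
        ((Fintype.card F - 1) * Nat.card (Matrix.ProjectiveSpecialLinearGroup (Fin n) F)) =
      ∏ i : Fin n, (Fintype.card F ^ n - Fintype.card F ^ (i : ℕ)) := by
  rw [← card_sl_mul hn, Subgroup.card_eq_card_quotient_mul_card_subgroup
    (Subgroup.center (Matrix.SpecialLinearGroup (Fin n) F)), card_center_sl hn]
  show _ * (_ * Nat.card (Matrix.SpecialLinearGroup (Fin n) F ⧸ Subgroup.center _)) = _
  ring

theorem card_pgl_eq (n : ℕ) :
    Nat.card (Matrix.ProjGenLinGroup (Fin n) F) = Nat.card (Matrix.SpecialLinearGroup (Fin n) F) := by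
  rcases Nat.eq_zero_or_pos n with rfl | hn
  · haveI : Subsingleton (GL (Fin 0) F) := ⟨fun a b => Units.ext (Subsingleton.elim _ _)⟩
    haveI : Subsingleton (Matrix.ProjGenLinGroup (Fin 0) F) :=
      Matrix.ProjGenLinGroup.mk_surjective.subsingleton
    haveI : Nonempty (Matrix.ProjGenLinGroup (Fin 0) F) := ⟨1⟩
    haveI : Subsingleton (Matrix.SpecialLinearGroup (Fin 0) F) := ⟨fun a b => Subtype.ext (Subsingleton.elim _ _)⟩
    rw [Nat.card_of_subsingleton (1 : Matrix.ProjGenLinGroup (Fin 0) F),
      Nat.card_of_subsingleton (1 : Matrix.SpecialLinearGroup (Fin 0) F)]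
  haveI : Nonempty (Fin n) := ⟨⟨0, hn⟩⟩
  have h1 := Subgroup.card_eq_card_quotient_mul_card_subgroup (Subgroup.center (GL (Fin n) F))
  have hc : Nat.card (Subgroup.center (GL (Fin n) F)) = Fintype.card F - 1 := by
    rw [GeneralLinearGroup.center_eq_range_scalar]
    rw [← Nat.card_congr (MonoidHom.ofInjective (f := GeneralLinearGroup.scalar (Fin n) (R := F))
      fun a b h => Units.ext (by
        have := congrArg (fun g : GL (Fin n) F => g.1 ⟨0, hn⟩ ⟨0, hn⟩) h
        simpa using this)).toEquiv, Nat.card_units, Nat.card_eq_fintype_card]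
  rw [Matrix.card_GL_field, ← card_sl_mul hn, hc] at h1
  have hq : 0 < Fintype.card F - 1 := by
    have := Fintype.one_lt_card (α := F); omega
  refine Nat.eq_of_mul_eq_mul_right hq ?_
  rw [mul_comm (Nat.card (Matrix.SpecialLinearGroup (Fin n) F)), h1]
  rfl

end CfsgLib.Classical
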