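import Mathlib
import Cfsg.Prelude.Def_Classical

/-!
# Orbit and stabiliser bookkeeping for isometry groups given as `preserving`
-/

set_option autoImplicit false

namespace CfsgLib.Classical

open scoped Matrix
open Matrix

theorem card_eq_card_orbit_mul {G : Type*} [Group G] {P : Type*} (π : G → P) (H : Subgroup G)
    (hπ : Function.Surjective π) (h : ∀ a b, π a = π b ↔ a⁻¹ * b ∈ H) :
    Nat.card G = Nat.card P * Nat.card H := by
  rw [Subgroup.card_eq_card_quotient_mul_card_subgroup H]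
  congr 1
  refine Nat.card_eq_of_bijective (Quotient.lift π fun a b hab => (h a b).2 ?_) ⟨?_, fun p => ?_⟩
  · exact QuotientGroup.leftRel_apply.1 hab
  · rintro ⟨a⟩ ⟨b⟩ hab
    exact Quotient.sound (QuotientGroup.leftRel_apply.2 ((h a b).1 hab))
  · obtain ⟨a, ha⟩ := hπ p
    exact ⟨QuotientGroup.mk a, ha⟩

variable {F : Type*} [Field F]

theorem mem_preserving_iff {ι : Type} [Fintype ι] [DecidableEq ι] {f : (ι → F) → (ι → F) → F}
    {g : GL ι F} :
    g ∈ Cfsg.preserving (Units.coeHom (Matrix ι ι F)) f ↔ ∀ u v, f (g.1 *ᵥ u) (g.1 *ᵥ v) = f u v := Iff.rfl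

theorem gl_ext_mulVec {ι : Type} [Fintype ι] [DecidableEq ι] {g h : GL ι F}
    (e : ∀ x, g.1 *ᵥ x = h.1 *ᵥ x) : g = h :=
  Units.ext (Matrix.ext_iff_mulVec.2 e)

theorem gl_inv_mulVec {ι : Type} [Fintype ι] [DecidableEq ι] (g : GL ι F) (x : ι → F) :
    (g⁻¹).1 *ᵥ (g.1 *ᵥ x) = x := by
  rw [Matrix.mulVec_mulVec, Units.inv_mul, Matrix.one_mulVec]

/-- the fixer of a frame inside `preserving f` is the group of the complementary form -/
theorem card_fixer {κ ι : Type} [Fintype κ] [DecidableEq κ] [Fintype ι] [DecidableEq ι] {R : Type*}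
    [AddCommGroup R] [Module F R] (e : (κ → F) ≃ₗ[F] R × (ι → F))
    (f : (κ → F) → (κ → F) → F) (f' : (ι → F) → (ι → F) → F) (r : R → R → F)
    (hsplit : ∀ u v, f u v = r (e u).1 (e v).1 + f' (e u).2 (e v).2)
    (K : Subgroup (Cfsg.preserving (Units.coeHom (Matrix κ κ F)) f))
    (hK : ∀ g, g ∈ K ↔ ∀ x, (e x).2 = 0 → (g : GL κ F).1 *ᵥ x = x)
    (hfix : ∀ g ∈ K, ∀ x, (e ((g : GL κ F).1 *ᵥ x)).1 = (e x).1) :
    Nat.card K = Nat.card (Cfsg.preserving (Units.coeHom (Matrix ι ι F)) f') := by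
  classical
  let i : (ι → F) →ₗ[F] (κ → F) := e.symm.toLinearMap ∘ₗ LinearMap.inr F R (ι → F)
  let p : (κ → F) →ₗ[F] (ι → F) := LinearMap.snd F R (ι → F) ∘ₗ e.toLinearMap
  let q : (κ → F) →ₗ[F] R := LinearMap.fst F R (ι → F) ∘ₗ e.toLinearMap
  have hi1 : ∀ a, (e (i a)).1 = 0 := fun a => by simp [i]
  have hi2 : ∀ a, (e (i a)).2 = a := fun a => by simp [i]
  let res : GL κ F → Matrix ι ι F := fun g =>
    LinearMap.toMatrix' (p ∘ₗ Matrix.mulVecLin g.1 ∘ₗ i)
  have hres : ∀ g a, res g *ᵥ a = (e (g.1 *ᵥ i a)).2 := fun g a => by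
    rw [LinearMap.toMatrix'_mulVec]; rfl
  have hdecomp : ∀ g ∈ K, ∀ x, e ((g : GL κ F).1 *ᵥ x) = ((e x).1, res (g : GL κ F) *ᵥ (e x).2) := by
    intro g hg x
    refine Prod.ext (hfix g hg x) ?_
    have hx : x = e.symm ((e x).1, 0) + i (e x).2 := by
      apply e.injective
      simp [i]
    conv_lhs => rw [hx, Matrix.mulVec_add, (hK g).1 hg _ (by simp)]
    simp [hres]
  let ext : Matrix ι ι F → Matrix κ κ F := fun A =>
    LinearMap.toMatrix' (e.symm.toLinearMap ∘ₗ LinearMap.prod q (Matrix.mulVecLin A ∘ₗ p))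
  have hext : ∀ A x, e (ext A *ᵥ x) = ((e x).1, A *ᵥ (e x).2) := fun A x => by
    rw [LinearMap.toMatrix'_mulVec]
    simp [p, q]
  have hext1 : ext 1 = 1 := Matrix.ext_iff_mulVec.2 fun x => e.injective (by rw [hext]; simp)
  have hextm : ∀ A B, ext (A * B) = ext A * ext B := fun A B => Matrix.ext_iff_mulVec.2 fun x => e.injective (by
    rw [← Matrix.mulVec_mulVec, hext, hext, hext, Matrix.mulVec_mulVec])
  let E : GL ι F →* GL κ F := Units.map { toFun := ext, map_one' := hext1, map_mul' := hextm }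
  have hE : ∀ A x, e ((E A).1 *ᵥ x) = ((e x).1, A.1 *ᵥ (e x).2) := fun A x => hext A.1 x
  have hEmem : ∀ A : Cfsg.preserving (Units.coeHom (Matrix ι ι F)) f',
      E A.1 ∈ Cfsg.preserving (Units.coeHom (Matrix κ κ F)) f := fun A u v => by
    show f ((E A.1).1 *ᵥ u) ((E A.1).1 *ᵥ v) = f u v
    rw [hsplit, hsplit, hE, hE, mem_preserving_iff.1 A.2]
  have hEfix : ∀ (A : GL ι F) (hA : E A ∈ Cfsg.preserving (Units.coeHom (Matrix κ κ F)) f),
      (⟨E A, hA⟩ : Cfsg.preserving (Units.coeHom (Matrix κ κ F)) f) ∈ K := fun A hA =>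
    (hK _).2 fun x hx => e.injective (by
      show e ((E A).1 *ᵥ x) = e x
      rw [hE, hx, Matrix.mulVec_zero, ← hx])
  let Φ : Cfsg.preserving (Units.coeHom (Matrix ι ι F)) f' → K := fun A =>
    ⟨⟨E A.1, hEmem A⟩, hEfix A.1 (hEmem A)⟩
  have key : ∀ a b : K, (∀ x, (a.1.1 : GL κ F).1 *ᵥ ((b.1.1 : GL κ F).1 *ᵥ x) = x) →
      res a.1.1 * res b.1.1 = 1 := by
    intro a b hab
    refine Matrix.ext_iff_mulVec.2 fun v => ?_
    have h1 := hdecomp a.1 a.2 ((b.1.1 : GL κ F).1 *ᵥ i v)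
    rw [hab, hdecomp b.1 b.2, hi1, hi2] at h1
    have h2 := congrArg Prod.snd h1
    rw [hi2] at h2
    rw [← Matrix.mulVec_mulVec, Matrix.one_mulVec]
    exact h2.symm
  have hinj : Function.Injective Φ := by
    intro A B h
    refine Subtype.ext (gl_ext_mulVec fun a => ?_)
    have h0 : E A.1 = E B.1 := congrArg (fun g : K => g.1.1) h
    have h1 := congrArg (fun g : GL κ F => (e (g.1 *ᵥ i a)).2) h0
    simp only [hE, hi2] at h1
    exact h1
  have hsurj : Function.Surjective Φ := by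
    intro g
    have h1 : res g.1.1 * res (g⁻¹).1.1 = 1 := key g g⁻¹ fun x => by
      rw [show ((g⁻¹).1.1 : GL κ F) = (g.1.1)⁻¹ from rfl, Matrix.mulVec_mulVec, Units.mul_inv, Matrix.one_mulVec]
    have h2 : res (g⁻¹).1.1 * res g.1.1 = 1 := key g⁻¹ g fun x => gl_inv_mulVec _ x
    let A : GL ι F := ⟨res g.1.1, res (g⁻¹).1.1, h1, h2⟩
    have hA : A ∈ Cfsg.preserving (Units.coeHom (Matrix ι ι F)) f' := by
      rw [mem_preserving_iff]
      intro a b
      show f' (res g.1.1 *ᵥ a) (res g.1.1 *ᵥ b) = f' a b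
      have := mem_preserving_iff.1 g.1.2 (i a) (i b)
      rw [hsplit, hsplit, hdecomp g.1 g.2, hdecomp g.1 g.2, hi1, hi1, hi2, hi2] at this
      exact add_left_cancel this
    refine ⟨⟨A, hA⟩, Subtype.ext (Subtype.ext (gl_ext_mulVec fun x => e.injective ?_))⟩
    exact (hE A x).trans (hdecomp g.1 g.2 x).symm
  exact (Nat.card_eq_of_bijective Φ ⟨hinj, hsurj⟩).symm

/-- reindexing the coordinates does not change the order -/
theorem card_preserving_congr {κ ι : Type} [Fintype κ] [DecidableEq κ] [Fintype ι] [DecidableEq ι] (s : ι ≃ κ)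
    (f : (κ → F) → (κ → F) → F) (f' : (ι → F) → (ι → F) → F)
    (h : ∀ u v, f u v = f' (u ∘ s) (v ∘ s)) :
    Nat.card (Cfsg.preserving (Units.coeHom (Matrix κ κ F)) f) =
      Nat.card (Cfsg.preserving (Units.coeHom (Matrix ι ι F)) f') := by
  let e : (κ → F) ≃ₗ[F] (Fin 0 → F) × (ι → F) :=
    { toFun := fun x => (0, x ∘ s)
      map_add' := fun x y => Prod.ext (Subsingleton.elim _ _) rfl
      map_smul' := fun c x => Prod.ext (Subsingleton.elim _ _) rfl
      invFun := fun a => a.2 ∘ s.symm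
      left_inv := fun x => by funext j; simp
      right_inv := fun a => Prod.ext (Subsingleton.elim _ _) (by funext j; simp) }
  rw [← Subgroup.card_top (G := Cfsg.preserving (Units.coeHom (Matrix κ κ F)) f)]
  refine card_fixer e f f' (fun _ _ => 0) (fun u v => by rw [zero_add]; exact h u v) _ (fun g => ?_) fun g _ x => Subsingleton.elim _ _
  refine ⟨fun _ x hx => ?_, fun _ => Subgroup.mem_top _⟩
  have : x = 0 := e.injective (Prod.ext (Subsingleton.elim _ _) (by rw [hx, map_zero]; rfl))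
  rw [this, Matrix.mulVec_zero]

end CfsgLib.Classical
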