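import Mathlib
import Cfsg.Agent.Lib.Classical.CountBase
import Cfsg.Agent.Lib.SU.CenterCard

/-!
# Counting for the Hermitian form, and the orders of the unitary groups
-/

set_option autoImplicit false

namespace CfsgLib.Classical

open scoped Matrix
open Matrix CfsgLib.SU

attribute [local instance] _root_.Classical.propDecidable

theorem uctx_exists {F : Type*} [Field F] [Fintype F] {q : ℕ} (hF : Fintype.card F = q ^ 2) :
    Nonempty (UCtx F q) := by
  obtain ⟨p, hp⟩ := CharP.exists F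
  obtain ⟨k, hpp, hk⟩ := FiniteField.card F p
  haveI := Fact.mk hpp
  rw [hF] at hk
  obtain ⟨f, -, hq⟩ := (Nat.dvd_prime_pow hpp).1 (hk ▸ dvd_pow_self q two_ne_zero)
  have hf : 1 ≤ f := by
    rcases Nat.eq_zero_or_pos f with rfl | h
    · exfalso
      have h1 := Fintype.one_lt_card (α := F)
      rw [hF, hq] at h1
      simp at h1
    · exact h
  exact CfsgLib.SU.exists_ctx hq hf hF

variable {F : Type*} [Field F] [Fintype F] {q : ℕ} (C : UCtx F q)

theorem two_le_q (hF : Fintype.card F = q ^ 2) : 2 ≤ q := by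
  have h3 : 1 < q ^ 2 := hF ▸ Fintype.one_lt_card
  rcases q with _ | _ | q
  · simp at h3
  · simp at h3
  · omega

/-- number of vectors of given norm -/
noncomputable def hcount (n : ℕ) (c : F) : ℕ := Nat.card {v : Fin n → F // C.form v v = c}

theorem form_cons {n : ℕ} (x y : F) (u v : Fin n → F) :
    C.form (Fin.cons x u) (Fin.cons y v) = x * C.bar y + C.form u v := by
  simp [UCtx.form, Fin.sum_univ_succ]

theorem hcount_zero (c : F) : hcount C 0 c = if c = 0 then 1 else 0 := by
  classical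
  unfold hcount
  have h : ∀ v : Fin 0 → F, C.form v v = 0 := fun v => by simp [UCtx.form]
  split_ifs with hc
  · subst hc
    haveI : Unique {v : Fin 0 → F // C.form v v = 0} :=
      ⟨⟨⟨0, h 0⟩⟩, fun v => Subtype.ext (Subsingleton.elim _ _)⟩
    exact Nat.card_unique
  · haveI : IsEmpty {v : Fin 0 → F // C.form v v = c} := ⟨fun v => hc (v.2.symm.trans (h v.1))⟩
    exact Nat.card_of_isEmpty

theorem hcount_succ (n : ℕ) (c : F) :
    hcount C (n + 1) c = ∑ x : F, hcount C n (c - x * C.bar x) := by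
  classical
  unfold hcount
  rw [← Nat.card_sigma]
  refine Nat.card_congr ?_
  refine ((Fin.consEquiv fun _ => F).symm.subtypeEquiv (q := fun p : F × (Fin n → F) =>
    C.form p.2 p.2 = c - p.1 * C.bar p.1) fun v => ?_).trans
    (Equiv.subtypeProdEquivSigmaSubtype fun (x : F) (v : Fin n → F) => C.form v v = c - x * C.bar x)
  show _ ↔ C.form (Fin.tail v) (Fin.tail v) = c - v 0 * C.bar (v 0)
  conv_lhs => rw [← Fin.cons_self_tail v, form_cons]
  exact ⟨fun h => eq_sub_of_add_eq' h, fun h => by rw [h]; ring⟩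

theorem hcount_scale (n : ℕ) {c : F} (hc : C.bar c = c) (hc0 : c ≠ 0) : hcount C n c = hcount C n 1 := by
  obtain ⟨a, ha⟩ := C.exists_norm hc
  have ha0 : a ≠ 0 := fun h => hc0 (by rw [← ha, h, zero_mul])
  symm
  refine Nat.card_congr ⟨fun v => ⟨a • v.1, by rw [C.form_smul_left, C.form_smul_right, v.2, mul_one, ha]⟩,
    fun v => ⟨a⁻¹ • v.1, by
      rw [C.form_smul_left, C.form_smul_right, v.2, map_inv₀, ← mul_assoc, ← mul_inv, ha, inv_mul_cancel₀ hc0]⟩,
    fun v => Subtype.ext (by simp [smul_smul, inv_mul_cancel₀ ha0]),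
    fun v => Subtype.ext (by simp [smul_smul, mul_inv_cancel₀ ha0])⟩

theorem card_norm_eq_one (hF : Fintype.card F = q ^ 2) : Nat.card {x : F // x * C.bar x = 1} = q + 1 := by
  rw [← C.card_unitOne hF]
  refine Nat.card_congr ⟨fun x => ⟨Units.mk0 x.1 (left_ne_zero_of_mul_eq_one x.2), x.2⟩, fun u => ⟨_, u.2⟩,
    fun x => rfl, fun u => Subtype.ext (Units.ext rfl)⟩

theorem hcount_recursion (hF : Fintype.card F = q ^ 2) (n : ℕ) :
    hcount C (n + 1) 0 = hcount C n 0 + (q ^ 2 - 1) * hcount C n 1 ∧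
      hcount C (n + 1) 1 = (q + 1) * hcount C n 0 + (q ^ 2 - (q + 1)) * hcount C n 1 := by
  classical
  constructor
  · rw [hcount_succ, ← Finset.add_sum_erase _ _ (Finset.mem_univ (0 : F))]
    rw [zero_mul, sub_zero, Finset.sum_congr rfl (fun x hx => hcount_scale C n
      (c := 0 - x * C.bar x) (by rw [map_sub, map_zero, C.norm_fixed]) (by
        rw [zero_sub, neg_ne_zero]
        exact mul_ne_zero (Finset.ne_of_mem_erase hx)
          (by rw [ne_eq, map_eq_zero_iff _ C.bar.injective]; exact Finset.ne_of_mem_erase hx))),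
      Finset.sum_const, Finset.card_erase_of_mem (Finset.mem_univ _), Finset.card_univ, hF, smul_eq_mul]
  · rw [hcount_succ, ← Finset.sum_filter_add_sum_filter_not Finset.univ (fun x : F => x * C.bar x = 1)]
    have hS : (Finset.univ.filter fun x : F => x * C.bar x = 1).card = q + 1 := by
      rw [← Fintype.card_subtype, ← Nat.card_eq_fintype_card, card_norm_eq_one C hF]
    have hS' : ∀ x ∈ Finset.univ.filter (fun x : F => ¬ x * C.bar x = 1),
        hcount C n (1 - x * C.bar x) = hcount C n 1 := fun x hx =>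
      hcount_scale C n (c := 1 - x * C.bar x) (by rw [map_sub, map_one, C.norm_fixed])
        (sub_ne_zero.2 fun h => (Finset.mem_filter.1 hx).2 h.symm)
    rw [Finset.sum_congr rfl (fun x hx => by rw [(Finset.mem_filter.1 hx).2, sub_self] :
        ∀ x ∈ Finset.univ.filter (fun x : F => x * C.bar x = 1), hcount C n (1 - x * C.bar x) = hcount C n 0),
      Finset.sum_congr rfl hS',
      Finset.sum_const, Finset.sum_const, hS, Finset.filter_not, Finset.card_sdiff_of_subset (Finset.subset_univ _),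
      hS, Finset.card_univ, hF, smul_eq_mul, smul_eq_mul]

theorem hcount_closed (hF : Fintype.card F = q ^ 2) (n : ℕ) :
    (hcount C (n + 1) 0 : ℤ) = (q : ℤ) ^ (2 * n + 1) + (-1) ^ (n + 1) * ((q : ℤ) ^ (n + 1) - (q : ℤ) ^ n) ∧
      (hcount C (n + 1) 1 : ℤ) = (q : ℤ) ^ (2 * n + 1) - (-1) ^ (n + 1) * (q : ℤ) ^ n := by
  have hq := two_le_q hF
  have h1 : q + 1 ≤ q ^ 2 := by nlinarith
  induction n with
  | zero =>
    obtain ⟨a, b⟩ := hcount_recursion C hF 0
    rw [a, b, hcount_zero, hcount_zero, if_pos rfl, if_neg one_ne_zero]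
    constructor <;> push_cast <;> ring
  | succ n ih =>
    obtain ⟨a, b⟩ := hcount_recursion C hF (n + 1)
    rw [a, b]
    push_cast [Nat.cast_sub h1, Nat.cast_sub (show 1 ≤ q ^ 2 by omega)]
    rw [ih.1, ih.2]
    constructor <;> ring

theorem hcount_one_eq (hF : Fintype.card F = q ^ 2) (n : ℕ) :
    hcount C (n + 1) 1 = q ^ n * (if Even n then q ^ (n + 1) + 1 else q ^ (n + 1) - 1) := by
  have hq := two_le_q hF
  have h := (hcount_closed C hF n).2
  have h1 : 1 ≤ q ^ (n + 1) := Nat.one_le_pow _ _ (by omega)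
  split_ifs with he
  · rw [Even.neg_one_pow he |> fun e => (show ((-1 : ℤ)) ^ (n + 1) = -1 by rw [pow_succ, e, one_mul])] at h
    zify
    rw [h]; ring
  · rw [(Nat.not_even_iff_odd.1 he).neg_one_pow |> fun e => (show ((-1 : ℤ)) ^ (n + 1) = 1 by rw [pow_succ, e]; norm_num)] at h
    zify [h1]
    rw [h]; ring

omit [Fintype F] in
theorem gu_mem_iff {n : ℕ} {g : GL (Fin n) F} :
    g ∈ Cfsg.GU n F q ↔ ∀ u v, C.form (g.1 *ᵥ u) (g.1 *ᵥ v) = C.form u v := by
  simp only [← C.hermForm_eq]
  rfl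

theorem exists_gu_move {n : ℕ} {v w : Fin n → F} (hv : C.form v v = 1) (hw : C.form w w = 1)
    (hF : Fintype.card F = q ^ 2) :
    ∃ g ∈ Cfsg.GU n F q, g.1 *ᵥ v = w := by
  classical
  have step : ∀ v w : Fin n → F, C.form v v = 1 → C.form w w = 1 → C.form v w ≠ 1 →
      ∃ g ∈ Cfsg.GU n F q, g.1 *ᵥ v = w := by
    intro v w hv hw hne
    set u := v - w with hu
    have hvu : C.form v u = 1 - C.form v w := by rw [hu, C.form_sub_right, hv]
    have hwv : C.form w v = C.bar (C.form v w) := (C.bar_form v w).symm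
    have h0 : 1 - C.form v w ≠ 0 := sub_ne_zero.2 (Ne.symm hne)
    have h0' : 1 - C.bar (C.form v w) ≠ 0 := fun h => hne (by
      apply C.bar.injective; rw [map_one]; linear_combination -h)
    have h0'' : 1 - C.form w v ≠ 0 := hwv ▸ h0'
    set l := (1 - C.form v w)⁻¹ with hl
    have huu : C.form u u = (1 - C.form v w) + (1 - C.bar (C.form v w)) := by
      rw [hu, C.form_sub_left, C.form_sub_right, C.form_sub_right, hv, hw, hwv]; ring
    let L : (Fin n → F) →ₗ[F] (Fin n → F) :=
      { toFun := fun x => x - (l * C.form x u) • u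
        map_add' := fun x y => by rw [C.form_add_left]; module
        map_smul' := fun c x => by rw [C.form_smul_left, RingHom.id_apply]; module }
    have hpres : ∀ x y, C.form (L x) (L y) = C.form x y := by
      intro x y
      show C.form (x - _ • u) (y - _ • u) = _
      simp only [C.form_sub_left, C.form_sub_right, C.form_smul_left, C.form_smul_right, map_mul, hl, map_inv₀,
        map_sub, map_one, C.bar_form, huu]
      field_simp
      ring
    have hinj : Function.Injective L := fun x y h => sub_eq_zero.1 (C.eq_zero_of_form fun z => by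
      rw [← hpres, map_sub, h, sub_self, C.form_zero_left])
    let g := (Matrix.GeneralLinearGroup.toLin (n := Fin n) (R := F)).symm
      (LinearMap.GeneralLinearGroup.ofLinearEquiv (LinearEquiv.ofInjectiveEndo L hinj))
    have hg : ∀ x, g.1 *ᵥ x = L x := fun x => by
      have h := Matrix.GeneralLinearGroup.toLin.apply_symm_apply
        (LinearMap.GeneralLinearGroup.ofLinearEquiv (LinearEquiv.ofInjectiveEndo L hinj))
      have h2 := congrArg (fun T : LinearMap.GeneralLinearGroup F (Fin n → F) => T.val x) h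
      exact h2
    refine ⟨g, (gu_mem_iff C).2 fun x y => by rw [hg, hg]; exact hpres x y, ?_⟩
    rw [hg]
    show v - (l * C.form v u) • u = w
    rw [hvu, hl, inv_mul_cancel₀ h0, one_smul, hu]
    abel
  by_cases hne : C.form v w = 1
  · obtain ⟨ζ, hζ, hζ1⟩ : ∃ ζ : F, ζ * C.bar ζ = 1 ∧ ζ ≠ 1 := by
      by_contra hc
      push Not at hc
      haveI : Subsingleton {x : F // x * C.bar x = 1} := ⟨fun a b => Subtype.ext ((hc _ a.2).trans (hc _ b.2).symm)⟩
      have := Finite.card_le_one_iff_subsingleton.2 this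
      rw [card_norm_eq_one C hF] at this
      have := two_le_q hF
      omega
    have hz : C.form (ζ • v) (ζ • v) = 1 := by
      rw [C.form_smul_left, C.form_smul_right, hv, mul_one, hζ]
    obtain ⟨g₁, hg₁, e₁⟩ := step v (ζ • v) hv hz (by
      rw [C.form_smul_right, hv, mul_one]
      exact fun h => hζ1 (C.bar.injective (by rw [h, map_one])))
    obtain ⟨g₂, hg₂, e₂⟩ := step (ζ • v) w hz hw (by rw [C.form_smul_left, hne, mul_one]; exact hζ1)
    exact ⟨g₂ * g₁, Subgroup.mul_mem _ hg₂ hg₁, by rw [Units.val_mul, ← Matrix.mulVec_mulVec, e₁, e₂]⟩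
  · exact step v w hv hw hne

include C in
theorem card_gu_succ (hF : Fintype.card F = q ^ 2) (n : ℕ) :
    Nat.card (Cfsg.GU (n + 1) F q) = hcount C (n + 1) 1 * Nat.card (Cfsg.GU n F q) := by
  classical
  let e₀ : Fin (n + 1) → F := Pi.single 0 1
  have h1 : C.form e₀ e₀ = 1 := by simp [e₀, UCtx.form, Pi.single_apply, apply_ite C.bar]
  let K : Subgroup (Cfsg.GU (n + 1) F q) :=
    { carrier := {g | (g : GL (Fin (n + 1)) F).1 *ᵥ e₀ = e₀}
      mul_mem' := fun {a b} ha hb => by
        simp only [Set.mem_setOf_eq, Subgroup.coe_mul, Units.val_mul, ← Matrix.mulVec_mulVec] at *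
        rw [hb, ha]
      one_mem' := by simp
      inv_mem' := fun {a} ha => by
        simp only [Set.mem_setOf_eq, InvMemClass.coe_inv] at *
        conv_lhs => rw [← ha]
        rw [gl_inv_mulVec] }
  let π : Cfsg.GU (n + 1) F q → {v : Fin (n + 1) → F // C.form v v = 1} := fun g =>
    ⟨(g : GL (Fin (n + 1)) F).1 *ᵥ e₀, ((gu_mem_iff C).1 g.2 e₀ e₀).trans h1⟩
  have hπ : Function.Surjective π := fun v => by
    obtain ⟨g, hg, hgv⟩ := exists_gu_move C h1 v.2 hF
    exact ⟨⟨g, hg⟩, Subtype.ext hgv⟩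
  have hfib : ∀ a b, π a = π b ↔ a⁻¹ * b ∈ K := fun a b => by
    refine Subtype.ext_iff.trans ?_
    show a.1.1 *ᵥ e₀ = b.1.1 *ᵥ e₀ ↔ ((a⁻¹ * b : Cfsg.GU (n + 1) F q) : GL (Fin (n + 1)) F).1 *ᵥ e₀ = e₀
    simp only [Subgroup.coe_mul, InvMemClass.coe_inv, Units.val_mul, ← Matrix.mulVec_mulVec]
    constructor
    · intro x; rw [← x, gl_inv_mulVec]
    · intro x
      conv_lhs => rw [← x]
      rw [Matrix.mulVec_mulVec _ a.1.1, Units.mul_inv, Matrix.one_mulVec]
  rw [card_eq_card_orbit_mul π K hπ hfib]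
  congr 1
  let e : (Fin (n + 1) → F) ≃ₗ[F] F × (Fin n → F) :=
    { toFun := fun x => (x 0, Fin.tail x)
      map_add' := fun x y => rfl
      map_smul' := fun c x => rfl
      invFun := fun a => Fin.cons a.1 a.2
      left_inv := fun x => Fin.cons_self_tail x
      right_inv := fun a => Prod.ext rfl rfl }
  refine card_fixer e _ _ (fun a b => a * C.bar b) (fun u v => ?_) K (fun g => ⟨fun hg x hx => ?_, fun h => ?_⟩)
    (fun g hg x => ?_)
  · show Cfsg.hermForm _ F q u v = _ + Cfsg.hermForm _ F q _ _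
    rw [Cfsg.hermForm, Cfsg.hermForm, Fin.sum_univ_succ, C.bar_eq]
    rfl
  · have hxe : x = x 0 • e₀ := by
      funext i
      refine Fin.cases ?_ (fun j => ?_) i
      · simp [e₀]
      · have h0 : x j.succ = 0 := congrFun hx j
        simp [e₀, Fin.succ_ne_zero, h0]
    rw [hxe, Matrix.mulVec_smul]
    exact congrArg (x 0 • ·) hg
  · exact h e₀ (funext fun i => (show e₀ i.succ = 0 by simp [e₀, Fin.succ_ne_zero]))
  · have a := (gu_mem_iff C).1 g.2 x e₀
    rw [show (g : GL (Fin (n + 1)) F).1 *ᵥ e₀ = e₀ from hg] at a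
    show ((g : GL (Fin (n + 1)) F).1 *ᵥ x) 0 = x 0
    simpa [e₀, UCtx.form, Pi.single_apply, apply_ite C.bar] using a

include C in
theorem card_gu_formula (hF : Fintype.card F = q ^ 2) (n : ℕ) :
    Nat.card (Cfsg.GU n F q) = q ^ (n * (n - 1) / 2) *
      ∏ i ∈ Finset.range n, (if Even i then q ^ (i + 1) + 1 else q ^ (i + 1) - 1) := by
  induction n with
  | zero =>
    rw [Finset.prod_range_zero, mul_one, Nat.zero_mul, Nat.zero_div, pow_zero]
    exact Nat.card_eq_one_iff_unique.2 ⟨inferInstance, ⟨1⟩⟩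
  | succ n ih =>
    rw [card_gu_succ C hF, hcount_one_eq C hF, ih, Finset.prod_range_succ,
      show (n + 1) * (n + 1 - 1) / 2 = n + n * (n - 1) / 2 by
        rw [Nat.add_sub_cancel, show (n + 1) * n = n * (n - 1) + n * 2 by
          rcases n with _ | m
          · rfl
          · rw [Nat.add_sub_cancel]; ring,
          Nat.add_mul_div_right _ _ two_pos, add_comm], pow_add]
    ring

include C in
theorem card_su_mul (hF : Fintype.card F = q ^ 2) {n : ℕ} (hn : 1 ≤ n) :
    (q + 1) * Nat.card (Cfsg.SU n F q) = Nat.card (Cfsg.GU n F q) := by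
  classical
  let e : ↥(Cfsg.SU n F q) ≃ (C.detHom (n := n)).ker :=
    { toFun := fun A => ⟨ofSU A, Subtype.ext (Units.ext A.1.2)⟩
      invFun := fun g => ⟨⟨g.1.1.1, congrArg (fun x : C.unitOne => ((x : Fˣ) : F)) g.2⟩, by
        exact cast (congrArg (fun x => x ∈ Cfsg.GU n F q)
          (show g.1.1 = Matrix.SpecialLinearGroup.toGL ⟨g.1.1.1, _⟩ from Units.ext rfl)) g.1.2⟩
      left_inv := fun A => rfl
      right_inv := fun g => Subtype.ext (Subtype.ext (Units.ext rfl)) }
  have h1 := Subgroup.card_mul_index (C.detHom (n := n)).ker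
  rw [Subgroup.index_ker, MonoidHom.range_eq_top.2 (C.detHom_surjective (by omega)), Subgroup.card_top,
    C.card_unitOne hF, ← Nat.card_congr e] at h1
  rw [mul_comm]; exact h1

include C in
theorem card_center_su_two (hF : Fintype.card F = q ^ 2) :
    Nat.card (Subgroup.center (Cfsg.SU 2 F q)) = Nat.gcd 2 (q + 1) := by
  classical
  have hq := two_le_q hF
  obtain ⟨c, hc⟩ := IsCyclic.exists_monoid_generator (α := C.unitOne)
  have hord : orderOf c = q + 1 := by
    rw [orderOf_eq_card_of_forall_mem_zpowers (fun u => mem_powers_iff_mem_zpowers.1 (hc u)), C.card_unitOne hF]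
  have hc2 : ((c : Fˣ) : F) * ((c : Fˣ) : F) ≠ 1 := fun h => by
    have h2 : c ^ 2 = 1 := Subtype.ext (Units.ext (by rw [sq]; exact h))
    have := orderOf_dvd_of_pow_eq_one h2
    rw [hord] at this
    have := Nat.le_of_dvd two_pos this
    omega
  have hcb : ((c : Fˣ) : F) * C.bar ((c : Fˣ) : F) = 1 := c.2
  have hmem : ∀ (M : Matrix.SpecialLinearGroup (Fin 2) F), (∀ u v : Fin 2 → F, C.form (M.1 *ᵥ u) (M.1 *ᵥ v) = C.form u v) →
      M ∈ Cfsg.SU 2 F q := fun M h u v => by
    have h' := h u v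
    rw [← C.hermForm_eq, ← C.hermForm_eq] at h'
    exact h'
  have hform : ∀ u v : Fin 2 → F, C.form u v = u 0 * C.bar (v 0) + u 1 * C.bar (v 1) := fun u v => by
    simp [UCtx.form, Fin.sum_univ_two]
  let D : Cfsg.SU 2 F q := ⟨⟨!![((c : Fˣ) : F), 0; 0, C.bar ((c : Fˣ) : F)], by simp [Matrix.det_fin_two, hcb]⟩,
    hmem _ fun u v => by
      simp [hform, Matrix.mulVec, dotProduct, Fin.sum_univ_two, C.bar_bar]
      linear_combination (u 0 * C.bar (v 0) + u 1 * C.bar (v 1)) * hcb⟩
  let W : Cfsg.SU 2 F q := ⟨⟨!![0, 1; -1, 0], by simp [Matrix.det_fin_two]⟩,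
    hmem _ fun u v => by
      simp [hform, Matrix.mulVec, dotProduct, Fin.sum_univ_two]
      ring⟩
  have hscal : ∀ A ∈ Subgroup.center (Cfsg.SU 2 F q), A.1.1 = A.1.1 0 0 • (1 : Matrix (Fin 2) (Fin 2) F) := by
    intro A hA
    have e1 := congrArg (fun X : Cfsg.SU 2 F q => X.1.1) (Subgroup.mem_center_iff.1 hA D)
    have e2 := congrArg (fun X : Cfsg.SU 2 F q => X.1.1) (Subgroup.mem_center_iff.1 hA W)
    change D.1.1 * A.1.1 = A.1.1 * D.1.1 at e1
    change W.1.1 * A.1.1 = A.1.1 * W.1.1 at e2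
    have hne : C.bar ((c : Fˣ) : F) - ((c : Fˣ) : F) ≠ 0 := fun h => hc2 (by
      linear_combination hcb - ((c : Fˣ) : F) * h)
    have a01 := congrFun (congrFun e1 0) 1
    have a10 := congrFun (congrFun e1 1) 0
    have b00 := congrFun (congrFun e2 0) 1
    simp [D, W, Matrix.mul_apply, Fin.sum_univ_two, Matrix.SpecialLinearGroup.coe_mul] at a01 a10 b00
    have z01 : A.1.1 0 1 = 0 := (mul_eq_zero.1 (show (C.bar ((c : Fˣ) : F) - ((c : Fˣ) : F)) * A.1.1 0 1 = 0 by
      linear_combination -a01)).resolve_left hne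
    have z10 : A.1.1 1 0 = 0 := (mul_eq_zero.1 (show (C.bar ((c : Fˣ) : F) - ((c : Fˣ) : F)) * A.1.1 1 0 = 0 by
      linear_combination a10)).resolve_left hne
    ext i j
    fin_cases i <;> fin_cases j <;> simp [z01, z10]
    linear_combination b00
  have h0 : ∀ A : Subgroup.center (Cfsg.SU 2 F q),
      ∃ d : (powMonoidHom 2 : C.unitOne →* C.unitOne).ker, (((d : C.unitOne) : Fˣ) : F) = A.1.1.1 0 0 := by
    intro A
    have hs := hscal A.1 A.2
    have hd := A.1.1.2
    rw [hs, Matrix.det_smul, Matrix.det_one, mul_one, Fintype.card_fin] at hd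
    have hne : A.1.1.1 0 0 ≠ 0 := fun h => by simp [h] at hd
    have hu : A.1.1.1 0 0 * C.bar (A.1.1.1 0 0) = 1 := by
      let e₁ : Fin 2 → F := Pi.single 0 1
      have h' := A.1.2 e₁ e₁
      have h : C.form (A.1.1.1 *ᵥ e₁) (A.1.1.1 *ᵥ e₁) = C.form e₁ e₁ := by
        rw [← C.hermForm_eq, ← C.hermForm_eq]; exact h'
      rw [hs, Matrix.smul_mulVec, Matrix.one_mulVec, C.form_smul_left, C.form_smul_right, hform] at h
      simpa [e₁] using h
    exact ⟨⟨⟨Units.mk0 _ hne, hu⟩, Subtype.ext (Units.ext hd)⟩, rfl⟩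
  choose φ hφ using h0
  rw [Nat.card_eq_of_bijective φ ⟨fun A B h => ?_, fun d => ?_⟩, IsCyclic.card_powMonoidHom_ker, C.card_unitOne hF,
    Nat.gcd_comm]
  · refine Subtype.ext (Subtype.ext (Subtype.ext ?_))
    rw [hscal A.1 A.2, hscal B.1 B.2, ← hφ, ← hφ, h]
  · set t : F := (((d : C.unitOne) : Fˣ) : F)
    have ht : t ^ 2 = 1 := congrArg (fun x : C.unitOne => ((x : Fˣ) : F)) d.2
    have htb : t * C.bar t = 1 := d.1.2
    let T : Cfsg.SU 2 F q := ⟨⟨t • 1, by rw [Matrix.det_smul, Matrix.det_one, mul_one, Fintype.card_fin, ht]⟩,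
      hmem _ fun u v => by
        simp only [Matrix.smul_mulVec, Matrix.one_mulVec, C.form_smul_left, C.form_smul_right]
        linear_combination (C.form u v) * htb⟩
    have hT : T ∈ Subgroup.center (Cfsg.SU 2 F q) := Subgroup.mem_center_iff.2 fun X =>
      Subtype.ext (Subtype.ext (show X.1.1 * (t • (1 : Matrix (Fin 2) (Fin 2) F)) = (t • (1 : Matrix (Fin 2) (Fin 2) F)) * X.1.1 by simp))
    refine ⟨⟨T, hT⟩, Subtype.ext (Subtype.ext (Units.ext ?_))⟩
    rw [hφ]
    simp [T, t]

end CfsgLib.Classical
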