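import Mathlib
import Cfsg.Agent.Lib.Classical.HermOrder
import Cfsg.Agent.Lib.Perm.Trans.UnitSU

/-!
# Transvections as commutators, and simplicity of the unitary groups
-/

set_option autoImplicit false

namespace CfsgLib.Classical

open scoped Matrix Pointwise commutatorElement
open Matrix CfsgLib.SU

variable {F : Type*} [Field F] {q : ℕ} (C : UCtx F q) {n : ℕ}

theorem uPair_exists {v : Fin n → F} (hv : v ≠ 0) (hv0 : C.form v v = 0) :
    ∃ P : UPair C n, P.e = v := by
  obtain ⟨y, hy⟩ := C.exists_form_eq_one hv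
  obtain ⟨κ, h1, h2⟩ := C.exists_partner hv0 (y := y) (by rw [← C.bar_form, hy, map_one])
  exact ⟨⟨v, y + κ • v, hv0, h1, h2⟩, rfl⟩

theorem perp_exists_anisotropic (hn : 3 ≤ n) (P : UPair C n) : ∃ w ∈ P.perp, C.form w w ≠ 0 := by
  by_contra hc
  push Not at hc
  have hzero : ∀ w ∈ P.perp, ∀ w' ∈ P.perp, C.form w w' = 0 := by
    intro w hw w' hw'
    have tr : ∀ a : F, C.bar a * C.form w w' + a * C.form w' w = 0 := fun a => by
      have := hc _ (P.perp.add_mem hw (P.perp.smul_mem a hw'))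
      simp only [C.form_add_left, C.form_add_right, C.form_smul_left, C.form_smul_right, hc w hw, hc w' hw'] at this
      linear_combination this
    obtain ⟨y, hy⟩ := C.exists_not_fixed
    have h1 := tr 1
    have h2 := tr y
    rw [map_one] at h1
    have h3 : (C.bar y - y) * C.form w w' = 0 := by linear_combination h2 - y * h1
    exact (mul_eq_zero.1 h3).resolve_left (sub_ne_zero.2 hy)
  obtain ⟨x, hx0, hxe, hxf⟩ := C.exists_orth_two hn P.e P.f
  refine hx0 (C.eq_zero_of_form fun z => ?_)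
  rw [P.decomp z, C.form_add_right, C.form_add_right, C.form_smul_right, C.form_smul_right, hxe, hxf,
    hzero x ⟨hxe, hxf⟩ _ (P.proj_mem z)]
  ring

/-- a transvection at the first vector of a pair is a commutator of Eichler transformations -/
theorem tv_eq_commutator (hn : 3 ≤ n) (P : UPair C n) (t : F) (ht : t + C.bar t = 0) :
    ∃ X Y : ↥(Cfsg.SU n F q), ⁅X, Y⁆ = C.tv P.e P.ee t ht := by
  obtain ⟨w, hw, hN⟩ := perp_exists_anisotropic C hn P
  set N := C.form w w with hNdef
  have hNb : C.bar N = N := C.form_self_fixed w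
  obtain ⟨y, hy⟩ := C.exists_trace (c := (1 : F)) (map_one _)
  set z := t / N with hz
  have hzb : C.bar z = -z := by
    rw [hz, map_div₀, hNb, show C.bar t = -t by linear_combination ht, neg_div]
  set l := -(z * y) with hl
  have hlz : C.bar l - l = z := by
    rw [hl, map_neg, map_mul, hzb]
    linear_combination z * hy
  obtain ⟨a, ha⟩ := C.exists_trace (c := -C.form w w) (by rw [map_neg, C.form_self_fixed])
  obtain ⟨b, hb⟩ := C.exists_trace (c := -C.form (l • w) (l • w)) (by rw [map_neg, C.form_self_fixed])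
  have ha' : a + C.bar a + C.form w w = 0 := by linear_combination ha
  have hb' : b + C.bar b + C.form (l • w) (l • w) = 0 := by linear_combination hb
  have ht0 : t + C.bar t + C.form (0 : Fin n → F) 0 = 0 := by rw [C.form_zero_left, add_zero, ht]
  set X := P.eich w hw a ha'
  set Y := P.eich (l • w) (P.perp.smul_mem l hw) b hb'
  refine ⟨X, Y, ?_⟩
  have key : X * Y = C.tv P.e P.ee t ht * (Y * X) := by
    rw [← P.eich_zero_eq_tv t ht0, P.eich_mul, P.eich_mul, P.eich_mul]
    refine P.eich_congr (by rw [zero_add, add_comm]) ?_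
    rw [C.form_zero_right, C.form_smul_left, C.form_smul_right, ← hNdef, sub_zero]
    have : t = z * N := (div_mul_cancel₀ t hN).symm
    linear_combination (-1 : F) * this + N * hlz
  rw [commutatorElement_def, key]
  group

include C in
theorem su_transvection_mem [Fintype F] (hn : 3 ≤ n) (A : ↥(Cfsg.SU n F q)) (v : Fin n → F) (c : F)
    (hv0 : Cfsg.hermForm n F q v v = 0) (hA : A.1.1 = Cfsg.unitaryTransvection n q v c) :
    A ∈ commutatorSet ↥(Cfsg.SU n F q) := by
  rw [mem_commutatorSet_iff]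
  have hmv : ∀ x, A.1.1 *ᵥ x = x + (c * C.form x v) • v := fun x => by
    rw [hA, CfsgLib.Perm.Trans.Unit.unitaryTransvection_mulVec, Cfsg.hermForm, C.hermForm_eq]
  have hv0' : C.form v v = 0 := by rw [← C.hermForm_eq]; exact hv0
  by_cases hv : v = 0
  · refine ⟨1, 1, ?_⟩
    rw [commutatorElement_self]
    exact su_ext fun x => by rw [su_one_mulVec, hmv, hv, smul_zero, add_zero]
  obtain ⟨x, hx⟩ := C.exists_form_eq_one hv
  have hc : c + C.bar c = 0 := by
    have := C.form_su A x x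
    rw [hmv, C.form_add_left, C.form_add_right, C.form_add_right, C.form_smul_left, C.form_smul_left,
      C.form_smul_right, C.form_smul_right, hx, show C.form v x = 1 by rw [← C.bar_form, hx, map_one], hv0',
      mul_one, mul_one, mul_zero, mul_zero, add_zero, mul_one] at this
    linear_combination this
  obtain ⟨P, hP⟩ := uPair_exists C hv hv0'
  obtain ⟨X, Y, h⟩ := tv_eq_commutator C hn P c hc
  refine ⟨X, Y, h.trans (su_ext fun y => ?_)⟩
  rw [hmv, C.tv_mulVec, hP]

/-! ### The action on root subgroups -/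

/-- the root subgroup of an isotropic vector -/
def uRootSub (v : Fin n → F) (hv : C.form v v = 0) : Subgroup (Cfsg.PSU n F q) where
  carrier := {X | ∃ t ht, X = pr (C.tv v hv t ht)}
  mul_mem' := by
    rintro _ _ ⟨t, ht, rfl⟩ ⟨s, hs, rfl⟩
    refine ⟨t + s, by rw [map_add]; linear_combination ht + hs, ?_⟩
    rw [← map_mul]
    refine congrArg pr (su_ext fun x => ?_)
    simp only [suMat_mulVec_mul, C.tv_mulVec, C.form_add_left, C.form_smul_left, hv]
    module
  one_mem' := ⟨0, by simp, by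
    rw [show C.tv v hv 0 (by simp) = 1 from su_ext fun x => by rw [C.tv_mulVec, su_one_mulVec]; simp, map_one]⟩
  inv_mem' := by
    rintro _ ⟨t, ht, rfl⟩
    refine ⟨-t, by rw [map_neg]; linear_combination -ht, ?_⟩
    rw [← map_inv]
    refine congrArg pr (inv_eq_of_mul_eq_one_right (su_ext fun x => ?_))
    simp only [suMat_mulVec_mul, C.tv_mulVec, C.form_add_left, C.form_smul_left, hv, su_one_mulVec]
    module

theorem uConj_rootSub (A : ↥(Cfsg.SU n F q)) (v : Fin n → F) (hv : C.form v v = 0) :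
    MulAut.conj (pr A) • uRootSub C v hv = uRootSub C (A.1.1 *ᵥ v) (by rw [C.form_su, hv]) := by
  have hc : ∀ t ht, MulAut.conj (pr A) (pr (C.tv v hv t ht)) =
      pr (C.tv (A.1.1 *ᵥ v) (by rw [C.form_su, hv]) t ht) := fun t ht => by
    rw [MulAut.conj_apply, ← map_inv, ← map_mul, ← map_mul, C.tv_conj]
  ext x
  constructor
  · rintro ⟨_, ⟨t, ht, rfl⟩, rfl⟩
    exact ⟨t, ht, hc t ht⟩
  · rintro ⟨t, ht, rfl⟩
    exact ⟨pr (C.tv v hv t ht), ⟨t, ht, rfl⟩, hc t ht⟩

/-- the isotropic points, as root subgroups -/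
def UPoint (n : ℕ) : Type _ :=
  {T : Subgroup (Cfsg.PSU n F q) // ∃ (v : Fin n → F) (hv : C.form v v = 0), v ≠ 0 ∧ T = uRootSub C v hv}

instance uPointAction : MulAction (Cfsg.PSU n F q) (UPoint C n) where
  smul g T := ⟨MulAut.conj g • T.1, by
    obtain ⟨A, rfl⟩ := QuotientGroup.mk'_surjective _ g
    obtain ⟨v, hv, hv0, hT⟩ := T.2
    exact ⟨A.1.1 *ᵥ v, by rw [C.form_su, hv], su_mulVec_ne_zero A hv0, by rw [hT]; exact uConj_rootSub C A v hv⟩⟩
  one_smul T := Subtype.ext (show MulAut.conj (1 : Cfsg.PSU n F q) • T.1 = T.1 by rw [map_one, one_smul])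
  mul_smul g h T := Subtype.ext (show MulAut.conj (g * h) • T.1 = MulAut.conj g • MulAut.conj h • T.1 by
    rw [map_mul, mul_smul])

/-- the point of a vector -/
def upt (v : Fin n → F) (hv : C.form v v = 0) (hv0 : v ≠ 0) : UPoint C n := ⟨uRootSub C v hv, v, hv, hv0, rfl⟩

theorem smul_upt (A : ↥(Cfsg.SU n F q)) (v : Fin n → F) (hv : C.form v v = 0) (hv0 : v ≠ 0) :
    pr A • upt C v hv hv0 = upt C (A.1.1 *ᵥ v) (by rw [C.form_su, hv]) (su_mulVec_ne_zero A hv0) :=
  Subtype.ext (uConj_rootSub C A v hv)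

theorem upt_surj (x : UPoint C n) :
    ∃ (v : Fin n → F) (hv : C.form v v = 0) (hv0 : v ≠ 0), x = upt C v hv hv0 := by
  obtain ⟨T, v, hv, hv0, rfl⟩ := x
  exact ⟨v, hv, hv0, rfl⟩

variable [Fintype F]

theorem upt_eq_iff (hn : 3 ≤ n) {v w : Fin n → F} (hv : C.form v v = 0) (hv0 : v ≠ 0)
    (hw : C.form w w = 0) (hw0 : w ≠ 0) : upt C v hv hv0 = upt C w hw hw0 ↔ ∃ a : F, v = a • w := by
  constructor
  · intro h
    obtain ⟨δ, hδ0, hδ⟩ := C.exists_trace_zero
    obtain ⟨s, hs, e⟩ : pr (C.tv v hv δ hδ) ∈ uRootSub C w hw := by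
      rw [show uRootSub C w hw = uRootSub C v hv from congrArg Subtype.val h.symm]
      exact ⟨δ, hδ, rfl⟩
    exact C.pT_par hn hv0 hδ0 e
  · rintro ⟨a, rfl⟩
    have ha : a ≠ 0 := fun h => hv0 (by rw [h, zero_smul])
    have hnb : C.bar (a * C.bar a) = a * C.bar a := C.norm_fixed a
    have hne : a * C.bar a ≠ 0 := mul_ne_zero ha (by simpa using ha)
    refine Subtype.ext (SetLike.ext fun x => ⟨?_, ?_⟩)
    · rintro ⟨t, ht, rfl⟩
      refine ⟨a * C.bar a * t, by rw [map_mul, hnb]; linear_combination (a * C.bar a) * ht,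
        congrArg pr (su_ext fun y => ?_)⟩
      simp only [C.tv_mulVec, C.form_smul_right, smul_smul]
      congr 2
      ring
    · rintro ⟨t, ht, rfl⟩
      refine ⟨t / (a * C.bar a), by rw [map_div₀, hnb, ← add_div, ht, zero_div],
        congrArg pr (su_ext fun y => ?_)⟩
      simp only [C.tv_mulVec, C.form_smul_right, smul_smul]
      congr 2
      have hab0 : C.bar a ≠ 0 := right_ne_zero_of_mul hne
      field_simp

theorem uPoint_preprimitive (hn : 3 ≤ n) : MulAction.IsPreprimitive (Cfsg.PSU n F q) (UPoint C n) := by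
  haveI : MulAction.IsPretransitive (Cfsg.PSU n F q) (UPoint C n) := ⟨fun x y => by
    obtain ⟨v, hv, hv0, rfl⟩ := upt_surj C x
    obtain ⟨w, hw, hw0, rfl⟩ := upt_surj C y
    obtain ⟨A, a, ha, hA⟩ := C.exists_move hn hv0 hw0 hv hw
    exact ⟨pr A, by rw [smul_upt, upt_eq_iff C hn]; exact ⟨a, hA⟩⟩⟩
  refine ⟨fun {B} hB => ?_⟩
  rw [MulAction.IsTrivialBlock, or_iff_not_imp_left]
  intro hns
  have hinv : ∀ g : Cfsg.PSU n F q, ∀ x ∈ B, g • x ∈ B → g • B = B := fun g x hx hgx =>
    (MulAction.isBlock_iff_smul_eq_of_nonempty.1 hB) ⟨g • x, Set.smul_mem_smul_set hx, hgx⟩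
  obtain ⟨x, hx, y, hy, hxy⟩ := Set.not_subsingleton_iff.1 hns
  obtain ⟨a, ha, ha0, rfl⟩ := upt_surj C x
  obtain ⟨b, hb, hb0, rfl⟩ := upt_surj C y
  obtain ⟨δ, hδ0, hδ⟩ := C.exists_trace_zero
  obtain ⟨a, ha, ha0, b, hb, hb0, hxa, hxb, hab⟩ : ∃ a, ∃ ha : C.form a a = 0, ∃ ha0 : a ≠ 0,
      ∃ b, ∃ hb : C.form b b = 0, ∃ hb0 : b ≠ 0,
      upt C a ha ha0 ∈ B ∧ upt C b hb hb0 ∈ B ∧ C.form a b ≠ 0 := by
    by_cases hab : C.form a b = 0
    · obtain ⟨w, hww, hwb, hwa⟩ : ∃ w, C.form w w = 0 ∧ C.form w b = 0 ∧ C.form w a ≠ 0 := by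
        by_contra hc
        push Not at hc
        obtain ⟨k, hk⟩ := C.eq_smul_of_isotropic_orth hb0 hb ha hc
        exact hxy ((upt_eq_iff C hn ha ha0 hb hb0).2 ⟨k, hk⟩)
      have hfix : (C.tv w hww δ hδ).1.1 *ᵥ b = b := by
        rw [C.tv_mulVec, C.form_swap_zero hwb]; simp
      have hgB := hinv (pr (C.tv w hww δ hδ)) _ hy (by
        rw [smul_upt]
        convert hy using 1
        rw [upt_eq_iff C hn]; exact ⟨1, by rw [hfix, one_smul]⟩)
      refine ⟨a, ha, ha0, (C.tv w hww δ hδ).1.1 *ᵥ a, (C.form_su _ a a).trans ha, su_mulVec_ne_zero _ ha0, hx, ?_, ?_⟩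
      · rw [← hgB, ← smul_upt C _ _ ha ha0]
        exact Set.smul_mem_smul_set hx
      · have haw : C.form a w ≠ 0 := fun h => hwa (C.form_swap_zero h)
        rw [C.tv_mulVec, C.form_add_right, ha, zero_add, C.form_smul_right, map_mul]
        exact mul_ne_zero (mul_ne_zero (by simpa using hδ0) (by simpa using haw)) haw
    · exact ⟨a, ha, ha0, b, hb, hb0, hx, hy, hab⟩
  have hclose : ∀ a, ∀ ha : C.form a a = 0, ∀ ha0 : a ≠ 0, ∀ b, ∀ hb : C.form b b = 0, ∀ hb0 : b ≠ 0,
      upt C a ha ha0 ∈ B → upt C b hb hb0 ∈ B → C.form a b ≠ 0 →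
      ∀ c, ∀ hc : C.form c c = 0, ∀ hc0 : c ≠ 0, C.form a c ≠ 0 → upt C c hc hc0 ∈ B := by
    intro a ha ha0 b hb hb0 hxa hxb hab c hc hc0 hac
    have hba : C.form b a ≠ 0 := fun h => hab (C.form_swap_zero h)
    have hca : C.form c a ≠ 0 := fun h => hac (C.form_swap_zero h)
    let P : UPair C n := ⟨a, (C.form b a)⁻¹ • b, ha, by rw [C.form_smul_left, C.form_smul_right, hb]; simp, by
      rw [C.form_smul_right, map_inv₀, C.bar_form, inv_mul_cancel₀ hab]⟩
    set c' := (C.form c a)⁻¹ • c with hc'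
    have hc'e : C.form c' P.e = 1 := by rw [hc', C.form_smul_left]; exact inv_mul_cancel₀ hca
    have hc'0 : C.form c' c' = 0 := by rw [hc', C.form_smul_left, C.form_smul_right, hc]; simp
    have hd := P.decomp c'
    rw [hc'e, one_smul] at hd
    set t := C.form c' P.f
    set w := P.proj c'
    have hw := P.proj_mem c'
    have ht : t + C.bar t + C.form w w = 0 := by
      rw [← hc'0]
      conv_rhs => rw [hd]
      obtain ⟨hw1, hw2⟩ : C.form w P.e = 0 ∧ C.form w P.f = 0 := hw
      simp only [C.form_add_left, C.form_add_right, C.form_smul_left, C.form_smul_right, P.ee, P.ff, P.ef, P.fe,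
        hw1, hw2, C.form_swap_zero hw1, C.form_swap_zero hw2]
      ring
    have hgB := hinv (pr (P.eich w hw t ht)) _ hxa (by
      rw [smul_upt]
      convert hxa using 1
      rw [upt_eq_iff C hn]
      exact ⟨1, by rw [one_smul]; exact P.eich_e w hw t ht⟩)
    rw [← hgB]
    refine ⟨upt C b hb hb0, hxb, ?_⟩
    show pr (P.eich w hw t ht) • upt C b hb hb0 = upt C c hc hc0
    rw [smul_upt, upt_eq_iff C hn]
    refine ⟨C.form b a * (C.form c a)⁻¹, ?_⟩
    rw [← smul_smul, ← hc', hd]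
    have : b = C.form b a • P.f := (smul_inv_smul₀ hba b).symm
    conv_lhs => rw [this, Matrix.mulVec_smul, P.eich_f]
    congr 1
    abel
  refine Set.eq_univ_of_forall fun z => ?_
  obtain ⟨c, hc, hc0, rfl⟩ := upt_surj C z
  by_cases hac : C.form a c = 0
  · by_cases hk : ∃ k : F, c = k • a
    · convert hxa using 1
      rw [upt_eq_iff C hn]; exact hk
    obtain ⟨x, hxa', hxc⟩ : ∃ x, C.form x a = 0 ∧ C.form x c ≠ 0 := by
      by_contra hcon
      push Not at hcon
      exact hk (C.eq_smul_of_orth ha0 hcon)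
    obtain ⟨y, hy1⟩ := C.exists_form_eq_one ha0
    obtain ⟨z, hza, hzc⟩ : ∃ z, C.form z a = 1 ∧ C.form z c ≠ 0 := by
      by_cases hyc : C.form y c = 0
      · exact ⟨y + x, by rw [C.form_add_left, hy1, hxa', add_zero], by rw [C.form_add_left, hyc, zero_add]; exact hxc⟩
      · exact ⟨y, hy1, hyc⟩
    obtain ⟨κ, hd0, hd1⟩ := C.exists_partner ha (y := z) (by rw [← C.bar_form, hza, map_one])
    have hd2 : C.form c (z + κ • a) ≠ 0 := by
      rw [C.form_add_right, C.form_smul_right, C.form_swap_zero hac, mul_zero, add_zero]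
      exact fun h => hzc (C.form_swap_zero h)
    set d := z + κ • a
    have had : C.form a d ≠ 0 := by rw [hd1]; exact one_ne_zero
    have hd0' : d ≠ 0 := fun h => had (by rw [h, C.form_zero_right])
    exact hclose d hd0 hd0' a ha ha0 (hclose a ha ha0 b hb hb0 hxa hxb hab d hd0 hd0' had) hxa
      (fun h => had (C.form_swap_zero h)) c hc hc0 (fun h => hd2 (C.form_swap_zero h))
  · exact hclose a ha ha0 b hb hb0 hxa hxb hab c hc hc0 hac

theorem psu_isSimple (hF : Fintype.card F = q ^ 2) (hn : 3 ≤ n) (h : ¬ (n = 3 ∧ q = 2)) :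
    IsSimpleGroup (Cfsg.PSU n F q) := by
  classical
  obtain ⟨C⟩ := uctx_exists hF
  have hgen := CfsgLib.Perm.Trans.Unit.su_closure hF n hn h
  have hperf : commutator (Cfsg.PSU n F q) = ⊤ := by
    have hc : commutator ↥(Cfsg.SU n F q) = ⊤ := by
      rw [eq_top_iff, ← hgen, Subgroup.closure_le]
      rintro A ⟨v, c, hv0, hA⟩
      rw [commutator_eq_closure]
      exact Subgroup.subset_closure (su_transvection_mem C hn A v c hv0 hA)
    rw [commutator_def, ← Subgroup.map_top_of_surjective (pr (n := n) (F := F) (q := q)) (QuotientGroup.mk'_surjective _),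
      ← Subgroup.map_commutator, ← commutator_def, hc]
  obtain ⟨v₀, hv₀, hv₀'⟩ := C.exists_isotropic (n := n) (by omega)
  obtain ⟨δ, hδ0, hδ⟩ := C.exists_trace_zero
  haveI : Nontrivial (Cfsg.PSU n F q) := ⟨⟨pr (C.tv v₀ hv₀' δ hδ), 1, C.pT_ne_one hn hv₀ hδ0⟩⟩
  haveI := uPoint_preprimitive C hn
  let I : MulAction.IwasawaStructure (Cfsg.PSU n F q) (UPoint C n) :=
    { T := fun x => x.1
      is_comm := fun x => by
        obtain ⟨v, hv, hv0, rfl⟩ := upt_surj C x
        refine ⟨⟨fun a b => Subtype.ext ?_⟩⟩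
        obtain ⟨_, t, ht, rfl⟩ := a
        obtain ⟨_, s, hs, rfl⟩ := b
        exact ((C.tv_commute hv hv hv t s ht hs).map pr).eq
      is_conj := fun g x => rfl
      is_generator := by
        rw [eq_top_iff, ← Subgroup.map_top_of_surjective (pr (n := n) (F := F) (q := q)) (QuotientGroup.mk'_surjective _),
          ← hgen, MonoidHom.map_closure, Subgroup.closure_le]
        rintro _ ⟨A, ⟨v, c, hv0, hA⟩, rfl⟩
        have hv0' : C.form v v = 0 := by rw [← C.hermForm_eq]; exact hv0
        have hmv : ∀ x, A.1.1 *ᵥ x = x + (c * C.form x v) • v := fun x => by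
          rw [hA, CfsgLib.Perm.Trans.Unit.unitaryTransvection_mulVec, Cfsg.hermForm, C.hermForm_eq]
        rcases eq_or_ne v 0 with hv | hv
        · rw [show A = 1 from su_ext fun x => by rw [su_one_mulVec, hmv, hv, smul_zero, add_zero], map_one]
          exact one_mem _
        · have hc : c + C.bar c = 0 := by
            obtain ⟨x, hx⟩ := C.exists_form_eq_one hv
            have := C.form_su A x x
            rw [hmv, C.form_add_left, C.form_add_right, C.form_add_right, C.form_smul_left, C.form_smul_left,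
              C.form_smul_right, C.form_smul_right, hx, show C.form v x = 1 by rw [← C.bar_form, hx, map_one], hv0',
              mul_one, mul_one, mul_zero, mul_zero, add_zero, mul_one] at this
            linear_combination this
          exact Subgroup.mem_iSup_of_mem (upt C v hv0' hv)
            ⟨c, hc, congrArg pr (su_ext fun x => by rw [hmv, C.tv_mulVec])⟩ }
  refine I.isSimpleGroup hperf ⟨fun {g g'} e => ?_⟩
  obtain ⟨A, rfl⟩ := QuotientGroup.mk'_surjective _ g
  obtain ⟨B, rfl⟩ := QuotientGroup.mk'_surjective _ g'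
  obtain ⟨c, hc⟩ := C.scalar_of_isotropic_eigen hn (M := (B⁻¹ * A).1.1) (fun u v => C.form_su _ u v)
    fun v hv hv0 => by
      have h1 := e (upt C v hv0 hv)
      have h2 : pr (B⁻¹ * A) • upt C v hv0 hv = upt C v hv0 hv := by
        rw [map_mul, mul_smul, map_inv, inv_smul_eq_iff]; exact h1
      rw [smul_upt, upt_eq_iff C hn] at h2
      exact h2
  refine ((C.pr_eq_iff hn).2 ⟨c, ?_⟩).symm
  have : A.1.1 = B.1.1 * (B⁻¹ * A).1.1 := by
    show _ = (B * (B⁻¹ * A)).1.1
    rw [mul_inv_cancel_left]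
  rw [this, hc, mul_smul_comm, mul_one]

end CfsgLib.Classical
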