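import Mathlib

/-!
# Matrices commuting projectively with signed transpositions

They are scalar; a field automorphism fixing the norm-one elements of an involution is trivial.
-/

set_option autoImplicit false
set_option linter.all false

namespace CfsgLib.SignScalar

open Matrix

variable {R : Type*} [CommRing R] {n : ℕ}

/-- `e_i ↦ e_j ↦ -e_i` -/
def srot (R : Type*) [CommRing R] (i j : Fin n) : Matrix (Fin n) (Fin n) R :=
  1 + single j i 1 - single i j 1 - single i i 1 - single j j 1

/-- the signed transposition as a product of transvections -/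
def srotSL {i j : Fin n} (hij : i ≠ j) (R : Type*) [CommRing R] : Matrix.SpecialLinearGroup (Fin n) R :=
  SpecialLinearGroup.transvection hij.symm 1 * SpecialLinearGroup.transvection hij (-1) *
    SpecialLinearGroup.transvection hij.symm 1

theorem srotSL_val {i j : Fin n} (hij : i ≠ j) : (srotSL hij R).1 = srot R i j := by
  show (1 + single j i (1 : R)) * (1 + single i j (-1)) * (1 + single j i 1) = _
  rw [srot, show single i j (-1 : R) = -single i j 1 from (Matrix.singleAddMonoidHom (α := R) i j).map_neg 1]
  simp [Matrix.mul_add, Matrix.add_mul, single_mul_single_of_ne, hij, hij.symm, single_mul_single_same]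
  abel

theorem srot_transpose (i j : Fin n) : (srot R i j)ᵀ = srot R j i := by
  simp only [srot, transpose_sub, transpose_add, transpose_one, transpose_single]
  abel

theorem srot_mul_transpose {i j : Fin n} (hij : i ≠ j) : srot R j i * srot R i j = 1 := by
  simp only [srot]
  simp [Matrix.mul_add, Matrix.add_mul, Matrix.mul_sub, Matrix.sub_mul, single_mul_single_of_ne, hij, hij.symm,
    single_mul_single_same]

theorem srot_map {S : Type*} [CommRing S] (f : R →+* S) (i j : Fin n) : (srot R i j).map f = srot S i j := by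
  rw [srot, Matrix.map_sub _ (map_sub f), Matrix.map_sub _ (map_sub f), Matrix.map_sub _ (map_sub f),
    Matrix.map_add _ (map_add f), Matrix.map_one _ (map_zero f) (map_one f)]
  simp [Matrix.map_single, srot]

/-- sign change at two places -/
def sgn (R : Type*) [CommRing R] (i j : Fin n) : Matrix (Fin n) (Fin n) R :=
  1 - single i i 1 - single i i 1 - single j j 1 - single j j 1

theorem srot_sq {i j : Fin n} (hij : i ≠ j) : srot R i j * srot R i j = sgn R i j := by
  simp only [srot, sgn]
  simp [Matrix.mul_add, Matrix.add_mul, Matrix.mul_sub, Matrix.sub_mul, single_mul_single_of_ne, hij, hij.symm,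
    single_mul_single_same]
  abel

theorem sgn_sq {i j : Fin n} (hij : i ≠ j) : sgn R i j * sgn R i j = 1 := by
  simp only [sgn]
  simp [Matrix.mul_sub, Matrix.sub_mul, single_mul_single_of_ne, hij, hij.symm, single_mul_single_same]
  abel

theorem sgn_mul {i j k : Fin n} (hij : i ≠ j) (hik : i ≠ k) (hjk : j ≠ k) :
    sgn R i k * sgn R j k = sgn R i j := by
  simp only [sgn]
  simp [Matrix.mul_sub, Matrix.sub_mul, single_mul_single_of_ne, hij, hij.symm, hik, hik.symm, hjk, hjk.symm,
    single_mul_single_same]
  abel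

theorem srot_sgn {i j k : Fin n} (hij : i ≠ j) (hik : i ≠ k) (hjk : j ≠ k) :
    srot R i j * sgn R j k = sgn R i k * srot R i j := by
  simp only [srot, sgn]
  simp [Matrix.mul_add, Matrix.add_mul, Matrix.mul_sub, Matrix.sub_mul, single_mul_single_of_ne, hij, hij.symm, hik,
    hik.symm, hjk, hjk.symm, single_mul_single_same]
  abel

variable {F : Type*} [Field F]

theorem exists_third (hn : 3 ≤ n) (a b : Fin n) : ∃ m : Fin n, a ≠ m ∧ b ≠ m := by
  by_contra hc
  simp only [not_exists, not_and, not_not] at hc
  have hsub : (Finset.univ : Finset (Fin n)) ⊆ {a, b} := fun k _ => by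
    by_cases hk : a = k
    · simp [hk]
    · simp [hc k hk]
  have h2 := (Finset.card_le_card hsub).trans Finset.card_le_two
  simp at h2
  omega

/-- projectively commuting with the signed transpositions forces scalars -/
theorem scalar_of_srot (hn : 3 ≤ n) (h2 : (2 : F) ≠ 0) (g : Matrix (Fin n) (Fin n) F) (hg : g.det ≠ 0)
    (h : ∀ i j, i ≠ j → ∃ c : F, g * srot F i j = c • (srot F i j * g)) : ∃ l : F, g = l • 1 := by
  haveI : NeZero n := ⟨by omega⟩
  have h0 : g ≠ 0 := fun e => hg (by rw [e, Matrix.det_zero])
  -- multipliers of the sign changes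
  have hs : ∀ i j, i ≠ j → ∃ c : F, g * sgn F i j = c • (sgn F i j * g) := fun i j hij => by
    obtain ⟨c, hc⟩ := h i j hij
    refine ⟨c * c, ?_⟩
    rw [← srot_sq hij, ← Matrix.mul_assoc, hc, Matrix.smul_mul, Matrix.mul_assoc, hc, Matrix.mul_smul, smul_smul,
      Matrix.mul_assoc]
  have cancel : ∀ (A B : Matrix (Fin n) (Fin n) F) (a b : F), B * A = 1 →
      a • (A * g) = b • (A * g) → a = b := fun A B a b hA e => by
    have h1 := congrArg (B * ·) e
    simp only [Matrix.mul_smul, ← Matrix.mul_assoc, hA, Matrix.one_mul] at h1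
    exact smul_left_injective F h0 h1
  have hT : ∀ i j, i ≠ j → g * sgn F i j = sgn F i j * g := by
    intro i j hij
    obtain ⟨k, hik, hjk⟩ := exists_third hn i j
    obtain ⟨c, hc⟩ := h i j hij
    obtain ⟨a, ha⟩ := hs j k hjk
    obtain ⟨b, hb⟩ := hs i k hik
    obtain ⟨d, hd⟩ := hs i j hij
    have hc0 : c ≠ 0 := fun e => by
      have h1 := congrArg Matrix.det hc
      rw [e, zero_smul, Matrix.det_zero, Matrix.det_mul, ← srotSL_val hij, (srotSL hij F).2, mul_one] at h1
      exact hg h1
    have e1 : g * (srot F i j * sgn F j k) = (c * a) • (sgn F i k * srot F i j * g) := by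
      rw [← Matrix.mul_assoc, hc, Matrix.smul_mul, Matrix.mul_assoc, ha, Matrix.mul_smul, smul_smul,
        ← Matrix.mul_assoc, srot_sgn hij hik hjk]
    have e2 : g * (sgn F i k * srot F i j) = (b * c) • (sgn F i k * srot F i j * g) := by
      rw [← Matrix.mul_assoc, hb, Matrix.smul_mul, Matrix.mul_assoc, hc, Matrix.mul_smul, smul_smul, Matrix.mul_assoc]
    rw [srot_sgn hij hik hjk, e2] at e1
    have hab : b * c = c * a := cancel _ (srot F j i * sgn F i k) _ _
      (by rw [Matrix.mul_assoc, ← Matrix.mul_assoc (sgn F i k), sgn_sq hik, Matrix.one_mul, srot_mul_transpose hij]) e1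
    have hba : b = a := mul_left_cancel₀ hc0 (by rw [← hab, mul_comm])
    have e3 : g * (sgn F i k * sgn F j k) = (b * a) • (sgn F i k * sgn F j k * g) := by
      rw [← Matrix.mul_assoc, hb, Matrix.smul_mul, Matrix.mul_assoc, ha, Matrix.mul_smul, smul_smul, Matrix.mul_assoc]
    rw [sgn_mul hij hik hjk, hd] at e3
    have haa : a * a = 1 := by
      have e4 : g * (sgn F j k * sgn F j k) = (a * a) • (sgn F j k * sgn F j k * g) := by
        rw [← Matrix.mul_assoc, ha, Matrix.smul_mul, Matrix.mul_assoc, ha, Matrix.mul_smul, smul_smul, Matrix.mul_assoc]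
      rw [sgn_sq hjk, Matrix.mul_one, Matrix.one_mul] at e4
      exact (smul_left_injective F h0 (show (1 : F) • g = (a * a) • g by rw [one_smul, ← e4])).symm
    have hd1 := cancel _ (sgn F i j) _ _ (sgn_sq hij) e3
    rw [hd, hd1, hba, haa, one_smul]
  have hdiag : ∀ a b, a ≠ b → g a b = 0 := by
    intro a b hab
    obtain ⟨m, ham, hbm⟩ := exists_third hn a b
    have h1 := congrFun (congrFun (hT a m ham) a) b
    simp [sgn, Matrix.mul_sub, Matrix.sub_mul, hab, hab.symm, hbm, hbm.symm, ham, ham.symm, Matrix.mul_single_apply_of_ne] at h1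
    exact (mul_eq_zero.1 (show (2 : F) * g a b = 0 by linear_combination h1)).resolve_left h2
  have heq : ∀ i j, i ≠ j → g i i = g j j := by
    intro i j hij
    obtain ⟨m, him, hjm⟩ := exists_third hn i j
    obtain ⟨c, hc⟩ := h i j hij
    have h1 := congrFun (congrFun hc m) m
    have h3 := congrFun (congrFun hc j) i
    simp [srot, Matrix.mul_add, Matrix.add_mul, Matrix.mul_sub, Matrix.sub_mul, him, him.symm, hjm, hjm.symm, hij,
      hij.symm, Matrix.mul_single_apply_of_ne, hdiag j i hij.symm] at h1 h3
    have hm : g m m ≠ 0 := fun e => hg (Matrix.det_eq_zero_of_row_eq_zero m fun k => by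
      rcases eq_or_ne m k with rfl | hk
      · exact e
      · exact hdiag m k hk)
    have hc1 : c = 1 := mul_right_cancel₀ hm (by linear_combination -h1)
    rw [hc1, one_mul] at h3
    linear_combination -h3
  refine ⟨g 0 0, Matrix.ext fun a b => ?_⟩
  rcases eq_or_ne a b with rfl | hab
  · rcases eq_or_ne a 0 with rfl | ha
    · simp
    · simp [heq a 0 ha]
  · simp [hdiag a b hab, hab]

theorem srot_eq_swap (h2 : (2 : F) = 0) {i j : Fin n} (hij : i ≠ j) : srot F i j = Matrix.swap F i j := by
  haveI : CharP F 2 := CharTwo.of_one_ne_zero_of_two_eq_zero one_ne_zero h2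
  ext a b
  rcases eq_or_ne a i with rfl | hai
  · rcases eq_or_ne b a with rfl | hba
    · simp [srot, Matrix.swap, hij, hij.symm, Matrix.single_apply]
    · rcases eq_or_ne b j with rfl | hbj
      · simp [srot, Matrix.swap, hij, hij.symm, Matrix.single_apply, CharTwo.neg_eq]
      · simp [srot, Matrix.swap, hij, hij.symm, hba, hba.symm, hbj, hbj.symm, Matrix.single_apply, Matrix.one_apply]
  · rcases eq_or_ne a j with rfl | haj
    · rcases eq_or_ne b i with rfl | hbi
      · simp [srot, Matrix.swap, hij, hij.symm, Matrix.single_apply]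
      · rcases eq_or_ne b a with rfl | hba
        · simp [srot, Matrix.swap, hij, hij.symm, Matrix.single_apply, hbi, hbi.symm]
        · simp [srot, Matrix.swap, hij, hij.symm, hbi, hbi.symm, hba, hba.symm, Matrix.single_apply, Matrix.one_apply]
    · simp [srot, Matrix.swap, hai, hai.symm, haj, haj.symm, Matrix.single_apply, Matrix.one_apply,
        Equiv.swap_apply_of_ne_of_ne hai haj]

/-- signed transpositions and one diagonal pair force scalars in every characteristic -/
theorem scalar_of_srot_diag (hn : 3 ≤ n) (g : Matrix (Fin n) (Fin n) F) (hg : g.det ≠ 0)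
    (h : ∀ i j, i ≠ j → ∃ c : F, g * srot F i j = c • (srot F i j * g)) {i0 i1 : Fin n} (h01 : i0 ≠ i1)
    (hD : ∃ t u c : F, t ≠ 0 ∧ t * t ≠ 1 ∧
      g * Matrix.diagonal (fun k => if k = i0 then u else if k = i1 then u⁻¹ else 1) =
        c • (Matrix.diagonal (fun k => if k = i0 then t else if k = i1 then t⁻¹ else 1) * g)) :
    ∃ l : F, g = l • 1 := by
  by_cases h2 : (2 : F) = 0
  swap
  · exact scalar_of_srot hn h2 g hg h
  haveI : NeZero n := ⟨by omega⟩
  haveI : CharP F 2 := CharTwo.of_one_ne_zero_of_two_eq_zero one_ne_zero h2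
  have h0 : g ≠ 0 := fun e => hg (by rw [e, Matrix.det_zero])
  have hcom : ∀ i j, i ≠ j → g * Matrix.swap F i j = Matrix.swap F i j * g := by
    intro i j hij
    obtain ⟨c, hc⟩ := h i j hij
    rw [srot_eq_swap h2 hij] at hc
    have h1 : g * (Matrix.swap F i j * Matrix.swap F i j) = (c * c) • (Matrix.swap F i j * Matrix.swap F i j * g) := by
      rw [← Matrix.mul_assoc, hc, Matrix.smul_mul, Matrix.mul_assoc, hc, Matrix.mul_smul, smul_smul, Matrix.mul_assoc]
    rw [Matrix.swap_mul_self, Matrix.mul_one, Matrix.one_mul] at h1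
    have hcc : c * c = 1 :=
      (smul_left_injective F h0 (show (1 : F) • g = (c * c) • g by rw [one_smul, ← h1])).symm
    have hc1 : c = 1 := by
      have : (c - 1) * (c - 1) = 0 := by linear_combination hcc + (1 - c) * h2
      exact sub_eq_zero.1 (mul_self_eq_zero.1 this)
    rw [hc, hc1, one_smul]
  have hrow : ∀ a l m, l ≠ m → a ≠ l → a ≠ m → g a l = g a m := fun a l m hlm hal ham => by
    have h1 := congrFun (congrFun (hcom l m hlm) a) l
    rw [Matrix.mul_swap_apply_left, Matrix.swap_mul_of_ne hal ham] at h1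
    exact h1.symm
  have hcol : ∀ b l m, l ≠ m → b ≠ l → b ≠ m → g l b = g m b := fun b l m hlm hbl hbm => by
    have h1 := congrFun (congrFun (hcom l m hlm) l) b
    rw [Matrix.swap_mul_apply_left, Matrix.mul_swap_of_ne hbl hbm] at h1
    exact h1
  have hdiag : ∀ i j, i ≠ j → g i i = g j j := fun i j hij => by
    have h1 := congrFun (congrFun (hcom i j hij) i) j
    rw [Matrix.swap_mul_apply_left, Matrix.mul_swap_apply_right] at h1
    exact h1
  have hoff : ∀ i j k l, i ≠ j → k ≠ l → g i j = g k l := by
    intro i j k l hij hkl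
    obtain ⟨m, him, hkm⟩ := exists_third hn i k
    have e1 : g i j = g i m := by
      rcases eq_or_ne j m with rfl | hjm
      · rfl
      · exact hrow i j m hjm hij him
    have e2 : g k m = g k l := by
      rcases eq_or_ne m l with rfl | hml
      · rfl
      · exact hrow k m l hml hkm hkl
    have e3 : g i m = g k m := by
      rcases eq_or_ne i k with rfl | hik
      · rfl
      · exact hcol m i k hik him.symm hkm.symm
    rw [e1, e3, e2]
  obtain ⟨i2, h02, h12⟩ := exists_third hn i0 i1
  have hb : g i0 i2 = 0 := by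
    by_contra hb
    obtain ⟨t, u, c, ht0, htt, hDe⟩ := hD
    have e1 := congrFun (congrFun hDe i0) i2
    have e2 := congrFun (congrFun hDe i1) i0
    have e3 := congrFun (congrFun hDe i2) i0
    simp [h01, h01.symm, h02, h02.symm, h12, h12.symm] at e1 e2 e3
    rw [hoff i1 i0 i0 i2 h01.symm h02] at e2
    rw [hoff i2 i0 i0 i2 h02.symm h02] at e3
    have hct : c * t = 1 := mul_left_cancel₀ hb (by linear_combination -e1)
    have huc : u = c * t⁻¹ := mul_left_cancel₀ hb (by linear_combination e2)
    have hu : u = c := mul_left_cancel₀ hb (by linear_combination e3)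
    have hc0 : c ≠ 0 := fun e => by rw [e, zero_mul] at hct; exact zero_ne_one hct
    have ht1 : t⁻¹ = 1 := mul_left_cancel₀ hc0 (by rw [← huc, hu, mul_one])
    exact htt (by rw [inv_eq_one.1 ht1, mul_one])
  refine ⟨g 0 0, Matrix.ext fun a b => ?_⟩
  rcases eq_or_ne a b with rfl | hab
  · rcases eq_or_ne a 0 with rfl | ha
    · simp
    · simp [hdiag a 0 ha]
  · simp [hoff a b i0 i2 hab h02, hb, hab]

/-- an automorphism fixing the norm-one elements of an involution is trivial -/
theorem eq_one_of_norm_one (σ τ : RingAut F) (hσ : σ ≠ 1) (hσσ : ∀ x, σ (σ x) = x)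
    (h : ∀ t, t * σ t = 1 → τ t = t) (hc : ∀ x, τ (σ x) = σ (τ x)) : τ = 1 := by
  have key : ∀ x, x ≠ 0 → τ x * σ x = x * σ (τ x) := fun x hx => by
    have hσx : σ x ≠ 0 := fun e => hx (σ.injective (by rw [e, map_zero]))
    have h1 := h (x / σ x) (by rw [map_div₀, hσσ]; field_simp)
    rw [map_div₀, hc] at h1
    have hτσ : σ (τ x) ≠ 0 := fun e => hx (τ.injective (σ.injective (by rw [e, map_zero, map_zero])))
    field_simp at h1
    linear_combination h1
  have hnf : ∀ x, σ x ≠ x → τ x = x := fun x hx => by
    have hx0 : x ≠ 0 := fun e => hx (by rw [e, map_zero])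
    have h1 := key x hx0
    have h2 := key (x + 1) (fun e => hx (by rw [eq_neg_of_add_eq_zero_left e, map_neg, map_one]))
    simp only [map_add, map_one] at h2
    have h3 : τ x - σ (τ x) = x - σ x := by linear_combination h2 - h1
    exact mul_right_cancel₀ (sub_ne_zero.2 hx) (by linear_combination h1 - x * h3)
  refine RingEquiv.ext fun x => ?_
  show τ x = x
  by_cases hx : σ x = x
  swap
  · exact hnf x hx
  obtain ⟨y, hy⟩ : ∃ y, σ y ≠ y := by
    by_contra hc'
    simp only [not_exists, not_not] at hc'
    exact hσ (RingEquiv.ext hc')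
  have h1 := hnf (x + y) (fun e => hy (by rw [map_add, hx] at e; exact add_left_cancel e))
  rw [map_add, hnf y hy] at h1
  exact add_right_cancel h1

end CfsgLib.SignScalar
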