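import Mathlib
import Cfsg.Prelude.Def_ClassicalGeometry

/-!
# Quadratic forms on coordinate spaces: polar vectors, reflections, Siegel maps
-/

set_option autoImplicit false

namespace CfsgLib.Classical

open scoped Matrix
open Matrix

variable {F : Type*} [Field F] {ι : Type} [Fintype ι] [DecidableEq ι]

/-- the polar form as a linear map in the second variable, written with `polarVec` -/
theorem polarVec_dotProduct (Q : QuadraticForm F (ι → F)) (v x : ι → F) :
    Cfsg.polarVec ⇑Q v ⬝ᵥ x = QuadraticMap.polar ⇑Q v x := by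
  conv_rhs => rw [pi_eq_sum_univ' x]
  show _ = QuadraticMap.polarBilin Q v _
  rw [map_sum, dotProduct]
  refine Finset.sum_congr rfl fun j _ => ?_
  rw [map_smul, smul_eq_mul, mul_comm]
  rfl

theorem vecMulVec_polarVec_mulVec (Q : QuadraticForm F (ι → F)) (w v x : ι → F) :
    Matrix.vecMulVec w (Cfsg.polarVec ⇑Q v) *ᵥ x = QuadraticMap.polar ⇑Q v x • w := by
  rw [Matrix.vecMulVec_mulVec, polarVec_dotProduct]
  funext i
  simp [mul_comm]

theorem reflectionMatrix_mulVec (Q : QuadraticForm F (ι → F)) (v x : ι → F) :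
    Cfsg.reflectionMatrix ⇑Q v *ᵥ x = x - ((Q v)⁻¹ * QuadraticMap.polar ⇑Q v x) • v := by
  rw [Cfsg.reflectionMatrix, Matrix.sub_mulVec, Matrix.one_mulVec, Matrix.smul_mulVec,
    vecMulVec_polarVec_mulVec, smul_smul]

theorem siegelMatrix_mulVec (Q : QuadraticForm F (ι → F)) (u v x : ι → F) (c : F) :
    Cfsg.siegelMatrix ⇑Q u v c *ᵥ x =
      x + c • (QuadraticMap.polar ⇑Q u x • v - QuadraticMap.polar ⇑Q v x • u) := by
  rw [Cfsg.siegelMatrix, Matrix.add_mulVec, Matrix.one_mulVec, Matrix.smul_mulVec, Matrix.sub_mulVec,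
    vecMulVec_polarVec_mulVec, vecMulVec_polarVec_mulVec]

theorem map_add_polar (Q : QuadraticForm F (ι → F)) (x y : ι → F) :
    Q (x + y) = Q x + Q y + QuadraticMap.polar ⇑Q x y :=
  QuadraticMap.map_add ..

theorem polar_self_two (Q : QuadraticForm F (ι → F)) (v : ι → F) :
    QuadraticMap.polar ⇑Q v v = 2 * Q v := by
  rw [QuadraticMap.polar_self, nsmul_eq_mul, Nat.cast_ofNat]

theorem reflection_preserves (Q : QuadraticForm F (ι → F)) (v : ι → F) (hv : Q v ≠ 0) (x : ι → F) :
    Q (Cfsg.reflectionMatrix ⇑Q v *ᵥ x) = Q x := by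
  rw [reflectionMatrix_mulVec, sub_eq_add_neg, ← neg_smul, map_add_polar, QuadraticMap.map_smul,
    QuadraticMap.polar_smul_right, QuadraticMap.polar_comm ⇑Q x v, smul_eq_mul, smul_eq_mul]
  field_simp
  ring

theorem det_reflectionMatrix (Q : QuadraticForm F (ι → F)) (v : ι → F) (hv : Q v ≠ 0) :
    (Cfsg.reflectionMatrix ⇑Q v).det = -1 := by
  rw [Cfsg.reflectionMatrix, sub_eq_add_neg, ← neg_smul, ← Matrix.smul_vecMulVec,
    Matrix.vecMulVec_eq Unit, Matrix.det_one_add_replicateCol_mul_replicateRow, dotProduct_smul,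
    polarVec_dotProduct, polar_self_two, smul_eq_mul]
  field_simp
  ring

/-- the Gram matrix of the polar form -/
def polarGram (Q : QuadraticForm F (ι → F)) : Matrix ι ι F :=
  Matrix.of fun i j => QuadraticMap.polar ⇑Q (Pi.single i 1) (Pi.single j 1)

theorem polarGram_mulVec (Q : QuadraticForm F (ι → F)) (x : ι → F) (i : ι) :
    (polarGram Q *ᵥ x) i = QuadraticMap.polar ⇑Q (Pi.single i 1) x := by
  rw [← polarVec_dotProduct]
  rfl

theorem dotProduct_polarGram_mulVec (Q : QuadraticForm F (ι → F)) (x y : ι → F) :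
    x ⬝ᵥ polarGram Q *ᵥ y = QuadraticMap.polar ⇑Q x y := by
  rw [QuadraticMap.polar_comm, ← polarVec_dotProduct, dotProduct_comm]
  refine Finset.sum_congr rfl fun i _ => ?_
  rw [polarGram_mulVec, QuadraticMap.polar_comm]
  rfl

theorem det_polarGram_ne_zero (Q : QuadraticForm F (ι → F))
    (hQ : (QuadraticMap.polarBilin Q).Nondegenerate) : (polarGram Q).det ≠ 0 := by
  intro h
  obtain ⟨x, hx, hx0⟩ := Matrix.exists_mulVec_eq_zero_iff.2 h
  refine hx (hQ.2 x fun y => ?_)
  show QuadraticMap.polar ⇑Q y x = 0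
  rw [← dotProduct_polarGram_mulVec, hx0, dotProduct_zero]

theorem mem_isometryGroup_iff {Q : (ι → F) → F} {g : Matrix.GeneralLinearGroup ι F} :
    g ∈ Cfsg.isometryGroup F Q ↔ ∀ x, Q ((g : Matrix ι ι F) *ᵥ x) = Q x :=
  ⟨fun h x => h x x, fun h u _ => h u⟩

theorem polar_isometry {Q : (ι → F) → F} {g : Matrix.GeneralLinearGroup ι F}
    (hg : g ∈ Cfsg.isometryGroup F Q) (x y : ι → F) :
    QuadraticMap.polar Q ((g : Matrix ι ι F) *ᵥ x) ((g : Matrix ι ι F) *ᵥ y) = QuadraticMap.polar Q x y := by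
  have h := mem_isometryGroup_iff.1 hg
  simp only [QuadraticMap.polar, ← Matrix.mulVec_add, h]

theorem det_sq_of_isometry (Q : QuadraticForm F (ι → F)) (hQ : (QuadraticMap.polarBilin Q).Nondegenerate)
    {g : Matrix.GeneralLinearGroup ι F} (hg : g ∈ Cfsg.isometryGroup F ⇑Q) :
    (g : Matrix ι ι F).det = 1 ∨ (g : Matrix ι ι F).det = -1 := by
  have e : (g : Matrix ι ι F)ᵀ * polarGram Q * (g : Matrix ι ι F) = polarGram Q := by
    ext i j
    have := polar_isometry hg (Pi.single i 1) (Pi.single j 1)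
    rw [← dotProduct_polarGram_mulVec] at this
    simp only [polarGram, Matrix.of_apply]
    rw [← this, Matrix.mulVec_single_one, Matrix.mulVec_single_one, Matrix.mul_assoc, Matrix.mul_apply]
    rfl
  have := congrArg Matrix.det e
  rw [Matrix.det_mul, Matrix.det_mul, Matrix.det_transpose] at this
  have h2 : (g : Matrix ι ι F).det * (g : Matrix ι ι F).det = 1 :=
    mul_left_cancel₀ (det_polarGram_ne_zero Q hQ) (by linear_combination this)
  exact mul_self_eq_one_iff.1 h2

/-- the reflection as an element of the isometry group -/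
noncomputable def reflectionIso (Q : QuadraticForm F (ι → F)) (v : ι → F) (hv : Q v ≠ 0) :
    Cfsg.isometryGroup F ⇑Q :=
  ⟨Matrix.GeneralLinearGroup.mkOfDetNeZero (Cfsg.reflectionMatrix ⇑Q v)
      (by rw [det_reflectionMatrix Q v hv]; simp),
    mem_isometryGroup_iff.2 fun x => reflection_preserves Q v hv x⟩

theorem reflectionIso_coe (Q : QuadraticForm F (ι → F)) (v : ι → F) (hv : Q v ≠ 0) :
    ((reflectionIso Q v hv : Matrix.GeneralLinearGroup ι F) : Matrix ι ι F) = Cfsg.reflectionMatrix ⇑Q v := rfl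

theorem siegel_preserves (Q : QuadraticForm F (ι → F)) (u v : ι → F) (hu : Q u = 0) (hv : Q v = 0)
    (huv : QuadraticMap.polar ⇑Q u v = 0) (c : F) (x : ι → F) :
    Q (Cfsg.siegelMatrix ⇑Q u v c *ᵥ x) = Q x := by
  rw [siegelMatrix_mulVec, sub_eq_add_neg, ← neg_smul, smul_add, smul_smul, smul_smul, map_add_polar,
    map_add_polar, QuadraticMap.map_smul, QuadraticMap.map_smul, QuadraticMap.polar_add_right,
    QuadraticMap.polar_smul_left, QuadraticMap.polar_smul_right, QuadraticMap.polar_smul_right,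
    QuadraticMap.polar_smul_right, QuadraticMap.polar_comm ⇑Q v u, QuadraticMap.polar_comm ⇑Q x v,
    QuadraticMap.polar_comm ⇑Q x u, hu, hv, huv]
  simp only [smul_eq_mul]
  ring

theorem siegel_mul (Q : QuadraticForm F (ι → F)) (u v : ι → F) (hu : Q u = 0) (hv : Q v = 0)
    (huv : QuadraticMap.polar ⇑Q u v = 0) (c d : F) :
    Cfsg.siegelMatrix ⇑Q u v c * Cfsg.siegelMatrix ⇑Q u v d = Cfsg.siegelMatrix ⇑Q u v (c + d) := by
  refine Matrix.ext_iff_mulVec.2 fun x => ?_
  rw [← Matrix.mulVec_mulVec, siegelMatrix_mulVec, siegelMatrix_mulVec, siegelMatrix_mulVec]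
  simp only [QuadraticMap.polar_add_right, QuadraticMap.polar_smul_right, QuadraticMap.polar_sub_right,
    polar_self_two, hu, hv, huv, QuadraticMap.polar_comm ⇑Q v u, smul_eq_mul]
  module

theorem siegel_fix (Q : QuadraticForm F (ι → F)) (u v : ι → F) (hu : Q u = 0) (hv : Q v = 0)
    (huv : QuadraticMap.polar ⇑Q u v = 0) (c : F) :
    Cfsg.siegelMatrix ⇑Q u v c *ᵥ u = u ∧ Cfsg.siegelMatrix ⇑Q u v c *ᵥ v = v := by
  rw [siegelMatrix_mulVec, siegelMatrix_mulVec, QuadraticMap.polar_comm ⇑Q v u, huv, polar_self_two,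
    polar_self_two, hu, hv]
  simp

end CfsgLib.Classical
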