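import Mathlib
import Cfsg.Agent.Lib.Classical.QuadBasic

/-!
# Discriminants
-/

set_option autoImplicit false

namespace CfsgLib.Classical

open scoped Matrix
open Matrix

variable {F : Type*} [Field F] {κ : Type} [Fintype κ] [DecidableEq κ]

theorem isSquare_mul_sq_iff {x s : F} (hs : s ≠ 0) : IsSquare (s * s * x) ↔ IsSquare x := by
  constructor
  · rintro ⟨r, hr⟩
    exact ⟨r / s, by field_simp; linear_combination hr⟩
  · rintro ⟨r, hr⟩
    exact ⟨s * r, by rw [hr]; ring⟩

/-- a change of basis multiplies the Gram determinant by a non-zero square -/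
theorem exists_sq_gram_basis (Q : QuadraticForm F (κ → F)) {ι : Type*} [Fintype ι] [DecidableEq ι]
    (b : Module.Basis ι F (κ → F)) :
    ∃ s : F, s ≠ 0 ∧ (Matrix.of fun i j : ι => QuadraticMap.polar ⇑Q (b i) (b j)).det = s * s * (polarGram Q).det := by
  classical
  have hc : Fintype.card ι = Fintype.card κ := by
    rw [← Module.finrank_eq_card_basis b, Module.finrank_fintype_fun_eq_card]
  let e : ι ≃ κ := Fintype.equivOfCardEq hc
  let P : Matrix κ κ F := Matrix.of fun r c => b (e.symm c) r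
  have hmat : (Matrix.of fun i j : ι => QuadraticMap.polar ⇑Q (b i) (b j)) = (Pᵀ * polarGram Q * P).submatrix e e := by
    ext i j
    rw [Matrix.submatrix_apply, Matrix.of_apply, Matrix.mul_assoc, ← dotProduct_polarGram_mulVec]
    show _ = ∑ k, P k (e i) * (polarGram Q * P) k (e j)
    refine Finset.sum_congr rfl fun k _ => ?_
    simp [P, Matrix.mulVec, dotProduct, Matrix.mul_apply]
  have hP : P.det ≠ 0 := by
    have : P = (Pi.basisFun F κ).toMatrix (b.reindex e) := by
      ext r c
      simp [P, Module.Basis.toMatrix_apply]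
    rw [this, ← isUnit_iff_ne_zero]
    exact (Matrix.isUnit_iff_isUnit_det _).1
      (IsUnit.of_mul_eq_one _ ((Pi.basisFun F κ).toMatrix_mul_toMatrix_flip (b.reindex e)))
  exact ⟨P.det, hP, by
    rw [hmat, Matrix.det_submatrix_equiv_self, Matrix.det_mul, Matrix.det_mul, Matrix.det_transpose]; ring⟩

theorem isSquare_gram_basis (Q : QuadraticForm F (κ → F)) {ι : Type*} [Fintype ι] [DecidableEq ι]
    (b : Module.Basis ι F (κ → F)) :
    IsSquare (Matrix.of fun i j : ι => QuadraticMap.polar ⇑Q (b i) (b j)).det ↔ IsSquare (polarGram Q).det := by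
  obtain ⟨s, hs, h⟩ := exists_sq_gram_basis Q b
  rw [h, isSquare_mul_sq_iff hs]

theorem isSquare_neg_one_pow_iff [Fintype F] (hq : Odd (Fintype.card F)) (m : ℕ) :
    IsSquare ((-1 : F) ^ m) ↔ Even (m * (Fintype.card F - 1) / 2) := by
  have hm : m * (Fintype.card F - 1) / 2 = m * ((Fintype.card F - 1) / 2) :=
    Nat.mul_div_assoc m (by obtain ⟨k, hk⟩ := hq; exact ⟨k, by omega⟩)
  rw [hm, Nat.even_mul]
  have hsq : IsSquare (-1 : F) ↔ Even ((Fintype.card F - 1) / 2) := by
    rw [FiniteField.isSquare_neg_one_iff]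
    obtain ⟨k, hk⟩ := hq
    rw [hk, Nat.add_sub_cancel, Nat.mul_div_cancel_left _ two_pos, Nat.even_iff]
    omega
  rcases Nat.even_or_odd m with h | h
  · simp [h.neg_one_pow, h]
  · rw [h.neg_one_pow, hsq]
    simp [Nat.not_even_iff_odd.2 h]

theorem isSquare_mul_of_not {F : Type*} [Field F] [Finite F] (h2 : (2 : F) ≠ 0) {x y : F} (hx : ¬ IsSquare x)
    (hy : ¬ IsSquare y) : IsSquare (x * y) := by
  classical
  cases nonempty_fintype F
  have hF : ringChar F ≠ 2 := fun h => h2 (by
    have : CharP F 2 := ringChar.of_eq h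
    exact CharTwo.two_eq_zero)
  have e1 := (quadraticChar_neg_one_iff_not_isSquare (a := x)).2 hx
  have e2 := (quadraticChar_neg_one_iff_not_isSquare (a := y)).2 hy
  have e3 : quadraticChar F (x * y) = 1 := by rw [map_mul, e1, e2]; rfl
  exact (quadraticChar_one_iff_isSquare (mul_ne_zero (fun h => hx (by rw [h]; exact IsSquare.zero))
    (fun h => hy (by rw [h]; exact IsSquare.zero)))).1 e3

theorem isSquare_mul_right_iff {F : Type*} [Field F] [Finite F] (h2 : (2 : F) ≠ 0) {x y : F} (hx0 : x ≠ 0)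
    (hy : ¬ IsSquare y) : IsSquare (x * y) ↔ ¬ IsSquare x := by
  constructor
  · rintro ⟨r, hr⟩ ⟨s, hs⟩
    have hs0 : s ≠ 0 := fun h => hx0 (by rw [hs, h, zero_mul])
    exact hy ⟨r / s, by rw [hs] at hr; field_simp; linear_combination hr⟩
  · exact fun hx => isSquare_mul_of_not h2 hx hy

end CfsgLib.Classical

namespace CfsgLib.Classical

theorem det_swap_blocks (F : Type*) [Field F] (m : ℕ) :
    (Matrix.fromBlocks (0 : Matrix (Fin m) (Fin m) F) (1 : Matrix (Fin m) (Fin m) F) (1 : Matrix (Fin m) (Fin m) F) (0 : Matrix (Fin m) (Fin m) F)).det = (-1 : F) ^ m := by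
  let I : Matrix (Fin m) (Fin m) F := 1
  let O : Matrix (Fin m) (Fin m) F := 0
  have h : Matrix.fromBlocks I I O I * Matrix.fromBlocks O I I O = Matrix.fromBlocks I I I O := by
    simp only [I, O]
    rw [Matrix.fromBlocks_multiply]; simp
  have h2 := congrArg Matrix.det h
  simp only [I, O] at h2
  rw [Matrix.det_mul, Matrix.det_fromBlocks_zero₂₁, Matrix.det_one, one_mul, one_mul, Matrix.det_fromBlocks_one₁₁,
    one_mul, zero_sub, Matrix.det_neg, Matrix.det_one, mul_one, Fintype.card_fin] at h2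
  exact h2

end CfsgLib.Classical
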