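import Mathlib
import Cfsg.Agent.Lib.Invol.Basic
import Cfsg.Agent.Lib.Classical.QuadBasic

/-!
# The orthogonal groups in dimension two
-/

set_option autoImplicit false

namespace CfsgLib.Classical

open scoped Matrix
open Matrix

theorem mulEquiv_dihedral_of_inverting {G : Type*} [Group G] [Finite G] {x M : G} (hx : x * x = 1) (hx1 : x ≠ 1)
    (hinv : x * M * x = M⁻¹) (hxM : x * M ≠ 1)
    (hgen : ∀ g : G, g ∈ Subgroup.zpowers M ∨ x * g ∈ Subgroup.zpowers M) :
    Nonempty (G ≃* DihedralGroup (orderOf M)) := by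
  have hx' : orderOf x = 2 := orderOf_eq_prime (by rw [sq, hx]) hx1
  have hy' : orderOf (x * M) = 2 :=
    orderOf_eq_prime (by rw [sq, ← mul_assoc, hinv, inv_mul_cancel]) hxM
  have hprod : x * (x * M) = M := by rw [← mul_assoc, hx, one_mul]
  have hM : Subgroup.zpowers M ≤ Subgroup.closure {x, x * M} := by
    rw [Subgroup.zpowers_le]
    have := Subgroup.mul_mem (Subgroup.closure {x, x * M}) (Subgroup.subset_closure (Set.mem_insert x _))
      (Subgroup.subset_closure (Set.mem_insert_of_mem x (Set.mem_singleton (x * M))))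
    rwa [hprod] at this
  have htop : Subgroup.closure {x, x * M} = (⊤ : Subgroup G) := by
    refine eq_top_iff.2 fun g _ => ?_
    rcases hgen g with h | h
    · exact hM h
    · have := Subgroup.mul_mem _ (Subgroup.subset_closure (Set.mem_insert x {x * M})) (hM h)
      rwa [← mul_assoc, hx, one_mul] at this
  have e := CfsgLib.Invol.dihedralEquiv hx' hy'
  rw [hprod] at e
  exact ⟨((MulEquiv.subgroupCongr htop).trans Subgroup.topEquiv).symm.trans e⟩

variable {F : Type*} [Field F] [Fintype F]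

theorem isometry_plus_one_dihedral :
    Nonempty (Cfsg.isometryGroup F (Cfsg.quadFormPlus 1 F) ≃* DihedralGroup (Fintype.card F - 1)) := by
  classical
  set Q := Cfsg.quadFormPlus 1 F
  have hQ : ∀ v : Fin 1 ⊕ Fin 1 → F, Q v = v (.inl 0) * v (.inr 0) := fun v => by
    simp [Q, Cfsg.quadFormPlus]
  let D : Fˣ → Matrix (Fin 1 ⊕ Fin 1) (Fin 1 ⊕ Fin 1) F := fun u =>
    Matrix.diagonal (Sum.elim (fun _ => (u : F)) fun _ => (u : F)⁻¹)
  let S : Matrix (Fin 1 ⊕ Fin 1) (Fin 1 ⊕ Fin 1) F := Matrix.fromBlocks 0 1 1 0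
  have hDv : ∀ u v, D u *ᵥ v = Sum.elim (fun _ => (u : F) * v (.inl 0)) fun _ => (u : F)⁻¹ * v (.inr 0) := by
    intro u v
    funext i
    rcases i with i | i <;> fin_cases i <;> simp [D, Matrix.mulVec_diagonal]
  have hSv : ∀ v, S *ᵥ v = Sum.elim (fun _ => v (.inr 0)) fun _ => v (.inl 0) := by
    intro v
    funext i
    rcases i with i | i <;> fin_cases i <;> simp [S, Matrix.mulVec, dotProduct]
  let gD : Fˣ → Matrix.GeneralLinearGroup (Fin 1 ⊕ Fin 1) F := fun u =>
    Matrix.GeneralLinearGroup.mkOfDetNeZero (D u) (by simp [D, Matrix.det_diagonal, Finset.prod_eq_zero_iff])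
  let T : Fˣ →* Cfsg.isometryGroup F Q :=
    { toFun := fun u => ⟨gD u, mem_isometryGroup_iff.2 fun v => by
        rw [hQ, hQ, show ((gD u : Matrix.GeneralLinearGroup (Fin 1 ⊕ Fin 1) F) : Matrix (Fin 1 ⊕ Fin 1) (Fin 1 ⊕ Fin 1) F) = D u from rfl, hDv]
        simp only [Sum.elim_inl, Sum.elim_inr]
        field_simp⟩
      map_one' := Subtype.ext (Units.ext (show D 1 = 1 by
        ext (i | i) (j | j) <;> fin_cases i <;> fin_cases j <;> simp [D]))
      map_mul' := fun a b => Subtype.ext (Units.ext (show D (a * b) = D a * D b by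
        refine Matrix.ext_iff_mulVec.2 fun v => ?_
        simp only [← Matrix.mulVec_mulVec, hDv, Sum.elim_inl, Sum.elim_inr, Units.val_mul, mul_inv, mul_assoc])) }
  have hT : Function.Injective T := fun a b h => by
    have := congrArg (fun g : Cfsg.isometryGroup F Q =>
      ((g : Matrix.GeneralLinearGroup (Fin 1 ⊕ Fin 1) F) : Matrix (Fin 1 ⊕ Fin 1) (Fin 1 ⊕ Fin 1) F) (.inl 0) (.inl 0)) h
    simpa [T, gD, D, Units.val_inj] using this
  have hS2 : S * S = 1 := by simp [S, Matrix.fromBlocks_multiply]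
  let x : Cfsg.isometryGroup F Q := ⟨⟨S, S, hS2, hS2⟩, mem_isometryGroup_iff.2 fun v => by
    rw [hQ, hQ]
    show (S *ᵥ v) _ * (S *ᵥ v) _ = _
    rw [hSv]
    exact mul_comm _ _⟩
  obtain ⟨ζ, hζ⟩ := IsCyclic.exists_monoid_generator (α := Fˣ)
  have hord : orderOf (T ζ) = Fintype.card F - 1 := by
    rw [orderOf_injective T hT, orderOf_eq_card_of_forall_mem_zpowers
      (fun u => (mem_powers_iff_mem_zpowers.1 (hζ u))), Nat.card_units, Nat.card_eq_fintype_card]
  rw [← hord]
  have hzero : S (.inl 0) (.inl 0) = 0 := by simp [S]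
  refine mulEquiv_dihedral_of_inverting (x := x) (Subtype.ext (Units.ext hS2)) (fun h => ?_) ?_ (fun h => ?_) ?_
  · have := congrArg (fun g : Cfsg.isometryGroup F Q =>
      ((g : Matrix.GeneralLinearGroup (Fin 1 ⊕ Fin 1) F) : Matrix (Fin 1 ⊕ Fin 1) (Fin 1 ⊕ Fin 1) F) (.inl 0) (.inl 0)) h
    simp [x, S] at this
  · rw [← map_inv]
    refine Subtype.ext (Units.ext ?_)
    show S * D ζ * S = D ζ⁻¹
    refine Matrix.ext_iff_mulVec.2 fun v => ?_
    simp only [← Matrix.mulVec_mulVec, hSv, hDv, Sum.elim_inl, Sum.elim_inr, Units.val_inv_eq_inv_val, inv_inv]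
  · have := congrArg (fun g : Cfsg.isometryGroup F Q =>
      ((g : Matrix.GeneralLinearGroup (Fin 1 ⊕ Fin 1) F) : Matrix (Fin 1 ⊕ Fin 1) (Fin 1 ⊕ Fin 1) F) (.inl 0) (.inl 0)) h
    simp [x, T, gD, S, D, Matrix.mul_diagonal] at this
  intro g
  set G : Matrix (Fin 1 ⊕ Fin 1) (Fin 1 ⊕ Fin 1) F :=
    ((g : Matrix.GeneralLinearGroup (Fin 1 ⊕ Fin 1) F) : Matrix (Fin 1 ⊕ Fin 1) (Fin 1 ⊕ Fin 1) F) with hG
  set a := G (.inl 0) (.inl 0)
  set c := G (.inr 0) (.inl 0)
  set b := G (.inl 0) (.inr 0)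
  set d := G (.inr 0) (.inr 0)
  have hQg : ∀ s t : F, (a * s + b * t) * (c * s + d * t) = s * t := fun s t => by
    have := mem_isometryGroup_iff.1 g.2 (Sum.elim (fun _ => s) fun _ => t)
    rw [← hG, hQ, hQ] at this
    simpa [Matrix.mulVec, dotProduct, a, b, c, d] using this
  have h10 : a * c = 0 := by linear_combination hQg 1 0
  have h01 : b * d = 0 := by linear_combination hQg 0 1
  have h11 : a * d + b * c = 1 := by linear_combination hQg 1 1 - hQg 1 0 - hQg 0 1
  have hext : ∀ A B : Matrix (Fin 1 ⊕ Fin 1) (Fin 1 ⊕ Fin 1) F, A (.inl 0) (.inl 0) = B (.inl 0) (.inl 0) →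
      A (.inl 0) (.inr 0) = B (.inl 0) (.inr 0) → A (.inr 0) (.inl 0) = B (.inr 0) (.inl 0) →
      A (.inr 0) (.inr 0) = B (.inr 0) (.inr 0) → A = B := fun A B p q r s => by
    ext (i | i) (j | j) <;> fin_cases i <;> fin_cases j <;> assumption
  have hpow : ∀ u : Fˣ, T u ∈ Subgroup.zpowers (T ζ) := fun u => by
    rw [← MonoidHom.map_zpowers]
    exact ⟨u, mem_powers_iff_mem_zpowers.1 (hζ u), rfl⟩
  by_cases ha : a = 0
  · right
    have hbc : b * c = 1 := by linear_combination h11 - d * ha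
    have hd : d = 0 := (mul_eq_zero.1 h01).resolve_left (left_ne_zero_of_mul_eq_one hbc)
    convert hpow (Units.mk0 c (right_ne_zero_of_mul_eq_one hbc))
    refine Subtype.ext (Units.ext ?_)
    show S * G = D _
    apply hext <;> simp [S, D, Matrix.mul_apply, a, b, c, d] at * <;> first | assumption | exact ha | exact hd |
      exact eq_inv_of_mul_eq_one_left hbc
  · left
    have hc : c = 0 := (mul_eq_zero.1 h10).resolve_left ha
    have had : a * d = 1 := by linear_combination h11 - b * hc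
    have hb : b = 0 := (mul_eq_zero.1 h01).resolve_right (right_ne_zero_of_mul_eq_one had)
    convert hpow (Units.mk0 a ha)
    refine Subtype.ext (Units.ext ?_)
    show G = D _
    apply hext <;> simp [D, a, b, c, d] at * <;> first | assumption | exact hb | exact hc |
      exact eq_inv_of_mul_eq_one_right had

theorem isometry_minus_zero_dihedral (a b : F)
    (hab : ∀ z₁ z₂ : F, z₁ ^ 2 + a * z₁ * z₂ + b * z₂ ^ 2 = 0 → z₁ = 0 ∧ z₂ = 0) :
    Nonempty (Cfsg.isometryGroup F (Cfsg.quadFormMinus 0 F a b) ≃* DihedralGroup (Fintype.card F + 1)) := by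
  classical
  set Q := Cfsg.quadFormMinus 0 F a b
  let i₀ : (Fin 0 ⊕ Fin 0) ⊕ Fin 2 := .inr 0
  let i₁ : (Fin 0 ⊕ Fin 0) ⊕ Fin 2 := .inr 1
  have hQ : ∀ v : (Fin 0 ⊕ Fin 0) ⊕ Fin 2 → F, Q v = v i₀ ^ 2 + a * v i₀ * v i₁ + b * v i₁ ^ 2 := fun v => by
    simp [Q, Cfsg.quadFormMinus, i₀, i₁]
  haveI : Fact (∀ r : F, r ^ 2 ≠ -b + -a * r) := ⟨fun r h => one_ne_zero (hab r 1 (by linear_combination h)).2⟩
  haveI : Finite (QuadraticAlgebra F (-b) (-a)) := Finite.of_equiv _ (QuadraticAlgebra.equivProd (-b) (-a)).symm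
  letI : Fintype (QuadraticAlgebra F (-b) (-a)) := Fintype.ofFinite (QuadraticAlgebra F (-b) (-a))
  have hcardK : Fintype.card (QuadraticAlgebra F (-b) (-a)) = Fintype.card F ^ 2 := by
    rw [Fintype.card_congr (QuadraticAlgebra.equivProd (-b) (-a)), Fintype.card_prod, sq]
  have hsum : ∀ (f : (Fin 0 ⊕ Fin 0) ⊕ Fin 2 → F), ∑ i, f i = f i₀ + f i₁ := fun f => by
    simp [Fintype.sum_sum_type, Fin.sum_univ_two, i₀, i₁]
  have hsplit : ∀ i, i = i₀ ∨ i = i₁ := by
    rintro ((i | i) | i)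
    · exact i.elim0
    · exact i.elim0
    · fin_cases i
      · exact Or.inl rfl
      · exact Or.inr rfl
  let M : (QuadraticAlgebra F (-b) (-a)) → Matrix ((Fin 0 ⊕ Fin 0) ⊕ Fin 2) ((Fin 0 ⊕ Fin 0) ⊕ Fin 2) F := fun u =>
    Matrix.of fun i j => if i = i₀ then (if j = i₀ then u.re else b * u.im)
      else (if j = i₀ then -u.im else u.re - a * u.im)
  have hne : i₁ ≠ i₀ := by simp [i₀, i₁]
  have hMv : ∀ u v, (M u *ᵥ v) i₀ = u.re * v i₀ + b * u.im * v i₁ ∧
      (M u *ᵥ v) i₁ = -u.im * v i₀ + (u.re - a * u.im) * v i₁ := fun u v => by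
    constructor <;> simp [Matrix.mulVec, dotProduct, hsum, M, hne]
  have hext : ∀ A B : Matrix ((Fin 0 ⊕ Fin 0) ⊕ Fin 2) ((Fin 0 ⊕ Fin 0) ⊕ Fin 2) F,
      A i₀ i₀ = B i₀ i₀ → A i₀ i₁ = B i₀ i₁ → A i₁ i₀ = B i₁ i₀ → A i₁ i₁ = B i₁ i₁ → A = B :=
    fun A B p q r s => by
      ext i j
      rcases hsplit i with rfl | rfl <;> rcases hsplit j with rfl | rfl <;> assumption
  have hM1 : M 1 = 1 := by apply hext <;> simp [M, hne, hne.symm, QuadraticAlgebra.re_one, QuadraticAlgebra.im_one]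
  have hMmul : ∀ u w, M (u * w) = M u * M w := fun u w => by
    apply hext <;> simp [M, Matrix.mul_apply, hsum, hne, QuadraticAlgebra.re_mul, QuadraticAlgebra.im_mul] <;> ring
  let ν : (QuadraticAlgebra F (-b) (-a))ˣ →* Fˣ := Units.map (QuadraticAlgebra.norm : (QuadraticAlgebra F (-b) (-a)) →* F)
  let gM : (QuadraticAlgebra F (-b) (-a))ˣ →* Matrix.GeneralLinearGroup ((Fin 0 ⊕ Fin 0) ⊕ Fin 2) F :=
    Units.map { toFun := M, map_one' := hM1, map_mul' := hMmul }
  have hMQ : ∀ u : (QuadraticAlgebra F (-b) (-a)), ∀ v, Q (M u *ᵥ v) = QuadraticAlgebra.norm u * Q v := fun u v => by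
    rw [hQ, hQ, (hMv u v).1, (hMv u v).2, QuadraticAlgebra.norm_def]
    ring
  let T : ν.ker →* Cfsg.isometryGroup F Q :=
    { toFun := fun u => ⟨gM u.1, mem_isometryGroup_iff.2 fun v => by
        have h : QuadraticAlgebra.norm (u.1 : (QuadraticAlgebra F (-b) (-a))) = 1 := congrArg Units.val u.2
        exact (hMQ _ v).trans (by rw [h, one_mul])⟩
      map_one' := Subtype.ext (map_one gM)
      map_mul' := fun x y => Subtype.ext (map_mul gM _ _) }
  have hT : Function.Injective T := fun x y h => by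
    have e := congrArg (fun g : Cfsg.isometryGroup F Q =>
      ((g : Matrix.GeneralLinearGroup ((Fin 0 ⊕ Fin 0) ⊕ Fin 2) F) : Matrix ((Fin 0 ⊕ Fin 0) ⊕ Fin 2) ((Fin 0 ⊕ Fin 0) ⊕ Fin 2) F)) h
    refine Subtype.ext (Units.ext ?_)
    have e1 := congrFun (congrFun e i₀) i₀
    have e2 := congrFun (congrFun e i₁) i₀
    ext
    · simpa [T, gM, M] using e1
    · simpa [T, gM, M, hne] using e2
  have hνs : Function.Surjective ν := by
    intro c
    rcases eq_or_ne (ringChar F) 2 with h2 | h2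
    · obtain ⟨r, hr⟩ := FiniteField.isSquare_of_char_two h2 (c : F)
      have hr0 : r ≠ 0 := fun h => c.ne_zero (by simp [hr, h])
      refine ⟨Units.mk0 (⟨r, 0⟩ : (QuadraticAlgebra F (-b) (-a))) (fun h => hr0 (by simpa using congrArg QuadraticAlgebra.re h)), Units.ext ?_⟩
      show QuadraticAlgebra.norm (⟨r, 0⟩ : (QuadraticAlgebra F (-b) (-a))) = _
      rw [QuadraticAlgebra.norm_def, hr]
      ring
    · have hD : a ^ 2 - 4 * b ≠ 0 := fun h => one_ne_zero (α := F) (by
        have hz := hab (-a / 2) 1 (by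
          have : (2 : F) ≠ 0 := Ring.two_ne_zero h2
          field_simp
          linear_combination -h)
        exact hz.2)
      have h20 : (2 : F) ≠ 0 := Ring.two_ne_zero h2
      open Polynomial in
      obtain ⟨s, t, hst⟩ := FiniteField.exists_root_sum_quadratic
        (f := (X : F[X]) ^ 2 - C (4 * (c : F))) (g := C (-(a ^ 2 - 4 * b)) * X ^ 2)
        (by rw [degree_sub_eq_left_of_degree_lt] <;> simp [degree_C_le.trans_lt])
        (by rw [degree_C_mul (neg_ne_zero.2 hD)]; simp) (FiniteField.odd_card_of_char_ne_two h2)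
      simp only [Polynomial.eval_sub, Polynomial.eval_pow, Polynomial.eval_X, Polynomial.eval_C,
        Polynomial.eval_mul] at hst
      have hu : QuadraticAlgebra.norm (⟨(s - a * t) / 2, -t⟩ : (QuadraticAlgebra F (-b) (-a))) = (c : F) := by
        rw [QuadraticAlgebra.norm_def]
        have h4 : (4 : F) ≠ 0 := by
          rw [show (4 : F) = 2 * 2 by norm_num]; exact mul_ne_zero h20 h20
        field_simp
        linear_combination hst
      exact ⟨Units.mk0 _ (fun h => c.ne_zero (by rw [← hu, h, QuadraticAlgebra.norm_zero])), Units.ext hu⟩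
  have hcard : Nat.card ν.ker = Fintype.card F + 1 := by
    have h1 := Subgroup.card_mul_index ν.ker
    rw [Subgroup.index_ker, MonoidHom.range_eq_top.2 hνs, Subgroup.card_top, Nat.card_units,
      Nat.card_units, Nat.card_eq_fintype_card (α := F), Nat.card_eq_fintype_card (α := (QuadraticAlgebra F (-b) (-a))), hcardK] at h1
    have hq : 1 < Fintype.card F := Fintype.one_lt_card
    obtain ⟨k, hk⟩ : ∃ k, Fintype.card F = k + 2 := ⟨_, (Nat.sub_add_cancel hq).symm⟩
    rw [hk] at h1 ⊢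
    have : (k + 2) ^ 2 - 1 = (k + 3) * (k + 1) := by
      rw [show (k + 2) ^ 2 = (k + 3) * (k + 1) + 1 by ring]; omega
    rw [this, show k + 2 - 1 = k + 1 by omega] at h1
    exact Nat.eq_of_mul_eq_mul_right (by omega) h1
  obtain ⟨ζ, hζ⟩ := IsCyclic.exists_generator (α := ν.ker)
  have hord : orderOf (T ζ) = Fintype.card F + 1 := by
    rw [orderOf_injective T hT, orderOf_eq_card_of_forall_mem_zpowers hζ, hcard]
  rw [← hord]
  have hpow : ∀ u, T u ∈ Subgroup.zpowers (T ζ) := fun u => by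
    rw [← MonoidHom.map_zpowers]
    exact ⟨u, hζ u, rfl⟩
  let C : Matrix ((Fin 0 ⊕ Fin 0) ⊕ Fin 2) ((Fin 0 ⊕ Fin 0) ⊕ Fin 2) F :=
    Matrix.of fun i j => if i = i₀ then (if j = i₀ then 1 else a) else (if j = i₀ then 0 else -1)
  have hC2 : C * C = 1 := by apply hext <;> simp [C, Matrix.mul_apply, hsum, hne, hne.symm]
  let x : Cfsg.isometryGroup F Q := ⟨⟨C, C, hC2, hC2⟩, mem_isometryGroup_iff.2 fun v => by
    rw [hQ, hQ]
    simp [Matrix.mulVec, dotProduct, hsum, C, hne]
    ring⟩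
  have hD : 4 * b - a ^ 2 ≠ 0 := by
    intro h
    rcases eq_or_ne (ringChar F) 2 with h2 | h2
    · haveI : CharP F 2 := ringChar.of_eq h2
      have h20 : (2 : F) = 0 := CharTwo.two_eq_zero
      obtain ⟨r, hr⟩ := FiniteField.isSquare_of_char_two h2 b
      have ha : a = 0 := by
        have : a ^ 2 = 0 := by linear_combination -h + 2 * b * h20
        exact pow_eq_zero_iff two_ne_zero |>.1 this
      exact one_ne_zero (hab r 1 (by rw [hr, ha]; linear_combination (r * r) * h20)).2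
    · refine one_ne_zero (hab (-a / 2) 1 ?_).2
      have h20 : (2 : F) ≠ 0 := Ring.two_ne_zero h2
      field_simp
      linear_combination h
  have hC1 : ∀ u : (QuadraticAlgebra F (-b) (-a)), C = M u → False := fun u h => by
    have e1 := congrFun (congrFun h i₀) i₀
    have e2 := congrFun (congrFun h i₁) i₀
    have e3 := congrFun (congrFun h i₀) i₁
    have e4 := congrFun (congrFun h i₁) i₁
    simp [C, M, hne] at e1 e2 e3 e4
    rw [← e1, e2, mul_zero, sub_zero] at e4
    rw [e2, mul_zero] at e3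
    exact hD (by linear_combination (-(2 * b)) * e4 - a * e3)
  refine mulEquiv_dihedral_of_inverting (x := x) (Subtype.ext (Units.ext hC2)) (fun h => ?_) ?_ (fun h => ?_) ?_
  · exact hC1 1 (by
      rw [hM1]
      exact congrArg (fun g : Cfsg.isometryGroup F Q =>
        ((g : Matrix.GeneralLinearGroup ((Fin 0 ⊕ Fin 0) ⊕ Fin 2) F) : Matrix ((Fin 0 ⊕ Fin 0) ⊕ Fin 2) ((Fin 0 ⊕ Fin 0) ⊕ Fin 2) F)) h)
  · rw [← map_inv]
    refine Subtype.ext (Units.ext ?_)
    show C * M ((ζ.1 : (QuadraticAlgebra F (-b) (-a))ˣ) : (QuadraticAlgebra F (-b) (-a))) * C = M (((ζ⁻¹).1 : (QuadraticAlgebra F (-b) (-a))ˣ) : (QuadraticAlgebra F (-b) (-a)))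
    have hs : ((((ζ⁻¹).1 : (QuadraticAlgebra F (-b) (-a))ˣ) : (QuadraticAlgebra F (-b) (-a)))) = star ((ζ.1 : (QuadraticAlgebra F (-b) (-a))ˣ) : (QuadraticAlgebra F (-b) (-a))) := by
      rw [InvMemClass.coe_inv]
      refine Units.inv_eq_of_mul_eq_one_right ?_
      rw [← QuadraticAlgebra.algebraMap_norm_eq_mul_star,
        show QuadraticAlgebra.norm ((ζ.1 : (QuadraticAlgebra F (-b) (-a))ˣ) : (QuadraticAlgebra F (-b) (-a))) = 1 from congrArg Units.val ζ.2, map_one]
    rw [hs]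
    apply hext <;> simp [C, M, Matrix.mul_apply, hsum, hne] <;> ring
  · exact hC1 ((ζ.1 : (QuadraticAlgebra F (-b) (-a))ˣ) : (QuadraticAlgebra F (-b) (-a))) (by
      have e := congrArg (fun g : Cfsg.isometryGroup F Q =>
        ((g : Matrix.GeneralLinearGroup ((Fin 0 ⊕ Fin 0) ⊕ Fin 2) F) : Matrix ((Fin 0 ⊕ Fin 0) ⊕ Fin 2) ((Fin 0 ⊕ Fin 0) ⊕ Fin 2) F)) h
      calc C = C * (C * M ((ζ.1 : (QuadraticAlgebra F (-b) (-a))ˣ) : (QuadraticAlgebra F (-b) (-a)))) := by
            rw [show C * M ((ζ.1 : (QuadraticAlgebra F (-b) (-a))ˣ) : (QuadraticAlgebra F (-b) (-a))) = 1 from e, mul_one]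
        _ = _ := by rw [← mul_assoc, hC2, one_mul])
  intro g
  set G : Matrix ((Fin 0 ⊕ Fin 0) ⊕ Fin 2) ((Fin 0 ⊕ Fin 0) ⊕ Fin 2) F :=
    ((g : Matrix.GeneralLinearGroup ((Fin 0 ⊕ Fin 0) ⊕ Fin 2) F) : Matrix ((Fin 0 ⊕ Fin 0) ⊕ Fin 2) ((Fin 0 ⊕ Fin 0) ⊕ Fin 2) F) with hG
  let w : (QuadraticAlgebra F (-b) (-a)) := ⟨G i₀ i₀, -G i₁ i₀⟩
  have hQg : ∀ v, Q (G *ᵥ v) = Q v := mem_isometryGroup_iff.1 g.2
  have hw : QuadraticAlgebra.norm w = 1 := by
    have := hQg (Pi.single i₀ 1)
    rw [Matrix.mulVec_single_one, hQ, hQ] at this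
    simp [hne] at this
    rw [QuadraticAlgebra.norm_def]
    linear_combination this
  let wu : (QuadraticAlgebra F (-b) (-a))ˣ := Units.mk0 w (fun h => by simp [h] at hw)
  let u : ν.ker := ⟨wu, Units.ext hw⟩
  -- `h` fixes the first basis vector
  set H : Matrix ((Fin 0 ⊕ Fin 0) ⊕ Fin 2) ((Fin 0 ⊕ Fin 0) ⊕ Fin 2) F := M (star w) * G with hH
  have hsw : star w * w = 1 := by
    rw [mul_comm, ← QuadraticAlgebra.algebraMap_norm_eq_mul_star, hw, map_one]
  have hGH : G = M w * H := by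
    rw [hH, ← mul_assoc, ← hMmul, mul_comm w, hsw, hM1, one_mul]
  have hQH : ∀ v, Q (H *ᵥ v) = Q v := fun v => by
    rw [hH, ← Matrix.mulVec_mulVec, hMQ, QuadraticAlgebra.norm_star, hw, one_mul, hQg]
  have h00 : H i₀ i₀ = 1 ∧ H i₁ i₀ = 0 := by
    have := hw
    rw [QuadraticAlgebra.norm_def] at this
    constructor <;> simp [hH, M, Matrix.mul_apply, hsum, hne, w] at this ⊢ <;> first | linear_combination this | linear_combination -this | ring
  set c := H i₀ i₁
  set d := H i₁ i₁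
  have hv : ∀ s t : F, (s + c * t) ^ 2 + a * (s + c * t) * (d * t) + b * (d * t) ^ 2 =
      s ^ 2 + a * s * t + b * t ^ 2 := fun s t => by
    have := hQH (fun i => if i = i₀ then s else t)
    rw [hQ, hQ] at this
    simpa [Matrix.mulVec, dotProduct, hsum, hne, h00.1, h00.2, c, d] using this
  have e01 := hv 0 1
  have e11 := hv 1 1
  have e1 : 2 * c + a * d = a := by linear_combination e11 - e01
  have hd : d = 1 ∨ d = -1 := by
    have : (4 * b - a ^ 2) * (d * d - 1) = 0 := by linear_combination 4 * e01 - (2 * c + a * d + a) * e1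
    exact mul_self_eq_one_iff.1 (sub_eq_zero.1 ((mul_eq_zero.1 this).resolve_left hD))
  have hc : c * (c + a * d) = 0 := by
    rcases hd with h | h <;> rw [h] at e01 ⊢ <;> linear_combination e01
  have hH' : H = 1 ∨ H = C := by
    by_cases h0 : c = 0
    · have had : a * d = a := by linear_combination e1 - 2 * h0
      by_cases ha : a = 0
      · rcases hd with h | h
        · left; apply hext <;> simp [h00.1, h00.2, hne, hne.symm, c, d] at * <;> assumption
        · right; apply hext <;> simp [h00.1, h00.2, hne, C, c, d] at * <;> first | assumption | (rw [ha]; exact h0)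
      · have h : d = 1 := mul_left_cancel₀ ha (by rw [mul_one]; exact had)
        left; apply hext <;> simp [h00.1, h00.2, hne, hne.symm, c, d] at * <;> assumption
    · have hcd : c + a * d = 0 := (mul_eq_zero.1 hc).resolve_left h0
      have hd1 : a * (d + 1) = 0 := by linear_combination 2 * hcd - e1
      have ha : a ≠ 0 := fun ha => h0 (by linear_combination hcd - d * ha)
      have h : d = -1 := eq_neg_of_add_eq_zero_left ((mul_eq_zero.1 hd1).resolve_left ha)
      have hca : c = a := by linear_combination hcd - a * h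
      right; apply hext <;> simp [h00.1, h00.2, hne, C, c, d] at * <;> assumption
  rcases hH' with h | h
  · left
    convert hpow u
    refine Subtype.ext (Units.ext ?_)
    show G = M w
    rw [hGH, h, mul_one]
  · right
    convert hpow u⁻¹
    rw [map_inv, ← mul_eq_one_iff_eq_inv]
    refine Subtype.ext (Units.ext ?_)
    show C * G * M w = 1
    have hconj : C * M w * C = M (star w) := by
      apply hext <;> simp [C, M, Matrix.mul_apply, hsum, hne] <;> ring
    rw [hGH, h, ← mul_assoc, hconj, ← hMmul, hsw, hM1]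

end CfsgLib.Classical
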