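import Mathlib
import Cfsg.Agent.Lib.Classical.CountBase
import Cfsg.Agent.Lib.Classical.QuadBasic
import Cfsg.Agent.Lib.Classical.DihedralO2

/-!
# Singular vectors and orders of the orthogonal groups
-/

set_option autoImplicit false

namespace CfsgLib.Classical

open scoped Matrix
open Matrix

attribute [local instance] _root_.Classical.propDecidable

section

variable {F : Type*} [Field F] {ι : Type} [Fintype ι] [DecidableEq ι]

theorem eq_zero_of_polar {Q : QuadraticForm F (ι → F)} (hQ : (QuadraticMap.polarBilin Q).Nondegenerate)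
    {x : ι → F} (h : ∀ z, QuadraticMap.polar ⇑Q x z = 0) : x = 0 :=
  hQ.1 x h

/-- a linear map preserving a non-degenerate form, as an isometry -/
theorem exists_iso_of_linear {Q : QuadraticForm F (ι → F)} (hQ : (QuadraticMap.polarBilin Q).Nondegenerate)
    (L : (ι → F) →ₗ[F] (ι → F)) (hL : ∀ x, Q (L x) = Q x) :
    ∃ g ∈ Cfsg.isometryGroup F ⇑Q, ∀ x, g.1 *ᵥ x = L x := by
  have hpol : ∀ x z, QuadraticMap.polar ⇑Q (L x) (L z) = QuadraticMap.polar ⇑Q x z := fun x z => by
    simp only [QuadraticMap.polar, ← map_add, hL]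
  have hinj : Function.Injective L := fun x y h => sub_eq_zero.1 (eq_zero_of_polar hQ fun z => by
    rw [← hpol, map_sub, h, sub_self, QuadraticMap.polar_zero_left])
  let g := (Matrix.GeneralLinearGroup.toLin (n := ι) (R := F)).symm
    (LinearMap.GeneralLinearGroup.ofLinearEquiv (LinearEquiv.ofInjectiveEndo L hinj))
  have hg : ∀ x, g.1 *ᵥ x = L x := fun x => congrArg
    (fun T : LinearMap.GeneralLinearGroup F (ι → F) => T.val x)
    (Matrix.GeneralLinearGroup.toLin.apply_symm_apply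
      (LinearMap.GeneralLinearGroup.ofLinearEquiv (LinearEquiv.ofInjectiveEndo L hinj)))
  exact ⟨g, mem_isometryGroup_iff.2 fun x => by rw [hg, hL], hg⟩

/-- isometries are transitive on non-zero singular vectors -/
theorem exists_singular_move {Q : QuadraticForm F (ι → F)} (hQ : (QuadraticMap.polarBilin Q).Nondegenerate)
    {u w : ι → F} (hu0 : u ≠ 0) (hw0 : w ≠ 0) (hu : Q u = 0) (hw : Q w = 0) :
    ∃ g ∈ Cfsg.isometryGroup F ⇑Q, g.1 *ᵥ u = w := by
  have step : ∀ u w : ι → F, Q u = 0 → Q w = 0 → QuadraticMap.polar ⇑Q u w ≠ 0 →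
      ∃ g ∈ Cfsg.isometryGroup F ⇑Q, g.1 *ᵥ u = w := by
    intro u w hu hw hne
    have hQd : Q (u - w) = -QuadraticMap.polar ⇑Q u w := by
      rw [sub_eq_add_neg, map_add_polar, QuadraticMap.map_neg, QuadraticMap.polar_neg_right, hu, hw]; ring
    have hd : Q (u - w) ≠ 0 := by rw [hQd]; exact neg_ne_zero.2 hne
    refine ⟨(reflectionIso Q (u - w) hd).1, (reflectionIso Q (u - w) hd).2, ?_⟩
    rw [reflectionIso_coe, reflectionMatrix_mulVec, hQd, QuadraticMap.polar_sub_left, polar_self_two, hu,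
      QuadraticMap.polar_comm ⇑Q w u, mul_zero, zero_sub, inv_mul_cancel₀ (neg_ne_zero.2 hne), one_smul,
      sub_sub_cancel]
  by_cases h : QuadraticMap.polar ⇑Q u w = 0
  · obtain ⟨y, hy⟩ : ∃ y, QuadraticMap.polar ⇑Q u y ≠ 0 ∧ QuadraticMap.polar ⇑Q w y ≠ 0 := by
      obtain ⟨a, ha⟩ : ∃ a, QuadraticMap.polar ⇑Q u a ≠ 0 := by
        by_contra hc; push Not at hc; exact hu0 (eq_zero_of_polar hQ hc)
      obtain ⟨b, hb⟩ : ∃ b, QuadraticMap.polar ⇑Q w b ≠ 0 := by
        by_contra hc; push Not at hc; exact hw0 (eq_zero_of_polar hQ hc)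
      by_cases ha' : QuadraticMap.polar ⇑Q w a = 0
      · by_cases hb' : QuadraticMap.polar ⇑Q u b = 0
        · exact ⟨a + b, by rw [QuadraticMap.polar_add_right, hb', add_zero]; exact ha,
            by rw [QuadraticMap.polar_add_right, ha', zero_add]; exact hb⟩
        · exact ⟨b, hb', hb⟩
      · exact ⟨a, ha, ha'⟩
    set z := y + (-(Q y) / QuadraticMap.polar ⇑Q u y) • u with hz
    have hz0 : Q z = 0 := by
      rw [hz, map_add_polar, QuadraticMap.map_smul, hu, smul_zero, QuadraticMap.polar_smul_right,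
        QuadraticMap.polar_comm ⇑Q y u, smul_eq_mul, div_mul_cancel₀ _ hy.1]
      ring
    have h1 : QuadraticMap.polar ⇑Q u z = QuadraticMap.polar ⇑Q u y := by
      rw [hz, QuadraticMap.polar_add_right, QuadraticMap.polar_smul_right, polar_self_two, hu, mul_zero, smul_zero,
        add_zero]
    have h2 : QuadraticMap.polar ⇑Q z w = QuadraticMap.polar ⇑Q w y := by
      rw [hz, QuadraticMap.polar_add_left, QuadraticMap.polar_smul_left, h, smul_zero, add_zero,
        QuadraticMap.polar_comm]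
    obtain ⟨g₁, hg₁, e₁⟩ := step u z hu hz0 (h1 ▸ hy.1)
    obtain ⟨g₂, hg₂, e₂⟩ := step z w hz0 hw (h2 ▸ hy.2)
    exact ⟨g₂ * g₁, Subgroup.mul_mem _ hg₂ hg₁, by rw [Units.val_mul, ← Matrix.mulVec_mulVec, e₁, e₂]⟩
  · exact step u w hu hw h

/-- the orthogonal sum with a hyperbolic plane -/
def hypExt (Q : QuadraticForm F (ι → F)) : QuadraticForm F (Fin 2 ⊕ ι → F) :=
  QuadraticMap.linMulLin (LinearMap.proj (Sum.inl 0)) (LinearMap.proj (Sum.inl 1)) +
    Q.comp (LinearMap.funLeft F F Sum.inr)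

omit [Fintype ι] [DecidableEq ι] in
theorem hypExt_apply (Q : QuadraticForm F (ι → F)) (x : Fin 2 ⊕ ι → F) :
    hypExt Q x = x (.inl 0) * x (.inl 1) + Q (x ∘ Sum.inr) := rfl

omit [Fintype ι] [DecidableEq ι] in
theorem polar_hypExt (Q : QuadraticForm F (ι → F)) (x y : Fin 2 ⊕ ι → F) :
    QuadraticMap.polar ⇑(hypExt Q) x y =
      x (.inl 0) * y (.inl 1) + x (.inl 1) * y (.inl 0) + QuadraticMap.polar ⇑Q (x ∘ Sum.inr) (y ∘ Sum.inr) := by
  simp only [QuadraticMap.polar, hypExt_apply, Pi.add_apply,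
    show (x + y) ∘ Sum.inr = x ∘ Sum.inr + y ∘ Sum.inr from rfl]
  ring

omit [DecidableEq ι] in
theorem hypExt_nondegenerate {Q : QuadraticForm F (ι → F)} (hQ : (QuadraticMap.polarBilin Q).Nondegenerate) :
    (QuadraticMap.polarBilin (hypExt Q)).Nondegenerate := by
  have key : ∀ x : Fin 2 ⊕ ι → F, (∀ y, QuadraticMap.polar ⇑(hypExt Q) x y = 0) → x = 0 := by
    intro x hx
    have h1 := hx (Sum.elim ![0, 1] 0)
    have h0 := hx (Sum.elim ![1, 0] 0)
    simp [polar_hypExt, Sum.elim_comp_inr] at h0 h1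
    have hr : x ∘ Sum.inr = 0 := hQ.1 _ fun z => by
      have := hx (Sum.elim 0 z)
      simpa [polar_hypExt, Sum.elim_comp_inr] using this
    funext i
    rcases i with i | i
    · fin_cases i
      · simpa [Pi.zero_def] using h1
      · simpa [Pi.zero_def] using h0
    · exact congrFun hr i
  exact ⟨key, fun y hy => key y fun x => by rw [QuadraticMap.polar_comm]; exact hy x⟩

variable [Fintype F]

theorem card_sing_hypExt (Q : QuadraticForm F (ι → F)) :
    Nat.card {x : Fin 2 ⊕ ι → F // hypExt Q x = 0} =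
      Fintype.card F * Nat.card {w : ι → F // Q w = 0} + (Fintype.card F - 1) * Fintype.card F ^ Fintype.card ι := by
  classical
  let e : (Fin 2 ⊕ ι → F) ≃ (ι → F) × (F × F) :=
    { toFun := fun x => (x ∘ Sum.inr, x (.inl 0), x (.inl 1))
      invFun := fun p => Sum.elim ![p.2.1, p.2.2] p.1
      left_inv := fun x => by funext i; rcases i with i | i <;> [fin_cases i; skip] <;> rfl
      right_inv := fun p => rfl }
  have hcnt : ∀ c : F, Nat.card {p : F × F // p.1 * p.2 + c = 0} =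
      (Fintype.card F - 1) + if c = 0 then Fintype.card F else 0 := by
    intro c
    rw [Nat.card_congr (Equiv.subtypeProdEquivSigmaSubtype fun x y : F => x * y + c = 0), Nat.card_sigma,
      ← Finset.sum_erase_add _ _ (Finset.mem_univ (0 : F)), Finset.sum_congr rfl (fun x hx => by
        have hx0 := Finset.ne_of_mem_erase hx
        haveI : Unique {y : F // x * y + c = 0} := ⟨⟨⟨-c / x, by field_simp; ring⟩⟩, fun y => Subtype.ext (by
          show y.1 = -c / x
          rw [eq_div_iff hx0]; linear_combination y.2)⟩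
        exact Nat.card_unique), Finset.sum_const, smul_eq_mul, mul_one, Finset.card_erase_of_mem (Finset.mem_univ _),
      Finset.card_univ]
    congr 1
    split_ifs with h
    · rw [Nat.card_congr (Equiv.subtypeUnivEquiv fun y => by rw [h]; ring), Nat.card_eq_fintype_card]
    · haveI : IsEmpty {y : F // 0 * y + c = 0} := ⟨fun y => h (by linear_combination y.2)⟩
      exact Nat.card_of_isEmpty
  rw [Nat.card_congr (e.subtypeEquiv (p := fun x => hypExt Q x = 0) (q := fun p => p.2.1 * p.2.2 + Q p.1 = 0) fun x => Iff.rfl),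
    Nat.card_congr (Equiv.subtypeProdEquivSigmaSubtype fun (w : ι → F) (p : F × F) => p.1 * p.2 + Q w = 0),
    Nat.card_sigma, Finset.sum_congr rfl fun w _ => hcnt (Q w), Finset.sum_add_distrib, Finset.sum_const,
    Finset.sum_ite, Finset.sum_const, Finset.sum_const_zero, add_zero, Finset.card_univ, Fintype.card_fun,
    smul_eq_mul, smul_eq_mul, ← Fintype.card_subtype, ← Nat.card_eq_fintype_card (α := {w // Q w = 0})]
  ring

theorem card_isometry_hypExt {Q : QuadraticForm F (ι → F)} (hQ : (QuadraticMap.polarBilin Q).Nondegenerate) :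
    Nat.card (Cfsg.isometryGroup F ⇑(hypExt Q)) =
      (Fintype.card F * Nat.card {w : ι → F // Q w = 0} + (Fintype.card F - 1) * Fintype.card F ^ Fintype.card ι - 1) *
        Fintype.card F ^ Fintype.card ι * Nat.card (Cfsg.isometryGroup F ⇑Q) := by
  classical
  have hQ' := hypExt_nondegenerate hQ
  rw [← card_sing_hypExt]
  let e₀ : Fin 2 ⊕ ι → F := Sum.elim ![1, 0] 0
  let f₀ : Fin 2 ⊕ ι → F := Sum.elim ![0, 1] 0
  have he0 : e₀ ≠ 0 := fun h => one_ne_zero (congrFun h (.inl 0))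
  have hef : QuadraticMap.polar ⇑(hypExt Q) e₀ f₀ = 1 := by simp [polar_hypExt, e₀, f₀, Sum.elim_comp_inr]
  have hee : hypExt Q e₀ = 0 := by simp [hypExt_apply, e₀, Sum.elim_comp_inr]
  have hff : hypExt Q f₀ = 0 := by simp [hypExt_apply, f₀, Sum.elim_comp_inr]
  have pe : ∀ x, QuadraticMap.polar ⇑(hypExt Q) x e₀ = x (.inl 1) := fun x => by
    simp [polar_hypExt, e₀, Sum.elim_comp_inr]
  have pf : ∀ x, QuadraticMap.polar ⇑(hypExt Q) x f₀ = x (.inl 0) := fun x => by
    simp [polar_hypExt, f₀, Sum.elim_comp_inr]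
  set G := Cfsg.isometryGroup F ⇑(hypExt Q)
  let K : Subgroup G :=
    { carrier := {g | (g : GL (Fin 2 ⊕ ι) F).1 *ᵥ e₀ = e₀ ∧ (g : GL (Fin 2 ⊕ ι) F).1 *ᵥ f₀ = f₀}
      mul_mem' := fun {a b} ha hb => by
        simp only [Set.mem_setOf_eq, Subgroup.coe_mul, Units.val_mul, ← Matrix.mulVec_mulVec] at *
        exact ⟨by rw [hb.1, ha.1], by rw [hb.2, ha.2]⟩
      one_mem' := by simp
      inv_mem' := fun {a} ha => by
        simp only [Set.mem_setOf_eq, InvMemClass.coe_inv] at *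
        exact ⟨by conv_lhs => rw [← ha.1]; rw [gl_inv_mulVec], by conv_lhs => rw [← ha.2]; rw [gl_inv_mulVec]⟩ }
  let P := Σ u : {x : Fin 2 ⊕ ι → F // hypExt Q x = 0 ∧ x ≠ 0},
    {v : Fin 2 ⊕ ι → F // hypExt Q v = 0 ∧ QuadraticMap.polar ⇑(hypExt Q) u.1 v = 1}
  have hmap : ∀ g : G, hypExt Q ((g : GL (Fin 2 ⊕ ι) F).1 *ᵥ e₀) = 0 ∧ (g : GL (Fin 2 ⊕ ι) F).1 *ᵥ e₀ ≠ 0 :=
    fun g => ⟨(mem_isometryGroup_iff.1 g.2 e₀).trans hee, fun h => he0 (by
      rw [← gl_inv_mulVec (g : GL (Fin 2 ⊕ ι) F) e₀, h, Matrix.mulVec_zero])⟩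
  let π : G → P := fun g => ⟨⟨_, hmap g⟩, ⟨(g : GL (Fin 2 ⊕ ι) F).1 *ᵥ f₀,
    (mem_isometryGroup_iff.1 g.2 f₀).trans hff, (polar_isometry g.2 e₀ f₀).trans hef⟩⟩
  have hπ : Function.Surjective π := by
    rintro ⟨⟨u, hu, hu0⟩, ⟨v, hv, huv⟩⟩
    obtain ⟨g, hg, hgu⟩ := exists_singular_move hQ' he0 hu0 hee hu
    set v' := (g⁻¹).1 *ᵥ v with hv'
    have hgv' : g.1 *ᵥ v' = v := by rw [hv', Matrix.mulVec_mulVec, Units.mul_inv, Matrix.one_mulVec]
    have hv0' : hypExt Q v' = 0 := by rw [← mem_isometryGroup_iff.1 hg v', hgv', hv]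
    have h1 : v' (.inl 1) = 1 := by
      have := polar_isometry hg e₀ v'
      rw [hgu, hgv', huv, QuadraticMap.polar_comm, pe] at this
      exact this.symm
    set w := v' ∘ Sum.inr with hw
    have h0 : v' (.inl 0) = -Q w := by
      rw [hypExt_apply, h1, mul_one] at hv0'
      linear_combination hv0'
    let L : (Fin 2 ⊕ ι → F) →ₗ[F] (Fin 2 ⊕ ι → F) :=
      { toFun := fun x => Sum.elim ![x (.inl 0) - Q w * x (.inl 1) - QuadraticMap.polar ⇑Q w (x ∘ Sum.inr), x (.inl 1)]
          (x ∘ Sum.inr + x (.inl 1) • w)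
        map_add' := fun x y => by
          funext i
          rcases i with i | i
          · fin_cases i
            · simp [show (x + y) ∘ Sum.inr = x ∘ Sum.inr + y ∘ Sum.inr from rfl, QuadraticMap.polar_add_right]; ring
            · simp
          · simp [Pi.add_apply, Function.comp_apply, add_mul]; ring
        map_smul' := fun c x => by
          funext i
          rcases i with i | i
          · fin_cases i
            · simp [show (c • x) ∘ Sum.inr = c • (x ∘ Sum.inr) from rfl, QuadraticMap.polar_smul_right]; ring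
            · simp
          · simp [Function.comp_apply]; ring }
    have hL : ∀ x, hypExt Q (L x) = hypExt Q x := fun x => by
      show hypExt Q (Sum.elim _ _) = _
      rw [hypExt_apply, hypExt_apply, Sum.elim_comp_inr, map_add_polar, QuadraticMap.map_smul,
        QuadraticMap.polar_smul_right, QuadraticMap.polar_comm ⇑Q (x ∘ Sum.inr) w]
      simp only [Sum.elim_inl, Matrix.cons_val_zero, Matrix.cons_val_one, smul_eq_mul]
      ring
    obtain ⟨h, hh, hhL⟩ := exists_iso_of_linear hQ' L hL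
    have he : h.1 *ᵥ e₀ = e₀ := by
      rw [hhL]
      funext i
      rcases i with i | i
      · fin_cases i <;> simp [L, e₀, Sum.elim_comp_inr]
      · simp [L, e₀]
    have hf : h.1 *ᵥ f₀ = v' := by
      rw [hhL]
      funext i
      rcases i with i | i
      · fin_cases i
        · simp [L, f₀, Sum.elim_comp_inr, h0]
        · simp [L, f₀, h1]
      · simp [L, f₀, w]
    refine ⟨⟨g * h, Subgroup.mul_mem _ hg hh⟩, Sigma.subtype_ext (Subtype.ext ?_) ?_⟩
    · show (g * h).1 *ᵥ e₀ = u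
      rw [Units.val_mul, ← Matrix.mulVec_mulVec, he, hgu]
    · show (g * h).1 *ᵥ f₀ = v
      rw [Units.val_mul, ← Matrix.mulVec_mulVec, hf, hgv']
  have hfib : ∀ a b, π a = π b ↔ a⁻¹ * b ∈ K := fun a b => by
    show _ ↔ ((a⁻¹ * b : G) : GL (Fin 2 ⊕ ι) F).1 *ᵥ e₀ = e₀ ∧ _ *ᵥ f₀ = f₀
    simp only [Subgroup.coe_mul, InvMemClass.coe_inv, Units.val_mul, ← Matrix.mulVec_mulVec]
    constructor
    · intro h
      have x : a.1.1 *ᵥ e₀ = b.1.1 *ᵥ e₀ := congrArg (fun p : P => p.1.1) h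
      have y : a.1.1 *ᵥ f₀ = b.1.1 *ᵥ f₀ := congrArg (fun p : P => p.2.1) h
      rw [← x, ← y, gl_inv_mulVec, gl_inv_mulVec]
      exact ⟨rfl, rfl⟩
    · rintro ⟨x, y⟩
      refine Sigma.subtype_ext (Subtype.ext ?_) ?_
      · show a.1.1 *ᵥ e₀ = b.1.1 *ᵥ e₀
        conv_lhs => rw [← x]
        rw [Matrix.mulVec_mulVec _ a.1.1, Units.mul_inv, Matrix.one_mulVec]
      · show a.1.1 *ᵥ f₀ = b.1.1 *ᵥ f₀
        conv_lhs => rw [← y]
        rw [Matrix.mulVec_mulVec _ a.1.1, Units.mul_inv, Matrix.one_mulVec]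
  have hP : Nat.card P = (Nat.card {x : Fin 2 ⊕ ι → F // hypExt Q x = 0} - 1) * Fintype.card F ^ Fintype.card ι := by
    have hbase : Nat.card {v : Fin 2 ⊕ ι → F // hypExt Q v = 0 ∧ QuadraticMap.polar ⇑(hypExt Q) e₀ v = 1} =
        Fintype.card F ^ Fintype.card ι := by
      rw [← Fintype.card_fun, ← Nat.card_eq_fintype_card]
      refine Nat.card_congr ⟨fun v => v.1 ∘ Sum.inr, fun w => ⟨Sum.elim ![-Q w, 1] w, ?_, ?_⟩, fun v => ?_,
        fun w => rfl⟩
      · simp [hypExt_apply, Sum.elim_comp_inr]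
      · rw [QuadraticMap.polar_comm, pe]; rfl
      · have h1 : v.1 (.inl 1) = 1 := by
          have h := v.2.2; rwa [QuadraticMap.polar_comm, pe] at h
        have h0 : v.1 (.inl 0) = -Q (v.1 ∘ Sum.inr) := by
          have h := v.2.1; rw [hypExt_apply, h1, mul_one] at h; linear_combination h
        apply Subtype.ext
        funext i
        rcases i with i | i
        · fin_cases i
          · exact h0.symm
          · exact h1.symm
        · rfl
    have hall : ∀ u : {x : Fin 2 ⊕ ι → F // hypExt Q x = 0 ∧ x ≠ 0},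
        Nat.card {v : Fin 2 ⊕ ι → F // hypExt Q v = 0 ∧ QuadraticMap.polar ⇑(hypExt Q) u.1 v = 1} =
          Fintype.card F ^ Fintype.card ι := by
      rintro ⟨u, hu, hu0⟩
      obtain ⟨g, hg, hgu⟩ := exists_singular_move hQ' he0 hu0 hee hu
      rw [← hbase]
      symm
      refine Nat.card_congr ⟨fun v => ⟨g.1 *ᵥ v.1, (mem_isometryGroup_iff.1 hg _).trans v.2.1,
          by show QuadraticMap.polar ⇑(hypExt Q) u _ = 1; rw [← hgu, polar_isometry hg]; exact v.2.2⟩,
        fun v => ⟨(g⁻¹).1 *ᵥ v.1, (mem_isometryGroup_iff.1 (Subgroup.inv_mem _ hg) _).trans v.2.1, by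
          rw [← gl_inv_mulVec g e₀, hgu, polar_isometry (Subgroup.inv_mem _ hg)]; exact v.2.2⟩,
        fun v => Subtype.ext (gl_inv_mulVec g v.1),
        fun v => Subtype.ext (by
          show g.1 *ᵥ ((g⁻¹).1 *ᵥ v.1) = v.1
          rw [Matrix.mulVec_mulVec, Units.mul_inv, Matrix.one_mulVec])⟩
    rw [Nat.card_sigma, Finset.sum_congr rfl fun u _ => hall u, Finset.sum_const, smul_eq_mul, Finset.card_univ]
    congr 1
    rw [Nat.card_eq_fintype_card, Fintype.card_subtype, Fintype.card_subtype, ← Finset.filter_filter, Finset.filter_ne',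
      Finset.card_erase_of_mem]
    exact Finset.mem_filter.2 ⟨Finset.mem_univ _, QuadraticMap.map_zero _⟩
  rw [card_eq_card_orbit_mul π K hπ hfib, hP]
  congr 1
  let e : (Fin 2 ⊕ ι → F) ≃ₗ[F] (F × F) × (ι → F) :=
    { toFun := fun x => ((x (.inl 0), x (.inl 1)), x ∘ Sum.inr)
      map_add' := fun x y => rfl
      map_smul' := fun c x => rfl
      invFun := fun p => Sum.elim ![p.1.1, p.1.2] p.2
      left_inv := fun x => by funext i; rcases i with i | i <;> [fin_cases i; skip] <;> rfl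
      right_inv := fun p => rfl }
  refine card_fixer e (fun u _ => hypExt Q u) (fun u _ => Q u) (fun a _ => a.1 * a.2) (fun u v => rfl) K (fun g => ⟨fun hg x hx => ?_, fun h => ?_⟩)
    (fun g hg x => ?_)
  · have hxe : x = x (.inl 0) • e₀ + x (.inl 1) • f₀ := by
      funext i
      rcases i with i | i
      · fin_cases i <;> simp [e₀, f₀]
      · have h0 : x (.inr i) = 0 := congrFun hx i
        simp [e₀, f₀, h0]
    rw [hxe, Matrix.mulVec_add, Matrix.mulVec_smul, Matrix.mulVec_smul, hg.1, hg.2]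
  · exact ⟨h e₀ (funext fun i => rfl), h f₀ (funext fun i => rfl)⟩
  · have a := polar_isometry g.2 x f₀
    have b := polar_isometry g.2 x e₀
    rw [hg.2, pf, pf] at a
    rw [hg.1, pe, pe] at b
    exact Prod.ext a b

end

/-! ### the standard forms -/

variable {F : Type*} [Field F]

/-- the plus form as a quadratic form -/
def plusQ (m : ℕ) (F : Type*) [Field F] : QuadraticForm F (Fin m ⊕ Fin m → F) :=
  ∑ i, QuadraticMap.linMulLin (LinearMap.proj (Sum.inl i)) (LinearMap.proj (Sum.inr i))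

theorem plusQ_coe (m : ℕ) : ⇑(plusQ m F) = Cfsg.quadFormPlus m F := by
  funext v
  simp [plusQ, Cfsg.quadFormPlus, QuadraticMap.sum_apply, QuadraticMap.linMulLin_apply]

/-- the minus form as a quadratic form -/
def minusQ (m : ℕ) (F : Type*) [Field F] (a b : F) : QuadraticForm F ((Fin m ⊕ Fin m) ⊕ Fin 2 → F) :=
  (plusQ m F).comp (LinearMap.funLeft F F Sum.inl) +
    (QuadraticMap.linMulLin (LinearMap.proj (Sum.inr 0)) (LinearMap.proj (Sum.inr 0)) +
      a • QuadraticMap.linMulLin (LinearMap.proj (Sum.inr 0)) (LinearMap.proj (Sum.inr 1)) +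
      b • QuadraticMap.linMulLin (LinearMap.proj (Sum.inr 1)) (LinearMap.proj (Sum.inr 1)))

theorem minusQ_coe (m : ℕ) (a b : F) : ⇑(minusQ m F a b) = Cfsg.quadFormMinus m F a b := by
  funext v
  simp only [minusQ, Cfsg.quadFormMinus, _root_.QuadraticMap.add_apply, QuadraticMap.comp_apply,
    QuadraticMap.smul_apply, QuadraticMap.linMulLin_apply, plusQ_coe, Cfsg.quadFormPlus, smul_eq_mul,
    LinearMap.proj_apply, LinearMap.funLeft_apply, Function.comp_apply]
  ring

/-- the odd form as a quadratic form -/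
def oddQ (m : ℕ) (F : Type*) [Field F] : QuadraticForm F (Unit ⊕ (Fin m ⊕ Fin m) → F) :=
  QuadraticMap.linMulLin (LinearMap.proj (Sum.inl ())) (LinearMap.proj (Sum.inl ())) +
    (plusQ m F).comp (LinearMap.funLeft F F Sum.inr)

theorem oddQ_coe (m : ℕ) : ⇑(oddQ m F) = Cfsg.quadFormOdd m F := by
  funext v
  simp only [oddQ, Cfsg.quadFormOdd, _root_.QuadraticMap.add_apply, QuadraticMap.comp_apply,
    QuadraticMap.linMulLin_apply, plusQ_coe, Cfsg.quadFormPlus, LinearMap.proj_apply, LinearMap.funLeft_apply]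
  ring

/-- index splitting for one more hyperbolic plane -/
def splitIdx (m : ℕ) : Fin 2 ⊕ (Fin m ⊕ Fin m) ≃ Fin (m + 1) ⊕ Fin (m + 1) where
  toFun := Sum.elim ![.inl 0, .inr 0] (Sum.map Fin.succ Fin.succ)
  invFun := Sum.elim (Fin.cons (.inl 0) fun i => .inr (.inl i)) (Fin.cons (.inl 1) fun i => .inr (.inr i))
  left_inv := by
    rintro (i | i | i)
    · fin_cases i <;> simp
    · simp
    · simp
  right_inv := by
    rintro (i | i) <;> refine Fin.cases ?_ (fun j => ?_) i <;> simp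

/-- index splitting with extra coordinates carried along -/
def splitIdxR (m : ℕ) (κ : Type) : Fin 2 ⊕ ((Fin m ⊕ Fin m) ⊕ κ) ≃ (Fin (m + 1) ⊕ Fin (m + 1)) ⊕ κ :=
  (Equiv.sumAssoc _ _ _).symm.trans (Equiv.sumCongr (splitIdx m) (Equiv.refl κ))

/-- index splitting with extra coordinates in front -/
def splitIdxL (m : ℕ) (κ : Type) : Fin 2 ⊕ (κ ⊕ (Fin m ⊕ Fin m)) ≃ κ ⊕ (Fin (m + 1) ⊕ Fin (m + 1)) :=
  ((Equiv.sumAssoc _ _ _).symm.trans ((Equiv.sumCongr (Equiv.sumComm _ _) (Equiv.refl _)).trans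
    (Equiv.sumAssoc _ _ _))).trans (Equiv.sumCongr (Equiv.refl κ) (splitIdx m))

theorem plusQ_succ (m : ℕ) (v : Fin (m + 1) ⊕ Fin (m + 1) → F) :
    Cfsg.quadFormPlus (m + 1) F v = hypExt (plusQ m F) (v ∘ splitIdx m) := by
  rw [hypExt_apply, plusQ_coe, Cfsg.quadFormPlus, Cfsg.quadFormPlus, Fin.sum_univ_succ]
  rfl

theorem minusQ_succ (m : ℕ) (a b : F) (v : (Fin (m + 1) ⊕ Fin (m + 1)) ⊕ Fin 2 → F) :
    Cfsg.quadFormMinus (m + 1) F a b v = hypExt (minusQ m F a b) (v ∘ splitIdxR m (Fin 2)) := by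
  rw [hypExt_apply, minusQ_coe, Cfsg.quadFormMinus, Cfsg.quadFormMinus, Fin.sum_univ_succ, ← add_assoc (G := F)]
  simp only [← add_assoc]
  rfl

theorem oddQ_succ (m : ℕ) (v : Unit ⊕ (Fin (m + 1) ⊕ Fin (m + 1)) → F) :
    Cfsg.quadFormOdd (m + 1) F v = hypExt (oddQ m F) (v ∘ splitIdxL m Unit) := by
  rw [hypExt_apply, oddQ_coe, Cfsg.quadFormOdd, Cfsg.quadFormOdd, Fin.sum_univ_succ, add_left_comm]
  rfl

theorem polarBilin_nondeg_congr {ι κ : Type} [Fintype ι] [Fintype κ] (s : ι ≃ κ)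
    {Q : QuadraticForm F (κ → F)} {Q' : QuadraticForm F (ι → F)} (h : ∀ v, Q v = Q' (v ∘ s))
    (hQ : (QuadraticMap.polarBilin Q').Nondegenerate) : (QuadraticMap.polarBilin Q).Nondegenerate := by
  have hp : ∀ x y, QuadraticMap.polar ⇑Q x y = QuadraticMap.polar ⇑Q' (x ∘ s) (y ∘ s) := fun x y => by
    simp only [QuadraticMap.polar, h]; rfl
  have key : ∀ x, (∀ y, QuadraticMap.polar ⇑Q x y = 0) → x = 0 := by
    intro x hx
    have h1 : x ∘ s = 0 := hQ.1 _ fun z => by
      have := hx (z ∘ s.symm)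
      rwa [hp, Function.comp_assoc, Equiv.symm_comp_self, Function.comp_id] at this
    funext i
    simpa using congrFun h1 (s.symm i)
  exact ⟨key, fun y hy => key y fun x => by rw [QuadraticMap.polar_comm]; exact hy x⟩

theorem plusQ_nondeg : ∀ m : ℕ, (QuadraticMap.polarBilin (plusQ m F)).Nondegenerate
  | 0 => ⟨fun x _ => Subsingleton.elim _ _, fun x _ => Subsingleton.elim _ _⟩
  | m + 1 => polarBilin_nondeg_congr (splitIdx m) (fun v => by rw [plusQ_coe, plusQ_succ])
      (hypExt_nondegenerate (plusQ_nondeg m))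

theorem minusQ_nondeg [Finite F] {a b : F} (hab : ∀ z₁ z₂ : F, z₁ ^ 2 + a * z₁ * z₂ + b * z₂ ^ 2 = 0 → z₁ = 0 ∧ z₂ = 0) :
    ∀ m : ℕ, (QuadraticMap.polarBilin (minusQ m F a b)).Nondegenerate
  | 0 => by
    cases nonempty_fintype F
    have hD : 4 * b - a ^ 2 ≠ 0 := by
      intro h
      rcases eq_or_ne (ringChar F) 2 with h2 | h2
      · haveI : CharP F 2 := ringChar.of_eq h2
        have h20 : (2 : F) = 0 := CharTwo.two_eq_zero
        obtain ⟨r, hr⟩ := FiniteField.isSquare_of_char_two h2 b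
        have ha : a = 0 := by
          have : a ^ 2 = 0 := by linear_combination -h + 2 * b * h20
          exact pow_eq_zero_iff two_ne_zero |>.1 this
        exact one_ne_zero (hab r 1 (by rw [hr, ha]; linear_combination (r * r) * h20)).2
      · refine one_ne_zero (hab (-a / 2) 1 ?_).2
        have h20 : (2 : F) ≠ 0 := Ring.two_ne_zero h2
        field_simp
        linear_combination h
    have key : ∀ x, (∀ y, QuadraticMap.polar ⇑(minusQ 0 F a b) x y = 0) → x = 0 := by
      intro x hx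
      have e0 := hx (Sum.elim 0 ![1, 0])
      have e1 := hx (Sum.elim 0 ![0, 1])
      simp [QuadraticMap.polar, minusQ_coe, Cfsg.quadFormMinus] at e0 e1
      funext i
      rcases i with (i | i) | i
      · exact i.elim0
      · exact i.elim0
      · have h1 : (4 * b - a ^ 2) * x (.inr 1) = 0 := by linear_combination 2 * e1 - a * e0
        have h0 : (4 * b - a ^ 2) * x (.inr 0) = 0 := by linear_combination 2 * b * e0 - a * e1
        fin_cases i
        · exact (mul_eq_zero.1 h0).resolve_left hD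
        · exact (mul_eq_zero.1 h1).resolve_left hD
    exact ⟨key, fun y hy => key y fun x => by rw [QuadraticMap.polar_comm]; exact hy x⟩
  | m + 1 => polarBilin_nondeg_congr (splitIdxR m (Fin 2)) (fun v => by rw [minusQ_coe, minusQ_succ])
      (hypExt_nondegenerate (minusQ_nondeg hab m))

theorem oddQ_nondeg (h2 : (2 : F) ≠ 0) : ∀ m : ℕ, (QuadraticMap.polarBilin (oddQ m F)).Nondegenerate
  | 0 => by
    have key : ∀ x, (∀ y, QuadraticMap.polar ⇑(oddQ 0 F) x y = 0) → x = 0 := by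
      intro x hx
      have e0 := hx (fun _ => 1)
      simp [QuadraticMap.polar, oddQ_coe, Cfsg.quadFormOdd] at e0
      funext i
      rcases i with i | i | i
      · exact (mul_eq_zero.1 (show (2 : F) * x (.inl i) = 0 by linear_combination e0)).resolve_left h2
      · exact i.elim0
      · exact i.elim0
    exact ⟨key, fun y hy => key y fun x => by rw [QuadraticMap.polar_comm]; exact hy x⟩
  | m + 1 => polarBilin_nondeg_congr (splitIdxL m Unit) (fun v => by rw [oddQ_coe, oddQ_succ])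
      (hypExt_nondegenerate (oddQ_nondeg h2 m))

theorem card_sing_congr {ι κ : Type} [Fintype F] (s : ι ≃ κ) (f : (κ → F) → F) (f' : (ι → F) → F)
    (h : ∀ v, f v = f' (v ∘ s)) : Nat.card {v // f v = 0} = Nat.card {v // f' v = 0} :=
  Nat.card_congr ((s.symm.arrowCongr (Equiv.refl F)).subtypeEquiv fun v => by rw [h]; rfl)

theorem card_iso_congr {ι κ : Type} [Fintype ι] [DecidableEq ι] [Fintype κ] [DecidableEq κ] (s : ι ≃ κ)
    (f : (κ → F) → F) (f' : (ι → F) → F) (h : ∀ v, f v = f' (v ∘ s)) :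
    Nat.card (Cfsg.isometryGroup F f) = Nat.card (Cfsg.isometryGroup F f') :=
  card_preserving_congr s _ _ fun u _ => h u

variable [Fintype F]

theorem card_sing_plus : ∀ m : ℕ,
    (Nat.card {v : Fin (m + 1) ⊕ Fin (m + 1) → F // Cfsg.quadFormPlus (m + 1) F v = 0} : ℤ) =
      (Fintype.card F : ℤ) ^ (2 * m + 1) + (Fintype.card F : ℤ) ^ (m + 1) - (Fintype.card F : ℤ) ^ m
  | 0 => by
    have h1 : 1 ≤ Fintype.card F := Fintype.card_pos
    haveI : Subsingleton (Fin 0 ⊕ Fin 0 → F) := ⟨fun a b => funext fun i => by rcases i with i | i <;> exact i.elim0⟩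
    haveI : Unique {w : Fin 0 ⊕ Fin 0 → F // plusQ 0 F w = 0} :=
      ⟨⟨⟨0, QuadraticMap.map_zero _⟩⟩, fun _ => Subsingleton.elim _ _⟩
    rw [card_sing_congr (splitIdx 0) _ _ (plusQ_succ 0), card_sing_hypExt, Nat.card_unique]
    simp [Nat.cast_sub h1]
    ring
  | m + 1 => by
    have h1 : 1 ≤ Fintype.card F := Fintype.card_pos
    rw [card_sing_congr (splitIdx (m + 1)) _ _ (plusQ_succ (m + 1)), card_sing_hypExt, plusQ_coe]
    push_cast [Nat.cast_sub h1]
    rw [card_sing_plus m, Fintype.card_sum, Fintype.card_fin]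
    ring

theorem card_sing_minus {a b : F} (hab : ∀ z₁ z₂ : F, z₁ ^ 2 + a * z₁ * z₂ + b * z₂ ^ 2 = 0 → z₁ = 0 ∧ z₂ = 0) :
    ∀ m : ℕ, (Nat.card {v : (Fin m ⊕ Fin m) ⊕ Fin 2 → F // Cfsg.quadFormMinus m F a b v = 0} : ℤ) =
      (Fintype.card F : ℤ) ^ (2 * m + 1) + (Fintype.card F : ℤ) ^ m - (Fintype.card F : ℤ) ^ (m + 1)
  | 0 => by
    haveI : Unique {v : (Fin 0 ⊕ Fin 0) ⊕ Fin 2 → F // Cfsg.quadFormMinus 0 F a b v = 0} :=
      ⟨⟨⟨0, by simp [Cfsg.quadFormMinus]⟩⟩, fun v => Subtype.ext (funext fun i => by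
        have h := v.2
        simp [Cfsg.quadFormMinus] at h
        obtain ⟨h0, h1⟩ := hab _ _ h
        rcases i with (i | i) | i
        · exact i.elim0
        · exact i.elim0
        · fin_cases i
          · exact h0
          · exact h1)⟩
    rw [Nat.card_unique]
    simp
  | m + 1 => by
    have h1 : 1 ≤ Fintype.card F := Fintype.card_pos
    rw [card_sing_congr (splitIdxR m (Fin 2)) _ _ (minusQ_succ m a b), card_sing_hypExt, minusQ_coe]
    push_cast [Nat.cast_sub h1]
    rw [card_sing_minus hab m, Fintype.card_sum, Fintype.card_sum, Fintype.card_fin, Fintype.card_fin]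
    ring

theorem card_sing_odd : ∀ m : ℕ,
    Nat.card {v : Unit ⊕ (Fin m ⊕ Fin m) → F // Cfsg.quadFormOdd m F v = 0} = Fintype.card F ^ (2 * m)
  | 0 => by
    haveI : Unique {v : Unit ⊕ (Fin 0 ⊕ Fin 0) → F // Cfsg.quadFormOdd 0 F v = 0} :=
      ⟨⟨⟨0, by simp [Cfsg.quadFormOdd]⟩⟩, fun v => Subtype.ext (funext fun i => by
        have h := v.2
        simp [Cfsg.quadFormOdd] at h
        rcases i with i | i | i
        · exact h
        · exact i.elim0
        · exact i.elim0)⟩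
    rw [Nat.card_unique, mul_zero, pow_zero]
  | m + 1 => by
    obtain ⟨k, hk⟩ : ∃ k, Fintype.card F = k + 1 := ⟨_, (Nat.sub_add_cancel Fintype.card_pos).symm⟩
    rw [card_sing_congr (splitIdxL m Unit) _ _ (oddQ_succ m), card_sing_hypExt, oddQ_coe, card_sing_odd m,
      Fintype.card_sum, Fintype.card_sum, Fintype.card_fin, Fintype.card_unit, hk, Nat.add_sub_cancel]
    ring

theorem card_iso_plus : ∀ m : ℕ,
    Nat.card (Cfsg.isometryGroup F (Cfsg.quadFormPlus (m + 1) F)) =
      2 * Fintype.card F ^ ((m + 1) * m) * (Fintype.card F ^ (m + 1) - 1) *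
        ∏ i ∈ Finset.range m, (Fintype.card F ^ (2 * (i + 1)) - 1)
  | 0 => by
    obtain ⟨e⟩ := isometry_plus_one_dihedral (F := F)
    rw [Nat.card_congr e.toEquiv, DihedralGroup.nat_card]
    simp
  | m + 1 => by
    have h1 : 1 ≤ Fintype.card F := Fintype.card_pos
    rw [card_iso_congr (splitIdx (m + 1)) _ _ (plusQ_succ (m + 1)), card_isometry_hypExt (plusQ_nondeg (m + 1)),
      plusQ_coe, card_iso_plus m, Fintype.card_sum, Fintype.card_fin, Finset.prod_range_succ]
    have hA : Fintype.card F * Nat.card {v : Fin (m + 1) ⊕ Fin (m + 1) → F // Cfsg.quadFormPlus (m + 1) F v = 0} +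
        (Fintype.card F - 1) * Fintype.card F ^ (m + 1 + (m + 1)) - 1 =
        (Fintype.card F ^ (m + 1 + 1) - 1) * (Fintype.card F ^ (m + 1) + 1) := by
      have h2 : 1 ≤ Fintype.card F ^ (m + 1 + 1) := Nat.one_le_pow _ _ h1
      have h3 : 1 ≤ Fintype.card F * Nat.card {v : Fin (m + 1) ⊕ Fin (m + 1) → F // Cfsg.quadFormPlus (m + 1) F v = 0} +
          (Fintype.card F - 1) * Fintype.card F ^ (m + 1 + (m + 1)) := by
        haveI : Nonempty {v : Fin (m + 1) ⊕ Fin (m + 1) → F // Cfsg.quadFormPlus (m + 1) F v = 0} :=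
          ⟨⟨0, by simp [Cfsg.quadFormPlus]⟩⟩
        exact le_add_right (Nat.mul_pos h1 Nat.card_pos)
      zify [h1, h2, h3]
      rw [card_sing_plus]
      ring
    rw [hA]
    have h4 : Fintype.card F ^ (2 * (m + 1)) - 1 = (Fintype.card F ^ (m + 1) - 1) * (Fintype.card F ^ (m + 1) + 1) := by
      rw [pow_mul', mul_comm (_ - 1), ← Nat.sq_sub_sq, one_pow]
    rw [h4]
    ring

theorem card_iso_minus {a b : F} (hab : ∀ z₁ z₂ : F, z₁ ^ 2 + a * z₁ * z₂ + b * z₂ ^ 2 = 0 → z₁ = 0 ∧ z₂ = 0) :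
    ∀ m : ℕ, Nat.card (Cfsg.isometryGroup F (Cfsg.quadFormMinus m F a b)) =
      2 * Fintype.card F ^ ((m + 1) * m) * (Fintype.card F ^ (m + 1) + 1) *
        ∏ i ∈ Finset.range m, (Fintype.card F ^ (2 * (i + 1)) - 1)
  | 0 => by
    obtain ⟨e⟩ := isometry_minus_zero_dihedral a b hab
    rw [Nat.card_congr e.toEquiv, DihedralGroup.nat_card]
    simp
  | m + 1 => by
    have h1 : 1 ≤ Fintype.card F := Fintype.card_pos
    rw [card_iso_congr (splitIdxR m (Fin 2)) _ _ (minusQ_succ m a b), card_isometry_hypExt (minusQ_nondeg hab m),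
      minusQ_coe, card_iso_minus hab m, Fintype.card_sum, Fintype.card_sum, Fintype.card_fin, Fintype.card_fin,
      Finset.prod_range_succ]
    have hA : Fintype.card F * Nat.card {v : (Fin m ⊕ Fin m) ⊕ Fin 2 → F // Cfsg.quadFormMinus m F a b v = 0} +
        (Fintype.card F - 1) * Fintype.card F ^ (m + m + 2) - 1 =
        (Fintype.card F ^ (m + 1 + 1) + 1) * (Fintype.card F ^ (m + 1) - 1) := by
      have h2 : 1 ≤ Fintype.card F ^ (m + 1) := Nat.one_le_pow _ _ h1
      have h3 : 1 ≤ Fintype.card F * Nat.card {v : (Fin m ⊕ Fin m) ⊕ Fin 2 → F // Cfsg.quadFormMinus m F a b v = 0} +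
          (Fintype.card F - 1) * Fintype.card F ^ (m + m + 2) := by
        haveI : Nonempty {v : (Fin m ⊕ Fin m) ⊕ Fin 2 → F // Cfsg.quadFormMinus m F a b v = 0} :=
          ⟨⟨0, by simp [Cfsg.quadFormMinus]⟩⟩
        exact le_add_right (Nat.mul_pos h1 Nat.card_pos)
      zify [h1, h2, h3]
      rw [card_sing_minus hab]
      ring
    rw [hA]
    have h4 : Fintype.card F ^ (2 * (m + 1)) - 1 = (Fintype.card F ^ (m + 1) - 1) * (Fintype.card F ^ (m + 1) + 1) := by
      rw [pow_mul', mul_comm (_ - 1), ← Nat.sq_sub_sq, one_pow]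
    rw [h4]
    ring

theorem card_iso_odd (h2 : (2 : F) ≠ 0) : ∀ m : ℕ,
    Nat.card (Cfsg.isometryGroup F (Cfsg.quadFormOdd m F)) =
      2 * Fintype.card F ^ (m ^ 2) * ∏ i ∈ Finset.range m, (Fintype.card F ^ (2 * (i + 1)) - 1)
  | 0 => by
    have hQ : ∀ v : Unit ⊕ (Fin 0 ⊕ Fin 0) → F, Cfsg.quadFormOdd 0 F v = v (.inl ()) ^ 2 := fun v => by
      simp [Cfsg.quadFormOdd]
    let i₀ : Unit ⊕ (Fin 0 ⊕ Fin 0) := .inl ()
    have huniq : ∀ i, i = i₀ := by
      rintro (i | i | i)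
      · rfl
      · exact i.elim0
      · exact i.elim0
    have hmv : ∀ (M : Matrix (Unit ⊕ (Fin 0 ⊕ Fin 0)) (Unit ⊕ (Fin 0 ⊕ Fin 0)) F) v,
        (M *ᵥ v) (Sum.inl ()) = M i₀ i₀ * v (Sum.inl ()) := fun M v => by
      show (M *ᵥ v) i₀ = M i₀ i₀ * v i₀
      rw [Matrix.mulVec, dotProduct, Finset.sum_eq_single i₀ (fun j _ hj => absurd (huniq j) hj) (by simp)]
    have hiff : ∀ g : GL (Unit ⊕ (Fin 0 ⊕ Fin 0)) F, g ∈ Cfsg.isometryGroup F (Cfsg.quadFormOdd 0 F) ↔
        g.1 i₀ i₀ = 1 ∨ g.1 i₀ i₀ = -1 := fun g => by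
      rw [mem_isometryGroup_iff]
      simp only [hQ, hmv]
      constructor
      · intro h
        have := h (fun _ => 1)
        exact mul_self_eq_one_iff.1 (by linear_combination this)
      · rintro (h | h) <;> intro v <;> rw [h] <;> ring
    let φ : Cfsg.isometryGroup F (Cfsg.quadFormOdd 0 F) → ({1, -1} : Finset F) := fun g =>
      ⟨g.1.1 i₀ i₀, by simpa using (hiff g.1).1 g.2⟩
    rw [Nat.card_eq_of_bijective φ ⟨fun g h e => Subtype.ext (Units.ext (Matrix.ext fun i j => by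
        rw [huniq i, huniq j]; exact congrArg Subtype.val e)), fun c => ?_⟩, Nat.card_eq_fintype_card,
      Fintype.card_coe, Finset.card_pair (fun h => h2 (by linear_combination h))]
    · simp
    · have hc : c.1 = 1 ∨ c.1 = -1 := by
        have h := c.2
        rwa [Finset.mem_insert, Finset.mem_singleton] at h
      refine ⟨⟨Matrix.GeneralLinearGroup.mkOfDetNeZero (Matrix.scalar _ c.1) ?_, (hiff _).2 ?_⟩, Subtype.ext ?_⟩
      · rcases hc with h | h <;> simp [h]
      · rcases hc with h | h <;> simp [h, Matrix.GeneralLinearGroup.mkOfDetNeZero]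
      · simp [φ, Matrix.GeneralLinearGroup.mkOfDetNeZero]
  | m + 1 => by
    have h1 : 1 ≤ Fintype.card F := Fintype.card_pos
    rw [card_iso_congr (splitIdxL m Unit) _ _ (oddQ_succ m), card_isometry_hypExt (oddQ_nondeg h2 m),
      oddQ_coe, card_iso_odd h2 m, card_sing_odd, Fintype.card_sum, Fintype.card_sum, Fintype.card_fin,
      Fintype.card_unit, Finset.prod_range_succ]
    have hA : Fintype.card F * Fintype.card F ^ (2 * m) + (Fintype.card F - 1) * Fintype.card F ^ (1 + (m + m)) - 1 =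
        Fintype.card F ^ (2 * (m + 1)) - 1 := by
      obtain ⟨k, hk⟩ : ∃ k, Fintype.card F = k + 1 := ⟨_, (Nat.sub_add_cancel h1).symm⟩
      rw [hk, Nat.add_sub_cancel]
      congr 1
      ring
    rw [hA]
    ring

end CfsgLib.Classical
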