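import Mathlib

/-!
# Diagonal normal forms of symmetric bilinear forms over finite fields of odd characteristic
-/

set_option autoImplicit false

namespace CfsgLib.Classical

variable {F V : Type*} [Field F] [Finite F] [AddCommGroup V] [Module F V] [FiniteDimensional F V]

open Module

theorem exists_binary_one (h2 : (2 : F) ≠ 0) {a b : F} (ha : a ≠ 0) (hb : b ≠ 0) :
    ∃ x y : F, a * x ^ 2 + b * y ^ 2 = 1 := by
  classical
  cases nonempty_fintype F
  open Polynomial in
  obtain ⟨x, y, h⟩ := FiniteField.exists_root_sum_quadratic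
    (f := C a * (X : F[X]) ^ 2 - 1) (g := C b * X ^ 2)
    (by rw [degree_sub_eq_left_of_degree_lt] <;> simp [degree_C_mul ha, degree_one])
    (by rw [degree_C_mul hb]; simp)
    (FiniteField.odd_card_of_char_ne_two (fun h => h2 (by
      have : CharP F 2 := ringChar.of_eq h
      exact CharTwo.two_eq_zero)))
  refine ⟨x, y, ?_⟩
  simp at h
  linear_combination h

/-- An orthogonal family of anisotropic vectors of full size is an orthogonal basis. -/
theorem basis_of_orthogonal {n : ℕ} (hn : finrank F V = n) (B : LinearMap.BilinForm F V) (v : Fin n → V)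
    (ho : ∀ i j, i ≠ j → B (v i) (v j) = 0) (hne : ∀ i, B (v i) (v i) ≠ 0) :
    ∃ b : Basis (Fin n) F V, ∀ i, b i = v i := by
  have hli : LinearIndependent F v := by
    rw [Fintype.linearIndependent_iff]
    intro g hg i
    have := congrArg (fun x => B x (v i)) hg
    simp only [map_sum, LinearMap.sum_apply, map_smul, LinearMap.smul_apply, smul_eq_mul, map_zero,
      LinearMap.zero_apply] at this
    rw [Finset.sum_eq_single i (fun j _ hj => by rw [ho j i hj, mul_zero]) (by simp)] at this
    exact (mul_eq_zero.1 this).resolve_right (hne i)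
  rcases n.eq_zero_or_pos with rfl | hpos
  · exact ⟨Module.finBasisOfFinrankEq F V hn, fun i => i.elim0⟩
  · haveI : Nonempty (Fin n) := ⟨⟨0, hpos⟩⟩
    exact ⟨basisOfLinearIndependentOfCardEqFinrank hli (by simp [hn]), fun i => by simp⟩

theorem exists_orthogonal_anisotropic (h2 : (2 : F) ≠ 0) (B : LinearMap.BilinForm F V) (hS : B.IsSymm)
    (hB : B.Nondegenerate) {n : ℕ} (hn : finrank F V = n) :
    ∃ v : Fin n → V, (∀ i j, i ≠ j → B (v i) (v j) = 0) ∧ ∀ i, B (v i) (v i) ≠ 0 := by
  haveI : Invertible (2 : F) := invertibleOfNonzero h2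
  obtain ⟨b, hb⟩ := LinearMap.BilinForm.exists_orthogonal_basis (B := B) ⟨fun x y => by simpa using hS.eq x y⟩
  let c := b.reindex (finCongr hn)
  have ho : ∀ i j, i ≠ j → B (c i) (c j) = 0 := fun i j hij => by
    simp only [c, Basis.reindex_apply]
    exact hb (fun h => hij ((finCongr hn).symm.injective h))
  refine ⟨c, ho, fun i h0 => c.ne_zero i (hB.1 (c i) fun w => ?_)⟩
  rw [← c.sum_repr w, map_sum]
  refine Finset.sum_eq_zero fun j _ => ?_
  rw [map_smul, smul_eq_mul]
  rcases eq_or_ne i j with rfl | h
  · rw [h0, mul_zero]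
  · rw [ho i j h, mul_zero]

/-- diagonal normal form `diag(1, …, 1, δ)` with `δ ∈ {1, α}` -/
theorem exists_orthogonal_one_or_nonsquare (h2 : (2 : F) ≠ 0) (B : LinearMap.BilinForm F V) (hS : B.IsSymm)
    (hB : B.Nondegenerate) {n : ℕ} (hn : finrank F V = n + 1) (α : F) (hα : ¬ IsSquare α) :
    ∃ b : Basis (Fin (n + 1)) F V, (∀ i j, i ≠ j → B (b i) (b j) = 0) ∧
      (∀ i, i ≠ Fin.last n → B (b i) (b i) = 1) ∧
      (B (b (Fin.last n)) (b (Fin.last n)) = 1 ∨ B (b (Fin.last n)) (b (Fin.last n)) = α) := by
  classical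
  have key : ∀ k ≤ n, ∃ v : Fin (n + 1) → V, (∀ i j, i ≠ j → B (v i) (v j) = 0) ∧
      (∀ i, B (v i) (v i) ≠ 0) ∧ ∀ i : Fin (n + 1), (i : ℕ) < k → B (v i) (v i) = 1 := by
    intro k
    induction k with
    | zero =>
      intro _
      obtain ⟨v, h1, h2⟩ := exists_orthogonal_anisotropic h2 B hS hB hn
      exact ⟨v, h1, h2, fun i hi => absurd hi (Nat.not_lt_zero _)⟩
    | succ k ih =>
      intro hk
      obtain ⟨v, ho, hne, h1⟩ := ih (by omega)
      let p : Fin (n + 1) := ⟨k, by omega⟩
      let r : Fin (n + 1) := ⟨k + 1, by omega⟩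
      have hpr : p ≠ r := by simp [p, r]
      obtain ⟨x, y, hxy⟩ := exists_binary_one h2 (hne p) (hne r)
      set a := B (v p) (v p) with ha
      set b := B (v r) (v r) with hb
      have e1 : B (v p) (v r) = 0 := ho p r hpr
      have e2 : B (v r) (v p) = 0 := ho r p hpr.symm
      let w : Fin (n + 1) → V := Function.update (Function.update v p (x • v p + y • v r)) r
        ((-(b * y)) • v p + (a * x) • v r)
      have wp : w p = x • v p + y • v r := by simp [w, hpr]
      have wr : w r = (-(b * y)) • v p + (a * x) • v r := by simp [w]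
      have wo : ∀ i, i ≠ p → i ≠ r → w i = v i := fun i h h' => by simp [w, h, h']
      have Bp : B (w p) (w p) = 1 := by
        simp only [wp, map_add, map_smul, LinearMap.add_apply, LinearMap.smul_apply, smul_eq_mul, e1, e2, ← ha, ← hb]
        linear_combination hxy
      have Br : B (w r) (w r) = a * b := by
        simp only [wr, map_add, map_smul, LinearMap.add_apply, LinearMap.smul_apply, smul_eq_mul, e1, e2, ← ha, ← hb]
        linear_combination (a * b) * hxy
      refine ⟨w, fun i j hij => ?_, fun i => ?_, fun i hi => ?_⟩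
      · have hsplit : ∀ i, i = p ∨ i = r ∨ (i ≠ p ∧ i ≠ r) := fun i => by tauto
        rcases hsplit i with rfl | rfl | ⟨hi, hi'⟩ <;> rcases hsplit j with rfl | rfl | ⟨hj, hj'⟩ <;>
          first
          | exact absurd rfl hij
          | (simp only [wp, wr, map_add, map_smul, LinearMap.add_apply, LinearMap.smul_apply, smul_eq_mul, e1, e2,
              ← ha, ← hb]; ring; done)
          | (simp [wp, wr, wo j hj hj', ho p j hj.symm, ho r j hj'.symm]; done)
          | (simp [wp, wr, wo i hi hi', ho i p hi, ho i r hi']; done)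
          | (rw [wo i hi hi', wo j hj hj']; exact ho i j hij)
      · by_cases h : i = p
        · rw [h, Bp]; exact one_ne_zero
        by_cases h' : i = r
        · rw [h', Br]; exact mul_ne_zero (hne p) (hne r)
        rw [wo i h h']; exact hne i
      · by_cases h : i = p
        · rw [h, Bp]
        have h' : i ≠ r := fun e => by simp [e, r] at hi
        rw [wo i h h']
        refine h1 i ?_
        have : (i : ℕ) ≠ k := fun e => h (Fin.ext e)
        omega
  obtain ⟨v, ho, hne, h1⟩ := key n le_rfl
  set d := B (v (Fin.last n)) (v (Fin.last n)) with hd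
  obtain ⟨c, δ, hc, hδ, hcd⟩ : ∃ c δ : F, c ≠ 0 ∧ (δ = 1 ∨ δ = α) ∧ c * c * d = δ := by
    by_cases hsq : IsSquare d
    · obtain ⟨s, hs⟩ := hsq
      have hs0 : s ≠ 0 := fun h => hne _ (by rw [← hd, hs, h, mul_zero])
      exact ⟨s⁻¹, 1, inv_ne_zero hs0, Or.inl rfl, by rw [hs]; field_simp⟩
    · obtain ⟨s, hs⟩ : IsSquare (α / d) := by
        cases nonempty_fintype F
        have hd0 : d ≠ 0 := hne _
        have hα0 : α ≠ 0 := fun h => hα (h ▸ IsSquare.zero)
        have hF : ringChar F ≠ 2 := fun h => h2 (by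
          have : CharP F 2 := ringChar.of_eq h
          exact CharTwo.two_eq_zero)
        have e1 := (quadraticChar_neg_one_iff_not_isSquare (a := α)).2 hα
        have e2 := (quadraticChar_neg_one_iff_not_isSquare (a := d)).2 hsq
        have e3 : quadraticChar F (α * d) = 1 := by rw [map_mul, e1, e2]; rfl
        obtain ⟨t, ht⟩ := (quadraticChar_one_iff_isSquare (mul_ne_zero hα0 hd0)).1 e3
        exact ⟨t / d, by field_simp; linear_combination ht⟩
      have hs0 : s ≠ 0 := fun h => by
        rw [h, mul_zero, div_eq_zero_iff] at hs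
        exact hs.elim (fun h => hα (h ▸ IsSquare.zero)) (hne _)
      exact ⟨s, α, hs0, Or.inr rfl, by rw [← hs]; field_simp [hne (Fin.last n)]; rw [mul_div_cancel_right₀ _ (hne (Fin.last n))]⟩
  let w := Function.update v (Fin.last n) (c • v (Fin.last n))
  have hw : ∀ i, w i = (if i = Fin.last n then c else 1) • v i := fun i => by
    by_cases h : i = Fin.last n
    · subst h; simp [w]
    · simp [w, h]
  have hwo : ∀ i j, i ≠ j → B (w i) (w j) = 0 := fun i j hij => by
    simp only [hw, map_smul, LinearMap.smul_apply, ho i j hij, smul_zero]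
  have hlast : B (w (Fin.last n)) (w (Fin.last n)) = δ := by
    simp only [hw, if_true, map_smul, LinearMap.smul_apply, smul_eq_mul, ← hd]
    linear_combination hcd
  have hfirst : ∀ i, i ≠ Fin.last n → B (w i) (w i) = 1 := fun i hi => by
    simp [hw, hi, h1 i (Fin.val_lt_last hi)]
  obtain ⟨b, hb⟩ := basis_of_orthogonal hn B w hwo fun i => by
    by_cases h : i = Fin.last n
    · subst h
      rw [hlast]
      rcases hδ with rfl | rfl
      · exact one_ne_zero
      · exact fun h => hα (h ▸ IsSquare.zero)
    · rw [hfirst i h]; exact one_ne_zero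
  refine ⟨b, fun i j hij => by rw [hb, hb]; exact hwo i j hij, fun i hi => by rw [hb]; exact hfirst i hi, ?_⟩
  rw [hb, hlast]
  exact hδ

end CfsgLib.Classical
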