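import Cfsg.Agent.Lib.Sp.Basic
import Cfsg.Prelude.Def_ClassicalGeometry

/-!
# `O(2m+1, q) ≅ Sp(2m, q)` in even characteristic
-/

set_option autoImplicit false

namespace CfsgLib.Classical.OddOrthEven

open Matrix CfsgLib.Sp

variable {F : Type*} [Field F] [CharP F 2] {m : ℕ}

local notation "Vm" => Fin m ⊕ Fin m → F
local notation "Wm" => Unit ⊕ (Fin m ⊕ Fin m) → F

/-- The hyperbolic part. -/
def hq (v : Vm) : F := ∑ i, v (.inl i) * v (.inr i)

theorem quad_eq (x : Wm) : Cfsg.quadFormOdd m F x = x (.inl ()) ^ 2 + hq (x ∘ Sum.inr) := rfl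

theorem hq_add (u v : Vm) : hq (u + v) = hq u + hq v + sf u v := by
  rw [sf_eq]
  simp only [hq, Pi.add_apply, ← Finset.sum_sub_distrib, ← Finset.sum_add_distrib, dotProduct]
  refine Finset.sum_congr rfl fun i _ => ?_
  linear_combination (u (.inl i) * v (.inr i)) * (CharTwo.two_eq_zero : (2 : F) = 0)

theorem hq_smul (c : F) (v : Vm) : hq (c • v) = c ^ 2 * hq v := by
  simp only [hq, Pi.smul_apply, smul_eq_mul, Finset.mul_sum]
  exact Finset.sum_congr rfl fun i _ => by ring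

theorem sq_inj {a b : F} (h : a ^ 2 = b ^ 2) : a = b := by
  have h0 : (a + b) ^ 2 = 0 := by rw [CharTwo.add_sq, h, CharTwo.add_self_eq_zero]
  exact CharTwo.add_eq_zero.1 (pow_eq_zero_iff two_ne_zero |>.1 h0)

theorem mem_iff {g : GL (Unit ⊕ (Fin m ⊕ Fin m)) F} :
    g ∈ Cfsg.isometryGroup F (Cfsg.quadFormOdd m F) ↔
      ∀ x, Cfsg.quadFormOdd m F (g.1 *ᵥ x) = Cfsg.quadFormOdd m F x :=
  ⟨fun h x => h x x, fun h x _ => h x⟩

theorem block_mulVec (L : Matrix Unit (Fin m ⊕ Fin m) F) (h : Matrix (Fin m ⊕ Fin m) (Fin m ⊕ Fin m) F) (x : Wm) :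
    fromBlocks 1 L 0 h *ᵥ x = Sum.elim (x ∘ Sum.inl + L *ᵥ (x ∘ Sum.inr)) (h *ᵥ (x ∘ Sum.inr)) := by
  rw [fromBlocks_mulVec]; simp

variable (g : Cfsg.isometryGroup F (Cfsg.quadFormOdd m F))

theorem polar_fix (u v : Wm) : sf ((g.1.1 *ᵥ u) ∘ Sum.inr) ((g.1.1 *ᵥ v) ∘ Sum.inr) = sf (u ∘ Sum.inr) (v ∘ Sum.inr) := by
  have hpol : ∀ a b : Wm, Cfsg.quadFormOdd m F (a + b) =
      Cfsg.quadFormOdd m F a + Cfsg.quadFormOdd m F b + sf (a ∘ Sum.inr) (b ∘ Sum.inr) := fun a b => by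
    simp only [quad_eq]
    rw [show (a + b) ∘ Sum.inr = a ∘ Sum.inr + b ∘ Sum.inr from rfl, hq_add, Pi.add_apply, CharTwo.add_sq]
    ring
  have h := mem_iff.1 g.2
  have h1 := h (u + v)
  rw [Matrix.mulVec_add, hpol, hpol, h u, h v] at h1
  exact add_left_cancel h1

theorem shape : g.1.1 = fromBlocks 1 g.1.1.toBlocks₁₂ 0 g.1.1.toBlocks₂₂ := by
  set e : Wm := Pi.single (Sum.inl ()) 1
  have he : e ∘ Sum.inr = 0 := funext fun i => by simp [e]
  have hr : (g.1.1 *ᵥ e) ∘ Sum.inr = 0 := by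
    refine eq_zero_of_sf fun z => ?_
    set y := (g⁻¹).1.1 *ᵥ Sum.elim (fun _ => (0 : F)) z
    have hy : g.1.1 *ᵥ y = Sum.elim (fun _ => (0 : F)) z := by
      rw [Matrix.mulVec_mulVec, ← Units.val_mul, ← Subgroup.coe_mul, mul_inv_cancel]; simp
    have h := polar_fix g e y
    rw [hy, he, Sum.elim_comp_inr] at h
    rw [h, sf_eq]
    simp
  have hl : g.1.1 (Sum.inl ()) (Sum.inl ()) = 1 := by
    have h := mem_iff.1 g.2 e
    rw [quad_eq, quad_eq, hr, he] at h
    simp [e, hq] at h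
    exact sq_inj (by simpa using h)
  conv_lhs => rw [← fromBlocks_toBlocks g.1.1]
  congr 1
  · ext i j; cases i; cases j; simpa [toBlocks₁₁] using hl
  · ext i j
    cases j
    simpa [toBlocks₂₁, e] using congrFun hr i

theorem block22_mem : g.1.1.toBlocks₂₂ ∈ Matrix.symplecticGroup (Fin m) F := by
  refine mem_sp_iff.2 fun u v => ?_
  have h := polar_fix g (Sum.elim (fun _ => (0 : F)) u) (Sum.elim (fun _ => (0 : F)) v)
  rw [shape g, block_mulVec, block_mulVec] at h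
  simpa using h

/-- Reduction modulo the radical. -/
noncomputable def redHom : Cfsg.isometryGroup F (Cfsg.quadFormOdd m F) →* Matrix.symplecticGroup (Fin m) F where
  toFun g := ⟨g.1.1.toBlocks₂₂, block22_mem g⟩
  map_one' := Subtype.ext (by
    ext i j; simp [toBlocks₂₂, Matrix.one_apply])
  map_mul' g h := Subtype.ext (by
    rw [sp_mul_val]
    show (g.1.1 * h.1.1).toBlocks₂₂ = g.1.1.toBlocks₂₂ * h.1.1.toBlocks₂₂
    conv_lhs => rw [shape g, shape h, fromBlocks_multiply]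
    simp [toBlocks_fromBlocks₂₂])

theorem redHom_injective : Function.Injective (redHom (F := F) (m := m)) := by
  rw [injective_iff_map_eq_one]
  intro g hg
  have h22 : g.1.1.toBlocks₂₂ = 1 := congrArg Subtype.val hg
  have hL : g.1.1.toBlocks₁₂ = 0 := by
    ext i j
    cases i
    have h := mem_iff.1 g.2 (Sum.elim (fun _ => (0 : F)) (Pi.single j 1))
    rw [shape g, block_mulVec, quad_eq, quad_eq] at h
    simp only [Sum.elim_comp_inr, h22, Matrix.one_mulVec, Sum.elim_inl, Pi.add_apply, Function.comp_apply, zero_add] at h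
    simp [Matrix.mulVec_single_one] at h
    exact h
  refine Subtype.ext (Units.ext ?_)
  rw [shape g, h22, hL, fromBlocks_one]
  rfl

theorem redHom_surjective [Finite F] : Function.Surjective (redHom (F := F) (m := m)) := by
  classical
  intro A
  have hsq : ∀ a : F, ∃ b : F, b ^ 2 = a := fun a => by
    obtain ⟨b, hb⟩ := FiniteField.isSquare_of_char_two (ringChar.eq F 2) a
    exact ⟨b, by rw [hb, pow_two]⟩
  choose s hs using hsq
  let L : Vm →ₗ[F] F :=
    { toFun := fun v => s (hq (A.1 *ᵥ v) + hq v)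
      map_add' := fun u v => sq_inj (by
        rw [CharTwo.add_sq, hs, hs, hs, Matrix.mulVec_add, hq_add, hq_add, sf_sp]
        linear_combination sf u v * (CharTwo.two_eq_zero : (2 : F) = 0))
      map_smul' := fun c v => sq_inj (by
        rw [RingHom.id_apply, smul_eq_mul, mul_pow, hs, hs, Matrix.mulVec_smul, hq_smul, hq_smul, mul_add]) }
  let M : Matrix Unit (Fin m ⊕ Fin m) F := Matrix.of fun _ j => L (Pi.single j 1)
  have hM : ∀ v, (M *ᵥ v) () = L v := fun v => by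
    conv_rhs => rw [pi_eq_sum_univ' v]
    rw [map_sum]
    simp only [map_smul, smul_eq_mul, Matrix.mulVec, dotProduct, M, Matrix.of_apply, mul_comm (v _)]
  let G : Matrix (Unit ⊕ (Fin m ⊕ Fin m)) (Unit ⊕ (Fin m ⊕ Fin m)) F := fromBlocks 1 M 0 A.1
  have hdet : G.det ≠ 0 := by
    rw [Matrix.det_fromBlocks_zero₂₁, Matrix.det_one, one_mul]
    exact (SymplecticGroup.symplectic_det A.2).ne_zero
  let gu : GL (Unit ⊕ (Fin m ⊕ Fin m)) F := Matrix.GeneralLinearGroup.mk'' G (isUnit_iff_ne_zero.2 hdet)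
  have hmem : gu ∈ Cfsg.isometryGroup F (Cfsg.quadFormOdd m F) := mem_iff.2 fun x => by
    change Cfsg.quadFormOdd m F (G *ᵥ x) = _
    rw [block_mulVec, quad_eq, quad_eq]
    simp only [Sum.elim_inl, Sum.elim_comp_inr, Pi.add_apply, Function.comp_apply, hM]
    rw [CharTwo.add_sq, show L (x ∘ Sum.inr) ^ 2 = hq (A.1 *ᵥ (x ∘ Sum.inr)) + hq (x ∘ Sum.inr) from hs _]
    linear_combination hq (A.1 *ᵥ (x ∘ Sum.inr)) * (CharTwo.two_eq_zero : (2 : F) = 0)
  refine ⟨⟨gu, hmem⟩, Subtype.ext ?_⟩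
  change G.toBlocks₂₂ = A.1
  exact toBlocks_fromBlocks₂₂ _ _ _ _

end CfsgLib.Classical.OddOrthEven
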