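import Mathlib

/-!
# Alternating forms: symplectic bases and Witt's lemma
-/

set_option autoImplicit false

namespace CfsgLib.Classical.Alt

open Module

variable {F V : Type*} [Field F] [AddCommGroup V] [Module F V]

theorem swap {B : LinearMap.BilinForm F V} (hA : B.IsAlt) (x y : V) : B y x = -B x y := (hA.neg_eq x y).symm

variable [FiniteDimensional F V]

/-- Every functional on a subspace is given by the form. -/
theorem exists_repr {B : LinearMap.BilinForm F V} (hB : B.Nondegenerate) (hA : B.IsAlt) (Y : Submodule F V)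
    (f : Y →ₗ[F] F) : ∃ w : V, ∀ y : Y, B y w = f y := by
  obtain ⟨g, hg⟩ := LinearMap.exists_extend f
  refine ⟨-(B.toDual hB).symm g, fun y => ?_⟩
  have h := LinearMap.BilinForm.apply_toDual_symm_apply (B := B) (hB := hB) g (y : V)
  rw [map_neg, swap hA ((B.toDual hB).symm g), neg_neg, h]
  exact LinearMap.congr_fun hg y

/-- Extension of a partial isometry by one dimension. -/
theorem witt_step {B : LinearMap.BilinForm F V} (hB : B.Nondegenerate) (hA : B.IsAlt)
    (X : Submodule F V) (f : X →ₗ[F] V) (hf : Function.Injective f) (hiso : ∀ x x' : X, B (f x) (f x') = B x x')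
    (hX : X ≠ ⊤) :
    ∃ (v : V) (_ : v ∉ X) (w : V), w ∉ LinearMap.range f ∧ ∀ x : X, B (f x) w = B x v := by
  classical
  set Y := LinearMap.range f
  let e : X ≃ₗ[F] Y := LinearEquiv.ofInjective f hf
  have he : ∀ x, (e x : V) = f x := fun x => LinearEquiv.ofInjective_apply f x
  obtain ⟨v, hv⟩ : ∃ v, v ∉ X := by
    by_contra hc
    push Not at hc
    exact hX (eq_top_iff.2 fun x _ => hc x)
  obtain ⟨w₀, hw₀⟩ := exists_repr hB hA Y (((B.flip v).comp X.subtype).comp e.symm.toLinearMap)
  have hw₀' : ∀ x : X, B (f x) w₀ = B x v := fun x => by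
    rw [← he, hw₀]
    simp
  by_cases hw : w₀ ∈ Y
  swap
  · exact ⟨v, hv, w₀, hw, hw₀'⟩
  by_cases hperp : ∃ z, z ∉ Y ∧ ∀ y ∈ Y, B y z = 0
  · obtain ⟨z, hz, hz'⟩ := hperp
    refine ⟨v, hv, w₀ + z, fun h => hz ?_, fun x => by
      rw [map_add, hw₀', hz' _ ⟨x, rfl⟩, add_zero]⟩
    have := Y.sub_mem h hw
    rwa [add_sub_cancel_left] at this
  exfalso
  push Not at hperp
  obtain ⟨x₀, hx₀⟩ := hw
  -- then the orthogonal of `X` lies in `X`, by comparing dimensions
  have hdim : ∀ U : Submodule F V, finrank F (B.orthogonal U) + finrank F U = finrank F V := by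
    intro U
    rw [LinearMap.BilinForm.finrank_orthogonal hB]
    have := U.finrank_le
    omega
  have hYle : B.orthogonal Y ≤ Y := fun z hz => by
    by_contra h
    obtain ⟨y, hy, hne⟩ := hperp z h
    exact hne (LinearMap.BilinForm.mem_orthogonal_iff.1 hz y hy)
  have hXle : B.orthogonal X ≤ X := by
    -- transport the radical
    have hrad : finrank F ↥(B.orthogonal Y) ≤ finrank F ↥(X ⊓ B.orthogonal X) := by
      let ψ : ↥(B.orthogonal Y) →ₗ[F] ↥(X ⊓ B.orthogonal X) :=
        LinearMap.codRestrict _ ((X.subtype.comp e.symm.toLinearMap).comp (Submodule.inclusion hYle)) (fun z => by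
          refine ⟨(e.symm _).2, LinearMap.BilinForm.mem_orthogonal_iff.2 fun x hx => ?_⟩
          change B x ((e.symm (Submodule.inclusion hYle z) : X) : V) = 0
          rw [← hiso ⟨x, hx⟩, ← he (e.symm _), LinearEquiv.apply_symm_apply]
          exact LinearMap.BilinForm.mem_orthogonal_iff.1 z.2 _ ⟨_, rfl⟩)
      refine LinearMap.finrank_le_finrank_of_injective (f := ψ) fun a b h => ?_
      have h' := congrArg Subtype.val h
      change ((e.symm (Submodule.inclusion hYle a) : X) : V) = ((e.symm (Submodule.inclusion hYle b) : X) : V) at h'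
      exact Submodule.inclusion_injective hYle (e.symm.injective (Subtype.ext h'))
    have h1 := hdim X
    have h2 := hdim Y
    rw [← e.finrank_eq] at h2
    have h3 : X ⊓ B.orthogonal X = B.orthogonal X :=
      Submodule.eq_of_le_of_finrank_le inf_le_right (by omega)
    exact h3 ▸ inf_le_left
  refine hv ?_
  have hmem : v - (x₀ : V) ∈ B.orthogonal X := LinearMap.BilinForm.mem_orthogonal_iff.2 fun x hx => by
    change B x (v - x₀) = 0
    rw [map_sub, ← hw₀' ⟨x, hx⟩, ← hx₀, hiso, sub_self]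
  have := X.add_mem (hXle hmem) x₀.2
  rwa [sub_add_cancel] at this

/-- Witt's lemma for injective isometric maps. -/
theorem witt {B : LinearMap.BilinForm F V} (hB : B.Nondegenerate) (hA : B.IsAlt)
    (X : Submodule F V) (f : X →ₗ[F] V) (hf : Function.Injective f)
    (hiso : ∀ x x' : X, B (f x) (f x') = B x x') :
    ∃ g : V ≃ₗ[F] V, (∀ u v : V, B (g u) (g v) = B u v) ∧ ∀ x : X, g x = f x := by
  suffices H : ∀ (n : ℕ) (X : Submodule F V) (f : X →ₗ[F] V), finrank F V - finrank F X = n →
      Function.Injective f → (∀ x x' : X, B (f x) (f x') = B x x') →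
      ∃ g : V ≃ₗ[F] V, (∀ u v : V, B (g u) (g v) = B u v) ∧ ∀ x : X, g x = f x from H _ X f rfl hf hiso
  intro n
  induction n using Nat.strong_induction_on with
  | _ n ih =>
  intro X f hn hf hiso
  classical
  by_cases hX : X = ⊤
  · subst hX
    let h : V →ₗ[F] V := f.comp (LinearMap.id.codRestrict ⊤ fun _ => trivial)
    have hinj : Function.Injective h := fun a b e => congrArg Subtype.val (hf e)
    exact ⟨LinearEquiv.ofBijective h ⟨hinj, LinearMap.surjective_of_injective hinj⟩,
      fun u v => hiso ⟨u, trivial⟩ ⟨v, trivial⟩, fun x => rfl⟩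
  obtain ⟨v, hv, w, hw, hvw⟩ := witt_step hB hA X f hf hiso hX
  set X' := X ⊔ F ∙ v
  have hlt : finrank F V - finrank F X' < n := by
    have hXX' : X < X' := lt_of_le_of_ne le_sup_left fun e => hv (by
      rw [e]; exact le_sup_right (α := Submodule F V) (Submodule.mem_span_singleton_self v))
    have := Submodule.finrank_lt_finrank_of_lt hXX'
    have := X'.finrank_le
    omega
  let φ : V →ₗ.[F] V := (LinearPMap.mk X f).supSpanSingleton v w hv
  have hdom : φ.domain = X' := rfl
  let f' : X' →ₗ[F] V := φ.toFun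
  have hval : ∀ (x : X) (c : F) (h : (x : V) + c • v ∈ X'), f' ⟨(x : V) + c • v, h⟩ = f x + c • w := by
    intro x c h
    exact LinearPMap.supSpanSingleton_apply_mk _ v w hv x.1 x.2 c
  have hdec : ∀ z : X', ∃ (x : X) (c : F) (h : (x : V) + c • v ∈ X'), z = ⟨(x : V) + c • v, h⟩ := by
    intro z
    obtain ⟨a, ha, b, hb, he⟩ := Submodule.mem_sup.1 z.2
    obtain ⟨c, rfl⟩ := Submodule.mem_span_singleton.1 hb
    exact ⟨⟨a, ha⟩, c, by rw [he]; exact z.2, Subtype.ext he.symm⟩
  obtain ⟨g, hg, hgX⟩ := ih _ hlt X' f' rfl (by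
    rw [injective_iff_map_eq_zero]
    intro z hz
    obtain ⟨x, c, h, rfl⟩ := hdec z
    rw [hval] at hz
    rcases eq_or_ne c 0 with rfl | hc
    · rw [zero_smul, add_zero] at hz
      refine Subtype.ext ?_
      change (x : V) + (0 : F) • v = 0
      rw [zero_smul, add_zero]
      exact congrArg Subtype.val (hf (hz.trans (map_zero f).symm))
    · exfalso
      refine hw ⟨-(c⁻¹ • x), ?_⟩
      rw [map_neg, map_smul, eq_neg_of_add_eq_zero_left hz, smul_neg, neg_neg, inv_smul_smul₀ hc])
    (by
      intro z z'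
      obtain ⟨x, c, h, rfl⟩ := hdec z
      obtain ⟨x', c', h', rfl⟩ := hdec z'
      rw [hval, hval]
      simp only [map_add, map_smul, LinearMap.add_apply, LinearMap.smul_apply, smul_eq_mul]
      rw [hiso, hvw, swap hA (f x') w, hvw, swap hA (x' : V) v, hA w, hA v])
  refine ⟨g, hg, fun x => ?_⟩
  have h : (x : V) + (0 : F) • v ∈ X' := by
    rw [zero_smul, add_zero]; exact le_sup_left (α := Submodule F V) x.2
  have := hgX ⟨_, h⟩
  rw [hval] at this
  simpa using this

/-- The defining relations of a symplectic basis with radical. -/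
def IsSympBasis {m k : ℕ} (B : LinearMap.BilinForm F V) (b : Basis ((Fin m ⊕ Fin m) ⊕ Fin k) F V) : Prop :=
  (∀ i j : Fin m, B (b (Sum.inl (Sum.inl i))) (b (Sum.inl (Sum.inr j))) = if i = j then 1 else 0) ∧
  (∀ i j : Fin m, B (b (Sum.inl (Sum.inl i))) (b (Sum.inl (Sum.inl j))) = 0) ∧
  (∀ i j : Fin m, B (b (Sum.inl (Sum.inr i))) (b (Sum.inl (Sum.inr j))) = 0) ∧
  (∀ (j : Fin k) (v : V), B (b (Sum.inr j)) v = 0)

/-- Symplectic bases with radical exist. -/
theorem exists_sympBasis : ∀ (n : ℕ) {V : Type*} [AddCommGroup V] [Module F V] [FiniteDimensional F V],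
    finrank F V = n → ∀ B : LinearMap.BilinForm F V, B.IsAlt →
      ∃ (m k : ℕ) (b : Basis ((Fin m ⊕ Fin m) ⊕ Fin k) F V), IsSympBasis B b := by
  intro n
  induction n using Nat.strong_induction_on with
  | _ n ih =>
  intro V _ _ _ hn B hA
  classical
  by_cases h0 : ∀ x y : V, B x y = 0
  · refine ⟨0, finrank F V, (Module.finBasis F V).reindex (Equiv.emptySum (Fin 0 ⊕ Fin 0) (Fin (finrank F V))).symm,
      fun i => i.elim0, fun i => i.elim0, fun i => i.elim0, fun j v => h0 _ _⟩
  push Not at h0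
  obtain ⟨e, y, hey⟩ := h0
  set f := (B e y)⁻¹ • y with hf
  have hef : B e f = 1 := by rw [hf, map_smul, smul_eq_mul, inv_mul_cancel₀ hey]
  let W : Submodule F V := LinearMap.ker (B e) ⊓ LinearMap.ker (B f)
  have hmem : ∀ w ∈ W, B e w = 0 ∧ B f w = 0 := fun w hw => hw
  let L : W × (F × F) →ₗ[F] V :=
    W.subtype.coprod ((LinearMap.toSpanSingleton F V e).coprod (LinearMap.toSpanSingleton F V f))
  have hL : ∀ w a b, L (w, (a, b)) = (w : V) + (a • e + b • f) := fun w a b => rfl
  have hLb : Function.Bijective L := by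
    constructor
    · rw [injective_iff_map_eq_zero]
      rintro ⟨w, a, b⟩ h
      rw [hL] at h
      obtain ⟨h1, h2⟩ := hmem w w.2
      have he' := congrArg (B e) h
      have hf' := congrArg (B f) h
      simp [h1, hef, hA e] at he'
      simp [h2, swap hA e f, hef, hA f] at hf'
      subst he'; subst hf'
      ext <;> simpa using h
    · intro x
      refine ⟨(⟨x - ((-B f x) • e + B e x • f), ?_, ?_⟩, (-B f x, B e x)), by rw [hL]; simp⟩
      · change B e _ = 0
        simp [hef, hA e]
      · change B f _ = 0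
        simp [hA f, swap hA e f, hef]
  let E : (W × (F × F)) ≃ₗ[F] V := LinearEquiv.ofBijective L hLb
  have hlt : finrank F W < n := by
    have := E.finrank_eq
    rw [Module.finrank_prod, Module.finrank_prod, Module.finrank_self] at this
    omega
  obtain ⟨m, k, b, hb1, hb2, hb3, hb4⟩ := ih _ hlt rfl (B.compl₁₂ W.subtype W.subtype) (fun w => hA _)
  let r : ((Fin m ⊕ Fin m) ⊕ Fin k) ⊕ (Unit ⊕ Unit) ≃ (Fin (m + 1) ⊕ Fin (m + 1)) ⊕ Fin k :=
    { toFun := fun
        | Sum.inl (Sum.inl (Sum.inl i)) => Sum.inl (Sum.inl i.succ)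
        | Sum.inl (Sum.inl (Sum.inr i)) => Sum.inl (Sum.inr i.succ)
        | Sum.inl (Sum.inr i) => Sum.inr i
        | Sum.inr (Sum.inl _) => Sum.inl (Sum.inl 0)
        | Sum.inr (Sum.inr _) => Sum.inl (Sum.inr 0)
      invFun := fun
        | Sum.inl (Sum.inl i) => Fin.cases (Sum.inr (Sum.inl ())) (fun i => Sum.inl (Sum.inl (Sum.inl i))) i
        | Sum.inl (Sum.inr i) => Fin.cases (Sum.inr (Sum.inr ())) (fun i => Sum.inl (Sum.inl (Sum.inr i))) i
        | Sum.inr i => Sum.inl (Sum.inr i)
      left_inv := by rintro (((i | i) | i) | (i | i)) <;> simp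
      right_inv := by
        rintro ((i | i) | i)
        · induction i using Fin.cases <;> simp
        · induction i using Fin.cases <;> simp
        · simp }
  let b' : Basis ((Fin (m + 1) ⊕ Fin (m + 1)) ⊕ Fin k) F V :=
    ((b.prod ((Basis.singleton Unit F).prod (Basis.singleton Unit F))).map E).reindex r
  have v1 : ∀ i, b' (Sum.inl (Sum.inl (Fin.succ i))) = b (Sum.inl (Sum.inl i)) := fun i => by
    simp [b', r, E, hL]
  have v2 : ∀ i, b' (Sum.inl (Sum.inr (Fin.succ i))) = b (Sum.inl (Sum.inr i)) := fun i => by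
    simp [b', r, E, hL]
  have v3 : ∀ j, b' (Sum.inr j) = b (Sum.inr j) := fun j => by
    simp [b', r, E, hL]
  have v4 : b' (Sum.inl (Sum.inl 0)) = e := by simp [b', r, E, hL]
  have v5 : b' (Sum.inl (Sum.inr 0)) = f := by simp [b', r, E, hL]
  have hfe : B f e = -1 := by rw [swap hA e f, hef]
  refine ⟨m + 1, k, b', ?_, ?_, ?_, ?_⟩
  · intro i j
    induction i using Fin.cases <;> induction j using Fin.cases
    · rw [v4, v5, hef, if_pos rfl]
    · rw [v4, v2, (hmem _ (b _).2).1, if_neg (Fin.succ_ne_zero _).symm]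
    · rw [v1, v5, swap hA f, (hmem _ (b _).2).2, neg_zero, if_neg (Fin.succ_ne_zero _)]
    · rw [v1, v2]
      simpa [Fin.succ_inj] using hb1 _ _
  · intro i j
    induction i using Fin.cases <;> induction j using Fin.cases
    · rw [v4, hA e]
    · rw [v4, v1, (hmem _ (b _).2).1]
    · rw [v1, v4, swap hA e, (hmem _ (b _).2).1, neg_zero]
    · rw [v1, v1]; exact hb2 _ _
  · intro i j
    induction i using Fin.cases <;> induction j using Fin.cases
    · rw [v5, hA f]
    · rw [v5, v2, (hmem _ (b _).2).2]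
    · rw [v2, v5, swap hA f, (hmem _ (b _).2).2, neg_zero]
    · rw [v2, v2]; exact hb3 _ _
  · intro j x
    obtain ⟨⟨w, a, c⟩, rfl⟩ := hLb.2 x
    obtain ⟨h1, h2⟩ := hmem _ (b (Sum.inr j)).2
    have h3 : B (b (Sum.inr j) : V) w = 0 := hb4 j w
    rw [v3, hL, map_add, map_add, map_smul, map_smul, h3, swap hA e, swap hA f, h1, h2]
    simp

end CfsgLib.Classical.Alt
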