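import Mathlib
import Cfsg.Agent.Lib.Classical.CountBase
import Cfsg.Agent.Lib.Sp.Basic
import Cfsg.Agent.Lib.Perm.Trans.SympGen

/-!
# The order of the symplectic group
-/

set_option autoImplicit false

namespace CfsgLib.Classical

open scoped Matrix
open Matrix CfsgLib.Sp

variable {F : Type*} [Field F]

/-- the symplectic group inside `GL` -/
theorem card_symplectic_eq (m : ℕ) :
    Nat.card (Matrix.symplecticGroup (Fin m) F) =
      Nat.card (Cfsg.preserving (Units.coeHom (Matrix (Fin m ⊕ Fin m) (Fin m ⊕ Fin m) F)) (Cfsg.sympForm m F)) := by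
  refine Nat.card_eq_of_bijective (fun A => ⟨CfsgLib.Perm.Trans.Symp.toGL A, fun u v => sf_sp A u v⟩)
    ⟨fun A B h => CfsgLib.Perm.Trans.Symp.toGL_injective (congrArg Subtype.val h), fun g => ?_⟩
  exact ⟨⟨g.1.1, mem_sp_iff.2 g.2⟩, Subtype.ext (Units.ext rfl)⟩

theorem card_hyp_pairs [Fintype F] (m : ℕ) :
    Nat.card {p : (Fin (m + 1) ⊕ Fin (m + 1) → F) × (Fin (m + 1) ⊕ Fin (m + 1) → F) // sf p.1 p.2 = 1} =
      (Fintype.card F ^ (2 * (m + 1)) - 1) * Fintype.card F ^ (2 * m + 1) := by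
  classical
  let W := (Fin (m + 1) ⊕ Fin (m + 1) → F)
  have hfib : ∀ u : W, Nat.card {v : W // sf u v = 1} =
      if u = 0 then 0 else Fintype.card F ^ (2 * m + 1) := by
    intro u
    split_ifs with h
    · subst h
      haveI : IsEmpty {v : W // sf (0 : W) v = 1} := ⟨fun v => zero_ne_one (α := F) (by
        have := v.2
        rwa [show sf (0 : W) v.1 = 0 from zero_dotProduct _] at this)⟩
      exact Nat.card_of_isEmpty
    · let L : W →ₗ[F] F :=
        { toFun := fun v => sf u v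
          map_add' := sf_add_right u
          map_smul' := fun c v => sf_smul_right c u v }
      obtain ⟨v, hv⟩ := exists_sf_eq_one h
      have hv1 : L (-v) = 1 := by
        show sf u (-v) = 1
        rw [sf_swap, show -v = (-1 : F) • v from (neg_one_smul F v).symm, sf_smul_left, hv]
        ring
      let eq1 : {w : W // sf u w = 1} ≃ LinearMap.ker L :=
        { toFun := fun w => ⟨w.1 - -v, by rw [LinearMap.mem_ker, map_sub, hv1, show L w.1 = 1 from w.2, sub_self]⟩
          invFun := fun w => ⟨w.1 + -v, by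
            show L (w.1 + -v) = 1
            rw [map_add, hv1, LinearMap.mem_ker.1 w.2, zero_add]⟩
          left_inv := fun w => Subtype.ext (sub_add_cancel _ _)
          right_inv := fun w => Subtype.ext (add_sub_cancel_right _ _) }
      have hr : LinearMap.range L = ⊤ := by
        refine LinearMap.range_eq_top.2 fun c => ⟨c • -v, ?_⟩
        rw [map_smul, hv1, smul_eq_mul, mul_one]
      have hdim := L.finrank_range_add_finrank_ker
      rw [hr, finrank_top, Module.finrank_self, Module.finrank_fintype_fun_eq_card, Fintype.card_sum,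
        Fintype.card_fin] at hdim
      rw [Nat.card_congr eq1, Module.natCard_eq_pow_finrank (K := F), Nat.card_eq_fintype_card]
      congr 1
      omega
  rw [Nat.card_congr (Equiv.subtypeProdEquivSigmaSubtype fun u v : W => sf u v = 1), Nat.card_sigma,
    Finset.sum_congr rfl fun u _ => hfib u, Finset.sum_ite, Finset.sum_const_zero, zero_add, Finset.sum_const,
    smul_eq_mul, Finset.filter_ne', Finset.card_erase_of_mem (Finset.mem_univ _), Finset.card_univ,
    Fintype.card_fun, Fintype.card_sum, Fintype.card_fin, ← two_mul (m + 1)]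

theorem card_symplectic_succ [Fintype F] (m : ℕ) :
    Nat.card (Matrix.symplecticGroup (Fin (m + 1)) F) =
      (Fintype.card F ^ (2 * (m + 1)) - 1) * Fintype.card F ^ (2 * m + 1) *
        Nat.card (Matrix.symplecticGroup (Fin m) F) := by
  classical
  set G := Cfsg.preserving (Units.coeHom (Matrix (Fin (m + 1) ⊕ Fin (m + 1)) (Fin (m + 1) ⊕ Fin (m + 1)) F))
    (Cfsg.sympForm (m + 1) F)
  let e₀ : Fin (m + 1) ⊕ Fin (m + 1) → F := Pi.single (.inl 0) 1
  let f₀ : Fin (m + 1) ⊕ Fin (m + 1) → F := Pi.single (.inr 0) 1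
  have h0 : sf e₀ f₀ = -1 := by
    rw [show f₀ = Pi.single (.inr 0) 1 from rfl, sf_single_inr]
    simp [e₀]
  have h1 : sf f₀ e₀ = 1 := by rw [sf_swap, h0, neg_neg]
  let K : Subgroup G :=
    { carrier := {g | (g : GL (Fin (m + 1) ⊕ Fin (m + 1)) F).1 *ᵥ f₀ = f₀ ∧
        (g : GL (Fin (m + 1) ⊕ Fin (m + 1)) F).1 *ᵥ e₀ = e₀}
      mul_mem' := fun {a b} ha hb => by
        simp only [Set.mem_setOf_eq, Subgroup.coe_mul, Units.val_mul, ← Matrix.mulVec_mulVec] at *
        exact ⟨by rw [hb.1, ha.1], by rw [hb.2, ha.2]⟩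
      one_mem' := by simp
      inv_mem' := fun {a} ha => by
        simp only [Set.mem_setOf_eq, InvMemClass.coe_inv] at *
        exact ⟨by conv_lhs => rw [← ha.1]; rw [gl_inv_mulVec], by conv_lhs => rw [← ha.2]; rw [gl_inv_mulVec]⟩ }
  let P := {p : (Fin (m + 1) ⊕ Fin (m + 1) → F) × (Fin (m + 1) ⊕ Fin (m + 1) → F) // sf p.1 p.2 = 1}
  let π : G → P := fun g => ⟨((g : GL (Fin (m + 1) ⊕ Fin (m + 1)) F).1 *ᵥ f₀,
    (g : GL (Fin (m + 1) ⊕ Fin (m + 1)) F).1 *ᵥ e₀), (g.2 f₀ e₀).trans h1⟩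
  have hπ : Function.Surjective π := fun p => by
    obtain ⟨A, -, hA1, hA2⟩ := CfsgLib.Perm.Trans.Symp.exists_pair_move (F := F) h1 p.2
    exact ⟨⟨CfsgLib.Perm.Trans.Symp.toGL A, fun u v => sf_sp A u v⟩, Subtype.ext (Prod.ext hA1 hA2)⟩
  have hfib : ∀ a b, π a = π b ↔ a⁻¹ * b ∈ K := fun a b => by
    refine Subtype.ext_iff.trans (Prod.ext_iff.trans ?_)
    show _ ↔ ((a⁻¹ * b : G) : GL (Fin (m + 1) ⊕ Fin (m + 1)) F).1 *ᵥ f₀ = f₀ ∧ _ *ᵥ e₀ = e₀
    simp only [Subgroup.coe_mul, InvMemClass.coe_inv, Units.val_mul, ← Matrix.mulVec_mulVec]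
    constructor
    · rintro ⟨x, y⟩
      replace x : a.1.1 *ᵥ f₀ = b.1.1 *ᵥ f₀ := x
      replace y : a.1.1 *ᵥ e₀ = b.1.1 *ᵥ e₀ := y
      rw [← x, ← y, gl_inv_mulVec, gl_inv_mulVec]
      exact ⟨rfl, rfl⟩
    · rintro ⟨x, y⟩
      constructor
      · show a.1.1 *ᵥ f₀ = b.1.1 *ᵥ f₀
        conv_lhs => rw [← x]
        rw [Matrix.mulVec_mulVec _ a.1.1, Units.mul_inv, Matrix.one_mulVec]
      · show a.1.1 *ᵥ e₀ = b.1.1 *ᵥ e₀
        conv_lhs => rw [← y]
        rw [Matrix.mulVec_mulVec _ a.1.1, Units.mul_inv, Matrix.one_mulVec]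
  rw [card_symplectic_eq, card_eq_card_orbit_mul π K hπ hfib, card_hyp_pairs, card_symplectic_eq]
  congr 1
  let e : (Fin (m + 1) ⊕ Fin (m + 1) → F) ≃ₗ[F] (F × F) × (Fin m ⊕ Fin m → F) :=
    { toFun := fun x => ((x (.inl 0), x (.inr 0)), x ∘ Sum.map Fin.succ Fin.succ)
      map_add' := fun x y => rfl
      map_smul' := fun c x => rfl
      invFun := fun a => Sum.elim (Fin.cons a.1.1 (a.2 ∘ Sum.inl)) (Fin.cons a.1.2 (a.2 ∘ Sum.inr))
      left_inv := fun x => by
        funext i
        rcases i with i | i <;> refine Fin.cases ?_ (fun j => ?_) i <;> simp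
      right_inv := fun a => by
        refine Prod.ext (Prod.ext ?_ ?_) (funext fun i => ?_)
        · simp
        · simp
        · rcases i with i | i <;> simp }
  refine card_fixer e _ _ (fun a b => a.2 * b.1 - a.1 * b.2) (fun u v => ?_) K (fun g => ?_) (fun g hg x => ?_)
  · show sf u v = _ + sf _ _
    rw [sf_eq, sf_eq, Fin.sum_univ_succ]
    rfl
  · constructor
    · intro hg x hx
      have hxe : x = x (.inr 0) • f₀ + x (.inl 0) • e₀ := by
        funext i
        rcases i with i | i <;> refine Fin.cases ?_ (fun j => ?_) i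
        · simp [e₀, f₀]
        · simpa [e₀, f₀, e, Pi.single_apply, Fin.succ_ne_zero] using congrFun hx (.inl j)
        · simp [e₀, f₀]
        · simpa [e₀, f₀, e, Pi.single_apply, Fin.succ_ne_zero] using congrFun hx (.inr j)
      rw [hxe, Matrix.mulVec_add, Matrix.mulVec_smul, Matrix.mulVec_smul, hg.1, hg.2]
    · intro h
      exact ⟨h f₀ (funext fun i => by rcases i with i | i <;> simp [e, f₀, Pi.single_apply, Fin.succ_ne_zero]),
        h e₀ (funext fun i => by rcases i with i | i <;> simp [e, e₀, Pi.single_apply, Fin.succ_ne_zero])⟩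
  · have a := g.2 x f₀
    have b := g.2 x e₀
    rw [show (Units.coeHom (Matrix _ _ F)) (g : GL (Fin (m + 1) ⊕ Fin (m + 1)) F) *ᵥ f₀ = f₀ from hg.1] at a
    rw [show (Units.coeHom (Matrix _ _ F)) (g : GL (Fin (m + 1) ⊕ Fin (m + 1)) F) *ᵥ e₀ = e₀ from hg.2] at b
    change sf _ f₀ = sf x f₀ at a
    change sf _ e₀ = sf x e₀ at b
    simp only [f₀, e₀, sf_single_inl, sf_single_inr, neg_inj] at a b
    exact Prod.ext a b

theorem card_symplectic [Fintype F] (m : ℕ) :
    Nat.card (Matrix.symplecticGroup (Fin m) F) = Fintype.card F ^ (m ^ 2) *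
      ∏ i ∈ Finset.range m, (Fintype.card F ^ (2 * (i + 1)) - 1) := by
  induction m with
  | zero =>
    rw [Finset.prod_range_zero, mul_one, pow_two, mul_zero, pow_zero]
    exact Nat.card_eq_one_iff_unique.2 ⟨⟨fun a b => Subtype.ext (Matrix.ext fun i => by
      rcases i with i | i <;> exact i.elim0)⟩, ⟨1⟩⟩
  | succ m ih =>
    rw [card_symplectic_succ, ih, Finset.prod_range_succ, show (m + 1) ^ 2 = m ^ 2 + (2 * m + 1) by ring, pow_add]
    ring

end CfsgLib.Classical
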