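import Mathlib

/-!
# Series identities behind the count of unipotent elements of symplectic groups
-/

set_option autoImplicit false
set_option linter.all false

namespace CfsgLib.Classical.UniSeries

open PowerSeries

/-- `∏_{i<k} (q^n - q^i)` over the rationals -/
def tup (q : ℚ) (n k : ℕ) : ℚ := ∏ i ∈ Finset.range k, (q ^ n - q ^ i)

/-- Moebius weight of tuples -/
def wgt (q : ℚ) (k : ℕ) : ℚ := (-1) ^ k * q ^ k.choose 2 / tup q k k

variable {q : ℚ}

theorem pow_sub_pow_ne (hq : 1 < q) {n i : ℕ} (h : i < n) : q ^ n - q ^ i ≠ 0 :=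
  (sub_pos.2 (pow_lt_pow_right₀ hq h)).ne'

theorem tup_self_ne (hq : 1 < q) (k : ℕ) : tup q k k ≠ 0 :=
  Finset.prod_ne_zero_iff.2 fun i hi => pow_sub_pow_ne hq (Finset.mem_range.1 hi)

theorem tup_succ (n k : ℕ) : tup q (n + 1) (k + 1) = (q ^ (n + 1) - 1) * q ^ k * tup q n k := by
  rw [tup, tup, Finset.prod_range_succ', pow_zero]
  have : ∀ i : ℕ, q ^ (n + 1) - q ^ (i + 1) = q * (q ^ n - q ^ i) := fun i => by ring
  simp only [this, Finset.prod_mul_distrib, Finset.prod_const, Finset.card_range]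
  ring

theorem tup_eq_zero {n k : ℕ} (h : n < k) : tup q n k = 0 :=
  Finset.prod_eq_zero (Finset.mem_range.2 h) (by ring)

/-- partial alternating sums telescope -/
theorem partial_sum (hq : 1 < q) (n j : ℕ) :
    ∑ k ∈ Finset.range (j + 1), wgt q k * tup q (n + 1) k =
      (-1) ^ j * q ^ (j + 1).choose 2 * tup q n j / tup q j j := by
  induction j with
  | zero => simp [wgt, tup]
  | succ j ih =>
    rw [Finset.sum_range_succ, ih, wgt]
    have h1 := tup_self_ne hq j
    have h2 : q ^ (j + 1) - 1 ≠ 0 := by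
      have := pow_sub_pow_ne hq (Nat.succ_pos j)
      simpa using this
    have hq0 : q ≠ 0 := by linarith
    have hc : ((j + 1) + 1).choose 2 = (j + 1).choose 2 + (j + 1) := by
      rw [Nat.choose_succ_succ', Nat.choose_one_right, add_comm]
    rw [hc, tup_succ (q := q) n j, tup_succ (q := q) j j, show tup q n (j + 1) = tup q n j * (q ^ n - q ^ j) from Finset.prod_range_succ _ _]
    field_simp
    ring

theorem sum_wgt (hq : 1 < q) (n N : ℕ) (hN : n ≤ N) :
    ∑ k ∈ Finset.range (N + 1), wgt q k * tup q n k = if n = 0 then 1 else 0 := by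
  rcases n with _ | n
  · rw [if_pos rfl, Finset.sum_eq_single 0 (fun k _ hk => by rw [tup_eq_zero (Nat.pos_of_ne_zero hk), mul_zero]) (by simp)]
    simp [wgt, tup]
  · rw [if_neg (Nat.succ_ne_zero n), partial_sum hq, tup_eq_zero (by omega), mul_zero, zero_div]

/-- `∏_{i=1}^k (q^i - 1)` -/
def qfac (q : ℚ) (k : ℕ) : ℚ := ∏ i ∈ Finset.range k, (q ^ (i + 1) - 1)

theorem qfac_ne (hq : 1 < q) (k : ℕ) : qfac q k ≠ 0 :=
  Finset.prod_ne_zero_iff.2 fun i _ => (sub_pos.2 (one_lt_pow₀ hq (Nat.succ_ne_zero i))).ne'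

theorem tup_self (k : ℕ) : tup q k k = q ^ k.choose 2 * qfac q k := by
  induction k with
  | zero => simp [tup, qfac]
  | succ k ih =>
    rw [tup_succ, ih, qfac, qfac, Finset.prod_range_succ, Nat.choose_succ_succ', Nat.choose_one_right, pow_add]
    ring

/-- order formula of the symplectic group -/
def spOrd (q : ℚ) (k : ℕ) : ℚ := q ^ (k ^ 2) * qfac (q ^ 2) k

theorem spOrd_ne (hq : 1 < q) (k : ℕ) : spOrd q k ≠ 0 :=
  mul_ne_zero (pow_ne_zero _ (by linarith)) (qfac_ne (one_lt_pow₀ hq two_ne_zero) k)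

/-- the radical series -/
noncomputable def serA (q : ℚ) : PowerSeries ℚ := PowerSeries.mk fun a => (-1) ^ a * q ^ a.choose 2 / tup q a a

/-- the symplectic series -/
noncomputable def serB (q : ℚ) : PowerSeries ℚ := PowerSeries.mk fun b => q ^ (2 * b).choose 2 / spOrd q b

/-- the unipotent series -/
noncomputable def serX (q : ℚ) : PowerSeries ℚ := PowerSeries.mk fun b => q ^ (2 * b ^ 2) / spOrd q b

theorem serA_eq (hq : 1 < q) : rescale q (serA q) = (1 - X) * serA q := by
  ext n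
  rw [sub_mul, one_mul, map_sub, coeff_rescale]
  rcases n with _ | n
  · simp [serA, tup]
  · rw [coeff_succ_X_mul]
    simp only [serA, coeff_mk, tup_self]
    have h1 := qfac_ne hq n
    have h2 : q ^ (n + 1) - 1 ≠ 0 := (sub_pos.2 (one_lt_pow₀ hq (Nat.succ_ne_zero n))).ne'
    have hq0 : q ≠ 0 := by linarith
    rw [show qfac q (n + 1) = qfac q n * (q ^ (n + 1) - 1) from Finset.prod_range_succ _ _]
    field_simp
    ring

theorem serB_eq (hq : 1 < q) : (1 - X) * rescale (q ^ 2) (serB q) = serB q := by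
  ext n
  rw [sub_mul, one_mul, map_sub, coeff_rescale]
  rcases n with _ | n
  · simp [serB, spOrd, qfac]
  · rw [coeff_succ_X_mul, coeff_rescale]
    simp only [serB, coeff_mk, spOrd]
    have hQ : (1 : ℚ) < q ^ 2 := one_lt_pow₀ hq two_ne_zero
    have h1 := qfac_ne hQ n
    have h2 : (q ^ 2) ^ (n + 1) - 1 ≠ 0 := (sub_pos.2 (one_lt_pow₀ hQ (Nat.succ_ne_zero n))).ne'
    have hq0 : q ≠ 0 := by linarith
    rw [show qfac (q ^ 2) (n + 1) = qfac (q ^ 2) n * ((q ^ 2) ^ (n + 1) - 1) from Finset.prod_range_succ _ _]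
    have hc : (2 * (n + 1)).choose 2 = (2 * n).choose 2 + (4 * n + 1) := by
      rw [show 2 * (n + 1) = 2 * n + 1 + 1 by ring, Nat.choose_succ_succ', Nat.choose_one_right, Nat.choose_succ_succ',
        Nat.choose_one_right]
      ring
    rw [hc, show (n + 1) ^ 2 = n ^ 2 + (2 * n + 1) by ring]
    field_simp
    ring

theorem serX_eq (hq : 1 < q) : (1 - C q * X) * rescale (q ^ 2) (serX q) = serX q := by
  ext n
  rw [sub_mul, one_mul, map_sub, coeff_rescale, mul_assoc, coeff_C_mul]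
  rcases n with _ | n
  · simp [serX, spOrd, qfac]
  · rw [coeff_succ_X_mul, coeff_rescale]
    simp only [serX, coeff_mk, spOrd]
    have hQ : (1 : ℚ) < q ^ 2 := one_lt_pow₀ hq two_ne_zero
    have h1 := qfac_ne hQ n
    have h2 : (q ^ 2) ^ (n + 1) - 1 ≠ 0 := (sub_pos.2 (one_lt_pow₀ hQ (Nat.succ_ne_zero n))).ne'
    have hq0 : q ≠ 0 := by linarith
    rw [show qfac (q ^ 2) (n + 1) = qfac (q ^ 2) n * ((q ^ 2) ^ (n + 1) - 1) from Finset.prod_range_succ _ _]
    rw [show 2 * (n + 1) ^ 2 = 2 * n ^ 2 + (4 * n + 2) by ring, show (n + 1) ^ 2 = n ^ 2 + (2 * n + 1) by ring]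
    field_simp
    ring

theorem serX_mul_eq_one (hq : 1 < q) : serX q * (serA q * serB q) = 1 := by
  obtain ⟨P, hP⟩ : ∃ P, P = serX q * (serA q * serB q) := ⟨_, rfl⟩
  rw [← hP]
  have hA2 : rescale (q ^ 2) (serA q) = (1 - C q * X) * (1 - X) * serA q := by
    rw [sq, ← rescale_rescale, serA_eq hq, map_mul, serA_eq hq, map_sub, map_one, rescale_X, mul_assoc]
  have key : (1 - C q * X) * (1 - X) * rescale (q ^ 2) P = (1 - C q * X) * (1 - X) * P := by
    rw [hP, map_mul, map_mul, hA2]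
    calc (1 - C q * X) * (1 - X) * (rescale (q ^ 2) (serX q) * ((1 - C q * X) * (1 - X) * serA q * rescale (q ^ 2) (serB q)))
        = (1 - C q * X) * (1 - X) * (((1 - C q * X) * rescale (q ^ 2) (serX q)) * (serA q * ((1 - X) * rescale (q ^ 2) (serB q)))) := by ring
      _ = _ := by rw [serX_eq hq, serB_eq hq]
  have hne : ((1 : PowerSeries ℚ) - C q * X) * (1 - X) ≠ 0 := by
    intro h
    have := congrArg (coeff 0) h
    simp at this
  have h' := mul_left_cancel₀ hne key
  ext n
  have hn := congrArg (coeff n) h'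
  rw [coeff_rescale] at hn
  rcases n with _ | n
  · rw [hP, coeff_zero_eq_constantCoeff_apply, map_mul, map_mul, ← coeff_zero_eq_constantCoeff_apply,
      ← coeff_zero_eq_constantCoeff_apply, ← coeff_zero_eq_constantCoeff_apply]
    simp [serX, serA, serB, spOrd, qfac, tup]
  · have h2 : (1 : ℚ) < (q ^ 2) ^ (n + 1) := one_lt_pow₀ (one_lt_pow₀ hq two_ne_zero) (Nat.succ_ne_zero n)
    rw [coeff_one, if_neg (Nat.succ_ne_zero n)]
    by_contra hc
    exact (ne_of_gt h2) (mul_left_injective₀ hc (by simpa using hn))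

/-- proportion of fixed point free elements -/
def derProp (q : ℚ) (n : ℕ) : ℚ :=
  ∑ j ∈ Finset.range (n + 1), ∑ p ∈ Finset.HasAntidiagonal.antidiagonal j,
    (-1) ^ p.1 * q ^ p.1.choose 2 / tup q p.1 p.1 * (q ^ (2 * p.2).choose 2 / spOrd q p.2)

theorem convolution (hq : 1 < q) (m : ℕ) :
    ∑ k ∈ Finset.range (m + 1), q ^ (2 * k ^ 2) / spOrd q k * derProp q (m - k) = 1 := by
  obtain ⟨S, hS⟩ : ∃ S : PowerSeries ℚ, S = PowerSeries.mk fun _ => 1 := ⟨_, rfl⟩
  have hy : ∀ n, coeff n (S * (serA q * serB q)) = derProp q n := by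
    intro n
    rw [mul_comm, coeff_mul, Finset.Nat.sum_antidiagonal_eq_sum_range_succ (fun i j => coeff i (serA q * serB q) * coeff j S), derProp]
    refine Finset.sum_congr rfl fun j _ => ?_
    rw [hS, coeff_mk, mul_one, coeff_mul]
    simp [serA, serB]
  have h := congrArg (fun f => coeff m (S * f)) (serX_mul_eq_one hq)
  simp only [mul_one] at h
  rw [mul_left_comm, coeff_mul, Finset.Nat.sum_antidiagonal_eq_sum_range_succ (fun i j => coeff i (serX q) * coeff j (S * (serA q * serB q)))] at h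
  simp only [hy] at h
  rw [hS, coeff_mk] at h
  rw [← h]
  exact Finset.sum_congr rfl fun k _ => by rw [serX, coeff_mk]

end CfsgLib.Classical.UniSeries
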