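import Mathlib
import Cfsg.Agent.Lib.Classical.AltForm
import Cfsg.Agent.Lib.Classical.SpOrder
import Cfsg.Agent.Lib.Classical.UnipotentSeries

/-!
# Congruence classes of alternating matrices and their sizes
-/

set_option autoImplicit false
set_option linter.all false

namespace CfsgLib.Classical.AltCongr

open Matrix Module

variable {F : Type*} [Field F]

/-- alternating matrix -/
def IsAltM {κ : Type} (A : Matrix κ κ F) : Prop := (∀ i, A i i = 0) ∧ Aᵀ = -A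

/-- standard alternating matrix with `b` hyperbolic pairs and radical of size `a` -/
def stdM (b a : ℕ) (F : Type*) [Field F] : Matrix ((Fin b ⊕ Fin b) ⊕ Fin a) ((Fin b ⊕ Fin b) ⊕ Fin a) F :=
  Matrix.fromBlocks (-Matrix.J (Fin b) F) 0 0 0

theorem stdM_apply (b a : ℕ) (i j : (Fin b ⊕ Fin b) ⊕ Fin a) :
    stdM b a F i j = match i, j with
      | .inl (.inl x), .inl (.inr y) => if x = y then 1 else 0
      | .inl (.inr x), .inl (.inl y) => if x = y then -1 else 0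
      | _, _ => 0 := by
  rcases i with (x | x) | x <;> rcases j with (y | y) | y <;>
    simp [stdM, Matrix.J, Matrix.one_apply, neg_ite]

theorem card_idx {b k : ℕ} (hb : 2 * b ≤ k) : Fintype.card ((Fin b ⊕ Fin b) ⊕ Fin (k - 2 * b)) = k := by
  simp [Fintype.card_sum]; omega

/-- reindexing to `Fin k` -/
noncomputable def idxEquiv {b k : ℕ} (hb : 2 * b ≤ k) : (Fin b ⊕ Fin b) ⊕ Fin (k - 2 * b) ≃ Fin k :=
  (Fintype.equivFinOfCardEq (card_idx hb))

/-- standard matrix on `Fin k` -/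
noncomputable def stdK {b k : ℕ} (hb : 2 * b ≤ k) (F : Type*) [Field F] : Matrix (Fin k) (Fin k) F :=
  Matrix.reindex (idxEquiv hb) (idxEquiv hb) (stdM b (k - 2 * b) F)

theorem isAlt_stdM (b a : ℕ) : IsAltM (stdM b a F) := by
  refine ⟨fun i => ?_, Matrix.ext fun i j => ?_⟩
  · rw [stdM_apply]; rcases i with (x | x) | x <;> rfl
  · rw [Matrix.transpose_apply, Matrix.neg_apply, stdM_apply, stdM_apply]
    rcases i with (x | x) | x <;> rcases j with (y | y) | y <;> simp [eq_comm, neg_ite]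

theorem toBilin_isAlt {κ : Type} [Fintype κ] [DecidableEq κ] {A : Matrix κ κ F} (h : IsAltM A) :
    (Matrix.toBilin' A).IsAlt := by
  intro x
  rw [Matrix.toBilin'_apply']
  have hsk : ∀ i j, A j i = -A i j := fun i j => congrFun (congrFun h.2 i) j
  have hs : ∀ s : Finset κ, ∑ i ∈ s, ∑ j ∈ s, x i * (A i j * x j) = 0 := by
    intro s
    induction s using Finset.induction_on with
    | empty => simp
    | insert a s ha ih =>
      rw [Finset.sum_insert ha, Finset.sum_insert ha, h.1, zero_mul, mul_zero, zero_add]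
      simp only [Finset.sum_insert ha, Finset.sum_add_distrib]
      rw [ih, add_zero, ← Finset.sum_add_distrib]
      exact Finset.sum_eq_zero fun j _ => by rw [hsk a j]; ring
  simpa [dotProduct, Matrix.mulVec, Finset.mul_sum] using hs Finset.univ

theorem exists_congr {k : ℕ} {A : Matrix (Fin k) (Fin k) F} (h : IsAltM A) :
    ∃ b, ∃ hb : 2 * b ≤ k, ∃ P : GL (Fin k) F, A = (P : Matrix (Fin k) (Fin k) F)ᵀ * stdK hb F * (P : Matrix (Fin k) (Fin k) F) := by
  obtain ⟨b, a, β, h1, h2, h3, h4⟩ := CfsgLib.Classical.Alt.exists_sympBasis k (V := Fin k → F) (finrank_fin_fun F)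
    (Matrix.toBilin' A) (toBilin_isAlt h)
  have hdim : 2 * b + a = k := by
    have := Module.finrank_eq_card_basis β
    rw [finrank_fin_fun] at this
    simp [Fintype.card_sum] at this
    omega
  obtain rfl : a = k - 2 * b := by omega
  have hb : 2 * b ≤ k := by omega
  let β' := β.reindex (idxEquiv hb)
  obtain ⟨Q, hQ⟩ : ∃ Q, Q = (Pi.basisFun F (Fin k)).toMatrix β' := ⟨_, rfl⟩
  have hAQ : Qᵀ * A * Q = stdK hb F := by
    ext i j
    have hval : (Qᵀ * A * Q) i j = Matrix.toBilin' A (β' i) (β' j) := by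
      rw [Matrix.toBilin'_apply', Matrix.mul_assoc, Matrix.mul_apply]
      simp only [hQ, Matrix.transpose_apply, Basis.toMatrix_apply, Pi.basisFun_repr, dotProduct]
      refine Finset.sum_congr rfl fun x _ => ?_
      rw [Matrix.mul_apply]
      simp [Matrix.mulVec, dotProduct, Basis.toMatrix_apply]
    rw [hval, stdK, Matrix.reindex_apply, Matrix.submatrix_apply, stdM_apply]
    simp only [β', Basis.reindex_apply]
    have hA := toBilin_isAlt h
    rcases (idxEquiv hb).symm i with (x | x) | x <;> rcases (idxEquiv hb).symm j with (y | y) | y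
    · exact h2 x y
    · exact h1 x y
    · rw [CfsgLib.Classical.Alt.swap hA, h4, neg_zero]
    · rw [CfsgLib.Classical.Alt.swap hA, h1]; simp [eq_comm, neg_ite]
    · exact h3 x y
    · rw [CfsgLib.Classical.Alt.swap hA, h4, neg_zero]
    · exact h4 _ _
    · exact h4 _ _
    · exact h4 _ _
  obtain ⟨R, hR⟩ : ∃ R, R = β'.toMatrix (Pi.basisFun F (Fin k)) := ⟨_, rfl⟩
  have hQR : Q * R = 1 := by rw [hQ, hR, Basis.toMatrix_mul_toMatrix_flip]
  have hRQ : R * Q = 1 := mul_eq_one_comm.1 hQR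
  refine ⟨b, hb, ⟨R, Q, hRQ, hQR⟩, ?_⟩
  show A = Rᵀ * stdK hb F * R
  calc A = (Q * R)ᵀ * A * (Q * R) := by rw [hQR]; simp
    _ = Rᵀ * (Qᵀ * A * Q) * R := by rw [Matrix.transpose_mul]; simp [Matrix.mul_assoc]
    _ = _ := by rw [hAQ]

theorem rank_congr {k : ℕ} (P : GL (Fin k) F) (M : Matrix (Fin k) (Fin k) F) :
    ((P : Matrix (Fin k) (Fin k) F)ᵀ * M * (P : Matrix (Fin k) (Fin k) F)).rank = M.rank := by
  have h := (Matrix.isUnit_iff_isUnit_det _).1 P.isUnit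
  rw [Matrix.rank_mul_eq_left_of_isUnit_det _ _ h, Matrix.rank_mul_eq_right_of_isUnit_det _ _ (by rwa [Matrix.det_transpose])]

theorem rank_stdM (b a : ℕ) : (stdM b a F).rank = 2 * b := by
  classical
  let e : Matrix ((Fin b ⊕ Fin b) ⊕ Fin a) (Fin b ⊕ Fin b) F := Matrix.fromRows 1 0
  have hJ : IsUnit (-Matrix.J (Fin b) F).det := by
    refine Matrix.isUnit_det_of_left_inverse (B := Matrix.J (Fin b) F) ?_
    rw [Matrix.mul_neg, Matrix.J_squared, neg_neg]
  have h1 : stdM b a F = e * (-Matrix.J (Fin b) F) * eᵀ := by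
    simp [e, stdM, Matrix.fromRows_mul, Matrix.transpose_fromRows, Matrix.fromRows_mul_fromCols]
    ext (i | i) (j | j) <;> simp
  have h2 : eᵀ * e = 1 := by
    simp [e, Matrix.transpose_fromRows, Matrix.fromCols_mul_fromRows]
  apply le_antisymm
  · rw [h1]
    refine (Matrix.rank_mul_le_left _ _).trans ((Matrix.rank_mul_le_right _ _).trans ?_)
    refine (Matrix.rank_le_card_width _).trans ?_
    simp [two_mul]
  · have h3 : (-Matrix.J (Fin b) F) = eᵀ * stdM b a F * e := by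
      rw [h1]
      simp only [← Matrix.mul_assoc]
      rw [h2, Matrix.one_mul, Matrix.mul_assoc, h2, Matrix.mul_one]
    have h4 : (-Matrix.J (Fin b) F).rank ≤ (stdM b a F).rank := by
      rw [h3]
      exact (Matrix.rank_mul_le_left _ _).trans (Matrix.rank_mul_le_right _ _)
    rw [Matrix.rank_of_isUnit _ ((Matrix.isUnit_iff_isUnit_det _).2 hJ)] at h4
    simpa [two_mul] using h4

/-- the congruence class -/
def cls {b k : ℕ} (hb : 2 * b ≤ k) (F : Type*) [Field F] : Set (Matrix (Fin k) (Fin k) F) :=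
  Set.range fun P : GL (Fin k) F => (P : Matrix (Fin k) (Fin k) F)ᵀ * stdK hb F * (P : Matrix (Fin k) (Fin k) F)

theorem rank_of_mem_cls {b k : ℕ} (hb : 2 * b ≤ k) {A : Matrix (Fin k) (Fin k) F} (h : A ∈ cls hb F) :
    A.rank = 2 * b := by
  obtain ⟨P, rfl⟩ := h
  rw [rank_congr, stdK, Matrix.rank_reindex, rank_stdM]

variable [Fintype F]

theorem card_stab (b a : ℕ) :
    Nat.card {P : GL ((Fin b ⊕ Fin b) ⊕ Fin a) F //
      (P : Matrix _ _ F)ᵀ * stdM b a F * (P : Matrix _ _ F) = stdM b a F} =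
      Nat.card (Matrix.symplecticGroup (Fin b) F) * (Fintype.card F ^ (2 * (a * b)) * Nat.card (GL (Fin a) F)) := by
  classical
  obtain ⟨M, hM⟩ : ∃ M, M = -Matrix.J (Fin b) F := ⟨_, rfl⟩
  have hMu : IsUnit M.det := by
    rw [hM]
    refine Matrix.isUnit_det_of_left_inverse (B := Matrix.J (Fin b) F) ?_
    rw [Matrix.mul_neg, Matrix.J_squared, neg_neg]
  have hmem : ∀ X : Matrix (Fin b ⊕ Fin b) (Fin b ⊕ Fin b) F, X ∈ Matrix.symplecticGroup (Fin b) F ↔ Xᵀ * M * X = M := by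
    intro X
    rw [SymplecticGroup.mem_iff', hM, Matrix.mul_neg, Matrix.neg_mul, neg_inj]
  have hstd : stdM b a F = Matrix.fromBlocks M 0 0 0 := by rw [hM, stdM]
  have hiff : ∀ X Y Z W, (Matrix.fromBlocks X Y Z W : Matrix ((Fin b ⊕ Fin b) ⊕ Fin a) _ F)ᵀ * stdM b a F * Matrix.fromBlocks X Y Z W = stdM b a F ↔
      Xᵀ * M * X = M ∧ Xᵀ * M * Y = 0 ∧ Yᵀ * M * X = 0 ∧ Yᵀ * M * Y = 0 := by
    intro X Y Z W
    rw [hstd, Matrix.fromBlocks_transpose, Matrix.fromBlocks_multiply, Matrix.fromBlocks_multiply, Matrix.fromBlocks_inj]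
    simp
  have hblk : ∀ P : {P : GL ((Fin b ⊕ Fin b) ⊕ Fin a) F // (P : Matrix _ _ F)ᵀ * stdM b a F * (P : Matrix _ _ F) = stdM b a F},
      (P.1 : Matrix ((Fin b ⊕ Fin b) ⊕ Fin a) ((Fin b ⊕ Fin b) ⊕ Fin a) F).toBlocks₁₁ ∈ Matrix.symplecticGroup (Fin b) F ∧ (P.1 : Matrix ((Fin b ⊕ Fin b) ⊕ Fin a) ((Fin b ⊕ Fin b) ⊕ Fin a) F).toBlocks₁₂ = 0 ∧
        (P.1 : Matrix ((Fin b ⊕ Fin b) ⊕ Fin a) ((Fin b ⊕ Fin b) ⊕ Fin a) F).toBlocks₂₂.det ≠ 0 := by
    intro P
    have h := P.2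
    rw [← Matrix.fromBlocks_toBlocks (P.1 : Matrix ((Fin b ⊕ Fin b) ⊕ Fin a) ((Fin b ⊕ Fin b) ⊕ Fin a) F), hiff] at h
    have hX : IsUnit (P.1 : Matrix ((Fin b ⊕ Fin b) ⊕ Fin a) ((Fin b ⊕ Fin b) ⊕ Fin a) F).toBlocks₁₁.det := by
      have h1 := hMu
      rw [← h.1, Matrix.det_mul] at h1
      exact isUnit_of_mul_isUnit_right h1
    have hu : IsUnit ((P.1 : Matrix ((Fin b ⊕ Fin b) ⊕ Fin a) ((Fin b ⊕ Fin b) ⊕ Fin a) F).toBlocks₁₁ᵀ * M).det := by
      rw [Matrix.det_mul, Matrix.det_transpose]; exact hX.mul hMu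
    have hY : (P.1 : Matrix ((Fin b ⊕ Fin b) ⊕ Fin a) ((Fin b ⊕ Fin b) ⊕ Fin a) F).toBlocks₁₂ = 0 := by
      have h2 := congrArg (((P.1 : Matrix ((Fin b ⊕ Fin b) ⊕ Fin a) ((Fin b ⊕ Fin b) ⊕ Fin a) F).toBlocks₁₁ᵀ * M)⁻¹ * ·) h.2.1
      rwa [Matrix.nonsing_inv_mul_cancel_left _ _ hu, Matrix.mul_zero] at h2
    refine ⟨(hmem _).2 h.1, hY, fun h0 => ?_⟩
    have hd := (Matrix.isUnit_iff_isUnit_det _).1 P.1.isUnit
    rw [← Matrix.fromBlocks_toBlocks (P.1 : Matrix ((Fin b ⊕ Fin b) ⊕ Fin a) ((Fin b ⊕ Fin b) ⊕ Fin a) F), hY, Matrix.det_fromBlocks_zero₁₂, h0, mul_zero] at hd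
    exact hd.ne_zero rfl
  rw [Nat.card_congr (show {P : GL ((Fin b ⊕ Fin b) ⊕ Fin a) F // (P : Matrix _ _ F)ᵀ * stdM b a F * (P : Matrix _ _ F) = stdM b a F} ≃
    ↥(Matrix.symplecticGroup (Fin b) F) × Matrix (Fin a) (Fin b ⊕ Fin b) F × GL (Fin a) F from
    { toFun := fun P => (⟨_, (hblk P).1⟩, (P.1 : Matrix ((Fin b ⊕ Fin b) ⊕ Fin a) ((Fin b ⊕ Fin b) ⊕ Fin a) F).toBlocks₂₁,
        Matrix.GeneralLinearGroup.mkOfDetNeZero _ (hblk P).2.2)
      invFun := fun x => ⟨Matrix.GeneralLinearGroup.mkOfDetNeZero (Matrix.fromBlocks (x.1 : Matrix (Fin b ⊕ Fin b) (Fin b ⊕ Fin b) F) 0 x.2.1 (x.2.2 : Matrix (Fin a) (Fin a) F)) (by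
          rw [Matrix.det_fromBlocks_zero₁₂]
          refine mul_ne_zero ?_ ((Matrix.isUnit_iff_isUnit_det _).1 x.2.2.isUnit).ne_zero
          exact (SymplecticGroup.symplectic_det x.1.2).ne_zero), by
          show (Matrix.fromBlocks (x.1 : Matrix (Fin b ⊕ Fin b) (Fin b ⊕ Fin b) F) 0 x.2.1 (x.2.2 : Matrix (Fin a) (Fin a) F))ᵀ * _ * _ = _
          exact (hiff _ _ _ _).2 ⟨(hmem _).1 x.1.2, by simp, by simp, by simp⟩⟩
      left_inv := fun P => Subtype.ext (Units.ext (by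
        show Matrix.fromBlocks _ 0 _ _ = (P.1 : Matrix ((Fin b ⊕ Fin b) ⊕ Fin a) ((Fin b ⊕ Fin b) ⊕ Fin a) F)
        conv_rhs => rw [← Matrix.fromBlocks_toBlocks (P.1 : Matrix ((Fin b ⊕ Fin b) ⊕ Fin a) ((Fin b ⊕ Fin b) ⊕ Fin a) F), (hblk P).2.1]
        rfl))
      right_inv := fun x => Prod.ext (Subtype.ext rfl) (Prod.ext rfl (Units.ext rfl)) }),
    Nat.card_prod, Nat.card_prod]
  congr 2
  show Nat.card (Fin a → Fin b ⊕ Fin b → F) = _
  rw [Nat.card_fun, Nat.card_fun]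
  simp [Nat.card_eq_fintype_card, ← pow_mul]
  ring

theorem card_cls {b k : ℕ} (hb : 2 * b ≤ k) :
    Nat.card (cls hb F) * (Nat.card (Matrix.symplecticGroup (Fin b) F) *
      (Fintype.card F ^ (2 * ((k - 2 * b) * b)) * Nat.card (GL (Fin (k - 2 * b)) F))) = Nat.card (GL (Fin k) F) := by
  classical
  rw [← card_stab]
  let e := idxEquiv hb
  let σ : GL ((Fin b ⊕ Fin b) ⊕ Fin (k - 2 * b)) F ≃* GL (Fin k) F := Units.mapEquiv (Matrix.reindexAlgEquiv F F e).toMulEquiv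
  let f : GL (Fin k) F → cls hb F := fun P => ⟨_, P, rfl⟩
  have hσ : ∀ P, ((σ P : GL (Fin k) F) : Matrix (Fin k) (Fin k) F)ᵀ * stdK hb F * (σ P : Matrix (Fin k) (Fin k) F) = stdK hb F ↔
      (P : Matrix _ _ F)ᵀ * stdM b (k - 2 * b) F * (P : Matrix _ _ F) = stdM b (k - 2 * b) F := by
    intro P
    show (Matrix.reindex e e (P : Matrix _ _ F))ᵀ * Matrix.reindex e e (stdM b _ F) * Matrix.reindex e e (P : Matrix _ _ F) = Matrix.reindex e e (stdM b _ F) ↔ _
    simp only [Matrix.reindex_apply, Matrix.transpose_submatrix, Matrix.submatrix_mul_equiv]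
    exact ⟨fun h => (Matrix.reindex e e).injective h, fun h => congrArg (Matrix.reindex e e) h⟩
  have hfib : ∀ A, Nat.card {P // f P = A} = Nat.card {P : GL ((Fin b ⊕ Fin b) ⊕ Fin (k - 2 * b)) F //
      (P : Matrix _ _ F)ᵀ * stdM b (k - 2 * b) F * (P : Matrix _ _ F) = stdM b (k - 2 * b) F} := by
    rintro ⟨A, P₀, rfl⟩
    refine Nat.card_congr
      ((Equiv.subtypeEquiv (p := fun P => f P = f P₀)
        (q := fun Q : GL (Fin k) F => (Q : Matrix (Fin k) (Fin k) F)ᵀ * stdK hb F * (Q : Matrix (Fin k) (Fin k) F) = stdK hb F)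
        (Equiv.mulRight P₀⁻¹) (fun P => ?_)).trans (Equiv.subtypeEquiv σ.toEquiv (fun P => (hσ P).symm)).symm)
    show f P = f P₀ ↔ _
    rw [Subtype.ext_iff]
    show ((P : Matrix (Fin k) (Fin k) F)ᵀ * stdK hb F * (P : Matrix (Fin k) (Fin k) F) =
      (P₀ : Matrix (Fin k) (Fin k) F)ᵀ * stdK hb F * (P₀ : Matrix (Fin k) (Fin k) F)) ↔ _
    simp only [Equiv.coe_mulRight, Units.val_mul, Matrix.transpose_mul]
    constructor
    · intro h
      calc _ = ((P₀⁻¹ : GL (Fin k) F) : Matrix (Fin k) (Fin k) F)ᵀ * ((P : Matrix (Fin k) (Fin k) F)ᵀ * stdK hb F * (P : Matrix (Fin k) (Fin k) F)) * ((P₀⁻¹ : GL (Fin k) F) : Matrix (Fin k) (Fin k) F) := by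
            simp only [Matrix.mul_assoc]
        _ = _ := by
            rw [h]
            simp only [← Matrix.mul_assoc, ← Matrix.transpose_mul, Units.mul_inv, Matrix.transpose_one, Matrix.one_mul]
            rw [Matrix.mul_assoc, Units.mul_inv, Matrix.mul_one]
    · intro h
      conv_rhs => rw [← h]
      simp only [← Matrix.mul_assoc, ← Matrix.transpose_mul, Units.inv_mul]
      simp [Matrix.mul_assoc]
  rw [← Nat.card_congr (Equiv.sigmaFiberEquiv f), Nat.card_sigma, Finset.sum_congr rfl (fun A _ => hfib A),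
    Finset.sum_const, smul_eq_mul, Finset.card_univ, ← Nat.card_eq_fintype_card]

end CfsgLib.Classical.AltCongr
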