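import Cfsg.Agent.Lib.Classical.SL2Sylow

/-!
The projective line: three-transitivity and small isomorphisms.
-/

set_option autoImplicit false

namespace CfsgLib.Classical

open Matrix

variable {F : Type*} [Field F]

/-- Frames: any three distinct points of the projective line come from the standard ones. -/
theorem exists_frame2 (P : Fin 3 ↪ Projectivization F (Fin 2 → F)) :
    ∃ g : GL (Fin 2) F,
      g • Projectivization.mk F (![1, 0] : Fin 2 → F) (by simp) = P 0 ∧
      g • Projectivization.mk F (![0, 1] : Fin 2 → F) (by simp) = P 1 ∧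
      g • Projectivization.mk F (![1, 1] : Fin 2 → F) (by simp) = P 2 := by
  classical
  have h01 : P 0 ≠ P 1 := fun e => absurd (P.injective e) (by decide)
  have h02 : P 0 ≠ P 2 := fun e => absurd (P.injective e) (by decide)
  have h12 : P 1 ≠ P 2 := fun e => absurd (P.injective e) (by decide)
  set u := (P 0).rep with hu
  set v := (P 1).rep with hv
  set w := (P 2).rep with hw
  have hu0 : u ≠ 0 := (P 0).rep_nonzero
  have hv0 : v ≠ 0 := (P 1).rep_nonzero
  have hw0 : w ≠ 0 := (P 2).rep_nonzero
  have hind : u 0 * v 1 - u 1 * v 0 ≠ 0 := by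
    intro hd
    apply h01
    rw [← Projectivization.mk_rep (P 0), ← Projectivization.mk_rep (P 1), Projectivization.mk_eq_mk_iff']
    rcases eq_or_ne (v 0) 0 with h0 | h0
    · have h1 : v 1 ≠ 0 := fun h1 => hv0 (funext fun i => by fin_cases i <;> assumption)
      have hu00 : u 0 = 0 := by simpa [h0, h1] using hd
      exact ⟨u 1 / v 1, funext fun i => by
        fin_cases i <;> simp [← hv, ← hu, h0, hu00, div_mul_cancel₀ _ h1]⟩
    · exact ⟨u 0 / v 0, funext fun i => by
        fin_cases i
        · simp [← hv, ← hu, div_mul_cancel₀ _ h0]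
        · simp [← hv, ← hu]
          field_simp
          linear_combination hd⟩
  set α := (w 0 * v 1 - w 1 * v 0) / (u 0 * v 1 - u 1 * v 0) with hα
  set β := (u 0 * w 1 - u 1 * w 0) / (u 0 * v 1 - u 1 * v 0) with hβ
  have key : ∀ i, w i * (u 0 * v 1 - u 1 * v 0) =
      (w 0 * v 1 - w 1 * v 0) * u i + (u 0 * w 1 - u 1 * w 0) * v i := by
    intro i; fin_cases i <;> simp <;> ring
  have hwe : w = α • u + β • v := funext fun i => by
    rw [Pi.add_apply, Pi.smul_apply, Pi.smul_apply, smul_eq_mul, smul_eq_mul, hα, hβ,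
      div_mul_eq_mul_div, div_mul_eq_mul_div, ← add_div, eq_div_iff hind, key]
  have hα0 : α ≠ 0 := fun h => h12 (by
    rw [← Projectivization.mk_rep (P 1), ← Projectivization.mk_rep (P 2)]
    refine Eq.symm ?_
    rw [Projectivization.mk_eq_mk_iff']
    exact ⟨β, by rw [← hv, ← hw, hwe, h, zero_smul, zero_add]⟩)
  have hβ0 : β ≠ 0 := fun h => h02 (by
    rw [← Projectivization.mk_rep (P 0), ← Projectivization.mk_rep (P 2)]
    refine Eq.symm ?_
    rw [Projectivization.mk_eq_mk_iff']
    exact ⟨α, by rw [← hu, ← hw, hwe, h, zero_smul, add_zero]⟩)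
  refine ⟨GeneralLinearGroup.mkOfDetNeZero !![α * u 0, β * v 0; α * u 1, β * v 1] ?_, ?_, ?_, ?_⟩
  · rw [det_fin_two]
    simp
    intro h
    apply mul_ne_zero (mul_ne_zero hα0 hβ0) hind
    linear_combination h
  · rw [← Projectivization.mk_rep (P 0), Projectivization.smul_mk, Projectivization.mk_eq_mk_iff']
    refine ⟨α, funext fun i => ?_⟩
    fin_cases i <;> simp [← hu, Units.smul_def, Matrix.vecHead, Matrix.vecTail]
  · rw [← Projectivization.mk_rep (P 1), Projectivization.smul_mk, Projectivization.mk_eq_mk_iff']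
    refine ⟨β, funext fun i => ?_⟩
    fin_cases i <;> simp [← hv, Units.smul_def, Matrix.vecHead, Matrix.vecTail]
  · rw [← Projectivization.mk_rep (P 2), Projectivization.smul_mk, Projectivization.mk_eq_mk_iff']
    refine ⟨1, funext fun i => ?_⟩
    fin_cases i <;> simp [← hw, hwe, Units.smul_def, Matrix.vecHead, Matrix.vecTail]

/-- Only scalars fix the three standard points. -/
theorem eq_scalar_of_fix {M : GL (Fin 2) F}
    (h0 : M • Projectivization.mk F (![1, 0] : Fin 2 → F) (by simp) = Projectivization.mk F (![1, 0] : Fin 2 → F) (by simp))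
    (h1 : M • Projectivization.mk F (![0, 1] : Fin 2 → F) (by simp) = Projectivization.mk F (![0, 1] : Fin 2 → F) (by simp))
    (h2 : M • Projectivization.mk F (![1, 1] : Fin 2 → F) (by simp) = Projectivization.mk F (![1, 1] : Fin 2 → F) (by simp)) :
    ∃ u : Fˣ, GeneralLinearGroup.scalar (Fin 2) u = M := by
  rw [Projectivization.smul_mk, Projectivization.mk_eq_mk_iff'] at h0 h1 h2
  obtain ⟨a, ha⟩ := h0
  obtain ⟨b, hb⟩ := h1
  obtain ⟨c, hc⟩ := h2
  have a0 := congrFun ha 0
  have a1 := congrFun ha 1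
  have b0 := congrFun hb 0
  have b1 := congrFun hb 1
  have c0 := congrFun hc 0
  have c1 := congrFun hc 1
  simp [Units.smul_def, Matrix.vecHead, Matrix.vecTail] at a0 a1 b0 b1 c0 c1
  rw [← b0, add_zero] at c0
  rw [← a1, zero_add] at c1
  have hd := ((Matrix.isUnit_iff_isUnit_det _).1 M.isUnit).ne_zero
  rw [det_fin_two] at hd
  have h00 : M.1 0 0 ≠ 0 := fun h => hd (by rw [h, ← a1]; ring)
  refine ⟨Units.mk0 _ h00, Units.ext ?_⟩
  ext i j
  fin_cases i <;> fin_cases j <;> simp [← a1, ← b0, ← c0, ← c1]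

theorem pgl2_three_transitive :
    MulAction.IsMultiplyPretransitive (Matrix.ProjGenLinGroup (Fin 2) F) (Projectivization F (Fin 2 → F)) 3 := by
  refine ⟨fun P Q => ?_⟩
  obtain ⟨g, g0, g1, g2⟩ := exists_frame2 P
  obtain ⟨k, k0, k1, k2⟩ := exists_frame2 Q
  refine ⟨ProjGenLinGroup.mk (k * g⁻¹), ?_⟩
  ext i
  show ProjGenLinGroup.mk (k * g⁻¹) • P i = Q i
  have hact : ∀ (a : GL (Fin 2) F) (x : Projectivization F (Fin 2 → F)), ProjGenLinGroup.mk a • x = a • x :=
    fun a x => rfl
  rw [hact, mul_smul]
  fin_cases i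
  · show k • g⁻¹ • P 0 = Q 0
    rw [← g0, inv_smul_smul, k0]
  · show k • g⁻¹ • P 1 = Q 1
    rw [← g1, inv_smul_smul, k1]
  · show k • g⁻¹ • P 2 = Q 2
    rw [← g2, inv_smul_smul, k2]

theorem pgl2_sharp (g : Matrix.ProjGenLinGroup (Fin 2) F) (a b c : Projectivization F (Fin 2 → F))
    (hab : a ≠ b) (hac : a ≠ c) (hbc : b ≠ c) (ha : g • a = a) (hb : g • b = b) (hc : g • c = c) : g = 1 := by
  let P : Fin 3 ↪ Projectivization F (Fin 2 → F) := ⟨![a, b, c], by
    intro i j h
    fin_cases i <;> fin_cases j <;> simp_all [Ne.symm]⟩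
  obtain ⟨k, k0, k1, k2⟩ := exists_frame2 P
  cases g using Matrix.ProjGenLinGroup.induction_on with
  | mk g =>
    have hact : ∀ (x : Projectivization F (Fin 2 → F)), ProjGenLinGroup.mk g • x = g • x := fun x => rfl
    rw [hact] at ha hb hc
    replace k0 : _ = a := k0
    replace k1 : _ = b := k1
    replace k2 : _ = c := k2
    rw [← k0] at ha
    rw [← k1] at hb
    rw [← k2] at hc
    obtain ⟨u, hu⟩ := eq_scalar_of_fix (M := k⁻¹ * g * k)
      (by rw [mul_smul, mul_smul, ha, inv_smul_smul]) (by rw [mul_smul, mul_smul, hb, inv_smul_smul])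
      (by rw [mul_smul, mul_smul, hc, inv_smul_smul])
    have e : g = k * GeneralLinearGroup.scalar (Fin 2) u * k⁻¹ := by rw [hu]; group
    rw [e, map_mul, map_mul, ProjGenLinGroup.mk_scalar, mul_one, ← map_mul, mul_inv_cancel, map_one]

variable [Fintype F]

theorem sl2_three_transitive_iff :
    MulAction.IsMultiplyPretransitive (Matrix.SpecialLinearGroup (Fin 2) F) (Projectivization F (Fin 2 → F)) 3 ↔
      ringChar F = 2 := by
  classical
  constructor
  · intro h
    by_contra h2
    obtain ⟨c, hc⟩ := FiniteField.exists_nonsquare h2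
    have hc0 : c ≠ 0 := fun e => hc (e ▸ IsSquare.zero)
    let P : Fin 3 ↪ Projectivization F (Fin 2 → F) :=
      ⟨![Projectivization.mk F (![1, 0] : Fin 2 → F) (by simp), Projectivization.mk F (![0, 1] : Fin 2 → F) (by simp),
        Projectivization.mk F (![1, 1] : Fin 2 → F) (by simp)], by
        intro i j h
        fin_cases i <;> fin_cases j <;> simp [Projectivization.mk_eq_mk_iff'] at h ⊢⟩
    let Q : Fin 3 ↪ Projectivization F (Fin 2 → F) :=
      ⟨![Projectivization.mk F (![1, 0] : Fin 2 → F) (by simp), Projectivization.mk F (![0, 1] : Fin 2 → F) (by simp),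
        Projectivization.mk F (![1, c] : Fin 2 → F) (by simp)], by
        intro i j h
        fin_cases i <;> fin_cases j <;> simp [Projectivization.mk_eq_mk_iff', hc0, Ne.symm hc0] at h ⊢⟩
    obtain ⟨g, hg⟩ := h.exists_smul_eq P Q
    have e : ∀ i, g • P i = Q i := fun i => congrArg (fun f : Fin 3 ↪ Projectivization F (Fin 2 → F) => f i) hg
    have e0 : g • Projectivization.mk F (![1, 0] : Fin 2 → F) (by simp) = Projectivization.mk F (![1, 0] : Fin 2 → F) (by simp) := e 0
    have e1 : g • Projectivization.mk F (![0, 1] : Fin 2 → F) (by simp) = Projectivization.mk F (![0, 1] : Fin 2 → F) (by simp) := e 1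
    have e2 : g • Projectivization.mk F (![1, 1] : Fin 2 → F) (by simp) = Projectivization.mk F (![1, c] : Fin 2 → F) (by simp) := e 2
    rw [Projectivization.smul_mk, Projectivization.mk_eq_mk_iff'] at e0 e1 e2
    obtain ⟨a, ha⟩ := e0
    obtain ⟨b, hb⟩ := e1
    obtain ⟨d, hd⟩ := e2
    replace ha : a • (![1, 0] : Fin 2 → F) = g.1 *ᵥ ![1, 0] := ha
    replace hb : b • (![0, 1] : Fin 2 → F) = g.1 *ᵥ ![0, 1] := hb
    replace hd : d • (![1, c] : Fin 2 → F) = g.1 *ᵥ ![1, 1] := hd
    have a1 := congrFun ha 1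
    have b0 := congrFun hb 0
    have d0 := congrFun hd 0
    have d1 := congrFun hd 1
    simp [SpecialLinearGroup.smul_def, Matrix.vecHead, Matrix.vecTail] at a1 b0 d0 d1
    have hdet := g.2
    rw [det_fin_two, ← a1, ← b0] at hdet
    rw [← b0, add_zero] at d0
    rw [← a1, zero_add] at d1
    rw [← d0, ← d1] at hdet
    apply hc
    have hd0 : d ≠ 0 := fun e => by simp [e] at hdet
    exact ⟨d⁻¹, by field_simp; linear_combination hdet⟩
  · intro h2
    haveI := pgl2_three_transitive (F := F)
    refine ⟨fun P Q => ?_⟩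
    obtain ⟨g, hg⟩ := MulAction.exists_smul_eq (Matrix.ProjGenLinGroup (Fin 2) F) P Q
    cases g using Matrix.ProjGenLinGroup.induction_on with
    | mk g =>
      have hd := ((Matrix.isUnit_iff_isUnit_det _).1 g.isUnit).ne_zero
      obtain ⟨r, hr⟩ := FiniteField.isSquare_of_char_two h2 (g.1.det)⁻¹
      have hr0 : r ≠ 0 := fun e => inv_ne_zero hd (by rw [hr, e, mul_zero])
      let s : Matrix.SpecialLinearGroup (Fin 2) F :=
        ⟨r • g.1, by rw [det_smul, Fintype.card_fin, pow_two, ← hr, inv_mul_cancel₀ hd]⟩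
      refine ⟨s, ?_⟩
      ext i
      have e : ProjGenLinGroup.mk g • P i = Q i :=
        congrArg (fun f : Fin 3 ↪ Projectivization F (Fin 2 → F) => f i) hg
      rw [← e]
      show s • P i = g • P i
      induction P i using Projectivization.ind with
      | _ w hw =>
        rw [Projectivization.smul_mk, Projectivization.smul_mk, Projectivization.mk_eq_mk_iff']
        exact ⟨r, (Matrix.smul_mulVec r g.1 w).symm⟩

theorem card_projLine : Nat.card (Projectivization F (Fin 2 → F)) = Fintype.card F + 1 := by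
  rw [Projectivization.card_of_finrank_two F (Fin 2 → F) (Module.finrank_fin_fun F), Nat.card_eq_fintype_card]

/-- `PSL_2(q)` inside the symmetric group on the projective line. -/
theorem exists_perm_embedding {N : ℕ} (hN : Fintype.card F + 1 = N) :
    ∃ f : Matrix.ProjectiveSpecialLinearGroup (Fin 2) F →* Equiv.Perm (Fin N), Function.Injective f := by
  classical
  haveI : Finite (Projectivization F (Fin 2 → F)) := Quotient.finite _
  let e : Projectivization F (Fin 2 → F) ≃ Fin N := (Finite.equivFin _).trans (finCongr (card_projLine.trans hN))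
  exact ⟨e.permCongrHom.toMonoidHom.comp Projectivization.PSLAction.toPermHom,
    e.permCongrHom.injective.comp Matrix.ProjectiveSpecialLinearGroup.toPermHom_injective⟩

theorem card_psl2 : Nat.gcd 2 (Fintype.card F - 1) * Nat.card (Matrix.ProjectiveSpecialLinearGroup (Fin 2) F) =
    Fintype.card F * ((Fintype.card F - 1) * (Fintype.card F + 1)) := by
  rw [← card_sl2, Subgroup.card_eq_card_quotient_mul_card_subgroup
    (Subgroup.center (Matrix.SpecialLinearGroup (Fin 2) F)), card_center_sl (by omega), mul_comm]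

theorem mulEquiv_alternating_of_card {G : Type*} [Group G] {N : ℕ} (f : G →* Equiv.Perm (Fin N))
    (hf : Function.Injective f) (h : 2 * Nat.card G = N.factorial) : Nonempty (G ≃* alternatingGroup (Fin N)) := by
  classical
  have hidx : f.range.index = 2 := by
    have h1 := Subgroup.card_mul_index f.range
    rw [← Nat.card_congr (MonoidHom.ofInjective hf).toEquiv, Nat.card_perm, Nat.card_fin, ← h, mul_comm 2] at h1
    have hpos : 0 < Nat.card G := by
      have := Nat.factorial_pos N
      omega
    exact Nat.eq_of_mul_eq_mul_left hpos h1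
  have heq := Equiv.Perm.eq_alternatingGroup_of_index_eq_two hidx
  exact ⟨(MonoidHom.ofInjective hf).trans (MulEquiv.subgroupCongr heq)⟩

end CfsgLib.Classical
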