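import Cfsg.Agent.Lib.Char.TwoByTwoOrders
import Cfsg.Agent.Lib.Char.SquareSpectrum

/-!
# Element orders in `PSL(2,q)`
-/

set_option autoImplicit false
set_option linter.unusedSectionVars false

namespace CfsgLib.Classical.PSL2Spectrum

open CfsgLib.PSL2Two CfsgLib.Char.TwoByTwo CfsgLib.Char

variable {F : Type*} [Field F] [Fintype F]

local notation "S2" => Matrix.SpecialLinearGroup (Fin 2) F
local notation "P2" => Matrix.ProjectiveSpecialLinearGroup (Fin 2) F
local notation "qF" => Fintype.card F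

theorem char_two_of_dvd (h : 2 ∣ qF) : CharP F 2 := by
  obtain ⟨p, hc⟩ := CharP.exists F
  obtain ⟨n, hp, hn⟩ := FiniteField.card F p
  have : p = 2 := ((Nat.prime_dvd_prime_iff_eq Nat.prime_two hp).1
    (Nat.prime_two.dvd_of_dvd_pow (hn ▸ h))).symm
  exact this ▸ hc

/-- An element of order `q + 1` in `SL(2,q)`. -/
theorem exists_order_add_one : ∃ A : S2, orderOf A = qF + 1 := by
  classical
  obtain ⟨x, hx⟩ := TwoChars.exists_ell (F := F)
  haveI := TwoChars.ell_centralizer_cyclic hx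
  obtain ⟨g, hg⟩ := IsCyclic.exists_ofOrder_eq_natCard (α := Subgroup.centralizer ({x} : Set S2))
  refine ⟨g, ?_⟩
  rw [Subgroup.orderOf_coe, hg]
  rcases Nat.even_or_odd qF with he | ho
  · haveI := char_two_of_dvd he.two_dvd
    exact TwoChars.card_centralizer_ell_two hx
  · exact TwoChars.card_centralizer_ell ho hx

/-- An element of order `q - 1` in `SL(2,q)`. -/
theorem exists_order_sub_one : ∃ A : S2, orderOf A = qF - 1 := by
  classical
  obtain ⟨a, ha⟩ := IsCyclic.exists_ofOrder_eq_natCard (α := Fˣ)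
  let f : Fˣ →* S2 :=
    { toFun := fun u => TwoChars.elS u 0
      map_one' := TwoChars.elS_one_zero
      map_mul' := fun u v => by rw [TwoChars.elS_mul]; simp }
  refine ⟨f a, ?_⟩
  rw [orderOf_injective f (fun u v h => Units.ext (by
    simpa [f, TwoChars.elS_val] using congrArg (fun z : S2 => z.1 0 0) h)), ha, Nat.card_units,
    Nat.card_eq_fintype_card]

/-- An element of `PSL(2,q)` of order the characteristic. -/
theorem exists_order_char (p : ℕ) [Fact p.Prime] [CharP F p] : ∃ g : P2, orderOf g = p := by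
  classical
  refine ⟨π (TwoChars.elS (1 : Fˣ) (1 : F)), orderOf_eq_prime ?_ ?_⟩
  · have hpow : ∀ k : ℕ, TwoChars.elS (1 : Fˣ) (1 : F) ^ k = TwoChars.elS 1 (k : F) := fun k => by
      induction k with
      | zero => simp [TwoChars.elS_one_zero]
      | succ k ih => rw [pow_succ, ih, TwoChars.elS_mul]; simp [add_comm]
    rw [← map_pow, hpow, CharP.cast_eq_zero, TwoChars.elS_one_zero, map_one]
  · intro h
    rcases π_eq_one_iff.1 h with h | h <;> simpa [TwoChars.elS_val] using congrFun (congrFun h 0) 1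

theorem scalar_of_pow_two (hodd : qF % 2 = 1) {A : S2} {k : ℕ} (h : A ^ (2 * k) = 1) : π A ^ k = 1 := by
  rw [← map_pow, π_eq_one_iff]
  refine eq_one_or_neg_of_sq_one (two_ne_zero_of_odd hodd) ?_
  rw [← Matrix.SpecialLinearGroup.coe_mul, ← pow_add, ← two_mul, h, Matrix.SpecialLinearGroup.coe_one]

/-- In odd characteristic the image in `PSL` has half the order. -/
theorem orderOf_π_half (hodd : qF % 2 = 1) {A : S2} {k : ℕ} (h : orderOf A = 2 * k) : orderOf (π A) = k := by
  refine Nat.dvd_antisymm (orderOf_dvd_of_pow_eq_one (scalar_of_pow_two hodd (h ▸ pow_orderOf_eq_one A))) ?_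
  refine Nat.dvd_of_mul_dvd_mul_left two_pos (h ▸ orderOf_dvd_of_pow_eq_one (Subtype.ext ?_))
  have h1 := pow_orderOf_eq_one (π A)
  rw [← map_pow, π_eq_one_iff] at h1
  rw [mul_comm, pow_mul, Matrix.SpecialLinearGroup.coe_pow, Matrix.SpecialLinearGroup.coe_one]
  rcases h1 with h1 | h1 <;> rw [h1] <;> simp

theorem orderOf_π_even (he : 2 ∣ qF) (A : S2) : orderOf (π A) = orderOf A := by
  haveI := char_two_of_dvd he
  refine orderOf_injective (π : S2 →* P2) (fun a b h => Subtype.ext ?_) A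
  rcases π_eq_iff.1 h with h | h <;> rw [h]
  ext i j
  exact CharTwo.neg_eq _

/-- The element orders of `PSL(2,q)`. -/
theorem mem_range_orderOf (p : ℕ) [Fact p.Prime] [CharP F p] (h4 : 4 ≤ qF) (m : ℕ) :
    m ∈ Set.range (orderOf : P2 → ℕ) ↔
      m ∣ p ∨ m ∣ (qF - 1) / Nat.gcd 2 (qF - 1) ∨ m ∣ (qF + 1) / Nat.gcd 2 (qF - 1) := by
  classical
  have key : ∀ {N : ℕ}, (∃ g : P2, orderOf g = N) → m ∣ N → m ∈ Set.range (orderOf : P2 → ℕ) := by
    rintro N ⟨g, rfl⟩ hm
    exact ⟨g ^ (orderOf g / m), orderOf_pow_orderOf_div (orderOf_pos g).ne' hm⟩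
  obtain ⟨a, ha⟩ := exists_order_sub_one (F := F)
  obtain ⟨b, hb⟩ := exists_order_add_one (F := F)
  rcases Nat.mod_two_eq_zero_or_one qF with he | ho
  · have h2 : 2 ∣ qF := Nat.dvd_of_mod_eq_zero he
    haveI h2c := char_two_of_dvd h2
    have hp : p = 2 := CharP.eq F ‹CharP F p› h2c
    have hd : Nat.gcd 2 (qF - 1) = 1 := by
      rw [Nat.gcd_rec, show (qF - 1) % 2 = 1 by omega]; rfl
    rw [hd, Nat.div_one, Nat.div_one, hp]
    constructor
    · rintro ⟨g, rfl⟩
      obtain ⟨A, rfl⟩ := π_surjective g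
      rw [orderOf_π_even h2]
      exact (TwoChars.sl_pow_cases_two A).imp orderOf_dvd_of_pow_eq_one
        (Or.imp orderOf_dvd_of_pow_eq_one orderOf_dvd_of_pow_eq_one)
    · rintro (h | h | h)
      · exact key (exists_order_char 2) h
      · exact key ⟨π a, by rw [orderOf_π_even h2, ha]⟩ h
      · exact key ⟨π b, by rw [orderOf_π_even h2, hb]⟩ h
  · have hd : Nat.gcd 2 (qF - 1) = 2 := Nat.gcd_eq_left (by omega)
    rw [hd]
    constructor
    · rintro ⟨g, rfl⟩
      exact (psl_pow_cases ho (p := p) g).imp orderOf_dvd_of_pow_eq_one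
        (Or.imp orderOf_dvd_of_pow_eq_one orderOf_dvd_of_pow_eq_one)
    · rintro (h | h | h)
      · exact key (exists_order_char p) h
      · exact key ⟨π a, orderOf_π_half ho (by omega)⟩ h
      · exact key ⟨π b, orderOf_π_half ho (by omega)⟩ h

end CfsgLib.Classical.PSL2Spectrum
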