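import Cfsg.Agent.Lib.Classical.GL2Sylow
import Cfsg.Agent.Lib.GLClass.Orders
import Cfsg.Agent.Lib.Coprime.UniqueOrderP

/-!
Sylow subgroups of `SL_2(q)`.
-/

set_option autoImplicit false

namespace CfsgLib.Classical

open Matrix

variable {F : Type*} [Field F] [Fintype F]

theorem card_sl2 : Nat.card (Matrix.SpecialLinearGroup (Fin 2) F) =
    Fintype.card F * ((Fintype.card F - 1) * (Fintype.card F + 1)) := by
  have h := card_sl_mul (F := F) (n := 2) (by omega)
  rw [← Matrix.card_GL_field, card_gl2] at h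
  have hq := Fintype.one_lt_card (α := F)
  refine Nat.eq_of_mul_eq_mul_left (show 0 < Fintype.card F - 1 by omega) (h.trans ?_)
  ring

/-- The Sylow subgroups of `SL_2` in the natural characteristic, in matrix form. -/
theorem sl_sylow_conj (p : ℕ) [Fact p.Prime] [CharP F p] (P : Sylow p (Matrix.SpecialLinearGroup (Fin 2) F)) :
    ∃ g : GL (Fin 2) F, ∀ x : Matrix.SpecialLinearGroup (Fin 2) F,
      x ∈ (P : Subgroup (Matrix.SpecialLinearGroup (Fin 2) F)) ↔
        g⁻¹ * SpecialLinearGroup.toGL x * g ∈ upU := by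
  have hinj : Function.Injective (SpecialLinearGroup.toGL : Matrix.SpecialLinearGroup (Fin 2) F →* GL (Fin 2) F) :=
    fun a b h => Subtype.ext (congrArg Units.val h)
  obtain ⟨Q, hQ⟩ := (P.isPGroup'.map (SpecialLinearGroup.toGL : Matrix.SpecialLinearGroup (Fin 2) F →* GL (Fin 2) F)).exists_le_sylow
  obtain ⟨g, hg⟩ := exists_conj_upU p Q
  obtain ⟨k, hp, hk⟩ := FiniteField.card F p
  have hd : p ∣ p ^ (k : ℕ) := dvd_pow_self p k.ne_zero
  have hcP : Nat.card (P : Subgroup (Matrix.SpecialLinearGroup (Fin 2) F)) = Fintype.card F := by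
    rw [show Nat.card (P : Subgroup (Matrix.SpecialLinearGroup (Fin 2) F)) =
      p ^ Nat.factorization (Nat.card (Matrix.SpecialLinearGroup (Fin 2) F)) p from P.card_eq_multiplicity,
      card_sl2, hk, factorization_of_coprime]
    intro h
    rcases (Nat.Prime.dvd_mul hp).1 h with h1 | h1
    · have h3 : 1 ≤ p ^ (k : ℕ) := Nat.one_le_pow _ _ hp.pos
      have := Nat.dvd_sub hd h1
      rw [show p ^ (k : ℕ) - (p ^ (k : ℕ) - 1) = 1 by omega] at this
      exact hp.ne_one (Nat.dvd_one.1 this)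
    · exact hp.ne_one (Nat.dvd_one.1 ((Nat.dvd_add_right hd).1 h1))
  have hcQ : Nat.card (Q : Subgroup (GL (Fin 2) F)) = Fintype.card F := by
    rw [← card_upU (F := F)]
    exact Nat.card_congr ((MulAut.conj g⁻¹).toEquiv.subtypeEquiv fun x => by
      rw [hg]; simp)
  have heq := Subgroup.eq_of_le_of_card_ge hQ (by
    rw [hcQ, Subgroup.card_map_of_injective hinj, hcP])
  refine ⟨g, fun x => ?_⟩
  rw [← hg]
  constructor
  · intro hx
    exact hQ ⟨x, hx, rfl⟩
  · intro hx
    rw [← heq] at hx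
    obtain ⟨y, hy, hyx⟩ := hx
    exact hinj hyx ▸ hy

theorem involution_eq_neg_one (h2 : (2 : F) ≠ 0) {g : Matrix.SpecialLinearGroup (Fin 2) F}
    (h1 : g ≠ 1) (hg : g * g = 1) : g.1 = -1 := by
  have h2' : g.1 * g.1 = 1 := by
    rw [← Matrix.SpecialLinearGroup.coe_mul, hg, Matrix.SpecialLinearGroup.coe_one]
  have hd := g.2
  rw [Matrix.det_fin_two] at hd
  set A := g.1 with hA
  have e00 := congrFun (congrFun h2' 0) 0
  have e01 := congrFun (congrFun h2' 0) 1
  have e10 := congrFun (congrFun h2' 1) 0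
  simp [Matrix.mul_apply, Fin.sum_univ_two] at e00 e01 e10
  have ht : A 0 0 + A 1 1 ≠ 0 := fun h => h2 (by linear_combination -hd - e00 + A 0 0 * h)
  have hb : A 0 1 = 0 :=
    (mul_eq_zero.1 (show (A 0 0 + A 1 1) * A 0 1 = 0 by linear_combination e01)).resolve_left ht
  have hc : A 1 0 = 0 :=
    (mul_eq_zero.1 (show (A 0 0 + A 1 1) * A 1 0 = 0 by linear_combination e10)).resolve_left ht
  rw [hb] at hd e00
  have had : A 0 0 = A 1 1 := mul_left_cancel₀ (show A 0 0 ≠ 0 from fun h => by simp [h] at hd)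
    (by linear_combination e00 - hd)
  rcases mul_self_eq_one_iff.1 (show A 0 0 * A 0 0 = 1 by linear_combination e00) with ha | ha
  · exfalso
    refine h1 (Subtype.ext ?_)
    show A = 1
    ext i j
    fin_cases i <;> fin_cases j <;> simp [hb, hc, ha, ← had]
  · ext i j
    fin_cases i <;> fin_cases j <;> simp [hb, hc, ha, ← had]

theorem two_ne_zero_of_odd_card (hF : Odd (Fintype.card F)) : (2 : F) ≠ 0 :=
  Ring.two_ne_zero (fun hc => by
    have := FiniteField.even_card_of_char_two hc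
    obtain ⟨k, hk⟩ := hF
    omega)

theorem uniqueOrderP_sl2 (h2 : (2 : F) ≠ 0) :
    Coprime.UniqueOrderP 2 (Matrix.SpecialLinearGroup (Fin 2) F) := by
  intro x y hx hy hx1
  rw [pow_two] at hx hy
  rcases eq_or_ne y 1 with rfl | hy1
  · exact one_mem _
  · have : y = x := Subtype.ext ((involution_eq_neg_one h2 hy1 hy).trans (involution_eq_neg_one h2 hx1 hx).symm)
    exact this ▸ Subgroup.mem_zpowers x

/-- The Sylow `2`-subgroups of `SL_2(q)`, `q` odd, are generalized quaternion. -/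
theorem sylow_two_quaternion (hF : Odd (Fintype.card F)) (P : Sylow 2 (Matrix.SpecialLinearGroup (Fin 2) F)) :
    ∃ k : ℕ, 1 ≤ k ∧ Nonempty ((P : Subgroup (Matrix.SpecialLinearGroup (Fin 2) F)) ≃* QuaternionGroup (2 ^ k)) := by
  classical
  have h2 := two_ne_zero_of_odd_card hF
  haveI : Fact (Nat.Prime 2) := ⟨Nat.prime_two⟩
  obtain ⟨a, b, hab⟩ : ∃ a b : F, a ^ 2 + b ^ 2 = -1 := by
    obtain ⟨a, b, hab⟩ := FiniteField.exists_root_sum_quadratic
      (f := (Polynomial.X : Polynomial F) ^ 2) (g := Polynomial.X ^ 2 - Polynomial.C (-1 : F))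
      (Polynomial.degree_X_pow 2) (Polynomial.degree_X_pow_sub_C (by decide) _) (Nat.odd_iff.1 hF)
    refine ⟨a, b, sub_eq_zero.1 ?_⟩
    simpa only [Polynomial.eval_C, Polynomial.eval_X, Polynomial.eval_pow, Polynomial.eval_sub,
      ← add_sub_assoc] using hab
  let I : Matrix.SpecialLinearGroup (Fin 2) F := ⟨!![0, -1; 1, 0], by simp [det_fin_two]⟩
  let J : Matrix.SpecialLinearGroup (Fin 2) F := ⟨!![a, b; b, -a], by
    simp [det_fin_two]; linear_combination -hab⟩
  have hI : I ^ 4 = 1 := Subtype.ext (by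
    show (!![0, -1; 1, 0] : Matrix (Fin 2) (Fin 2) F) ^ 4 = 1
    ext i j
    fin_cases i <;> fin_cases j <;> simp [pow_succ, Matrix.mul_apply, Fin.sum_univ_two])
  have hJ : J ^ 4 = 1 := Subtype.ext (by
    show (!![a, b; b, -a] : Matrix (Fin 2) (Fin 2) F) ^ 4 = 1
    ext i j
    fin_cases i <;> fin_cases j <;> simp [pow_succ, Matrix.mul_apply, Fin.sum_univ_two] <;> grind)
  have hJI : J * I = I⁻¹ * J := by
    rw [eq_inv_mul_iff_mul_eq]
    apply Subtype.ext
    show (!![0, -1; 1, 0] : Matrix (Fin 2) (Fin 2) F) * (!![a, b; b, -a] * !![0, -1; 1, 0]) = !![a, b; b, -a]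
    ext i j
    fin_cases i <;> fin_cases j <;> simp [Matrix.mul_apply, Fin.sum_univ_two]
  have hnc : J * I ≠ I * J := fun h => by
    have h' : (!![a, b; b, -a] : Matrix (Fin 2) (Fin 2) F) * !![0, -1; 1, 0] =
        !![0, -1; 1, 0] * !![a, b; b, -a] := congrArg Subtype.val h
    have h00 := congrFun (congrFun h' 0) 0
    have h01 := congrFun (congrFun h' 0) 1
    simp [Matrix.mul_apply, Fin.sum_univ_two] at h00 h01
    have hb0 : b = 0 := (mul_eq_zero.1 (show (2 : F) * b = 0 by linear_combination h00)).resolve_left h2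
    have ha0 : a = 0 := (mul_eq_zero.1 (show (2 : F) * a = 0 by linear_combination -h01)).resolve_left h2
    simp [ha0, hb0] at hab
  have hp4 : ∀ x : Matrix.SpecialLinearGroup (Fin 2) F, x ^ 4 = 1 → IsPGroup 2 (Subgroup.zpowers x) := by
    intro x hx y
    refine ⟨2, Subtype.ext ?_⟩
    obtain ⟨k, hk⟩ := Subgroup.mem_zpowers_iff.1 y.2
    simp only [SubgroupClass.coe_pow, OneMemClass.coe_one]
    rw [← hk, ← zpow_natCast, ← _root_.zpow_mul, mul_comm, _root_.zpow_mul, zpow_natCast]
    norm_num [hx]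
  have hnorm : Subgroup.zpowers J ≤ Subgroup.normalizer ((Subgroup.zpowers I : Subgroup _) : Set (Matrix.SpecialLinearGroup (Fin 2) F)) := by
    rw [Subgroup.zpowers_le, Subgroup.mem_normalizer_iff]
    have key : ∀ h, h ∈ Subgroup.zpowers I → J * h * J⁻¹ ∈ Subgroup.zpowers I := by
      rintro _ ⟨k, rfl⟩
      refine ⟨-k, ?_⟩
      rw [← conj_zpow, hJI, mul_inv_cancel_right]
      simp
    intro h
    refine ⟨key h, fun hh => ?_⟩
    have e : J⁻¹ = J * (J * J) := by
      rw [inv_eq_iff_mul_eq_one, ← hJ]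
      simp only [pow_succ, pow_zero, one_mul, mul_assoc]
    have h4 := key _ (key _ (key _ hh))
    have e2 : h = J * (J * (J * (J * h * J⁻¹) * J⁻¹) * J⁻¹) * J⁻¹ := by
      calc h = J ^ 4 * h * (J ^ 4)⁻¹ := by rw [hJ]; simp
        _ = _ := by simp only [pow_succ, pow_zero, one_mul, mul_assoc, _root_.mul_inv_rev]
    rw [e2]
    exact h4
  obtain ⟨Q, hQ⟩ := ((hp4 J hJ).to_sup_of_normal_right' (hp4 I hI) hnorm).exists_le_sylow
  have hQn : ¬ ∀ x y : (Q : Subgroup (Matrix.SpecialLinearGroup (Fin 2) F)), x * y = y * x := fun h =>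
    hnc (congrArg Subtype.val (h ⟨J, hQ (Subgroup.mem_sup_left (Subgroup.mem_zpowers J))⟩
      ⟨I, hQ (Subgroup.mem_sup_right (Subgroup.mem_zpowers I))⟩))
  obtain ⟨e⟩ : Nonempty ((Q : Subgroup (Matrix.SpecialLinearGroup (Fin 2) F)) ≃*
      (P : Subgroup (Matrix.SpecialLinearGroup (Fin 2) F))) := ⟨Sylow.equiv Q P⟩
  have hPn : ¬ ∀ x y : (P : Subgroup (Matrix.SpecialLinearGroup (Fin 2) F)), x * y = y * x := fun h =>
    hQn fun x y => e.injective (by rw [map_mul, map_mul, h])
  rcases Coprime.cyclic_or_quaternion_of_unique P.isPGroup'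
    ((uniqueOrderP_sl2 h2).subgroup _) with hc | ⟨-, n, ⟨f⟩⟩
  · exact absurd (fun x y => mul_comm' x y) hPn
  · refine ⟨n, ?_, ⟨f⟩⟩
    by_contra hn
    obtain rfl : n = 0 := by omega
    have hcomm : ∀ x y : QuaternionGroup 1, x * y = y * x := by decide
    exact hPn fun x y => f.injective (by rw [map_mul, map_mul]; exact hcomm _ _)

/-- Sylow subgroups of `SL_2(q)` for odd primes different from the characteristic are cyclic. -/
theorem sylow_odd_cyclic (p : ℕ) [Fact p.Prime] [CharP F p] (r : ℕ) [Fact r.Prime] (hr : r ≠ 2)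
    (hrp : r ≠ p) (R : Sylow r (Matrix.SpecialLinearGroup (Fin 2) F)) :
    IsCyclic (R : Subgroup (Matrix.SpecialLinearGroup (Fin 2) F)) := by
  classical
  have hq := Fintype.one_lt_card (α := F)
  obtain ⟨k, hp, hk⟩ := FiniteField.card F p
  have hr' : r.Prime := Fact.out
  suffices h : ∃ K : Subgroup (Matrix.SpecialLinearGroup (Fin 2) F), IsCyclic K ∧
      r ^ (Nat.card (Matrix.SpecialLinearGroup (Fin 2) F)).factorization r ∣ Nat.card K by
    obtain ⟨K, hK, hdvd⟩ := h
    haveI := hK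
    obtain ⟨H, hH⟩ := Sylow.exists_subgroup_card_pow_prime r hdvd
    let S : Sylow r (Matrix.SpecialLinearGroup (Fin 2) F) := Sylow.ofCard (H.map K.subtype)
      (by rw [Subgroup.card_map_of_injective (Subgroup.subtype_injective K), hH])
    haveI : IsCyclic (H.map K.subtype : Subgroup _) :=
      isCyclic_of_surjective (H.equivMapOfInjective _ (Subgroup.subtype_injective K)).toMonoidHom
        (H.equivMapOfInjective _ (Subgroup.subtype_injective K)).surjective
    haveI : IsCyclic (S : Subgroup (Matrix.SpecialLinearGroup (Fin 2) F)) :=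
      show IsCyclic (H.map K.subtype : Subgroup _) from inferInstance
    exact isCyclic_of_surjective (Sylow.equiv S R).toMonoidHom (Sylow.equiv S R).surjective
  set q := Fintype.card F with hqdef
  set n := (Nat.card (Matrix.SpecialLinearGroup (Fin 2) F)).factorization r with hn
  have hdvd : r ^ n ∣ q * ((q - 1) * (q + 1)) := by
    rw [← card_sl2]; exact Nat.ordProj_dvd _ _
  have hcq : Nat.Coprime (r ^ n) q := by
    rw [hk]
    exact Nat.Coprime.pow _ _ ((Nat.coprime_primes hr' hp).2 hrp)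
  have hdvd' := hcq.dvd_of_dvd_mul_left hdvd
  by_cases h1 : r ∣ q + 1
  · have hc : Nat.Coprime (r ^ n) (q - 1) := by
      refine Nat.Coprime.pow_left _ ((Nat.Prime.coprime_iff_not_dvd hr').2 fun h => ?_)
      have := Nat.dvd_sub h1 h
      rw [show q + 1 - (q - 1) = 2 by omega] at this
      exact hr ((Nat.prime_dvd_prime_iff_eq hr' Nat.prime_two).1 this)
    have hdvd'' := hc.dvd_of_dvd_mul_left hdvd'
    obtain ⟨s, hs⟩ := GLClass.exists_orderOf_eq (F := F) (n := 2) (d := 2) (m := q ^ 2 - 1) (by omega) le_rfl dvd_rfl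
    let ι : Matrix.SpecialLinearGroup (Fin 2) F →* GL (Fin 2) F := SpecialLinearGroup.toGL
    have hinj : Function.Injective ι := fun a b h => Subtype.ext (congrArg Units.val h)
    set K := (Subgroup.zpowers s).comap ι with hK
    haveI : IsCyclic K := isCyclic_of_injective ((ι.comp K.subtype).codRestrict (Subgroup.zpowers s) fun x => x.2)
      fun a b h => Subtype.ext (hinj (congrArg Subtype.val h))
    refine ⟨K, inferInstance, hdvd''.trans ?_⟩
    set d : Subgroup.zpowers s →* Fˣ := GeneralLinearGroup.det.comp (Subgroup.zpowers s).subtype with hd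
    have e : Nat.card d.ker = Nat.card K := Nat.card_congr
      { toFun := fun x => ⟨⟨x.1.1.1, congrArg Units.val (MonoidHom.mem_ker.1 x.2)⟩, by
          show ι _ ∈ Subgroup.zpowers s
          have : ι ⟨x.1.1.1, congrArg Units.val (MonoidHom.mem_ker.1 x.2)⟩ = x.1.1 := Units.ext rfl
          rw [this]; exact x.1.2⟩
        invFun := fun y => ⟨⟨ι y.1, y.2⟩, Units.ext y.1.2⟩
        left_inv := fun x => Subtype.ext (Subtype.ext (Units.ext rfl))
        right_inv := fun y => rfl }
    have h2 := Subgroup.card_mul_index d.ker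
    rw [Subgroup.index_ker, e, Nat.card_zpowers, hs,
      show q ^ 2 - 1 = (q + 1) * (q - 1) by simpa using Nat.sq_sub_sq q 1] at h2
    have h3 : Nat.card d.range ∣ q - 1 := by
      have := Subgroup.card_subgroup_dvd_card d.range
      have hu : Nat.card Fˣ = q - 1 := by rw [Nat.card_units, Nat.card_eq_fintype_card]
      exact hu ▸ this
    obtain ⟨w, hw⟩ := h3
    have hpos : 0 < Nat.card d.range := Nat.card_pos
    refine ⟨w, Nat.eq_of_mul_eq_mul_right hpos ?_⟩
    rw [h2, hw]; ring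
  · have hc : Nat.Coprime (r ^ n) (q + 1) := Nat.Coprime.pow_left _ ((Nat.Prime.coprime_iff_not_dvd hr').2 h1)
    have hdvd'' := hc.dvd_of_dvd_mul_right hdvd'
    let δ : Fˣ →* Matrix.SpecialLinearGroup (Fin 2) F :=
      { toFun := fun u => ⟨!![(u : F), 0; 0, (↑u⁻¹ : F)], by simp [det_fin_two]⟩
        map_one' := Subtype.ext (by ext i j; fin_cases i <;> fin_cases j <;> simp)
        map_mul' := fun u v => Subtype.ext (by
          show (!![((u * v : Fˣ) : F), 0; 0, (↑(u * v)⁻¹ : F)] : Matrix (Fin 2) (Fin 2) F) =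
            !![(u : F), 0; 0, (↑u⁻¹ : F)] * !![(v : F), 0; 0, (↑v⁻¹ : F)]
          ext i j; fin_cases i <;> fin_cases j <;> simp [Matrix.mul_apply, Fin.sum_univ_two, mul_comm]) }
    have hinj : Function.Injective δ := fun u v h => Units.ext (by
      have h' : (!![(u : F), 0; 0, (↑u⁻¹ : F)] : Matrix (Fin 2) (Fin 2) F) = !![(v : F), 0; 0, (↑v⁻¹ : F)] :=
        congrArg Subtype.val h
      simpa using congrFun (congrFun h' 0) 0)
    refine ⟨δ.range, isCyclic_of_surjective δ.rangeRestrict δ.rangeRestrict_surjective, ?_⟩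
    rw [← Nat.card_congr (MonoidHom.ofInjective hinj).toEquiv, Nat.card_units, Nat.card_eq_fintype_card]
    exact hdvd''

end CfsgLib.Classical
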