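import Cfsg.Agent.Lib.Classical.SLBasic

/-!
# Subgroups of `GL(n,q)` normalised by `SL(n,q)`
-/

set_option autoImplicit false

namespace CfsgLib.Classical

open scoped commutatorElement

variable {F : Type*} [Field F] [Fintype F] {n : ℕ}

local notation "SLn" => Matrix.SpecialLinearGroup (Fin n) F
local notation "GLn" => Matrix.GeneralLinearGroup (Fin n) F

omit [Fintype F] in
theorem commutator_central_mul {z w : SLn} (hz : z ∈ Subgroup.center SLn) (hw : w ∈ Subgroup.center SLn)
    (a b : SLn) : ⁅z * a, w * b⁆ = ⁅a, b⁆ := by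
  have hz' := fun g => Subgroup.mem_center_iff.1 hz g
  have hw' := fun g => Subgroup.mem_center_iff.1 hw g
  rw [commutatorElement_def, commutatorElement_def, mul_inv_rev, mul_inv_rev]
  calc z * a * (w * b) * (a⁻¹ * z⁻¹) * (b⁻¹ * w⁻¹)
      = (z * a) * (w * (b * (a⁻¹ * z⁻¹) * b⁻¹)) * w⁻¹ := by group
    _ = (z * a) * ((b * (a⁻¹ * z⁻¹) * b⁻¹) * w) * w⁻¹ := by rw [hw' (b * (a⁻¹ * z⁻¹) * b⁻¹)]
    _ = (z * (a * b * a⁻¹)) * z⁻¹ * b⁻¹ := by group
    _ = ((a * b * a⁻¹) * z) * z⁻¹ * b⁻¹ := by rw [hz' (a * b * a⁻¹)]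
    _ = a * b * a⁻¹ * b⁻¹ := by group

theorem sl_perfect_and_psl_simple (hn : 2 ≤ n) (hex : ¬ (n = 2 ∧ Fintype.card F ≤ 3)) :
    commutator SLn = ⊤ ∧ IsSimpleGroup (Matrix.ProjectiveSpecialLinearGroup (Fin n) F) := by
  rcases Nat.lt_or_ge n 3 with h | h
  · obtain rfl : n = 2 := by omega
    have hq : 4 ≤ Nat.card F := by rw [Nat.card_eq_fintype_card]; omega
    refine ⟨?_, Matrix.ProjectiveSpecialLinearGroup.rank_two_simple hq⟩
    obtain ⟨a, ha, ha2⟩ : ∃ a : F, a ≠ 0 ∧ a ^ 2 ≠ 1 := by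
      classical
      by_contra hc
      push Not at hc
      have : (Finset.univ : Finset F) ⊆ {0, 1, -1} := fun a _ => by
        by_cases h0 : a = 0
        · simp [h0]
        · rcases sq_eq_one_iff.1 (hc a h0) with h | h <;> simp [h]
      have := (Finset.card_le_card this).trans Finset.card_le_three
      rw [Finset.card_univ] at this
      omega
    exact sl_eq_top (commutator _) fun i j hij c => Matrix.transvection_mem_commutator ha ha2 hij c
  · exact ⟨sl_commutator h, psl_isSimple h⟩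

/-- A normal subgroup of `SL(n,q)` is central or everything. -/
theorem sl_normal_cases (hn : 2 ≤ n) (hex : ¬ (n = 2 ∧ Fintype.card F ≤ 3)) (N : Subgroup SLn) [N.Normal] :
    N ≤ Subgroup.center SLn ∨ N = ⊤ := by
  obtain ⟨hperf, hsimple⟩ := sl_perfect_and_psl_simple hn hex
  let π : SLn →* Matrix.ProjectiveSpecialLinearGroup (Fin n) F := QuotientGroup.mk' _
  rcases (Subgroup.Normal.map inferInstance π (QuotientGroup.mk'_surjective _) :
    (N.map π).Normal).eq_bot_or_eq_top with h | h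
  · exact Or.inl fun x hx => (QuotientGroup.eq_one_iff x).1
      ((Subgroup.eq_bot_iff_forall _).1 h _ (Subgroup.mem_map_of_mem π hx))
  · refine Or.inr (eq_top_iff.2 ?_)
    have hsup : ∀ g : SLn, ∃ a ∈ N, a⁻¹ * g ∈ Subgroup.center SLn := fun g => by
      obtain ⟨a, ha, e⟩ : π g ∈ N.map π := h ▸ Subgroup.mem_top _
      exact ⟨a, ha, QuotientGroup.eq.1 e⟩
    rw [← hperf, commutator_def, Subgroup.commutator_le]
    intro x _ y _
    obtain ⟨a, ha, hax⟩ := hsup x
    obtain ⟨b, hb, hby⟩ := hsup y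
    have e : ⁅x, y⁆ = ⁅a, b⁆ := by
      have hx : x = (a⁻¹ * x) * a := by rw [← Subgroup.mem_center_iff.1 hax a]; group
      have hy : y = (b⁻¹ * y) * b := by rw [← Subgroup.mem_center_iff.1 hby b]; group
      conv_lhs => rw [hx, hy]
      exact commutator_central_mul hax hby a b
    rw [e, commutatorElement_def]
    exact N.mul_mem (N.mul_mem (N.mul_mem ha hb) (N.inv_mem ha)) (N.inv_mem hb)

/-- Dichotomy for subgroups of `GL(n,q)` normalised by `SL(n,q)`. -/
theorem gl_normalized_cases (hn : 1 ≤ n) (hex : ¬ (n = 2 ∧ Fintype.card F ≤ 3)) (G : Subgroup GLn)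
    (hG : ∀ s : SLn, ∀ g ∈ G,
      Matrix.SpecialLinearGroup.toGL s * g * (Matrix.SpecialLinearGroup.toGL s)⁻¹ ∈ G) :
    (∀ g ∈ G, ∃ c : F, (g : Matrix (Fin n) (Fin n) F) = c • (1 : Matrix (Fin n) (Fin n) F)) ∨
      (Matrix.SpecialLinearGroup.toGL : SLn →* GLn).range ≤ G := by
  classical
  rcases Nat.lt_or_ge n 2 with h1 | hn2
  · obtain rfl : n = 1 := by omega
    refine Or.inl fun g _ => ⟨g.1 0 0, ?_⟩
    ext i j
    fin_cases i; fin_cases j
    simp
  let f : SLn →* GLn := Matrix.SpecialLinearGroup.toGL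
  haveI : (G.comap f).Normal := ⟨fun x hx s => by
    change f (s * x * s⁻¹) ∈ G
    rw [map_mul, map_mul, map_inv]
    exact hG s _ hx⟩
  rcases sl_normal_cases hn2 hex (G.comap f) with hc | ht
  swap
  · refine Or.inr ?_
    rintro _ ⟨s, rfl⟩
    exact (ht.symm ▸ Subgroup.mem_top s : s ∈ G.comap f)
  refine Or.inl fun g hg => ?_
  have hcomm : ∀ s : SLn, ∃ z ∈ Subgroup.center SLn, g * f s * g⁻¹ = f (z * s) := fun s => by
    have hmem : g * f s * g⁻¹ * (f s)⁻¹ ∈ G := by
      rw [mul_assoc, mul_assoc, ← mul_assoc (f s)]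
      exact G.mul_mem hg (hG s _ (G.inv_mem hg))
    have hd : (g * f s * g⁻¹ * (f s)⁻¹ : GLn).1.det = 1 := by
      have h1 : Matrix.GeneralLinearGroup.det (g * f s * g⁻¹ * (f s)⁻¹) = 1 := by
        simp only [map_mul, map_inv, mul_comm (Matrix.GeneralLinearGroup.det g)]
        group
      exact congrArg Units.val h1
    let m : SLn := ⟨_, hd⟩
    have he : f m = g * f s * g⁻¹ * (f s)⁻¹ := Units.ext rfl
    refine ⟨m, hc (show f m ∈ G by rw [he]; exact hmem), ?_⟩
    rw [map_mul, he, inv_mul_cancel_right]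
  have hfix : ∀ s ∈ commutator SLn, g * f s * g⁻¹ = f s := by
    intro s hs
    induction hs using Subgroup.closure_induction with
    | mem x hx =>
      obtain ⟨a, -, b, -, rfl⟩ := hx
      obtain ⟨z, hz, ha⟩ := hcomm a
      obtain ⟨w, hw, hb⟩ := hcomm b
      have e : ⁅z * a, w * b⁆ = ⁅a, b⁆ := commutator_central_mul hz hw a b
      have h1 : g * f ⁅a, b⁆ * g⁻¹ = ⁅g * f a * g⁻¹, g * f b * g⁻¹⁆ := by
        simp only [commutatorElement_def, map_mul, map_inv]; group
      rw [h1, ha, hb, ← map_commutatorElement, e]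
    | one => simp
    | mul x y _ _ hx hy =>
      rw [map_mul, show g * (f x * f y) * g⁻¹ = (g * f x * g⁻¹) * (g * f y * g⁻¹) by group, hx, hy]
    | inv x _ hx => rw [map_inv, ← conj_inv, hx]
  have hperf := (sl_perfect_and_psl_simple hn2 hex).1
  obtain ⟨c, hc'⟩ := Matrix.mem_range_scalar_of_commute_single (M := g.1) (fun i j hij => by
    have h := hfix (Matrix.SpecialLinearGroup.transvection hij 1) (hperf.symm ▸ Subgroup.mem_top _)
    rw [mul_inv_eq_iff_eq_mul] at h
    have h' := congrArg Units.val h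
    simp only [Units.val_mul] at h'
    change g.1 * Matrix.transvection i j 1 = Matrix.transvection i j 1 * g.1 at h'
    rw [Matrix.transvection, mul_add, add_mul, mul_one, one_mul, add_left_cancel_iff] at h'
    exact h'.symm)
  exact ⟨c, by rw [← hc', Matrix.scalar_apply, Matrix.smul_one_eq_diagonal]⟩

end CfsgLib.Classical
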