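import Cfsg.Agent.Lib.Classical.OrthEmbed
import Cfsg.Agent.Lib.Classical.SLNormalized
import Cfsg.Agent.Lib.Classical.SL2Sylow
import Cfsg.Agent.Lib.Lie.CentralPair
import Cfsg.Agent.Lib.Orth.Centre

/-!
# Exceptional isomorphisms between classical groups: the general argument
-/

set_option autoImplicit false

namespace CfsgLib.Classical.ExcIso

open Matrix CfsgLib.Orth Cfsg.Geo

section embed

variable {F : Type*} [Field F] {κ : Type} [Fintype κ] [DecidableEq κ] {V : Type*} [AddCommGroup V] [Module F V]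
  {G : Type*} [Group G]

/-- An action on an embedded space, read in coordinates. -/
theorem hom_of_embed (P : (κ → F) → F) (T : (κ → F) →ₗ[F] V) (hT : Function.Injective T) (ρ : G →* Module.End F V)
    (hmem : ∀ g x, ∃ y, T y = ρ g (T x)) (hP : ∀ g x y, T y = ρ g (T x) → P y = P x) :
    ∃ φ : G →* Cfsg.isometryGroup F P, ∀ g x, T ((φ g).1.1 *ᵥ x) = ρ g (T x) := by
  let ψ : G → (κ → F) → (κ → F) := fun g x => (hmem g x).choose
  have hψ : ∀ g x, T (ψ g x) = ρ g (T x) := fun g x => (hmem g x).choose_spec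
  let L : G → (κ → F) →ₗ[F] (κ → F) := fun g =>
    { toFun := ψ g
      map_add' := fun x y => hT (by rw [hψ, map_add, map_add, map_add, hψ, hψ])
      map_smul' := fun c x => hT (by rw [hψ, map_smul, map_smul, RingHom.id_apply, map_smul, hψ]) }
  let M : G →* Matrix κ κ F :=
    { toFun := fun g => LinearMap.toMatrix' (L g)
      map_one' := by
        rw [← LinearMap.toMatrix'_one]
        refine congrArg _ (LinearMap.ext fun x => hT ?_)
        show T (ψ 1 x) = T x
        rw [hψ, map_one]; rfl
      map_mul' := fun g h => by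
        rw [← LinearMap.toMatrix'_comp]
        refine congrArg _ (LinearMap.ext fun x => hT ?_)
        show T (ψ (g * h) x) = T (ψ g (ψ h x))
        rw [hψ, hψ, hψ, map_mul]; rfl }
  have hM : ∀ g x, T (M g *ᵥ x) = ρ g (T x) := fun g x => by
    show T (LinearMap.toMatrix' (L g) *ᵥ x) = _
    rw [LinearMap.toMatrix'_mulVec]
    exact hψ g x
  refine ⟨M.toHomUnits.codRestrict _ fun g => CfsgLib.Classical.mem_isometryGroup_iff.2 fun x => ?_, hM⟩
  exact hP g x _ (hM g x)

theorem apply_eq_one_iff {P : (κ → F) → F} (T : (κ → F) →ₗ[F] V) (hT : Function.Injective T) (ρ : G →* Module.End F V)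
    {φ : G →* Cfsg.isometryGroup F P} (hφ : ∀ g x, T ((φ g).1.1 *ᵥ x) = ρ g (T x)) (g : G) :
    φ g = 1 ↔ ∀ x, ρ g (T x) = T x := by
  constructor
  · intro h x
    rw [← hφ, h]
    exact congrArg T (Matrix.one_mulVec x)
  · intro h
    exact Subtype.ext (Units.ext (Matrix.ext_iff_mulVec.2 fun x => hT ((hφ g x).trans ((h x).trans
      (congrArg T (Matrix.one_mulVec x)).symm))))

end embed

theorem hom_trivial_of_perfect {G A : Type*} [Group G] [CommGroup A] (h : commutator G = ⊤) (ψ : G →* A) : ψ = 1 := by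
  refine MonoidHom.ext fun g => ?_
  have : commutator G ≤ ψ.ker := Abelianization.commutator_subset_ker ψ
  exact this (h ▸ Subgroup.mem_top g)

/-- `SL₂(q)`, `q ≥ 3`, has no homomorphism onto a non-trivial group of exponent dividing four. -/
theorem sl_two_hom_trivial {F : Type*} [Field F] [Fintype F] {A : Type*} [CommGroup A] (hq : 3 ≤ Fintype.card F)
    (h4 : ∀ a : A, a ^ 4 = 1) (ψ : Matrix.SpecialLinearGroup (Fin 2) F →* A) : ψ = 1 := by
  classical
  rcases Nat.lt_or_ge 3 (Fintype.card F) with h | h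
  · exact hom_trivial_of_perfect (CfsgLib.Classical.sl_perfect_and_psl_simple le_rfl (by omega)).1 ψ
  refine MonoidHom.ext fun g => ?_
  have hker : ψ.ker = ⊤ := by
    refine CfsgLib.Classical.sl_eq_top _ fun i j hij c => ?_
    set t := Matrix.SpecialLinearGroup.transvection hij c
    have h3 : (3 : F) = 0 := by
      have := Nat.cast_card_eq_zero F
      rwa [show Fintype.card F = 3 by omega, Nat.cast_ofNat] at this
    have hpow : ∀ k : ℕ, t ^ k = Matrix.SpecialLinearGroup.transvection hij ((k : F) * c) := by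
      intro k
      induction k with
      | zero => exact Subtype.ext (by simp [Matrix.SpecialLinearGroup.transvection, Matrix.transvection])
      | succ k ih =>
        rw [pow_succ, ih]
        refine Subtype.ext ?_
        show Matrix.transvection i j ((k : F) * c) * Matrix.transvection i j c = Matrix.transvection i j (((k + 1 : ℕ) : F) * c)
        rw [Matrix.transvection_mul_transvection_same _ _ hij, Nat.cast_succ, add_mul, one_mul]
    have ht : t ^ 3 = 1 := by
      have h0 := hpow 0
      rw [Nat.cast_zero, zero_mul, pow_zero] at h0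
      rw [hpow, Nat.cast_ofNat, h3, zero_mul, ← h0]
    rw [MonoidHom.mem_ker]
    have h1 : ψ t ^ 3 = 1 := by rw [← map_pow, ht, map_one]
    have h2 := h4 (ψ t)
    rwa [pow_succ, h1, one_mul] at h2
  exact hker ▸ Subgroup.mem_top g |> MonoidHom.mem_ker.1

/-- The centre of a centre-quotient is trivial for a simple non-abelian quotient. -/
theorem center_quotient_bot {G : Type*} [Group G] (hperf : commutator G = ⊤)
    (hs : IsSimpleGroup (G ⧸ Subgroup.center G)) : Subgroup.center (G ⧸ Subgroup.center G) = ⊥ := by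
  refine ((Subgroup.Normal.eq_bot_or_eq_top (inferInstanceAs (Subgroup.center (G ⧸ Subgroup.center G)).Normal)).resolve_right
    fun h => ?_)
  have h1 : commutator (G ⧸ Subgroup.center G) = ⊥ := by
    rw [commutator_def, Subgroup.commutator_eq_bot_iff_le_centralizer, Subgroup.coe_top, Subgroup.centralizer_univ, h]
  have h2 : commutator (G ⧸ Subgroup.center G) = ⊤ := by
    rw [commutator_def, ← Subgroup.map_top_of_surjective (QuotientGroup.mk' (Subgroup.center G))
      (QuotientGroup.mk'_surjective _), ← Subgroup.map_commutator, ← commutator_def, hperf]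
  exact bot_ne_top (h1.symm.trans h2)

theorem center_psl_bot {F : Type*} [Field F] [Fintype F] {n : ℕ} (hn : 2 ≤ n) (hq : n = 2 → 3 ≤ Fintype.card F) :
    Subgroup.center (Matrix.ProjectiveSpecialLinearGroup (Fin n) F) = ⊥ := by
  by_cases hex : n = 2 ∧ Fintype.card F ≤ 3
  · obtain ⟨rfl, h3⟩ := hex
    exact CfsgLib.CentralPair.center_psl_eq_bot (by
      rw [show Fintype.card F = 3 by have := hq rfl; omega]; decide)
  · obtain ⟨hp, hs⟩ := CfsgLib.Classical.sl_perfect_and_psl_simple hn hex
    exact center_quotient_bot hp hs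

section general

variable {F : Type*} [Field F] [Fintype F] {ι : Type} [Fintype ι] [DecidableEq ι] {Q : (ι → F) → F}
  {G : Type*} [Group G] [Finite G]

/-- A homomorphic image of the right order inside `Ω` is all of it. -/
theorem pomega_equiv (φ : G →* Cfsg.isometryGroup F Q) (hK : φ.ker ≤ Subgroup.center G)
    (hle : φ.range ≤ Cfsg.Omega F Q)
    (hcard : Nat.card G * (Cfsg.Omega F Q).index = Nat.card φ.ker * Nat.card (Cfsg.isometryGroup F Q))
    (hZ : Subgroup.center (G ⧸ Subgroup.center G) = ⊥) :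
    Nonempty (Cfsg.POmega F Q ≃* G ⧸ Subgroup.center G) := by
  have h1 := Subgroup.card_mul_index φ.ker
  rw [Subgroup.index_ker] at h1
  have h2 : Nat.card φ.range * (Cfsg.Omega F Q).index = Nat.card (Cfsg.isometryGroup F Q) := by
    refine Nat.eq_of_mul_eq_mul_left (Nat.card_pos (α := φ.ker)) ?_
    rw [← mul_assoc, h1, hcard]
  have heq : φ.range = Cfsg.Omega F Q := by
    refine Subgroup.eq_of_le_of_card_ge hle (le_of_eq ?_)
    have h3 := Subgroup.card_mul_index (Cfsg.Omega F Q)
    exact Nat.eq_of_mul_eq_mul_right (Nat.pos_of_ne_zero Subgroup.index_ne_zero_of_finite) (h3.trans h2.symm)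
  let e : G ⧸ φ.ker ≃* ↥(Cfsg.Omega F Q) := (QuotientGroup.quotientKerEquivRange φ).trans (MulEquiv.subgroupCongr heq)
  have hc : Subgroup.center (G ⧸ φ.ker) = (Subgroup.center G).map (QuotientGroup.mk' φ.ker) := by
    refine le_antisymm (fun x hx => ?_) ?_
    · obtain ⟨g, rfl⟩ := QuotientGroup.mk'_surjective φ.ker x
      refine ⟨g, ?_, rfl⟩
      have hg : (QuotientGroup.mk' (Subgroup.center G) g) ∈ Subgroup.center (G ⧸ Subgroup.center G) := by
        refine Subgroup.mem_center_iff.2 fun y => ?_
        obtain ⟨y, rfl⟩ := QuotientGroup.mk'_surjective (Subgroup.center G) y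
        have := Subgroup.mem_center_iff.1 hx (QuotientGroup.mk' φ.ker y)
        rw [← map_mul, ← map_mul, QuotientGroup.mk'_apply, QuotientGroup.mk'_apply, QuotientGroup.eq] at this
        rw [← map_mul, ← map_mul, QuotientGroup.mk'_apply, QuotientGroup.mk'_apply, QuotientGroup.eq]
        exact hK this
      rw [hZ, Subgroup.mem_bot, QuotientGroup.mk'_apply, QuotientGroup.eq_one_iff] at hg
      exact hg
    · rintro _ ⟨g, hg, rfl⟩
      refine Subgroup.mem_center_iff.2 fun y => ?_
      obtain ⟨y, rfl⟩ := QuotientGroup.mk'_surjective φ.ker y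
      rw [← map_mul, ← map_mul, Subgroup.mem_center_iff.1 hg y]
  have hmap : (Subgroup.center (G ⧸ φ.ker)).map (e : G ⧸ φ.ker →* ↥(Cfsg.Omega F Q)) = Subgroup.center _ := by
    refine le_antisymm ?_ fun x hx => ⟨e.symm x, Subgroup.mem_center_iff.2 fun y => ?_, e.apply_symm_apply x⟩
    · rintro _ ⟨g, hg, rfl⟩
      refine Subgroup.mem_center_iff.2 fun y => ?_
      obtain ⟨y, rfl⟩ := e.surjective y
      exact (map_mul e y g).symm.trans ((congrArg e (Subgroup.mem_center_iff.1 hg y)).trans (map_mul e g y))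
    · refine e.injective ?_
      rw [map_mul, map_mul, e.apply_symm_apply]
      exact Subgroup.mem_center_iff.1 hx _
  haveI : ((Subgroup.center G).map (QuotientGroup.mk' φ.ker)).Normal :=
    Subgroup.Normal.map inferInstance _ (QuotientGroup.mk'_surjective _)
  exact ⟨((QuotientGroup.congr _ _ e hmap).symm.trans (QuotientGroup.quotientMulEquivOfEq hc)).trans
    (QuotientGroup.quotientQuotientEquivQuotient φ.ker (Subgroup.center G) hK)⟩

theorem le_omega (φ : G →* Cfsg.isometryGroup F Q)
    (h : ∀ ψ : G →* Abelianization (Cfsg.isometryGroup F Q), ψ = 1) : φ.range ≤ Cfsg.Omega F Q := by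
  rintro _ ⟨g, rfl⟩
  show φ g ∈ commutator _
  rw [← Abelianization.ker_of, MonoidHom.mem_ker]
  exact DFunLike.congr_fun (h (Abelianization.of.comp φ)) g

omit [Fintype ι] in
theorem card_sqClass_gcd : Nat.card (SqClass F) = Nat.gcd 2 (Fintype.card F - 1) := by
  rw [card_sqClass_mul, IsCyclic.card_powMonoidHom_ker, Nat.card_units, Nat.card_eq_fintype_card, Nat.gcd_comm]

theorem abelianization_pow_four (hQ : IsNondegenerateQuadraticForm Q) (hn : 2 ≤ Fintype.card ι)
    (hex : Fintype.card F ≠ 2 ∨ Fintype.card ι ≠ 4) (a : Abelianization (Cfsg.isometryGroup F Q)) : a ^ 4 = 1 := by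
  have hidx := omega_index_eq hQ hn hex
  rw [card_sqClass_gcd] at hidx
  have hd : Nat.gcd 2 (Fintype.card F - 1) ∣ 2 := Nat.gcd_dvd_left _ _
  obtain ⟨c, hc⟩ : (Cfsg.Omega F Q).index ∣ 4 := by rw [hidx]; exact Nat.mul_dvd_mul hd (dvd_refl 2)
  have h : a ^ (Cfsg.Omega F Q).index = 1 := by
    have : (Cfsg.Omega F Q).index = Nat.card (Abelianization (Cfsg.isometryGroup F Q)) := rfl
    rw [this, pow_card_eq_one']
  rw [hc, pow_mul, h, one_pow]

end general

/-- A root of an anisotropic form in the quadratic extension. -/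
theorem exists_root {F K : Type*} [Field F] [Fintype F] [Field K] [Fintype K] {q : ℕ} (hF : Fintype.card F = q)
    (hK : Fintype.card K = q ^ 2) {a c : F}
    (hac : ∀ z₁ z₂ : F, z₁ ^ 2 + a * z₁ * z₂ + c * z₂ ^ 2 = 0 → z₁ = 0 ∧ z₂ = 0) :
    ∃ (f : F →+* K) (ρ : K), ρ ^ 2 + f a * ρ + f c = 0 := by
  open Polynomial in
  let P : F[X] := X ^ 2 + C a * X + C c
  have hPm : P.Monic := by unfold P; monicity!
  have hP2 : P.natDegree = 2 := by unfold P; compute_degree!
  haveI : Fact (Irreducible P) := ⟨(Polynomial.irreducible_iff_roots_eq_zero_of_degree_le_three (le_of_eq hP2.symm)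
    (hP2 ▸ by norm_num)).2 (Multiset.eq_zero_of_forall_notMem fun t ht => by
      have h := (Polynomial.mem_roots'.1 ht).2
      simp [P] at h
      exact one_ne_zero (hac t 1 (by linear_combination h)).2)⟩
  haveI : Module.Finite F (AdjoinRoot P) := hPm.finite_adjoinRoot
  haveI : Finite (AdjoinRoot P) := Module.finite_of_finite F
  letI : Fintype (AdjoinRoot P) := Fintype.ofFinite _
  have hcard : Fintype.card (AdjoinRoot P) = Fintype.card K := by
    rw [Module.card_eq_pow_finrank (K := F), (AdjoinRoot.powerBasis hPm.ne_zero).finrank, AdjoinRoot.powerBasis_dim,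
      hP2, hF, hK]
  let σ : AdjoinRoot P ≃+* K := FiniteField.ringEquivOfCardEq hcard
  refine ⟨σ.toRingHom.comp (AdjoinRoot.of P), σ (AdjoinRoot.root P), ?_⟩
  have h := AdjoinRoot.eval₂_root P
  simp [P] at h
  show σ (AdjoinRoot.root P) ^ 2 + σ (AdjoinRoot.of P a) * σ (AdjoinRoot.root P) + σ (AdjoinRoot.of P c) = 0
  rw [← map_pow, ← map_mul, ← map_add, ← map_add, h, map_zero]

end CfsgLib.Classical.ExcIso
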