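import Cfsg.Agent.Lib.Classical.AltForm
import Cfsg.Agent.Lib.Sp.Basic
import Cfsg.Agent.Lib.Classical.SpOrder

/-!
# Counting with isotropic frames in symplectic space
-/

set_option autoImplicit false

namespace CfsgLib.Classical.SympCount

open Matrix Module CfsgLib.Sp

variable {F : Type*} [Field F] {m : ℕ}

local notation "Vm" => Fin m ⊕ Fin m → F
local notation "Spm" => Matrix.symplecticGroup (Fin m) F

/-- The symplectic form as a bilinear map. -/
def sB (m : ℕ) (F : Type*) [Field F] : LinearMap.BilinForm F (Fin m ⊕ Fin m → F) :=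
  LinearMap.mk₂ F (sf (F := F) (m := m)) sf_add_left (fun a u v => sf_smul_left a u v) sf_add_right
    (fun a u v => sf_smul_right a u v)

theorem sB_apply (u v : Vm) : sB m F u v = sf u v := rfl

theorem sB_isAlt : (sB m F).IsAlt := fun u => sf_self u

theorem sB_nondegenerate : (sB m F).Nondegenerate :=
  ⟨fun _ h => eq_zero_of_sf h, fun _ h => eq_zero_of_sf' h⟩

/-- Witt's lemma for tuples. -/
theorem exists_move_tuple {ι : Type*} [Fintype ι] {t t' : ι → Vm} (ht : LinearIndependent F t)
    (ht' : LinearIndependent F t') (h : ∀ i j, sf (t i) (t j) = sf (t' i) (t' j)) :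
    ∃ A : Spm, ∀ i, A.1 *ᵥ t i = t' i := by
  classical
  let b := Basis.span ht
  let f : Submodule.span F (Set.range t) →ₗ[F] Vm := b.constr F t'
  have hinj : Function.Injective f := by
    refine (injective_iff_map_eq_zero f).2 fun x hx => ?_
    rw [Basis.constr_apply_fintype] at hx
    have h0 := Fintype.linearIndependent_iff.1 ht' _ hx
    exact b.equivFun.injective (funext fun i => by rw [h0 i, map_zero]; rfl)
  have hiso : ∀ x x', sB m F (f x) (f x') = sB m F (x : Vm) x' := by
    have : (sB m F).compl₁₂ f f =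
        (sB m F).compl₁₂ (Submodule.span F (Set.range t)).subtype (Submodule.span F (Set.range t)).subtype := by
      refine LinearMap.ext_basis b b fun i j => ?_
      rw [LinearMap.compl₁₂_apply, LinearMap.compl₁₂_apply, Basis.constr_basis, Basis.constr_basis]
      simp [sB_apply, Basis.span_apply, h i j, b]
    exact fun x x' => LinearMap.congr_fun₂ this x x'
  obtain ⟨g, hg, hgf⟩ := Alt.witt sB_nondegenerate sB_isAlt _ f hinj hiso
  refine ⟨⟨LinearMap.toMatrix' g.toLinearMap, mem_sp_iff.2 fun u v => ?_⟩, fun i => ?_⟩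
  · rw [LinearMap.toMatrix'_mulVec, LinearMap.toMatrix'_mulVec]
    exact hg u v
  · change LinearMap.toMatrix' g.toLinearMap *ᵥ t i = _
    rw [LinearMap.toMatrix'_mulVec]
    refine (hgf ⟨t i, Submodule.subset_span ⟨i, rfl⟩⟩).trans ?_
    have e : (⟨t i, Submodule.subset_span ⟨i, rfl⟩⟩ : Submodule.span F (Set.range t)) = b i :=
      Subtype.ext (by simp [b, Basis.span_apply])
    rw [e, Basis.constr_basis]

/-- Ordered isotropic frames. -/
def Frame (m : ℕ) (F : Type*) [Field F] (k : ℕ) : Type _ :=
  {t : Fin k → (Fin m ⊕ Fin m → F) // LinearIndependent F t ∧ ∀ i j, sf (t i) (t j) = 0}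

noncomputable instance [Finite F] (k : ℕ) : Finite (Frame m F k) := Subtype.finite

theorem linearIndependent_act (A : Spm) {k : ℕ} {t : Fin k → Vm} (h : LinearIndependent F t) :
    LinearIndependent F fun i => A.1 *ᵥ t i := by
  refine h.map' (Matrix.toLin' A.1) (LinearMap.ker_eq_bot_of_injective fun u v e => ?_)
  rw [← sp_inv_mulVec A u, ← Matrix.toLin'_apply A.1 u, e, Matrix.toLin'_apply, sp_inv_mulVec]

instance {k : ℕ} : MulAction Spm (Frame m F k) where
  smul A t := ⟨fun i => A.1 *ᵥ t.1 i, linearIndependent_act A t.2.1, fun i j => (sf_sp A _ _).trans (t.2.2 i j)⟩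
  one_smul t := Subtype.ext (funext fun i => sp_one_mulVec (t.1 i))
  mul_smul A B t := Subtype.ext (funext fun i => sp_mul_mulVec A B (t.1 i))

theorem smul_val {k : ℕ} (A : Spm) (t : Frame m F k) (i : Fin k) : (A • t).1 i = A.1 *ᵥ t.1 i := rfl

instance {k : ℕ} : MulAction.IsPretransitive Spm (Frame m F k) := ⟨fun t t' => by
  obtain ⟨A, hA⟩ := exists_move_tuple t.2.1 t'.2.1 fun i j => (t.2.2 i j).trans (t'.2.2 i j).symm
  exact ⟨A, Subtype.ext (funext hA)⟩⟩

variable [Fintype F]

/-- A subgroup cut out by one frame. -/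
theorem card_mul_card_frame {k : ℕ} (H : Subgroup Spm) (t0 : Frame m F k) (S : Set (Frame m F k))
    (hH : ∀ A, A ∈ H ↔ A • t0 ∈ S) :
    Nat.card H * Nat.card (Frame m F k) = Nat.card S * Nat.card Spm := by
  classical
  have hfib : ∀ t : Frame m F k, Nat.card {A : Spm // A • t0 = t} = Nat.card (MulAction.stabilizer Spm t0) := by
    intro t
    obtain ⟨C, rfl⟩ := MulAction.exists_smul_eq Spm t0 t
    exact Nat.card_congr
      { toFun := fun A => ⟨C⁻¹ * A.1, MulAction.mem_stabilizer_iff.2 (by rw [mul_smul, A.2, inv_smul_smul])⟩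
        invFun := fun B => ⟨C * B.1, by rw [mul_smul, MulAction.mem_stabilizer_iff.1 B.2]⟩
        left_inv := fun A => Subtype.ext (mul_inv_cancel_left C A.1)
        right_inv := fun B => Subtype.ext (inv_mul_cancel_left C B.1) }
  haveI : Fintype (Frame m F k) := Fintype.ofFinite _
  have hG : Nat.card Spm = Nat.card (Frame m F k) * Nat.card (MulAction.stabilizer Spm t0) := by
    rw [← Nat.card_congr (Equiv.sigmaFiberEquiv fun A : Spm => A • t0), Nat.card_sigma,
      Finset.sum_congr rfl fun t _ => hfib t, Finset.sum_const, Finset.card_univ, smul_eq_mul,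
      ← Nat.card_eq_fintype_card]
  have hS : Nat.card H = Nat.card S * Nat.card (MulAction.stabilizer Spm t0) := by
    let e : H ≃ Σ t : S, {A : Spm // A • t0 = t.1} :=
      { toFun := fun A => ⟨⟨A.1 • t0, (hH A.1).1 A.2⟩, A.1, rfl⟩
        invFun := fun x => ⟨x.2.1, (hH _).2 (by rw [x.2.2]; exact x.1.2)⟩
        left_inv := fun A => rfl
        right_inv := by rintro ⟨⟨t, ht⟩, A, rfl : A • t0 = t⟩; rfl }
    rw [Nat.card_congr e, Nat.card_sigma, Finset.sum_congr rfl fun (t : S) _ => hfib t.1, Finset.sum_const,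
      Finset.card_univ, smul_eq_mul, ← Nat.card_eq_fintype_card]
  rw [hS, hG]
  ring

/-- The orthogonal of a subspace. -/
theorem card_perp (U : Submodule F Vm) :
    Nat.card {x : Vm // ∀ u ∈ U, sf u x = 0} * Nat.card U = Fintype.card F ^ (2 * m) := by
  classical
  rw [Nat.card_congr (show {x : Vm // ∀ u ∈ U, sf u x = 0} ≃ (sB m F).orthogonal U from
    Equiv.subtypeEquivRight fun x =>
      ⟨fun h => LinearMap.BilinForm.mem_orthogonal_iff.2 h, fun h => LinearMap.BilinForm.mem_orthogonal_iff.1 h⟩),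
    Module.natCard_eq_pow_finrank (K := F) (V := (sB m F).orthogonal U),
    Module.natCard_eq_pow_finrank (K := F) (V := U), ← pow_add, Nat.card_eq_fintype_card,
    LinearMap.BilinForm.finrank_orthogonal sB_nondegenerate]
  congr 1
  have := U.finrank_le
  simp only [Module.finrank_pi, Fintype.card_sum, Fintype.card_fin] at this ⊢
  omega

/-- The number of ways to extend a frame by one vector. -/
theorem card_extend {k : ℕ} (hk : k ≤ m) (t : Frame m F k) :
    Nat.card {x : Vm // x ∉ Submodule.span F (Set.range t.1) ∧ ∀ i, sf (t.1 i) x = 0} =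
      Fintype.card F ^ (2 * m - k) - Fintype.card F ^ k := by
  classical
  set U := Submodule.span F (Set.range t.1)
  have hU : Nat.card U = Fintype.card F ^ k := by
    rw [Module.natCard_eq_pow_finrank (K := F), Nat.card_eq_fintype_card, finrank_span_eq_card t.2.1,
      Fintype.card_fin]
  have hperp : ∀ x, (∀ i, sf (t.1 i) x = 0) ↔ ∀ u ∈ U, sf u x = 0 := fun x =>
    ⟨fun h u hu => (Submodule.span_le (p := LinearMap.ker ((sB m F).flip x)).2
      (by rintro _ ⟨i, rfl⟩; exact h i)) hu, fun h i => h _ (Submodule.subset_span ⟨i, rfl⟩)⟩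
  have hsub : ∀ x ∈ U, ∀ i, sf (t.1 i) x = 0 := fun x hx i =>
    (Submodule.span_le (p := LinearMap.ker (sB m F (t.1 i)))).2 (by rintro _ ⟨j, rfl⟩; exact t.2.2 i j) hx
  have hc := card_perp U
  rw [hU] at hc
  have hperpc : Nat.card {x : Vm // ∀ u ∈ U, sf u x = 0} = Fintype.card F ^ (2 * m - k) :=
    Nat.eq_of_mul_eq_mul_right (pow_pos Fintype.card_pos k)
      (hc.trans (by rw [← pow_add]; congr 1; omega))
  have hsum : Nat.card {x : Vm // x ∉ U ∧ ∀ i, sf (t.1 i) x = 0} + Nat.card U =
      Nat.card {x : Vm // ∀ u ∈ U, sf u x = 0} := by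
    rw [Nat.card_congr (Equiv.subtypeEquivRight fun x => (hperp x).symm), ← Nat.card_sum]
    exact Nat.card_congr
      { toFun := fun
          | Sum.inl x => ⟨x.1, x.2.2⟩
          | Sum.inr u => ⟨u.1, hsub _ u.2⟩
        invFun := fun x => if h : x.1 ∈ U then Sum.inr ⟨x.1, h⟩ else Sum.inl ⟨x.1, h, x.2⟩
        left_inv := fun
          | Sum.inl x => by simp [x.2.1]
          | Sum.inr u => by simp [u.2]
        right_inv := fun x => by by_cases h : x.1 ∈ U <;> simp [h] }
  rw [← hperpc, ← hU, ← hsum, Nat.add_sub_cancel]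

theorem card_frame : ∀ {k : ℕ}, k ≤ m → Nat.card (Frame m F k) =
    ∏ i ∈ Finset.range k, (Fintype.card F ^ (2 * m - i) - Fintype.card F ^ i) := by
  classical
  intro k
  induction k with
  | zero =>
    intro _
    rw [Finset.prod_range_zero, Nat.card_eq_one_iff_unique]
    exact ⟨⟨fun a b => Subtype.ext (funext fun i => i.elim0)⟩,
      ⟨⟨Fin.elim0, linearIndependent_empty_type, fun i => i.elim0⟩⟩⟩
  | succ k ih =>
    intro hk
    let e : Frame m F (k + 1) ≃ Σ t : Frame m F k,
        {x : Vm // x ∉ Submodule.span F (Set.range t.1) ∧ ∀ i, sf (t.1 i) x = 0} :=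
      { toFun := fun s => ⟨⟨Fin.tail s.1, (linearIndependent_fin_cons.1 (by rw [Fin.cons_self_tail]; exact s.2.1)).1,
            fun i j => s.2.2 _ _⟩,
          s.1 0, (linearIndependent_fin_cons.1 (by rw [Fin.cons_self_tail]; exact s.2.1)).2,
            fun i => s.2.2 _ _⟩
        invFun := fun x => ⟨Fin.cons x.2.1 x.1.1, linearIndependent_fin_cons.2 ⟨x.1.2.1, x.2.2.1⟩, fun i j => by
          induction i using Fin.cases <;> induction j using Fin.cases <;>
            simp only [Fin.cons_zero, Fin.cons_succ]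
          · exact sf_self _
          · rw [sf_swap, x.2.2.2, neg_zero]
          · exact x.2.2.2 _
          · exact x.1.2.2 _ _⟩
        left_inv := fun s => Subtype.ext (Fin.cons_self_tail s.1)
        right_inv := by rintro ⟨⟨t, ht⟩, ⟨x, hx⟩⟩; rfl }
    haveI : Fintype (Frame m F k) := Fintype.ofFinite _
    rw [Nat.card_congr e, Nat.card_sigma, Finset.sum_congr rfl fun t _ => card_extend (by omega) t,
      Finset.sum_const, Finset.card_univ, smul_eq_mul, ← Nat.card_eq_fintype_card, ih (by omega),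
      Finset.prod_range_succ]

end CfsgLib.Classical.SympCount
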