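import Cfsg.Agent.Lib.Classical.HermWitt
import Cfsg.Agent.Lib.Classical.HermOrder

/-!
# Moving tuples with the unitary group
-/

set_option autoImplicit false

namespace CfsgLib.Classical.HermFrames

open Matrix Module CfsgLib.SU CfsgLib.Classical.HermWitt

section Abstract

variable {F : Type*} [Field F] [Finite F] {σ : F →+* F} {V : Type*} [AddCommGroup V] [Module F V]
  [FiniteDimensional F V] {B : V →ₛₗ[σ] V →ₗ[F] F}

omit [Finite F] [FiniteDimensional F V] in
theorem linearIndependent_of_orth {ι : Type*} [Fintype ι] [DecidableEq ι] {v : ι → V}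
    (h : ∀ i j, B (v i) (v j) = if i = j then 1 else 0) : LinearIndependent F v := by
  rw [Fintype.linearIndependent_iff]
  intro c hc i
  have h1 : B (v i) (∑ j, c j • v j) = 0 := by rw [hc, map_zero]
  simpa [map_sum, h] using h1

/-- Orthonormal tuples. -/
theorem exists_orth (hσ : σ ≠ RingHom.id F) (hσ2 : ∀ a : F, σ (σ a) = a) (hS : B.IsSymm)
    (hB : B.Nondegenerate) : ∀ k ≤ finrank F V, ∃ v : Fin k → V, ∀ i j, B (v i) (v j) = if i = j then 1 else 0 := by
  intro k
  induction k with
  | zero => exact fun _ => ⟨fun i => i.elim0, fun i => i.elim0⟩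
  | succ k ih =>
    intro hk
    obtain ⟨v, hv⟩ := ih (by omega)
    have hli := linearIndependent_of_orth hv
    set X := Submodule.span F (Set.range v)
    have hX : NDeg B X := by
      intro x hx h
      obtain ⟨c, rfl⟩ := (Submodule.mem_span_range_iff_exists_fun F).1 hx
      refine Finset.sum_eq_zero fun i _ => ?_
      have h1 := h (v i) (Submodule.subset_span ⟨i, rfl⟩)
      simp [map_sum, LinearMap.sum_apply, LinearMap.map_smulₛₗ, hv] at h1
      rw [h1, zero_smul]
    have hne : X ≠ ⊤ := fun h => by
      have h1 := finrank_span_eq_card hli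
      rw [show Submodule.span F (Set.range v) = ⊤ from h, finrank_top, Fintype.card_fin] at h1
      omega
    obtain ⟨w, hw, hww⟩ := exists_unit hσ hσ2 hS hB hX hne
    refine ⟨Fin.snoc v w, fun i j => ?_⟩
    have hvw : ∀ i, B (v i) w = 0 := fun i => hw _ (Submodule.subset_span ⟨i, rfl⟩)
    induction i using Fin.lastCases with
    | last =>
      induction j using Fin.lastCases with
      | last => simp [hww]
      | cast j =>
        rw [Fin.snoc_last, Fin.snoc_castSucc, ← hS.eq (v j) w, hvw, map_zero,
          if_neg (Fin.castSucc_lt_last j).ne']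
    | cast i =>
      induction j using Fin.lastCases with
      | last => rw [Fin.snoc_castSucc, Fin.snoc_last, hvw, if_neg (Fin.castSucc_lt_last i).ne]
      | cast j => simp [hv, Fin.castSucc_inj]

end Abstract

variable {F : Type*} [Field F] [Fintype F] {q : ℕ} (C : UCtx F q) {n : ℕ}

/-- The standard form as a sesquilinear map, linear in the second variable. -/
def hB (n : ℕ) : (Fin n → F) →ₛₗ[(C.bar : F →+* F)] (Fin n → F) →ₗ[F] F :=
  LinearMap.mk₂'ₛₗ (C.bar : F →+* F) (RingHom.id F) (fun u v => C.form v u)
    (fun a b c => C.form_add_right c a b) (fun r a b => C.form_smul_right r b a)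
    (fun a b c => C.form_add_left b c a) (fun r a b => C.form_smul_left r b a)

omit [Fintype F] in
theorem hB_apply (u v : Fin n → F) : hB C n u v = C.form v u := rfl

omit [Fintype F] in
include C in
theorem bar_ne_id : (C.bar : F →+* F) ≠ RingHom.id F := by
  obtain ⟨y, hy⟩ := C.exists_not_fixed
  exact fun h => hy (DFunLike.congr_fun h y)

omit [Fintype F] in
theorem hB_symm : (hB C n).IsSymm := ⟨fun u v => C.bar_form v u⟩

omit [Fintype F] in
theorem hB_nondeg : (hB C n).Nondegenerate :=
  ⟨fun _ h => C.eq_zero_of_form' h, fun _ h => C.eq_zero_of_form h⟩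

include C in
/-- Witt's lemma for tuples. -/
theorem exists_move_tuple {ι : Type*} [Fintype ι] {t t' : ι → Fin n → F} (ht : LinearIndependent F t)
    (ht' : LinearIndependent F t') (h : ∀ i j, C.form (t i) (t j) = C.form (t' i) (t' j)) :
    ∃ A : ↥(Cfsg.GU n F q), ∀ i, A.1.1 *ᵥ t i = t' i := by
  classical
  let b := Basis.span ht
  let f : Submodule.span F (Set.range t) →ₗ[F] (Fin n → F) := b.constr F t'
  have hb : ∀ i, f (b i) = t' i := fun i => Basis.constr_basis _ _ _ _
  have hbv : ∀ i, (b i : Fin n → F) = t i := fun i => by simp [b, Basis.span_apply]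
  have hinj : Function.Injective f := by
    refine (injective_iff_map_eq_zero f).2 fun x hx => ?_
    rw [Basis.constr_apply_fintype] at hx
    have h0 := Fintype.linearIndependent_iff.1 ht' _ hx
    exact b.equivFun.injective (funext fun i => by rw [h0 i, map_zero]; rfl)
  have hiso : ∀ x x', hB C n (f x) (f x') = hB C n (x : Fin n → F) x' := by
    intro x x'
    rw [← b.sum_repr x, ← b.sum_repr x', hB_apply, hB_apply]
    simp only [map_sum, map_smul, Submodule.coe_sum, Submodule.coe_smul, C.form_sum_left, C.form_smul_left, hb, hbv]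
    refine Finset.sum_congr rfl fun i _ => congrArg _ ?_
    rw [← C.bar_form, ← C.bar_form (∑ j, _) (t i)]
    refine congrArg _ ?_
    simp only [C.form_sum_left, C.form_smul_left, h]
  obtain ⟨g, hg, hgf⟩ := witt (bar_ne_id C) C.bar_bar (hB_symm C) (hB_nondeg C) _ f hinj hiso
  let M : GL (Fin n) F := ⟨LinearMap.toMatrix' g.toLinearMap, LinearMap.toMatrix' g.symm.toLinearMap,
    by rw [← LinearMap.toMatrix'_comp, LinearEquiv.comp_coe, LinearEquiv.symm_trans_self]; exact LinearMap.toMatrix'_id,
    by rw [← LinearMap.toMatrix'_comp, LinearEquiv.comp_coe, LinearEquiv.self_trans_symm]; exact LinearMap.toMatrix'_id⟩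
  refine ⟨⟨M, (gu_mem_iff C).2 fun u v => ?_⟩, fun i => ?_⟩
  · rw [LinearMap.toMatrix'_mulVec, LinearMap.toMatrix'_mulVec]
    exact hg v u
  · show LinearMap.toMatrix' g.toLinearMap *ᵥ t i = _
    rw [LinearMap.toMatrix'_mulVec, ← hbv]
    exact (hgf _).trans (hb i)

end CfsgLib.Classical.HermFrames
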