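import Mathlib
import Cfsg.Agent.Lib.Classical.SymmDiag

/-!
# Standard bases of quadratic spaces over finite fields
-/

set_option autoImplicit false

namespace CfsgLib.Classical

open Module

variable {F : Type*} [Field F]

section
variable {V : Type*} [AddCommGroup V] [Module F V]

/-- the orthogonal of a family of hyperbolic pairs -/
def pairsPerp (Q : QuadraticForm F V) {k : ℕ} (e f : Fin k → V) : Submodule F V where
  carrier := {x | ∀ i, QuadraticMap.polar ⇑Q x (e i) = 0 ∧ QuadraticMap.polar ⇑Q x (f i) = 0}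
  add_mem' {a b} ha hb i := ⟨by rw [QuadraticMap.polar_add_left, (ha i).1, (hb i).1, add_zero],
    by rw [QuadraticMap.polar_add_left, (ha i).2, (hb i).2, add_zero]⟩
  zero_mem' i := ⟨QuadraticMap.polar_zero_left _ _, QuadraticMap.polar_zero_left _ _⟩
  smul_mem' c x hx i := ⟨by rw [QuadraticMap.polar_smul_left, (hx i).1, smul_zero],
    by rw [QuadraticMap.polar_smul_left, (hx i).2, smul_zero]⟩

/-- hyperbolic pairs, pairwise orthogonal -/
structure IsHypFamily (Q : QuadraticForm F V) {k : ℕ} (e f : Fin k → V) : Prop where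
  qe : ∀ i, Q (e i) = 0
  qf : ∀ i, Q (f i) = 0
  ef : ∀ i j, QuadraticMap.polar ⇑Q (e i) (f j) = if i = j then 1 else 0
  ee : ∀ i j, QuadraticMap.polar ⇑Q (e i) (e j) = 0
  ff : ∀ i j, QuadraticMap.polar ⇑Q (f i) (f j) = 0

variable {Q : QuadraticForm F V} {k : ℕ} {e f : Fin k → V}

theorem IsHypFamily.exists_proj (h : IsHypFamily Q e f) (x : V) :
    ∃ w ∈ pairsPerp Q e f, x = (∑ i, QuadraticMap.polar ⇑Q x (f i) • e i) +
      (∑ i, QuadraticMap.polar ⇑Q x (e i) • f i) + w := by
  classical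
  refine ⟨x - ((∑ i, QuadraticMap.polar ⇑Q x (f i) • e i) + ∑ i, QuadraticMap.polar ⇑Q x (e i) • f i),
    fun j => ?_, by abel⟩
  have key : ∀ (z : V) (A : Fin k → V) (c : Fin k → F),
      QuadraticMap.polar ⇑Q (∑ i, c i • A i) z = ∑ i, c i * QuadraticMap.polar ⇑Q (A i) z := fun z A c => by
    show QuadraticMap.polarBilin Q _ z = _
    rw [map_sum, LinearMap.sum_apply]
    refine Finset.sum_congr rfl fun i _ => ?_
    rw [map_smul, LinearMap.smul_apply, smul_eq_mul]
    rfl
  have fe : ∀ i, QuadraticMap.polar ⇑Q (f i) (e j) = if j = i then 1 else 0 := fun i => by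
    rw [QuadraticMap.polar_comm, h.ef]
  constructor
  · rw [QuadraticMap.polar_sub_left, QuadraticMap.polar_add_left, key, key]
    simp [h.ee, fe]
  · rw [QuadraticMap.polar_sub_left, QuadraticMap.polar_add_left, key, key]
    simp [h.ff, h.ef]

theorem IsHypFamily.perp_nondegenerate (h : IsHypFamily Q e f) (hQ : (QuadraticMap.polarBilin Q).Nondegenerate) :
    (QuadraticMap.polarBilin (Q.comp (pairsPerp Q e f).subtype)).Nondegenerate := by
  classical
  have key : ∀ w : pairsPerp Q e f, (∀ z, QuadraticMap.polar ⇑(Q.comp (pairsPerp Q e f).subtype) w z = 0) → w = 0 := by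
    intro w hw
    refine Subtype.ext (hQ.1 _ fun x => ?_)
    show QuadraticMap.polar ⇑Q (w : V) x = 0
    obtain ⟨z, hz, hx⟩ := h.exists_proj x
    have hz0 : QuadraticMap.polar ⇑Q (w : V) z = 0 := hw ⟨z, hz⟩
    have hs : ∀ (A : Fin k → V) (c : Fin k → F), (∀ i, QuadraticMap.polar ⇑Q (w : V) (A i) = 0) →
        QuadraticMap.polar ⇑Q (w : V) (∑ i, c i • A i) = 0 := fun A c hA => by
      show QuadraticMap.polarBilin Q (w : V) _ = 0
      rw [map_sum]
      refine Finset.sum_eq_zero fun i _ => ?_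
      rw [map_smul, show QuadraticMap.polarBilin Q (w : V) (A i) = 0 from hA i, smul_zero]
    rw [hx, QuadraticMap.polar_add_right, QuadraticMap.polar_add_right, hz0, hs e _ fun i => (w.2 i).1,
      hs f _ fun i => (w.2 i).2]
    simp
  exact ⟨key, fun y hy => key y fun x => by rw [QuadraticMap.polar_comm]; exact hy x⟩

theorem IsHypFamily.finrank_perp [FiniteDimensional F V] (h : IsHypFamily Q e f) :
    finrank F (pairsPerp Q e f) + 2 * k = finrank F V := by
  classical
  let L : V →ₗ[F] (Fin k → F) × (Fin k → F) :=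
    { toFun := fun x => (fun i => QuadraticMap.polar ⇑Q x (e i), fun i => QuadraticMap.polar ⇑Q x (f i))
      map_add' := fun x y => by ext i <;> simp
      map_smul' := fun c x => by ext i <;> simp }
  have hker : LinearMap.ker L = pairsPerp Q e f := by
    ext x
    rw [LinearMap.mem_ker]
    exact ⟨fun hx i => ⟨congrFun (congrArg Prod.fst hx) i, congrFun (congrArg Prod.snd hx) i⟩,
      fun hx => Prod.ext (funext fun i => (hx i).1) (funext fun i => (hx i).2)⟩
  have hrange : LinearMap.range L = ⊤ := by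
    refine LinearMap.range_eq_top.2 fun c => ⟨(∑ i, c.2 i • e i) + ∑ i, c.1 i • f i, ?_⟩
    have key : ∀ (z : V) (A : Fin k → V) (d : Fin k → F),
        QuadraticMap.polar ⇑Q (∑ i, d i • A i) z = ∑ i, d i * QuadraticMap.polar ⇑Q (A i) z := fun z A d => by
      show QuadraticMap.polarBilin Q _ z = _
      rw [map_sum, LinearMap.sum_apply]
      refine Finset.sum_congr rfl fun i _ => ?_
      rw [map_smul, LinearMap.smul_apply, smul_eq_mul]
      rfl
    have fe : ∀ i j, QuadraticMap.polar ⇑Q (f i) (e j) = if j = i then 1 else 0 := fun i j => by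
      rw [QuadraticMap.polar_comm, h.ef]
    refine Prod.ext (funext fun j => ?_) (funext fun j => ?_)
    · show QuadraticMap.polar ⇑Q _ (e j) = c.1 j
      rw [QuadraticMap.polar_add_left, key, key]
      simp [h.ee, fe]
    · show QuadraticMap.polar ⇑Q _ (f j) = c.2 j
      rw [QuadraticMap.polar_add_left, key, key]
      simp [h.ff, h.ef]
  have h1 := L.finrank_range_add_finrank_ker
  rw [hrange, finrank_top, Module.finrank_prod, Module.finrank_fin_fun, hker] at h1
  omega

theorem exists_partner_quad (hQ : (QuadraticMap.polarBilin Q).Nondegenerate) {u : V} (hu0 : u ≠ 0) (hu : Q u = 0) :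
    ∃ v, Q v = 0 ∧ QuadraticMap.polar ⇑Q u v = 1 := by
  obtain ⟨y, hy⟩ : ∃ y, QuadraticMap.polar ⇑Q u y ≠ 0 := by
    by_contra hc
    push Not at hc
    exact hu0 (hQ.1 u hc)
  set y' := (QuadraticMap.polar ⇑Q u y)⁻¹ • y with hy'
  have h1 : QuadraticMap.polar ⇑Q u y' = 1 := by
    rw [hy', QuadraticMap.polar_smul_right, smul_eq_mul, inv_mul_cancel₀ hy]
  clear_value y'
  refine ⟨y' + (-(Q y')) • u, ?_, ?_⟩
  · rw [QuadraticMap.map_add ⇑Q, QuadraticMap.map_smul, hu, QuadraticMap.polar_smul_right, QuadraticMap.polar_comm, h1]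
    simp
  · rw [QuadraticMap.polar_add_right, h1, QuadraticMap.polar_smul_right, QuadraticMap.polar_self, hu]
    simp

end

variable [Finite F]

theorem exists_sq_char_two [CharP F 2] (a : F) : ∃ r : F, r * r = a := by
  cases nonempty_fintype F
  obtain ⟨r, hr⟩ := FiniteField.isSquare_of_char_two (ringChar.eq F 2) a
  exact ⟨r, hr.symm⟩

theorem exists_singular {V : Type*} [AddCommGroup V] [Module F V] [FiniteDimensional F V] (Q : QuadraticForm F V)
    (hQ : (QuadraticMap.polarBilin Q).Nondegenerate) (hd : 3 ≤ finrank F V) : ∃ u : V, u ≠ 0 ∧ Q u = 0 := by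
  classical
  by_contra hc
  push Not at hc
  haveI : Nontrivial V := Module.nontrivial_of_finrank_pos (R := F) (by omega)
  obtain ⟨u, hu⟩ := exists_ne (0 : V)
  obtain ⟨w, hwu, hw0⟩ : ∃ w, QuadraticMap.polar ⇑Q u w = 0 ∧ w ∉ Submodule.span F {u} := by
    by_contra hcon
    push Not at hcon
    have h1 := (QuadraticMap.polarBilin Q u).finrank_range_add_finrank_ker
    have h2 := Submodule.finrank_le (LinearMap.range (QuadraticMap.polarBilin Q u))
    rw [Module.finrank_self] at h2
    have h3 : LinearMap.ker (QuadraticMap.polarBilin Q u) ≤ Submodule.span F {u} := fun w hw => hcon w hw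
    have h4 := Submodule.finrank_mono h3
    rw [finrank_span_singleton hu] at h4
    omega
  have hw : w ≠ 0 := fun h => hw0 (h ▸ Submodule.zero_mem _)
  rcases eq_or_ne (ringChar F) 2 with hp | hp
  · haveI : CharP F 2 := ringChar.of_eq hp
    obtain ⟨r, hr⟩ := exists_sq_char_two (Q u / Q w)
    refine hc (u + r • w) (fun h => ?_) ?_
    · rcases eq_or_ne r 0 with hr0 | hr0
      · simp [hr0, hu] at h
      · exact hw0 (Submodule.mem_span_singleton.2 ⟨-r⁻¹, by
          rw [eq_neg_of_add_eq_zero_left h, smul_neg, neg_smul, neg_neg, inv_smul_smul₀ hr0]⟩)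
    · rw [QuadraticMap.map_add ⇑Q, QuadraticMap.map_smul, QuadraticMap.polar_smul_right, hwu, hr, smul_zero, smul_eq_mul,
        add_zero, div_mul_cancel₀ _ (hc w hw), CharTwo.add_self_eq_zero]
  · have h20 : (2 : F) ≠ 0 := Ring.two_ne_zero hp
    let L : V →ₗ[F] (Fin 2 → F) := LinearMap.pi ![QuadraticMap.polarBilin Q u, QuadraticMap.polarBilin Q w]
    obtain ⟨z, hz, hz0⟩ : ∃ z, L z = 0 ∧ z ≠ 0 := by
      obtain ⟨z, hz, hz0⟩ := Submodule.exists_mem_ne_zero_of_ne_bot
        (LinearMap.ker_ne_bot_of_finrank_lt (f := L) (by rw [Module.finrank_fin_fun]; omega))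
      exact ⟨z, hz, hz0⟩
    have huz : QuadraticMap.polar ⇑Q u z = 0 := congrFun hz 0
    have hwz : QuadraticMap.polar ⇑Q w z = 0 := congrFun hz 1
    obtain ⟨x, y, hxy⟩ := exists_binary_one h20 (a := -Q u / Q z) (b := -Q w / Q z)
      (div_ne_zero (neg_ne_zero.2 (hc u hu)) (hc z hz0)) (div_ne_zero (neg_ne_zero.2 (hc w hw)) (hc z hz0))
    have hqz := hc z hz0
    refine hc (x • u + y • w + z) (fun h => hqz ?_) ?_
    · have h1 := congrArg (fun s => QuadraticMap.polar ⇑Q s z) h
      simp only [QuadraticMap.polar_add_left, QuadraticMap.polar_smul_left, huz, hwz, smul_zero, zero_add,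
        QuadraticMap.polar_self, QuadraticMap.polar_zero_left, nsmul_eq_mul] at h1
      exact (mul_eq_zero.1 h1).resolve_left (by simpa using h20)
    · rw [QuadraticMap.map_add ⇑Q, QuadraticMap.map_add ⇑Q, QuadraticMap.map_smul, QuadraticMap.map_smul,
        QuadraticMap.polar_add_left]
      simp only [QuadraticMap.polar_smul_left, QuadraticMap.polar_smul_right, huz, hwz, hwu]
      simp only [smul_eq_mul, mul_zero, add_zero]
      field_simp at hxy
      linear_combination (-1 : F) * hxy

theorem exists_hypFamily {V : Type*} [AddCommGroup V] [Module F V] [FiniteDimensional F V] (Q : QuadraticForm F V)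
    (hQ : (QuadraticMap.polarBilin Q).Nondegenerate) :
    ∀ k : ℕ, 2 * k + 1 ≤ finrank F V → ∃ e f : Fin k → V, IsHypFamily Q e f
  | 0, _ => ⟨Fin.elim0, Fin.elim0, fun i => i.elim0, fun i => i.elim0, fun i => i.elim0, fun i => i.elim0,
      fun i => i.elim0⟩
  | k + 1, hk => by
    obtain ⟨e, f, h⟩ := exists_hypFamily Q hQ k (by omega)
    have hd := h.finrank_perp
    have hW := h.perp_nondegenerate hQ
    have hd3 : 3 ≤ finrank F (pairsPerp Q e f) := by omega
    obtain ⟨u, hu0, hu⟩ := exists_singular _ hW hd3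
    obtain ⟨v, hv, huv⟩ := exists_partner_quad hW hu0 hu
    have hu' : Q (u : V) = 0 := hu
    have hv' : Q (v : V) = 0 := hv
    have huv' : QuadraticMap.polar ⇑Q (u : V) (v : V) = 1 := huv
    have hue : ∀ i, QuadraticMap.polar ⇑Q (u : V) (e i) = 0 ∧ QuadraticMap.polar ⇑Q (u : V) (f i) = 0 := u.2
    have hve : ∀ i, QuadraticMap.polar ⇑Q (v : V) (e i) = 0 ∧ QuadraticMap.polar ⇑Q (v : V) (f i) = 0 := v.2
    refine ⟨Fin.cons (u : V) e, Fin.cons (v : V) f, ⟨?_, ?_, ?_, ?_, ?_⟩⟩
    · intro i; refine Fin.cases ?_ (fun i => ?_) i <;> simp [hu', h.qe]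
    · intro i; refine Fin.cases ?_ (fun i => ?_) i <;> simp [hv', h.qf]
    · intro i j
      refine Fin.cases ?_ (fun i => ?_) i <;> refine Fin.cases ?_ (fun j => ?_) j
      · simp [huv']
      · simp [(hue j).2, (Fin.succ_ne_zero j).symm]
      · simp [QuadraticMap.polar_comm ⇑Q (e i), (hve i).1, Fin.succ_ne_zero i]
      · simp [h.ef]
    · intro i j
      refine Fin.cases ?_ (fun i => ?_) i <;> refine Fin.cases ?_ (fun j => ?_) j
      · simp [QuadraticMap.polar_self, hu']
      · simp [(hue j).1]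
      · simp [QuadraticMap.polar_comm ⇑Q (e i), (hue i).1]
      · simp [h.ee]
    · intro i j
      refine Fin.cases ?_ (fun i => ?_) i <;> refine Fin.cases ?_ (fun j => ?_) j
      · simp [QuadraticMap.polar_self, hv']
      · simp [(hve j).2]
      · simp [QuadraticMap.polar_comm ⇑Q (f i), (hve i).2]
      · simp [h.ff]

/-- an anisotropic binary form represents one -/
theorem exists_binary_normal {W : Type*} [AddCommGroup W] [Module F W] [FiniteDimensional F W] (Q : QuadraticForm F W)
    (hQ : (QuadraticMap.polarBilin Q).Nondegenerate) (h2 : finrank F W = 2) (hani : ∀ w, Q w = 0 → w = 0) :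
    ∃ x y : W, ∃ ζ : F, (∀ t : F, t ^ 2 + t + ζ ≠ 0) ∧ Q x = 1 ∧ QuadraticMap.polar ⇑Q x y = 1 ∧ Q y = ζ ∧
      LinearIndependent F ![x, y] := by
  classical
  obtain ⟨x, hx⟩ : ∃ x, Q x = 1 := by
    rcases eq_or_ne (ringChar F) 2 with hp | hp
    · haveI : CharP F 2 := ringChar.of_eq hp
      haveI : Nontrivial W := Module.nontrivial_of_finrank_pos (R := F) (by omega)
      obtain ⟨w, hw⟩ := exists_ne (0 : W)
      obtain ⟨r, hr⟩ := exists_sq_char_two (Q w)⁻¹
      exact ⟨r • w, by rw [QuadraticMap.map_smul, smul_eq_mul, hr, inv_mul_cancel₀ fun h => hw (hani w h)]⟩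
    · have h20 : (2 : F) ≠ 0 := Ring.two_ne_zero hp
      obtain ⟨v, ho, hne⟩ := exists_orthogonal_anisotropic h20 (QuadraticMap.polarBilin Q)
        ⟨fun a b => QuadraticMap.polar_comm _ a b⟩ hQ h2
      have e : ∀ i, QuadraticMap.polarBilin Q (v i) (v i) = 2 * Q (v i) := fun i => by
        rw [QuadraticMap.polarBilin_apply_apply, QuadraticMap.polar_self, nsmul_eq_mul, Nat.cast_ofNat]
      have hQ0 : ∀ i, Q (v i) ≠ 0 := fun i h => hne i (by rw [e, h, mul_zero])
      obtain ⟨a, b, hab⟩ := exists_binary_one h20 (hQ0 0) (hQ0 1)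
      refine ⟨a • v 0 + b • v 1, ?_⟩
      rw [QuadraticMap.map_add ⇑Q, QuadraticMap.map_smul, QuadraticMap.map_smul, QuadraticMap.polar_smul_left,
        QuadraticMap.polar_smul_right, show QuadraticMap.polar ⇑Q (v 0) (v 1) = 0 from ho 0 1 (by decide)]
      simp only [smul_eq_mul, mul_zero, add_zero]
      linear_combination hab
  have hx0 : x ≠ 0 := fun h => by simp [h] at hx
  have hli : ∀ z : W, z ∉ Submodule.span F {x} → LinearIndependent F ![x, z] := fun z hz => by
    rw [linearIndependent_fin2]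
    refine ⟨fun h => hz (by simp at h; rw [h]; exact Submodule.zero_mem _), fun a h => ?_⟩
    simp at h
    rcases eq_or_ne a 0 with ha | ha
    · exact hx0 (by rw [← h, ha, zero_smul])
    · exact hz (Submodule.mem_span_singleton.2 ⟨a⁻¹, by rw [← h, inv_smul_smul₀ ha]⟩)
  obtain ⟨z, hz⟩ : ∃ z : W, z ∉ Submodule.span F {x} := by
    by_contra hc
    push Not at hc
    have h3 : finrank F (Submodule.span F {x}) = finrank F W := by
      rw [show Submodule.span F {x} = ⊤ from eq_top_iff.2 fun z _ => hc z, finrank_top]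
    rw [finrank_span_singleton hx0] at h3
    omega
  obtain ⟨y, hy, hxy⟩ : ∃ y, y ∉ Submodule.span F {x} ∧ QuadraticMap.polar ⇑Q x y = 1 := by
    obtain ⟨w, hw⟩ : ∃ w, QuadraticMap.polar ⇑Q x w ≠ 0 := by
      by_contra hc
      push Not at hc
      exact hx0 (hQ.1 x hc)
    set c := QuadraticMap.polar ⇑Q x z
    by_cases hwx : w ∈ Submodule.span F {x}
    · obtain ⟨a, rfl⟩ := Submodule.mem_span_singleton.1 hwx
      set d := QuadraticMap.polar ⇑Q x (a • x) with hd
      refine ⟨z + ((1 - c) / d) • (a • x), fun h => hz ?_, ?_⟩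
      · have := Submodule.sub_mem _ h (Submodule.smul_mem _ ((1 - c) / d) hwx)
        rwa [add_sub_cancel_right] at this
      · rw [QuadraticMap.polar_add_right, QuadraticMap.polar_smul_right, ← hd, smul_eq_mul, div_mul_cancel₀ _ hw]
        ring
    · refine ⟨(QuadraticMap.polar ⇑Q x w)⁻¹ • w, fun h => hwx ?_, ?_⟩
      · rwa [Submodule.smul_mem_iff _ (inv_ne_zero hw)] at h
      · rw [QuadraticMap.polar_smul_right, smul_eq_mul, inv_mul_cancel₀ hw]
  refine ⟨x, y, Q y, fun t ht => hy ?_, hx, hxy, rfl, hli y hy⟩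
  have h0 : t • x + y = 0 := hani _ (by
    rw [QuadraticMap.map_add ⇑Q, QuadraticMap.map_smul, hx, QuadraticMap.polar_smul_left, hxy]
    simp only [smul_eq_mul]
    linear_combination ht)
  exact Submodule.mem_span_singleton.2 ⟨-t, by rw [neg_smul, ← eq_neg_of_add_eq_zero_right h0]⟩

end CfsgLib.Classical
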