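import Cfsg.Agent.Lib.Classical.SympSplit
import Cfsg.Agent.Lib.Classical.HermOrder
import Cfsg.Agent.Lib.Descent.FixedField

/-!
# Groups embedded in symplectic groups by restriction of scalars
-/

set_option autoImplicit false

namespace CfsgLib.Classical.SympEmbed

open Matrix Module CfsgLib.Sp CfsgLib.SU

/-- Isometries of an alternating space give symplectic matrices over any isomorphic field. -/
theorem exists_hom {L F : Type*} [Field L] [Field F] (e : L ≃+* F) {V : Type*} [AddCommGroup V] [Module L V]
    [FiniteDimensional L V] (B : LinearMap.BilinForm L V) (hA : B.IsAlt) (hB : ∀ u, (∀ v, B u v = 0) → u = 0)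
    {k : ℕ} (hV : finrank L V = 2 * k) {G : Type*} [Group G] (ρ : G → V →ₗ[L] V) (h1 : ρ 1 = LinearMap.id)
    (hmul : ∀ g h, ρ (g * h) = (ρ g).comp (ρ h)) (hρ : ∀ g u v, B (ρ g u) (ρ g v) = B u v)
    (hinj : Function.Injective ρ) : ∃ φ : G →* Matrix.symplecticGroup (Fin k) F, Function.Injective φ := by
  classical
  obtain ⟨b, hb⟩ := SympSplit.exists_basis_J B hA hB hV
  have hJ : (Matrix.J (Fin k) L).map e = Matrix.J (Fin k) F := by
    ext (i | i) (j | j) <;> simp [Matrix.J, Matrix.one_apply, apply_ite e]
  have hG : ∀ g, (LinearMap.toMatrix b b (ρ g))ᵀ * Matrix.J (Fin k) L * LinearMap.toMatrix b b (ρ g) =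
      Matrix.J (Fin k) L := fun g => by
    have hJ' : LinearMap.BilinForm.toMatrix b B = Matrix.J (Fin k) L := Matrix.ext fun i j => by
      rw [LinearMap.BilinForm.toMatrix_apply, hb]
    have hc : B.comp (ρ g) (ρ g) = B := LinearMap.ext₂ fun u v => hρ g u v
    have := congrArg (LinearMap.BilinForm.toMatrix b) hc
    rwa [LinearMap.BilinForm.toMatrix_comp (b := b) (c := b), hJ'] at this
  have hmem : ∀ g, (LinearMap.toMatrix b b (ρ g)).map e ∈ Matrix.symplecticGroup (Fin k) F := fun g => by
    rw [SymplecticGroup.mem_iff']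
    have := congrArg (fun M => M.map e) (hG g)
    simpa [Matrix.map_mul, Matrix.transpose_map, hJ] using this
  refine ⟨MonoidHom.mk' (fun g => ⟨_, hmem g⟩) fun g h => Subtype.ext ?_, fun g h hgh => hinj ?_⟩
  · show (LinearMap.toMatrix b b (ρ (g * h))).map e = _
    rw [hmul, LinearMap.toMatrix_comp b b b, Matrix.map_mul]
    rfl
  · exact (LinearMap.toMatrix b b).injective (Matrix.map_injective e.injective (congrArg Subtype.val hgh))

variable {K F : Type*} [Field K] [Fintype K] [Field F] [Fintype F] {q : ℕ} (C : UCtx K q)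

/-- The fixed field with its properties. -/
theorem exists_equiv (hK : Fintype.card K = q ^ 2) (hF : Fintype.card F = q) :
    Nonempty (CfsgLib.Descent.fixedField C.bar ≃+* F) ∧ finrank (CfsgLib.Descent.fixedField C.bar) K = 2 := by
  classical
  set L := CfsgLib.Descent.fixedField C.bar
  have hL : Nat.card L = q := by
    have h := CfsgLib.Descent.card_fixedField_pow C.bar
    rw [C.order_two, hK] at h
    exact Nat.pow_left_injective two_ne_zero h
  haveI : Fintype L := Fintype.ofFinite L
  rw [Nat.card_eq_fintype_card] at hL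
  refine ⟨⟨FiniteField.ringEquivOfCardEq (hL.trans hF.symm)⟩, ?_⟩
  have h := Module.card_eq_pow_finrank (K := L) (V := K)
  rw [hK, hL] at h
  exact (Nat.pow_right_injective (hL ▸ Fintype.one_lt_card) h).symm

/-- Twisted trace of the scalars. -/
def tr (y : K) : K →ₗ[CfsgLib.Descent.fixedField C.bar] CfsgLib.Descent.fixedField C.bar where
  toFun z := ⟨y * z + C.bar (y * z), by
    show C.bar (y * z + C.bar (y * z)) = _
    rw [map_add, C.bar_bar, add_comm]⟩
  map_add' a b := Subtype.ext (by
    show y * (a + b) + C.bar (y * (a + b)) = (y * a + C.bar (y * a)) + (y * b + C.bar (y * b))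
    rw [mul_add, map_add]; ring)
  map_smul' c a := Subtype.ext (by
    show y * ((c : K) * a) + C.bar (y * ((c : K) * a)) = (c : K) * (y * a + C.bar (y * a))
    have hc : C.bar (c : K) = c := c.2
    simp only [map_mul, hc]; ring)

omit [Fintype K] in
theorem eq_zero_of_tr {y : K} (hy : y ≠ 0) {z : K} (h : ∀ c : K, tr C y (c * z) = 0) : z = 0 := by
  obtain ⟨w, -, hw⟩ := C.exists_trace_ne_zero
  by_contra hz
  refine hw ?_
  have h1 : y * (w * (y * z)⁻¹ * z) + C.bar (y * (w * (y * z)⁻¹ * z)) = 0 := congrArg Subtype.val (h (w * (y * z)⁻¹))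
  rwa [show y * (w * (y * z)⁻¹ * z) = w by field_simp] at h1

include C in
theorem gu_in_sp (hK : Fintype.card K = q ^ 2) (hF : Fintype.card F = q) (m : ℕ) :
    ∃ φ : ↥(Cfsg.GU m K q) →* ↥(Matrix.symplecticGroup (Fin m) F), Function.Injective φ := by
  classical
  obtain ⟨⟨e⟩, h2⟩ := exists_equiv C hK hF
  obtain ⟨y, hy0, hy⟩ := C.exists_trace_zero
  set L := CfsgLib.Descent.fixedField C.bar
  let B : LinearMap.BilinForm L (Fin m → K) := LinearMap.mk₂ L (fun u v => tr C y (C.form u v))
    (fun a b c => by rw [C.form_add_left, map_add])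
    (fun r a b => by
      rw [show r • a = (r : K) • a from rfl, C.form_smul_left]
      exact map_smul (tr C y) r _)
    (fun a b c => by rw [C.form_add_right, map_add])
    (fun r a b => by
      rw [show r • b = (r : K) • b from rfl, C.form_smul_right, show C.bar (r : K) = r from r.2]
      exact map_smul (tr C y) r _)
  refine exists_hom e B (fun u => Subtype.ext ?_) (fun u hu => C.eq_zero_of_form fun v => eq_zero_of_tr C hy0 fun c => ?_)
    (k := m) (by rw [Module.finrank_pi_fintype]; simp [h2, mul_comm])
    (fun g => (Matrix.mulVecLin g.1.1).restrictScalars L) (LinearMap.ext fun v => Matrix.one_mulVec v)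
    (fun g h => LinearMap.ext fun v => (Matrix.mulVec_mulVec v g.1.1 h.1.1).symm)
    (fun g u v => congrArg (tr C y) ((gu_mem_iff C).1 g.2 u v)) ?_
  · show y * C.form u u + C.bar (y * C.form u u) = 0
    rw [map_mul, C.form_self_fixed]
    linear_combination (C.form u u) * hy
  · have := hu (C.bar c • v)
    change tr C y (C.form u (C.bar c • v)) = 0 at this
    rwa [C.form_smul_right, C.bar_bar] at this
  · intro g h hgh
    refine Subtype.ext (Units.ext (Matrix.ext_iff_mulVec.2 fun v => ?_))
    exact LinearMap.congr_fun hgh v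

include C in
theorem sp_in_sp (hK : Fintype.card K = q ^ 2) (hF : Fintype.card F = q) (a : ℕ) :
    ∃ φ : ↥(Matrix.symplecticGroup (Fin a) K) →* ↥(Matrix.symplecticGroup (Fin (2 * a)) F), Function.Injective φ := by
  classical
  obtain ⟨⟨e⟩, h2⟩ := exists_equiv C hK hF
  set L := CfsgLib.Descent.fixedField C.bar
  let B : LinearMap.BilinForm L (Fin a ⊕ Fin a → K) := LinearMap.mk₂ L (fun u v => tr C 1 (sf u v))
    (fun x b c => by rw [sf_add_left, map_add])
    (fun r x b => by
      rw [show r • x = (r : K) • x from rfl, sf_smul_left]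
      exact map_smul (tr C 1) r _)
    (fun x b c => by rw [sf_add_right, map_add])
    (fun r x b => by
      rw [show r • b = (r : K) • b from rfl, sf_smul_right]
      exact map_smul (tr C 1) r _)
  refine exists_hom e B (fun u => ?_) (fun u hu => eq_zero_of_sf fun v => eq_zero_of_tr C one_ne_zero fun c => ?_)
    (k := 2 * a) (by rw [Module.finrank_pi_fintype]; simp [h2]; ring)
    (fun g => (Matrix.mulVecLin g.1).restrictScalars L) (LinearMap.ext fun v => Matrix.one_mulVec v)
    (fun g h => LinearMap.ext fun v => (Matrix.mulVec_mulVec v g.1 h.1).symm)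
    (fun g u v => congrArg (tr C 1) (sf_sp g u v)) ?_
  · show tr C 1 (sf u u) = 0
    rw [sf_self, map_zero]
  · have := hu (c • v)
    change tr C 1 (sf u (c • v)) = 0 at this
    rwa [sf_smul_right] at this
  · intro g h hgh
    refine Subtype.ext (Matrix.ext_iff_mulVec.2 fun v => ?_)
    exact LinearMap.congr_fun hgh v

end CfsgLib.Classical.SympEmbed
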