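import Cfsg.Agent.Lib.Orth.Field.Normal
import Cfsg.Agent.Lib.Classical.SympEmbed
import Cfsg.Agent.Lib.Classical.HermOrder
import Cfsg.Agent.Lib.Classical.QuadOrder

/-!
# Unitary groups and minus type orthogonal groups inside orthogonal groups
-/

set_option autoImplicit false

namespace CfsgLib.Classical.OrthEmbed

open Module CfsgLib.SU Matrix

/-- A linear action preserving a form, read in coordinates. -/
theorem hom_of_action {F : Type*} [Field F] {κ : Type} [Fintype κ] [DecidableEq κ] (P : (κ → F) → F)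
    {V : Type*} [AddCommGroup V] [Module F V] (L : (κ → F) ≃ₗ[F] V) {G : Type*} [Group G]
    (ρ : G →* Module.End F V) (hρ : ∀ g x, P (L.symm (ρ g (L x))) = P x) (hinj : Function.Injective ρ) :
    ∃ φ : G →* Cfsg.isometryGroup F P, Function.Injective φ := by
  let M : G →* Matrix κ κ F :=
    { toFun := fun g => LinearMap.toMatrixAlgEquiv' (L.symm.toLinearMap ∘ₗ ρ g ∘ₗ L.toLinearMap)
      map_one' := by
        rw [← map_one LinearMap.toMatrixAlgEquiv']
        exact congrArg _ (LinearMap.ext fun x => by simp)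
      map_mul' := fun g h => by
        rw [← map_mul LinearMap.toMatrixAlgEquiv']
        exact congrArg _ (LinearMap.ext fun x => by simp) }
  have hM : ∀ g x, M g *ᵥ x = L.symm (ρ g (L x)) := fun g x => by
    show LinearMap.toMatrixAlgEquiv' _ *ᵥ x = _
    rw [show LinearMap.toMatrixAlgEquiv' (L.symm.toLinearMap ∘ₗ ρ g ∘ₗ L.toLinearMap) =
      LinearMap.toMatrix' (L.symm.toLinearMap ∘ₗ ρ g ∘ₗ L.toLinearMap) from rfl, LinearMap.toMatrix'_mulVec]
    rfl
  refine ⟨M.toHomUnits.codRestrict _ fun g => CfsgLib.Classical.mem_isometryGroup_iff.2 fun x => ?_, fun g h hgh => hinj ?_⟩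
  · show P (M g *ᵥ x) = P x
    rw [hM, hρ]
  · refine LinearMap.ext fun v => ?_
    have e : M g = M h := congrArg (fun z : Cfsg.isometryGroup F P => z.1.1) hgh
    have h' : M g *ᵥ L.symm v = M h *ᵥ L.symm v := by rw [e]
    rw [hM, hM, L.apply_symm_apply] at h'
    exact L.symm.injective h'

theorem exists_anisotropic (F : Type*) [Field F] [Finite F] :
    ∃ a b : F, ∀ z₁ z₂ : F, z₁ ^ 2 + a * z₁ * z₂ + b * z₂ ^ 2 = 0 → z₁ = 0 ∧ z₂ = 0 := by
  have hns : ¬ Function.Surjective fun t : F => t ^ 2 + t := fun hs => by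
    have := (Finite.injective_iff_surjective.2 hs) (a₁ := 0) (a₂ := -1) (by ring)
    simp at this
  obtain ⟨c, hc⟩ : ∃ c, ∀ t : F, t ^ 2 + t ≠ c := by
    by_contra h
    push Not at h
    exact hns h
  refine ⟨1, -c, fun z₁ z₂ h => ?_⟩
  by_cases h0 : z₂ = 0
  · subst h0
    simpa using h
  · exact absurd (by field_simp; linear_combination h) (hc (z₁ / z₂))

variable {K F : Type*} [Field K] [Fintype K] [Field F] [Fintype F] {q : ℕ}

theorem gu_in_orth (hK : Fintype.card K = q ^ 2) (hF : Fintype.card F = q) (k : ℕ) {a b : F}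
    (hab : ∀ z₁ z₂ : F, z₁ ^ 2 + a * z₁ * z₂ + b * z₂ ^ 2 = 0 → z₁ = 0 ∧ z₂ = 0) :
    (Even (k + 1) → ∃ φ : ↥(Cfsg.GU (k + 1) K q) →* ↥(Cfsg.isometryGroup F (Cfsg.quadFormPlus (k + 1) F)), Function.Injective φ) ∧
    (Odd (k + 1) → ∃ φ : ↥(Cfsg.GU (k + 1) K q) →* ↥(Cfsg.isometryGroup F (Cfsg.quadFormMinus k F a b)), Function.Injective φ) := by
  classical
  obtain ⟨C⟩ := CfsgLib.Classical.uctx_exists hK
  obtain ⟨⟨e⟩, -⟩ := SympEmbed.exists_equiv C hK hF
  let j : F →+* K := (CfsgLib.Descent.fixedField C.bar).subtype.comp e.symm.toRingHom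
  have hjb : ∀ x : F, C.bar (j x) = j x := fun x => (e.symm x).2
  letI : Algebra F K := j.toAlgebra
  have hsmul : ∀ (c : F) (v : Fin (k + 1) → K), c • v = j c • v := fun c v => rfl
  let N : (Fin (k + 1) → K) → F := fun v => e ⟨C.form v v, C.form_self_fixed v⟩
  have hN : ∀ v, j (N v) = C.form v v := fun v => by simp [j, N]
  have hpol : ∀ u v, j (QuadraticMap.polar N u v) = C.form u v + C.form v u := fun u v => by
    simp only [QuadraticMap.polar, map_sub, hN, C.form_add_left, C.form_add_right]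
    ring
  let Q : QuadraticForm F (Fin (k + 1) → K) := QuadraticMap.ofPolar N
    (fun c v => j.injective (by
      rw [smul_eq_mul, map_mul, map_mul, hN, hN, hsmul, C.form_smul_left, C.form_smul_right, hjb]
      ring))
    (fun u u' v => j.injective (by
      rw [map_add, hpol, hpol, hpol, C.form_add_left, C.form_add_right]
      ring))
    (fun c u v => j.injective (by
      rw [smul_eq_mul, map_mul, hpol, hpol, hsmul, C.form_smul_left, C.form_smul_right, hjb]
      ring))
  have hQv : ∀ v, Q v = N v := fun v => rfl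
  have key : ∀ u, (∀ v, QuadraticMap.polar N u v = 0) → u = 0 := by
    intro u hu
    obtain ⟨w, -, hw⟩ := C.exists_trace_ne_zero
    refine C.eq_zero_of_form fun v => ?_
    by_contra hne
    have h := hpol u (C.bar (w / C.form u v) • v)
    rw [hu, map_zero, C.form_smul_right, C.form_smul_left, C.bar_bar, ← C.bar_form u v, ← map_mul,
      div_mul_cancel₀ _ hne] at h
    exact hw h.symm
  have hQnd : (QuadraticMap.polarBilin Q).Nondegenerate :=
    ⟨fun u hu => key u hu, fun v hv => key v fun u => (QuadraticMap.polar_comm N v u).trans (hv u)⟩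
  have hdim : finrank F (Fin (k + 1) → K) = 2 * (k + 1) := by
    have h := Module.card_eq_pow_finrank (K := F) (V := Fin (k + 1) → K)
    rw [Fintype.card_fun, Fintype.card_fin, hK, hF, ← pow_mul] at h
    exact (Nat.pow_right_injective (hF ▸ Fintype.one_lt_card) h).symm
  let ρ : ↥(Cfsg.GU (k + 1) K q) →* Module.End F (Fin (k + 1) → K) :=
    { toFun := fun g => g.1.1.mulVecLin.restrictScalars F
      map_one' := LinearMap.ext fun v => Matrix.one_mulVec v
      map_mul' := fun g h => LinearMap.ext fun v => (Matrix.mulVec_mulVec v g.1.1 h.1.1).symm }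
  have hρi : Function.Injective ρ := fun g h e => Subtype.ext (Units.ext (Matrix.ext_iff_mulVec.2 fun v =>
    congrArg (fun f : Module.End F (Fin (k + 1) → K) => f v) e))
  have hρN : ∀ g v, N (ρ g v) = N v := fun g v => j.injective (by
    rw [hN, hN]
    exact (CfsgLib.Classical.gu_mem_iff C).1 g.2 v v)
  have hzero : (Nat.card {v : Fin (k + 1) → K // N v = 0} : ℤ) =
      (q : ℤ) ^ (2 * k + 1) + (-1) ^ (k + 1) * ((q : ℤ) ^ (k + 1) - (q : ℤ) ^ k) := by
    rw [← (CfsgLib.Classical.hcount_closed C hK k).1]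
    refine congrArg Nat.cast (Nat.card_congr (Equiv.subtypeEquivRight fun v => ?_))
    exact Iff.trans (map_eq_zero j).symm (by rw [hN])
  have fin : ∀ {κ : Type} [Fintype κ] [DecidableEq κ] (S : (κ → F) → F) (L : (κ → F) →ₗ[F] (Fin (k + 1) → K)),
      Function.Injective L → (∀ v, N (L v) = S v) → finrank F (κ → F) = 2 * (k + 1) →
      (∃ φ : ↥(Cfsg.GU (k + 1) K q) →* ↥(Cfsg.isometryGroup F S), Function.Injective φ) ∧
        Nat.card {v : κ → F // S v = 0} = Nat.card {v : Fin (k + 1) → K // N v = 0} := by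
    intro κ _ _ S L hL hLS hd
    let Le := LinearMap.linearEquivOfInjective L hL (hd.trans hdim.symm)
    have hLe : ∀ x, Le x = L x := fun x => rfl
    refine ⟨hom_of_action S Le ρ (fun g x => ?_) hρi, Nat.card_congr (Le.toEquiv.subtypeEquiv fun v => ?_)⟩
    · rw [← hLS, ← hLe, LinearEquiv.apply_symm_apply, hρN, hLe, hLS]
    · rw [← hLS]; rfl
  have hlt : (q : ℤ) ^ k < (q : ℤ) ^ (k + 1) :=
    pow_lt_pow_right₀ (by exact_mod_cast (hF ▸ Fintype.one_lt_card)) (by omega)
  rcases CfsgLib.Orth.FieldCls.exists_even_normal Q hQnd (k := k) hdim hab with ⟨L, hL, hLS⟩ | ⟨L, hL, hLS⟩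
  · obtain ⟨hφ, hc⟩ := fin _ L hL hLS (by rw [Module.finrank_pi, Fintype.card_sum, Fintype.card_fin]; ring)
    refine ⟨fun _ => hφ, fun ho => ?_⟩
    have h := CfsgLib.Classical.card_sing_plus (F := F) k
    rw [hc, hzero, hF, ho.neg_one_pow] at h
    exfalso; linarith
  · obtain ⟨hφ, hc⟩ := fin _ L hL hLS (by
      rw [Module.finrank_pi, Fintype.card_sum, Fintype.card_sum, Fintype.card_fin, Fintype.card_fin]; ring)
    refine ⟨fun he => ?_, fun _ => hφ⟩
    have h := CfsgLib.Classical.card_sing_minus hab k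
    rw [hc, hzero, hF, he.neg_one_pow] at h
    exfalso; linarith

/-- The minus form splits over the quadratic extension. -/
theorem minus_in_plus (hF : Fintype.card F = q) (hK : Fintype.card K = q ^ 2) (k : ℕ) {a c : F}
    (hac : ∀ z₁ z₂ : F, z₁ ^ 2 + a * z₁ * z₂ + c * z₂ ^ 2 = 0 → z₁ = 0 ∧ z₂ = 0) :
    ∃ φ : ↥(Cfsg.isometryGroup F (Cfsg.quadFormMinus k F a c)) →* ↥(Cfsg.isometryGroup K (Cfsg.quadFormPlus (k + 1) K)),
      Function.Injective φ := by
  classical
  open Polynomial in
  obtain ⟨f, ρ, hρ⟩ : ∃ (f : F →+* K) (ρ : K), ρ ^ 2 + f a * ρ + f c = 0 := by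
    let P : F[X] := X ^ 2 + C a * X + C c
    have hPm : P.Monic := by unfold P; monicity!
    have hP2 : P.natDegree = 2 := by unfold P; compute_degree!
    haveI : Fact (Irreducible P) := ⟨(irreducible_iff_roots_eq_zero_of_degree_le_three (le_of_eq hP2.symm)
      (hP2 ▸ by norm_num)).2 (Multiset.eq_zero_of_forall_notMem fun t ht => by
        have h := (mem_roots'.1 ht).2
        simp [P] at h
        exact one_ne_zero (hac t 1 (by linear_combination h)).2)⟩
    haveI : Module.Finite F (AdjoinRoot P) := hPm.finite_adjoinRoot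
    haveI : Finite (AdjoinRoot P) := Module.finite_of_finite F
    letI : Fintype (AdjoinRoot P) := Fintype.ofFinite _
    have hcard : Fintype.card (AdjoinRoot P) = Fintype.card K := by
      rw [Module.card_eq_pow_finrank (K := F), (AdjoinRoot.powerBasis hPm.ne_zero).finrank, AdjoinRoot.powerBasis_dim,
        hP2, hF, hK]
    let σ : AdjoinRoot P ≃+* K := FiniteField.ringEquivOfCardEq hcard
    refine ⟨σ.toRingHom.comp (AdjoinRoot.of P), σ (AdjoinRoot.root P), ?_⟩
    have h := AdjoinRoot.eval₂_root P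
    simp [P] at h
    show σ (AdjoinRoot.root P) ^ 2 + σ (AdjoinRoot.of P a) * σ (AdjoinRoot.root P) + σ (AdjoinRoot.of P c) = 0
    rw [← map_pow, ← map_mul, ← map_add, ← map_add, h, map_zero]
  have hne : 2 * ρ + f a ≠ 0 := fun h => CfsgLib.Orth.FieldCls.minus_disc hac (f.injective (by
    rw [map_sub, map_pow, map_mul, map_ofNat, map_zero]
    linear_combination -(4 : K) * hρ + (2 * ρ + f a) * h))
  let ρ' : K := -f a - ρ
  let L : ((Fin k ⊕ Fin k) ⊕ Fin 2 → K) →ₗ[K] (Fin (k + 1) ⊕ Fin (k + 1) → K) :=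
    { toFun := fun x => Sum.elim (Fin.snoc (fun i => x (.inl (.inl i))) (x (.inr 0) - ρ * x (.inr 1)))
        (Fin.snoc (fun i => x (.inl (.inr i))) (x (.inr 0) - ρ' * x (.inr 1)))
      map_add' := fun x y => by
        funext i
        rcases i with i | i <;> induction i using Fin.lastCases <;> simp <;> ring
      map_smul' := fun t x => by
        funext i
        rcases i with i | i <;> induction i using Fin.lastCases <;> simp <;> ring }
  have hL : Function.Injective L := by
    refine (injective_iff_map_eq_zero L).2 fun x h => ?_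
    have h1 : x (.inr 0) - ρ * x (.inr 1) = 0 := by simpa [L] using congrFun h (.inl (Fin.last k))
    have h2 : x (.inr 0) - ρ' * x (.inr 1) = 0 := by simpa [L] using congrFun h (.inr (Fin.last k))
    have h3 : x (.inr 1) = 0 := (mul_eq_zero.1 (show (2 * ρ + f a) * x (.inr 1) = 0 by
      linear_combination h2 - h1)).resolve_left hne
    funext i
    rcases i with (i | i) | i
    · simpa [L] using congrFun h (.inl i.castSucc)
    · simpa [L] using congrFun h (.inr i.castSucc)
    · fin_cases i
      · show x (.inr 0) = 0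
        linear_combination h1 + ρ * h3
      · exact h3
  let Le := LinearMap.linearEquivOfInjective L hL (by
    rw [Module.finrank_pi, Module.finrank_pi, Fintype.card_sum, Fintype.card_sum, Fintype.card_sum]
    simp only [Fintype.card_fin]; ring)
  have hform : ∀ x, Cfsg.quadFormPlus (k + 1) K (Le x) = Cfsg.quadFormMinus k K (f a) (f c) x := fun x => by
    show Cfsg.quadFormPlus (k + 1) K (L x) = _
    simp [Cfsg.quadFormPlus, Cfsg.quadFormMinus, L, Fin.sum_univ_castSucc, ρ']
    linear_combination -(x (.inr 1)) ^ 2 * hρ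
  obtain ⟨ext, hext⟩ : ∃ ext : ↥(Cfsg.isometryGroup F (Cfsg.quadFormMinus k F a c)) →*
      Module.End K ((Fin k ⊕ Fin k) ⊕ Fin 2 → K), ∀ g v, ext g v = (g.1.1.map f) *ᵥ v :=
    ⟨{ toFun := fun g => (g.1.1.map f).mulVecLin
       map_one' := LinearMap.ext fun v => by simp
       map_mul' := fun g h => LinearMap.ext fun v => by simp [Matrix.map_mul, Matrix.mulVec_mulVec] }, fun g v => rfl⟩
  refine hom_of_action _ Le.symm ext (fun g x => ?_) fun g h e => ?_
  · rw [LinearEquiv.symm_symm, hform, hext]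
    have hx : x = Le (Le.symm x) := (Le.apply_symm_apply x).symm
    conv_rhs => rw [hx, hform]
    have hQK := CfsgLib.Orth.quadFormMinus_nd_disc (m := k) (F := K) (a := f a) (b := f c) (fun e => CfsgLib.Orth.FieldCls.minus_disc hac
      (f.injective (by rw [map_sub, map_pow, map_mul, map_ofNat, map_zero, e])))
    refine (CfsgLib.Orth.FieldCls.rel_map f (P' := Cfsg.quadFormMinus k K (f a) (f c)) (R' := Cfsg.quadFormMinus k K (f a) (f c))
      hQK hQK (CfsgLib.Orth.FieldCls.minus_eval f a c) (CfsgLib.Orth.FieldCls.minus_eval f a c) (k := 1) (M := g.1.1)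
      (fun v => by rw [one_mul]; exact CfsgLib.Classical.mem_isometryGroup_iff.1 g.2 v) _).trans ?_
    rw [map_one, one_mul]
  · refine Subtype.ext (Units.ext (Matrix.map_injective f.injective (Matrix.ext_iff_mulVec.2 fun v => ?_)))
    rw [← hext, ← hext, e]

end CfsgLib.Classical.OrthEmbed
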