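import Cfsg.Agent.Lib.Classical.AdjacencyExist
import Cfsg.Agent.Lib.Classical.OrthEmbed
import Cfsg.Agent.Lib.Classical.QuadDisc
import Cfsg.Agent.Lib.Orth.DetInvol
import Cfsg.Agent.Lib.Orth.Facts

/-!
Eigenvalue counting for isometries, and involutions of `Omega` centralised by a prime order element.
-/

set_option autoImplicit false

namespace CfsgLib.Classical.IsoEigen

open Matrix Module CfsgLib.Classical.RootOrbits

variable {F : Type*} [Field F] [Fintype F]

local notation "q" => Fintype.card F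

section eigen

variable {X : Type*} [AddCommGroup X] [Module F X] [FiniteDimensional F X] (Q : QuadraticForm F X)
  (hQ : (QuadraticMap.polarBilin Q).Nondegenerate) (f : Module.End F X) (hf : ∀ x, Q (f x) = Q x)

include hQ hf in
theorem exists_matrix :
    ∃ M : Matrix (Fin (finrank F X)) (Fin (finrank F X)) F, (eig M).map (·⁻¹) = eig M ∧ orderOf M = orderOf f ∧
      (∀ x, f x = x → x = 0) = (∀ v, M *ᵥ v = v → v = 0) := by
  classical
  let b := Module.finBasis F X
  let M := LinearMap.toMatrix b b f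
  let B : LinearMap.BilinForm F X := QuadraticMap.polarBilin Q
  let G := LinearMap.BilinForm.toMatrix b B
  have hG : IsUnit G := (Matrix.isUnit_iff_isUnit_det G).2
    (isUnit_iff_ne_zero.2 ((LinearMap.BilinForm.nondegenerate_iff_det_ne_zero b).1 hQ))
  have hcomp : B.comp f f = B := by
    refine LinearMap.ext₂ fun x y => ?_
    show QuadraticMap.polar (⇑Q) (f x) (f y) = QuadraticMap.polar (⇑Q) x y
    simp only [QuadraticMap.polar, ← map_add, hf]
  have hMG : Mᵀ * G * M = G := by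
    rw [← LinearMap.BilinForm.toMatrix_comp b b B f f, hcomp]
  obtain ⟨U, hU⟩ := hG
  have hinv : ((U⁻¹ : (Matrix _ _ F)ˣ).1 * Mᵀ * U.1) * M = 1 := by
    rw [mul_assoc, mul_assoc, ← mul_assoc Mᵀ, hU, hMG, ← hU, Units.inv_mul]
  refine ⟨M, eig_inv M (IsUnit.of_mul_eq_one_right _ hinv) ?_, ?_, ?_⟩
  · rw [Matrix.inv_eq_left_inv hinv, Matrix.coe_units_inv]
    have := Matrix.charpoly_units_conj U⁻¹ Mᵀ
    rw [← Matrix.coe_units_inv, inv_inv, Matrix.coe_units_inv] at this
    exact this.trans (Matrix.charpoly_transpose M)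
  · exact orderOf_injective (LinearMap.toMatrixAlgEquiv b).toAlgHom.toMonoidHom (LinearMap.toMatrixAlgEquiv b).injective f
  · refine propext ⟨fun h v hv => ?_, fun h x hx => ?_⟩
    · have h1 := h (b.equivFun.symm v) (b.equivFun.injective ?_)
      · exact b.equivFun.symm.injective (h1.trans (map_zero _).symm)
      · rw [LinearEquiv.apply_symm_apply]
        conv_rhs => rw [← hv, show v = b.equivFun (b.equivFun.symm v) from (b.equivFun.apply_symm_apply v).symm]
        exact (LinearMap.toMatrix_mulVec_repr b b f _).symm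
    · have h1 := h (b.equivFun x) ((LinearMap.toMatrix_mulVec_repr b b f x).trans (by rw [hx]; rfl))
      simpa using h1

include hQ hf in
theorem le_dim (p : ℕ) [Fact p.Prime] [CharP F p] {r : ℕ} (hr : r.Prime) (hr2 : r ≠ 2) (hrp : r ≠ p)
    (h0 : 0 < orderOf f) (hd : r ∣ orderOf f) : eta2 (orderOf ((q : ℕ) : ZMod r)) ≤ finrank F X := by
  obtain ⟨M, hi, ho, -⟩ := exists_matrix Q hQ f hf
  have h := one_prime' M hi p hr hr2 hrp (ho ▸ h0) (ho ▸ hd)
  rwa [Fintype.card_fin] at h

include hQ hf in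
theorem le_dim_char (p : ℕ) [Fact p.Prime] [CharP F p] {r : ℕ} (hr : r.Prime) (hr2 : r ≠ 2) (hrp : r ≠ p)
    (h0 : 0 < orderOf f) (hd : r * p ∣ orderOf f) :
    eta2 (orderOf ((q : ℕ) : ZMod r)) + 2 ≤ finrank F X ∨ 2 * eta2 (orderOf ((q : ℕ) : ZMod r)) ≤ finrank F X := by
  obtain ⟨M, hi, ho, -⟩ := exists_matrix Q hQ f hf
  have h := prime_char' M hi p hr hr2 hrp (ho ▸ h0) (ho ▸ hd)
  rwa [Fintype.card_fin] at h

omit Q hQ f hf in
theorem mem_orb_of_order {r : ℕ} (hr : r.Prime) (hc : r.Coprime q) {a : AlgebraicClosure F} (ha : orderOf a = r)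
    [DecidableEq (AlgebraicClosure F)] (j : ℕ) : a ^ q ^ j ∈ orb a (orderOf ((q : ℕ) : ZMod r)) := by
  haveI := Fact.mk hr
  set k := orderOf ((q : ℕ) : ZMod r)
  have hkpos : 0 < k := orderOf_pos_iff.2 (isOfFinOrder_iff_pow_eq_one.2 ⟨r - 1, Nat.sub_pos_of_lt hr.one_lt,
    ZMod.pow_card_sub_one_eq_one fun h0 => (hr.coprime_iff_not_dvd.1 hc) ((ZMod.natCast_eq_zero_iff _ r).1 h0)⟩)
  refine Finset.mem_image.2 ⟨j % k, Finset.mem_range.2 (Nat.mod_lt _ hkpos), (IsOfFinOrder.pow_eq_pow_iff_modEq (orderOf_pos_iff.1 (ha ▸ hr.pos))).2 ?_⟩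
  rw [ha, ← ZMod.natCast_eq_natCast_iff, Nat.cast_pow, Nat.cast_pow]
  exact (pow_mod_orderOf _ j)

include hQ hf in
/-- A fixed point free element of prime order fills whole eigenvalue orbits. -/
theorem dim_of_fpf (p : ℕ) [Fact p.Prime] [CharP F p] {r : ℕ} (hr : r.Prime) (hr2 : r ≠ 2) (hrp : r ≠ p)
    (hfr : f ^ r = 1) (hfpf : ∀ x, f x = x → x = 0) (hne : f ≠ 1) :
    finrank F X = eta2 (orderOf ((q : ℕ) : ZMod r)) ∨
      2 * eta2 (orderOf ((q : ℕ) : ZMod r)) ≤ finrank F X := by
  classical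
  haveI := Fact.mk hr
  have hof : orderOf f = r := orderOf_eq_prime hfr hne
  obtain ⟨M, hi, ho, hfix⟩ := exists_matrix Q hQ f hf
  rw [hfix] at hfpf
  rw [hof] at ho
  have hM : 0 < orderOf M := ho ▸ hr.pos
  have hc := coprime_card (F := F) p hr hrp
  set k := orderOf ((q : ℕ) : ZMod r) with hk
  have hne1 : ∀ x ∈ eig M, orderOf x = r := fun x hx => by
    refine orderOf_eq_prime (pow_of_mem M (ho ▸ pow_orderOf_eq_one M) hx) fun e => ?_
    subst e
    have hd : (1 - M).det = 0 := by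
      refine (algebraMap F (AlgebraicClosure F)).injective ?_
      have h1 := Polynomial.isRoot_of_mem_roots hx
      rw [Polynomial.IsRoot, Matrix.eval_charpoly, map_one, show (1 : Matrix _ _ (AlgebraicClosure F)) -
        M.map (algebraMap F _) = (1 - M).map (algebraMap F _) by
          rw [Matrix.map_sub _ (map_sub _), Matrix.map_one _ (map_zero _) (map_one _)],
        ← RingHom.mapMatrix_apply, ← RingHom.map_det] at h1
      rw [h1, map_zero]
    obtain ⟨v, hv0, hv⟩ := Matrix.exists_mulVec_eq_zero_iff.2 hd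
    exact hv0 (hfpf v (by rw [Matrix.sub_mulVec, Matrix.one_mulVec, sub_eq_zero] at hv; exact hv.symm))
  have hcl : ∀ a ∈ eig M, ∀ x, Conj' a x → x ∈ orb' a k := by
    intro a ha x hx
    obtain ⟨i, rfl | rfl⟩ := hx
    · exact Finset.mem_union_left _ (mem_orb_of_order hr hc (hne1 a ha) i)
    · exact Finset.mem_union_right _ (Finset.mem_image_of_mem _ (mem_orb_of_order hr hc (hne1 a ha) i))
  have hkpos : 0 < k := orderOf_pos_iff.2 (isOfFinOrder_iff_pow_eq_one.2 ⟨r - 1, Nat.sub_pos_of_lt hr.one_lt,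
    ZMod.pow_card_sub_one_eq_one fun h0 => (hr.coprime_iff_not_dvd.1 hc) ((ZMod.natCast_eq_zero_iff _ r).1 h0)⟩)
  obtain ⟨a, ha, har⟩ := exists_order_dvd p M hr hrp hM (ho ▸ dvd_rfl)
  have ha0 := ne_zero_of_mem M hM (pow_orderOf_eq_one M) ha
  have hT := orb'_subset M hi ha k
  have hle : ∀ b ∈ eig M, eta2 k ≤ (orb' b k).card := fun b hb =>
    eta2_le_card (F := F) (ne_zero_of_mem M hM (pow_orderOf_eq_one M) hb) hr hr2 (by rw [hne1 b hb]) hc
  have hTle : (orb' a k).card ≤ eta2 k := by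
    have h3 : (orb a k).card ≤ k := (Finset.card_image_le).trans (le_of_eq (Finset.card_range k))
    rcases Nat.even_or_odd k with ⟨e, he⟩ | ho'
    · have hinvmem : a⁻¹ = a ^ q ^ e := by
        rcases CfsgLib.Classical.Adjacency.dvd_eta (F := F) hr hc hk (e := e) (Or.inr ⟨⟨e, he⟩, by omega⟩) with
          ⟨h, -⟩ | ⟨-, h⟩
        · exact absurd (⟨e, he⟩ : Even k) (Nat.not_even_iff_odd.2 h)
        have : a ^ (q ^ e + 1) = 1 := orderOf_dvd_iff_pow_eq_one.1 (hne1 a ha ▸ h)
        rw [pow_succ] at this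
        exact (eq_inv_of_mul_eq_one_left this).symm
      have hsub : orb' a k = orb a k := by
        refine Finset.union_eq_left.2 fun x hx => ?_
        obtain ⟨y, hy, rfl⟩ := Finset.mem_image.1 hx
        obtain ⟨j, -, rfl⟩ := Finset.mem_image.1 hy
        rw [← inv_pow, hinvmem, ← pow_mul, ← pow_add]
        exact mem_orb_of_order hr hc (hne1 a ha) _
      rw [hsub, eta2, if_pos ⟨e, he⟩]
      exact h3
    · rw [eta2, if_neg (Nat.not_even_iff_odd.2 ho')]
      refine (Finset.card_union_le _ _).trans ?_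
      have := Finset.card_image_le (s := orb a k) (f := (·⁻¹))
      omega
  have hTcard : (orb' a k).card = eta2 k := le_antisymm hTle (hle a ha)
  by_cases hout : ∃ b ∈ eig M, b ∉ orb' a k
  · obtain ⟨b, hb, hbT⟩ := hout
    have hdis : Disjoint (orb' a k) (orb' b k) := by
      rw [Finset.disjoint_left]
      intro x hx hx'
      exact hbT (hcl a ha b ((mem_orb' hx).trans (Conj'.symm M hb (mem_orb' hx'))))
    have h := card_le' M (Finset.union_subset hT (orb'_subset M hi hb k))
    rw [Finset.card_union_of_disjoint hdis, Fintype.card_fin, hTcard] at h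
    have := hle b hb
    right; omega
  · push Not at hout
    have hTe : finrank F X = eta2 k * (eig M).count a := by
      refine ((Fintype.card_fin _).symm.trans (card_eig M).symm).trans ?_
      rw [← Multiset.sum_count_eq_card (s := orb' a k) hout,
        Finset.sum_congr rfl (fun x hx => count_orb' M hi hx), Finset.sum_const, smul_eq_mul, hTcard]
    rcases Nat.lt_or_ge ((eig M).count a) 2 with h2c | h2c
    · left
      rw [hTe, le_antisymm (by omega : (eig M).count a ≤ 1) (Multiset.count_pos.2 ha), mul_one]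
    · right
      rw [hTe, mul_comm 2]
      exact Nat.mul_le_mul_left _ h2c

end eigen

section omega

variable {ι : Type} [Fintype ι] [DecidableEq ι] (Q : QuadraticForm F (ι → F))
  (hQ : (QuadraticMap.polarBilin Q).Nondegenerate)

include hQ in
omit [Fintype F] [DecidableEq ι] in
theorem restrict_nondeg {U W : Submodule F (ι → F)} (hc : IsCompl U W)
    (horth : ∀ u ∈ U, ∀ w ∈ W, QuadraticMap.polar ⇑Q u w = 0) :
    (QuadraticMap.polarBilin (Q.comp U.subtype)).Nondegenerate := by
  have key : ∀ u : U, (∀ v, QuadraticMap.polar ⇑(Q.comp U.subtype) u v = 0) → u = 0 := fun u hu =>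
    Subtype.ext (hQ.1 _ fun x => by
      obtain ⟨a, ha, b, hb, rfl⟩ := Submodule.mem_sup.1 (hc.sup_eq_top ▸ Submodule.mem_top : x ∈ U ⊔ W)
      show QuadraticMap.polar ⇑Q u.1 (a + b) = 0
      rw [QuadraticMap.polar_add_right, horth _ u.2 b hb, add_zero]
      exact hu ⟨a, ha⟩)
  exact ⟨key, fun y hy => key y fun x => (QuadraticMap.polar_comm _ y x).trans (hy x)⟩

/-- the eigenspaces of an involutive isometry -/
def plusSp (z : Matrix ι ι F) : Submodule F (ι → F) := LinearMap.ker (Matrix.mulVecLin z - 1)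

/-- the eigenspaces of an involutive isometry -/
def minusSp (z : Matrix ι ι F) : Submodule F (ι → F) := LinearMap.ker (Matrix.mulVecLin z + 1)

omit [Fintype F] [DecidableEq ι] in
theorem mem_plusSp {z : Matrix ι ι F} {v : ι → F} : v ∈ plusSp z ↔ z *ᵥ v = v := by
  simp [plusSp, LinearMap.mem_ker, sub_eq_zero]

omit [Fintype F] [DecidableEq ι] in
theorem mem_minusSp {z : Matrix ι ι F} {v : ι → F} : v ∈ minusSp z ↔ z *ᵥ v = -v := by
  simp [minusSp, LinearMap.mem_ker, add_eq_zero_iff_eq_neg]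

include hQ in
omit [Fintype F] in
theorem invol_split (h2 : (2 : F) ≠ 0) {z : Matrix ι ι F} (hz : z * z = 1) (hiso : ∀ v, Q (z *ᵥ v) = Q v) :
    IsCompl (plusSp z) (minusSp z) ∧ (QuadraticMap.polarBilin (Q.comp (plusSp z).subtype)).Nondegenerate ∧
      (QuadraticMap.polarBilin (Q.comp (minusSp z).subtype)).Nondegenerate := by
  have hc : IsCompl (plusSp z) (minusSp z) := (CfsgLib.Orth.det_invol h2 hz).2
  have ho : ∀ u ∈ plusSp z, ∀ w ∈ minusSp z, QuadraticMap.polar ⇑Q u w = 0 := fun u hu w hw => by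
    have h : QuadraticMap.polar ⇑Q (z *ᵥ u) (z *ᵥ w) = QuadraticMap.polar ⇑Q u w := by
      simp only [QuadraticMap.polar, ← Matrix.mulVec_add, hiso]
    rw [mem_plusSp.1 hu, mem_minusSp.1 hw, QuadraticMap.polar_neg_right] at h
    exact (mul_eq_zero.1 (show (2 : F) * QuadraticMap.polar ⇑Q u w = 0 by linear_combination -h)).resolve_left h2
  exact ⟨hc, restrict_nondeg Q hQ hc ho,
    restrict_nondeg Q hQ hc.symm fun u hu w hw => (QuadraticMap.polar_comm _ u w).trans (ho w hw u hu)⟩

/-- restriction of a commuting isometry -/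
theorem restrict_iso {z g : Matrix ι ι F} (hcomm : z * g = g * z) (hg : ∀ v, Q (g *ᵥ v) = Q v) :
    (∃ f : Module.End F (plusSp z), (∀ v, (f v).1 = g *ᵥ v.1) ∧ ∀ v, Q.comp (plusSp z).subtype (f v) = Q.comp (plusSp z).subtype v) ∧
    (∃ f : Module.End F (minusSp z), (∀ v, (f v).1 = g *ᵥ v.1) ∧ ∀ v, Q.comp (minusSp z).subtype (f v) = Q.comp (minusSp z).subtype v) := by
  refine ⟨⟨(Matrix.mulVecLin g).restrict fun v hv => ?_, fun v => rfl, fun v => hg v.1⟩,
    ⟨(Matrix.mulVecLin g).restrict fun v hv => ?_, fun v => rfl, fun v => hg v.1⟩⟩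
  · rw [Matrix.mulVecLin_apply, mem_plusSp, Matrix.mulVec_mulVec, hcomm, ← Matrix.mulVec_mulVec, mem_plusSp.1 hv]
  · rw [Matrix.mulVecLin_apply, mem_minusSp, Matrix.mulVec_mulVec, hcomm, ← Matrix.mulVec_mulVec, mem_minusSp.1 hv,
      Matrix.mulVec_neg]

omit [Fintype F] in
theorem pow_coe {z g : Matrix ι ι F} {f : Module.End F (minusSp z)} (hf : ∀ v, (f v).1 = g *ᵥ v.1) (i : ℕ) :
    ∀ v, ((f ^ i) v).1 = (g ^ i) *ᵥ v.1 := by
  induction i with
  | zero => intro v; simp
  | succ i ih => intro v; rw [pow_succ, pow_succ, Module.End.mul_apply, ih, hf, Matrix.mulVec_mulVec]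

omit [Fintype F] in
theorem pow_coe' {z g : Matrix ι ι F} {f : Module.End F (plusSp z)} (hf : ∀ v, (f v).1 = g *ᵥ v.1) (i : ℕ) :
    ∀ v, ((f ^ i) v).1 = (g ^ i) *ᵥ v.1 := by
  induction i with
  | zero => intro v; simp
  | succ i ih => intro v; rw [pow_succ, pow_succ, Module.End.mul_apply, ih, hf, Matrix.mulVec_mulVec]

omit [Fintype F] in
theorem det_plusQ (m : ℕ) : (polarGram (plusQ m F)).det = (-1 : F) ^ m := by
  have : polarGram (plusQ m F) = Matrix.fromBlocks (0 : Matrix (Fin m) (Fin m) F) 1 1 0 := by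
    ext i j
    simp only [polarGram, Matrix.of_apply, plusQ_coe, QuadraticMap.polar, Cfsg.quadFormPlus, Pi.add_apply,
      mul_add, add_mul, Finset.sum_add_distrib]
    rcases i with i | i <;> rcases j with j | j <;> simp [Matrix.one_apply, Pi.single_apply, eq_comm]
  rw [this, det_swap_blocks]

omit [Fintype F] in
theorem det_minusQ (m : ℕ) (a b : F) :
    (polarGram (minusQ m F a b)).det = (-1 : F) ^ m * (4 * b - a ^ 2) := by
  have : polarGram (minusQ m F a b) =
      Matrix.fromBlocks (polarGram (plusQ m F)) 0 0 !![2, a; a, 2 * b] := by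
    ext i j
    simp only [polarGram, Matrix.of_apply, minusQ_coe, plusQ_coe, QuadraticMap.polar, Cfsg.quadFormPlus,
      Cfsg.quadFormMinus, Pi.add_apply]
    rcases i with i | i <;> rcases j with j | j
    · simp [Matrix.fromBlocks_apply₁₁, polarGram, Cfsg.quadFormPlus, Pi.single_apply]
    · simp [Pi.single_apply]
    · simp [Pi.single_apply]
    · fin_cases i <;> fin_cases j <;> simp [Pi.single_apply] <;> ring
  rw [this, Matrix.det_fromBlocks_zero₂₁, det_plusQ, Matrix.det_fin_two_of]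
  ring

/-- `(-1)^m` is a square iff `q^m ≡ 1 mod 4`. -/
theorem isSquare_neg_one_pow (h2 : (2 : F) ≠ 0) (m : ℕ) :
    (IsSquare ((-1 : F) ^ m) → 4 ∣ q ^ m - 1) ∧ (¬ IsSquare ((-1 : F) ^ m) → 4 ∣ q ^ m + 1) := by
  have hodd : q % 2 = 1 := FiniteField.odd_card_of_char_ne_two fun h => h2 (by
    haveI := ringChar.of_eq h; exact CharTwo.two_eq_zero)
  have hp : q ^ m % 4 = (q % 4) ^ m % 4 := Nat.pow_mod _ _ _
  rcases Nat.even_or_odd m with ⟨c, hc⟩ | ho
  · subst hc
    have h1 : q ^ (c + c) % 4 = 1 := by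
      rw [← two_mul, pow_mul, Nat.pow_mod, Nat.pow_mod _ 2]
      rcases (show q % 4 = 1 ∨ q % 4 = 3 by omega) with h | h <;> rw [h] <;> simp
    exact ⟨fun _ => by omega, fun h => absurd ⟨(-1) ^ c, by rw [← pow_add]⟩ h⟩
  · rw [ho.neg_one_pow, FiniteField.isSquare_neg_one_iff]
    obtain ⟨c, rfl⟩ := ho
    have h1 : q ^ (2 * c + 1) % 4 = q % 4 := by
      rw [pow_succ, pow_mul, Nat.mul_mod, Nat.pow_mod, Nat.pow_mod _ 2]
      rcases (show q % 4 = 1 ∨ q % 4 = 3 by omega) with h | h <;> rw [h] <;> simp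
    exact ⟨fun h => by omega, fun h => by omega⟩

omit [DecidableEq ι] in
/-- If `r` divides the order of an orthogonal group of dimension `2m` and `2m` is `eta2` of the period, the sign is
determined. -/
theorem dvd_of_dvd_prod (p : ℕ) [Fact p.Prime] [CharP F p] {r : ℕ} (hr : r.Prime) (hr2 : r ≠ 2) (hrp : r ≠ p) {m : ℕ}
    (hm : eta2 (orderOf ((q : ℕ) : ZMod r)) = 2 * (m + 1)) {A e : ℕ}
    (h : r ∣ 2 * q ^ e * A * ∏ i ∈ Finset.range m, (q ^ (2 * (i + 1)) - 1)) : r ∣ A := by
  have h1 : ¬ r ∣ ∏ i ∈ Finset.range m, (q ^ (2 * (i + 1)) - 1) := by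
    rw [Prime.dvd_finsetProd_iff hr.prime]
    rintro ⟨i, hi, hd⟩
    rw [Finset.mem_range] at hi
    have hk := CfsgLib.Classical.Adjacency.dvd_pow_sub_one_iff.1 hd
    unfold eta2 at hm
    split_ifs at hm with he
    · have := Nat.le_of_dvd (by omega) hk; omega
    · have := Nat.le_of_dvd (by omega) ((Nat.coprime_two_right.2 (Nat.not_even_iff_odd.1 he)).dvd_of_dvd_mul_left hk)
      omega
  rcases hr.dvd_mul.1 h with h | h
  · rcases hr.dvd_mul.1 h with h | h
    · rcases hr.dvd_mul.1 h with h | h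
      · exact absurd ((Nat.prime_dvd_prime_iff_eq hr Nat.prime_two).1 h) hr2
      · exact absurd (hr.dvd_of_dvd_pow h) (hr.coprime_iff_not_dvd.1 (coprime_card p hr hrp))
    · exact h
  · exact absurd h h1

include hQ in
/-- An involution of `Omega` whose `-1` space of dimension `2m` admits an element of order `r`, where `eta(r) = m`. -/
theorem four_dvd (p : ℕ) [Fact p.Prime] [CharP F p] (h2 : (2 : F) ≠ 0) (hn : 2 ≤ Fintype.card ι) {r : ℕ}
    (hr : r.Prime) (hr2 : r ≠ 2) (hrp : r ≠ p) {m : ℕ} (hm : eta2 (orderOf ((q : ℕ) : ZMod r)) = 2 * (m + 1))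
    {z : ↥(Cfsg.isometryGroup F ⇑Q)} (hzO : z ∈ Cfsg.Omega F ⇑Q) (hz : z.1.1 * z.1.1 = 1)
    (hd : finrank F (minusSp z.1.1) = 2 * (m + 1)) (f : Module.End F (minusSp z.1.1))
    (hf : ∀ v, Q.comp (minusSp z.1.1).subtype (f v) = Q.comp (minusSp z.1.1).subtype v) (hof : orderOf f = r) :
    4 * r ∣ q ^ (m + 1) - 1 ∨ 4 * r ∣ q ^ (m + 1) + 1 := by
  classical
  have hiso : ∀ v, Q (z.1.1 *ᵥ v) = Q v := fun v => mem_isometryGroup_iff.1 z.2 v
  obtain ⟨hcpl, -, hnd⟩ := invol_split Q hQ h2 hz hiso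
  have hQ' := CfsgLib.Orth.nd_of_qf Q hQ
  have hex := CfsgLib.Orth.hex_of_two (F := F) h2 (n := Fintype.card ι)
  have hspn := ((CfsgLib.Orth.mem_omega_iff hQ' hn hex (g := z)).1 hzO).1
  obtain ⟨a, b, hab⟩ := OrthEmbed.exists_anisotropic F
  have h4 : Nat.Coprime 4 r := (Nat.Coprime.pow_left 2 ((Nat.coprime_primes Nat.prime_two hr).2 hr2.symm) : Nat.Coprime (2 ^ 2) r)
  have key : ∀ {κ : Type} [Fintype κ] [DecidableEq κ] (S : QuadraticForm F (κ → F)) (L : (κ → F) →ₗ[F] minusSp z.1.1),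
      Function.Injective L → (∀ v, Q.comp (minusSp z.1.1).subtype (L v) = S v) → Fintype.card κ = 2 * (m + 1) →
      r ∣ Nat.card (Cfsg.isometryGroup F ⇑S) ∧ IsSquare (polarGram S).det := by
    intro κ _ _ S L hL hLS hκ
    let Le := LinearMap.linearEquivOfInjective L hL (by rw [Module.finrank_pi, hκ, hd])
    refine ⟨?_, ?_⟩
    · obtain ⟨u, hu⟩ : IsUnit f :=
        IsUnit.of_pow_eq_one (by rw [← hof]; exact pow_orderOf_eq_one f) hr.ne_zero
      let ρ : ↥(Subgroup.zpowers u) →* Module.End F (minusSp z.1.1) := (Units.coeHom _).comp (Subgroup.zpowers u).subtype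
      have hall : ∀ (g : Subgroup.zpowers u) v, Q.comp (minusSp z.1.1).subtype (ρ g v) = Q.comp (minusSp z.1.1).subtype v := by
        rintro ⟨g, hg⟩ v
        have hfin : IsOfFinOrder u := orderOf_pos_iff.1 (by rw [← orderOf_units, hu, hof]; exact hr.pos)
        obtain ⟨i, rfl⟩ := (Submonoid.mem_powers_iff _ _).1 (IsOfFinOrder.mem_powers_iff_mem_zpowers hfin |>.2 hg)
        show Q.comp _ ((↑(u ^ i) : Module.End F _) v) = _
        rw [Units.val_pow_eq_pow_val, hu]
        clear hg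
        induction i generalizing v with
        | zero => rfl
        | succ i ih => rw [pow_succ, Module.End.mul_apply, ih, hf]
      obtain ⟨φ, hφ⟩ := OrthEmbed.hom_of_action (⇑S) Le ρ (fun g x => by
        rw [← hLS, ← hLS]
        show Q.comp _ (Le (Le.symm _)) = Q.comp _ (Le x)
        rw [Le.apply_symm_apply, hall]) fun g h e => Subtype.ext (Units.ext e)
      have h1 := orderOf_dvd_natCard (φ ⟨u, Subgroup.mem_zpowers u⟩)
      rwa [orderOf_injective φ hφ, Subgroup.orderOf_mk, ← orderOf_units, hu, hof] at h1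
    · let e : Fin (2 * (m + 1)) ≃ κ := (Fintype.equivFinOfCardEq hκ).symm
      let w : Fin (2 * (m + 1)) → ι → F := fun i => (L (Pi.single (e i) 1)).1
      have hli : LinearIndependent F w := by
        have h0 := (Pi.basisFun F κ).linearIndependent.comp e e.injective
        have h1 := (h0.map' L (LinearMap.ker_eq_bot.2 hL)).map' (minusSp z.1.1).subtype (Submodule.ker_subtype _)
        have : w = (minusSp z.1.1).subtype ∘ L ∘ (Pi.basisFun F κ ∘ e) := by
          funext i; simp [w]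
        rw [this]
        exact h1
      have hspan : ∀ x, x - z.1.1 *ᵥ x ∈ Submodule.span F (Set.range w) := fun x => by
        have hx : x - z.1.1 *ᵥ x ∈ minusSp z.1.1 := mem_minusSp.2 (by
          rw [Matrix.mulVec_sub, Matrix.mulVec_mulVec, hz, Matrix.one_mulVec]; abel)
        obtain ⟨c, hc⟩ := Le.surjective ⟨_, hx⟩
        have hc' : (L c).1 = x - z.1.1 *ᵥ x := congrArg Subtype.val hc
        rw [← hc', show c = ∑ i, c i • (Pi.single i (1 : F) : κ → F) from pi_eq_sum_univ' c, map_sum,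
          AddSubmonoidClass.coe_finsetSum]
        refine Submodule.sum_mem _ fun i _ => ?_
        rw [map_smul, SetLike.val_smul]
        exact Submodule.smul_mem _ _ (Submodule.subset_span ⟨e.symm i, by simp [w]⟩)
      obtain ⟨-, h⟩ := CfsgLib.Orth.spn_of_negating hQ' h2 z.2 hli (fun i => mem_minusSp.1 (L _).2) hspan
      rw [hspn] at h
      have hgram : (Matrix.of fun i j => QuadraticMap.polar ⇑Q (w i) (w j)) = (polarGram S).submatrix e e := by
        ext i j
        simp only [Matrix.of_apply, Matrix.submatrix_apply, polarGram, w, QuadraticMap.polar, ← hLS, map_add,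
          QuadraticMap.comp_apply, Submodule.subtype_apply]
      rw [hgram, Matrix.det_submatrix_equiv_self] at h
      have hne : (polarGram S).det ≠ 0 := fun h0 => by
        obtain ⟨v, hv0, hv⟩ := Matrix.exists_mulVec_eq_zero_iff.2 h0
        refine hv0 (hL (by
          rw [map_zero]
          refine hnd.1 _ fun y => ?_
          obtain ⟨c, hc⟩ := Le.surjective y
          rw [← hc]
          show QuadraticMap.polar ⇑(Q.comp (minusSp z.1.1).subtype) (L v) (L c) = 0
          have : ∀ a b, QuadraticMap.polar ⇑(Q.comp (minusSp z.1.1).subtype) (L a) (L b) = QuadraticMap.polar ⇑S a b :=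
            fun a b => by simp only [QuadraticMap.polar, ← map_add, hLS]
          rw [this]
          have hp : ∀ i, QuadraticMap.polar ⇑S v (Pi.single i 1) = 0 := fun i => by
            rw [QuadraticMap.polar_comm, ← polarGram_mulVec, hv]; rfl
          rw [show c = ∑ i, c i • (Pi.single i (1 : F) : κ → F) from pi_eq_sum_univ' c,
            ← QuadraticMap.polarBilin_apply_apply, map_sum]
          exact Finset.sum_eq_zero fun i _ => by rw [map_smul, QuadraticMap.polarBilin_apply_apply, hp, smul_zero]))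
      have hsq : IsSquare ((2 : F) ^ (2 * (m + 1)) * (polarGram S).det) :=
        (CfsgLib.Orth.sqc_eq_one_iff (mul_ne_zero (pow_ne_zero _ h2) hne)).1 h.symm
      rw [mul_comm 2 (m + 1), pow_mul, sq] at hsq
      exact (isSquare_mul_sq_iff (pow_ne_zero _ h2)).1 hsq
  rcases CfsgLib.Orth.FieldCls.exists_even_normal (Q.comp (minusSp z.1.1).subtype) hnd (k := m) hd hab with
    ⟨L, hL, hLS⟩ | ⟨L, hL, hLS⟩
  · obtain ⟨h1, h3⟩ := key (plusQ (m + 1) F) L hL (fun v => by rw [hLS, plusQ_coe]) (by simp; omega)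
    rw [plusQ_coe, card_iso_plus] at h1
    rw [det_plusQ] at h3
    exact Or.inl (h4.mul_dvd_of_dvd_of_dvd ((isSquare_neg_one_pow h2 (m + 1)).1 h3) (dvd_of_dvd_prod p hr hr2 hrp hm h1))
  · obtain ⟨h1, h3⟩ := key (minusQ m F a b) L hL (fun v => by rw [hLS, minusQ_coe]) (by simp; omega)
    rw [minusQ_coe, card_iso_minus hab] at h1
    rw [det_minusQ] at h3
    have hns : ¬ IsSquare (a ^ 2 - 4 * b) := by
      rintro ⟨t, ht⟩
      exact one_ne_zero (hab ((t - a) / 2) 1 (by field_simp; linear_combination -ht)).2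
    have h5 : ¬ IsSquare ((-1 : F) ^ (m + 1)) := by
      have : IsSquare ((-1 : F) ^ (m + 1) * (a ^ 2 - 4 * b)) := by
        convert h3 using 1; ring
      exact (isSquare_mul_right_iff h2 (pow_ne_zero _ (neg_ne_zero.2 one_ne_zero)) hns).1 this
    exact Or.inr (h4.mul_dvd_of_dvd_of_dvd ((isSquare_neg_one_pow h2 (m + 1)).2 h5) (dvd_of_dvd_prod p hr hr2 hrp hm h1))

end omega

end CfsgLib.Classical.IsoEigen
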