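import Cfsg.Agent.Lib.Classical.OddTori
import Cfsg.Agent.Lib.Classical.IsoEigen

/-!
Elements of order a product of two primes in `PSp(2n,q)` and in `POmega(2n+1,q)`, `q` odd.
-/

set_option autoImplicit false

namespace CfsgLib.Classical.OddSpectrum

open Matrix Module CfsgLib.Classical.RootOrbits CfsgLib.Classical.Adjacency

variable {F : Type*} [Field F] [Fintype F]

local notation "q" => Fintype.card F

/-- `t` divides `q^a - 1` or `q^a + 1` -/
def Pm (F : Type*) [Fintype F] (t a : ℕ) : Prop := t ∣ Fintype.card F ^ a - 1 ∨ t ∣ Fintype.card F ^ a + 1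

/-- two odd primes -/
def CondRS (F : Type*) [Fintype F] (n r s : ℕ) : Prop :=
  (∃ e, 1 ≤ e ∧ e ≤ n ∧ Pm F (r * s) e) ∨ ∃ a b, 1 ≤ a ∧ 1 ≤ b ∧ a + b ≤ n ∧ Pm F r a ∧ Pm F s b

/-- an odd prime and the characteristic -/
def CondP (F : Type*) [Fintype F] (n r : ℕ) : Prop := ∃ a, 1 ≤ a ∧ a + 1 ≤ n ∧ Pm F r a

/-- an odd prime and two -/
def CondTwo (F : Type*) [Fintype F] (n r : ℕ) : Prop := CondP F n r ∨ Pm F (4 * r) n

variable (p : ℕ) [Fact p.Prime] [CharP F p]

theorem period_pos {r : ℕ} (hr : r.Prime) (hrp : r ≠ p) : 0 < orderOf ((q : ℕ) : ZMod r) := by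
  haveI := Fact.mk hr
  exact orderOf_pos_iff.2 (isOfFinOrder_iff_pow_eq_one.2 ⟨r - 1, Nat.sub_pos_of_lt hr.one_lt,
    ZMod.pow_card_sub_one_eq_one fun h0 => (hr.coprime_iff_not_dvd.1 (coprime_card (F := F) p hr hrp))
      ((ZMod.natCast_eq_zero_iff _ r).1 h0)⟩)

theorem eta_exists {r : ℕ} (hr : r.Prime) (hrp : r ≠ p) :
    ∃ a, 1 ≤ a ∧ eta2 (orderOf ((q : ℕ) : ZMod r)) = 2 * a ∧ Pm F r a := by
  have hk := period_pos (F := F) p hr hrp
  rcases Nat.even_or_odd (orderOf ((q : ℕ) : ZMod r)) with ⟨e, he⟩ | ho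
  · refine ⟨e, by omega, by rw [eta2, if_pos ⟨e, he⟩]; omega, ?_⟩
    exact ((dvd_eta hr (coprime_card (F := F) p hr hrp) rfl (Or.inr ⟨⟨e, he⟩, by omega⟩)).imp And.right And.right)
  · refine ⟨_, hk, by rw [eta2, if_neg (Nat.not_even_iff_odd.2 ho)], Or.inl (dvd_pow_sub_one_iff.2 dvd_rfl)⟩

theorem condRS_of_matrix {n r s : ℕ} {ι : Type*} [Fintype ι] [DecidableEq ι] (hc : Fintype.card ι ≤ 2 * n + 1)
    (M : Matrix ι ι F) (hi : (eig M).map (·⁻¹) = eig M) (hr : r.Prime) (hs : s.Prime) (hr2 : r ≠ 2) (hs2 : s ≠ 2)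
    (hrp : r ≠ p) (hsp : s ≠ p) (hrs : r ≠ s) (hM : 0 < orderOf M) (hd : r * s ∣ orderOf M) : CondRS F n r s := by
  have hrs' : r.Coprime s := (Nat.coprime_primes hr hs).2 hrs
  have hk := period_pos (F := F) p hr hrp
  have hl := period_pos (F := F) p hs hsp
  set k := orderOf ((q : ℕ) : ZMod r) with hk'
  set l := orderOf ((q : ℕ) : ZMod s) with hl'
  rcases two_primes' M hi p hr hs hr2 hs2 hrp hsp hrs hM hd with h | h | ⟨h, i, hki, hli, hki2, hli2⟩
  · obtain ⟨a, ha, hae, hra⟩ := eta_exists (F := F) p hr hrp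
    obtain ⟨b, hb, hbe, hsb⟩ := eta_exists (F := F) p hs hsp
    rw [hae, hbe] at h
    exact Or.inr ⟨a, b, ha, hb, by omega, hra, hsb⟩
  · refine Or.inl ⟨Nat.lcm k l, Nat.lcm_pos hk hl, ?_, Or.inl (hrs'.mul_dvd_of_dvd_of_dvd
      (dvd_pow_sub_one_iff.2 (Nat.dvd_lcm_left _ _)) (dvd_pow_sub_one_iff.2 (Nat.dvd_lcm_right _ _)))⟩
    change 2 * Nat.lcm k l ≤ Fintype.card ι at h
    omega
  · change Nat.lcm k l ≤ Fintype.card ι at h
    change ¬ k ∣ i at hki; change ¬ l ∣ i at hli; change k ∣ 2 * i at hki2; change l ∣ 2 * i at hli2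
    have hev : Even k := by
      by_contra ho
      exact hki ((Nat.coprime_two_right.2 (Nat.not_even_iff_odd.1 ho)).dvd_of_dvd_mul_left hki2)
    obtain ⟨L, hL⟩ : 2 ∣ Nat.lcm k l := (even_iff_two_dvd.1 hev).trans (Nat.dvd_lcm_left _ _)
    have hLi : L ∣ i := Nat.dvd_of_mul_dvd_mul_left two_pos (hL ▸ Nat.lcm_dvd hki2 hli2)
    have hpos := Nat.lcm_pos hk hl
    have key : ∀ {t j : ℕ}, t.Prime → j = orderOf ((q : ℕ) : ZMod t) → ¬ j ∣ L → j ∣ 2 * L → t ∣ q ^ L + 1 := by
      intro t j ht hj hn h2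
      haveI := Fact.mk ht
      have h1 : ((q : ZMod t) ^ L) ^ 2 = 1 := by
        rw [← pow_mul, mul_comm]; exact orderOf_dvd_iff_pow_eq_one.1 (hj ▸ h2)
      rcases sq_eq_one_iff.1 h1 with h | h
      · exact absurd (hj ▸ orderOf_dvd_of_pow_eq_one h) hn
      · rw [← ZMod.natCast_eq_zero_iff, Nat.cast_add, Nat.cast_pow, h, Nat.cast_one, neg_add_cancel]
    exact Or.inl ⟨L, by omega, by omega, Or.inr (hrs'.mul_dvd_of_dvd_of_dvd
      (key hr hk' (fun h => hki (h.trans hLi)) (hL ▸ Nat.dvd_lcm_left _ _))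
      (key hs hl' (fun h => hli (h.trans hLi)) (hL ▸ Nat.dvd_lcm_right _ _)))⟩

theorem condP_of_matrix {n r : ℕ} (hn : 3 ≤ n) {ι : Type*} [Fintype ι] [DecidableEq ι]
    (hc : Fintype.card ι ≤ 2 * n + 1) (M : Matrix ι ι F) (hi : (eig M).map (·⁻¹) = eig M) (hr : r.Prime) (hr2 : r ≠ 2)
    (hrp : r ≠ p) (hM : 0 < orderOf M) (hd : r * p ∣ orderOf M) : CondP F n r := by
  obtain ⟨a, ha, hae, hra⟩ := eta_exists (F := F) p hr hrp
  have h := prime_char' M hi p hr hr2 hrp hM hd
  rw [hae] at h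
  exact ⟨a, ha, by omega, hra⟩

theorem pm_four_one (h2 : (2 : F) ≠ 0) : Pm F 4 1 := by
  have hodd : q % 2 = 1 := FiniteField.odd_card_of_char_ne_two fun h => h2 (by
    haveI := ringChar.of_eq h; exact CharTwo.two_eq_zero)
  unfold Pm
  rw [pow_one]
  omega

section omega

variable {n : ℕ} (h2 : (2 : F) ≠ 0) (hn : 3 ≤ n)

local notation "PO" => Set.range (orderOf : Cfsg.POmega F (Cfsg.quadFormOdd n F) → ℕ)

include h2 hn in
theorem omega_matrix {z : ↥(Cfsg.isometryGroup F (Cfsg.quadFormOdd n F))} {t : ℕ} (hz : orderOf z = t) :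
    ∃ M : Matrix (Fin (finrank F (Unit ⊕ (Fin n ⊕ Fin n) → F))) (Fin (finrank F (Unit ⊕ (Fin n ⊕ Fin n) → F))) F,
      (eig M).map (·⁻¹) = eig M ∧ orderOf M = t := by
  obtain ⟨M, hi, ho, -⟩ := IsoEigen.exists_matrix (oddQ n F) (oddQ_nondeg h2 n) (Matrix.toLinAlgEquiv' z.1.1)
    (fun x => by rw [oddQ_coe]; exact mem_isometryGroup_iff.1 z.2 x)
  refine ⟨M, hi, ho.trans ?_⟩
  rw [← hz]
  exact (orderOf_injective (Matrix.toLinAlgEquiv').toAlgHom.toMonoidHom (Matrix.toLinAlgEquiv').injective _).trans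
    ((orderOf_units).trans (Subgroup.orderOf_coe z))

include h2 hn p in
theorem omega_rs {r s : ℕ} (hr : r.Prime) (hs : s.Prime) (hr2 : r ≠ 2) (hs2 : s ≠ 2)
    (hrp : r ≠ p) (hsp : s ≠ p) (hrs : r ≠ s) : r * s ∈ PO ↔ CondRS F n r s := by
  have hrs' : r.Coprime s := (Nat.coprime_primes hr hs).2 hrs
  have hodd : Odd (r * s) := (hr.odd_of_ne_two hr2).mul (hs.odd_of_ne_two hs2)
  constructor
  · intro h
    obtain ⟨z, -, hz⟩ := (OddTori.mem_range_iff h2 (by omega)).1 h
    obtain ⟨M, hi, hM⟩ := omega_matrix h2 hn hz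
    refine condRS_of_matrix p (le_of_eq ?_) M hi hr hs hr2 hs2 hrp hsp hrs (hM ▸ Nat.mul_pos hr.pos hs.pos) (hM ▸ dvd_rfl)
    simp; omega
  · rintro (⟨e, he1, he, hd⟩ | ⟨a, b, ha, hb, hab, hda, hdb⟩)
    · obtain ⟨z, hz⟩ := OddTori.exists_block h2 he1 he hd 1
      exact OddTori.mem_range_of_order h2 (by omega) (z := z) (Or.inl ⟨by rw [hz, orderOf_one, Nat.lcm_one_right], hodd⟩)
    · obtain ⟨y, hy⟩ := OddTori.exists_block h2 (n := n - a) hb (by omega) hdb 1
      obtain ⟨z, hz⟩ := OddTori.exists_block h2 (n := n) ha (by omega) hda y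
      exact OddTori.mem_range_of_order h2 (by omega) (z := z)
        (Or.inl ⟨by rw [hz, hy, orderOf_one, Nat.lcm_one_right, hrs'.lcm_eq_mul], hodd⟩)

include h2 hn p in
theorem omega_rp {r : ℕ} (hr : r.Prime) (hr2 : r ≠ 2) (hrp : r ≠ p) : r * p ∈ PO ↔ CondP F n r := by
  have hp2 : p ≠ 2 := fun h => h2 (by subst h; exact CharTwo.two_eq_zero)
  constructor
  · intro h
    obtain ⟨z, -, hz⟩ := (OddTori.mem_range_iff h2 (by omega)).1 h
    obtain ⟨M, hi, hM⟩ := omega_matrix h2 hn hz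
    refine condP_of_matrix p hn (le_of_eq ?_) M hi hr hr2 hrp (hM ▸ Nat.mul_pos hr.pos (Fact.out : p.Prime).pos) (hM ▸ dvd_rfl)
    simp; omega
  · rintro ⟨a, ha, han, hd⟩
    obtain ⟨u, hu⟩ := OddTori.exists_char h2 p (m := n - a) (by omega)
    obtain ⟨z, hz⟩ := OddTori.exists_block h2 (n := n) ha (by omega) hd u
    exact OddTori.mem_range_of_order h2 (by omega) (z := z) (Or.inl ⟨by
      rw [hz, hu, ((Nat.coprime_primes hr Fact.out).2 hrp).lcm_eq_mul],
      (hr.odd_of_ne_two hr2).mul ((Fact.out : p.Prime).odd_of_ne_two hp2)⟩)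

include h2 hn p in
theorem omega_two_p : 2 * p ∈ PO := by
  have hp2 : p ≠ 2 := fun h => h2 (by subst h; exact CharTwo.two_eq_zero)
  obtain ⟨u, hu⟩ := OddTori.exists_char h2 p (m := n - 1) (by omega)
  obtain ⟨z, hz⟩ := OddTori.exists_block h2 (n := n) (e := 1) le_rfl (by omega) (pm_four_one h2) u
  refine OddTori.mem_range_of_order h2 (by omega) (z := z) (Or.inr ?_)
  have hcop : Nat.Coprime 4 p := (Nat.Coprime.pow_left 2 ((Nat.coprime_primes Nat.prime_two Fact.out).2 hp2.symm) : Nat.Coprime (2 ^ 2) p)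
  rw [hz, hu, hcop.lcm_eq_mul]; ring

include h2 hn p in
theorem omega_two_r {r : ℕ} (hr : r.Prime) (hr2 : r ≠ 2) (hrp : r ≠ p) : 2 * r ∈ PO ↔ CondTwo F n r := by
  have h4 : Nat.Coprime 4 r := (Nat.Coprime.pow_left 2 ((Nat.coprime_primes Nat.prime_two hr).2 hr2.symm) : Nat.Coprime (2 ^ 2) r)
  constructor
  · intro h
    obtain ⟨g, hgO, hg⟩ := (OddTori.mem_range_iff h2 (by omega)).1 h
    obtain ⟨a, ha, hae, hra⟩ := eta_exists (F := F) p hr hrp
    by_cases han : a + 1 ≤ n
    · exact Or.inl ⟨a, ha, han, hra⟩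
    right
    obtain ⟨m, rfl⟩ : ∃ m, n = m + 1 := ⟨n - 1, by omega⟩
    let Q := oddQ (m + 1) F
    have hQ : (QuadraticMap.polarBilin Q).Nondegenerate := oddQ_nondeg h2 _
    have hQc : ⇑Q = Cfsg.quadFormOdd (m + 1) F := oddQ_coe _
    let z := g ^ r
    let R := g ^ 2
    have hz : z.1.1 * z.1.1 = 1 := by
      have : z * z = 1 := by
        rw [← pow_add, ← two_mul, ← hg, pow_orderOf_eq_one]
      exact congrArg (fun x : ↥(Cfsg.isometryGroup F (Cfsg.quadFormOdd (m + 1) F)) => x.1.1) this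
    have hz1 : z.1.1 ≠ 1 := fun e => by
      have : z = 1 := Subtype.ext (Units.ext e)
      have := Nat.le_of_dvd hr.pos (hg ▸ orderOf_dvd_of_pow_eq_one this)
      have := hr.pos
      omega
    have hR : R ^ r = 1 := by rw [← pow_mul, ← hg, pow_orderOf_eq_one]
    have hR1 : R.1.1 ≠ 1 := fun e => by
      have : R = 1 := Subtype.ext (Units.ext e)
      have := Nat.le_of_dvd two_pos (hg ▸ orderOf_dvd_of_pow_eq_one this)
      have := hr.two_le
      omega
    have hcomm : z.1.1 * R.1.1 = R.1.1 * z.1.1 :=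
      congrArg (fun x : ↥(Cfsg.isometryGroup F (Cfsg.quadFormOdd (m + 1) F)) => x.1.1)
        ((Commute.pow_pow (Commute.refl g) r 2).eq : z * R = R * z)
    have hzi : ∀ v, Q (z.1.1 *ᵥ v) = Q v := fun v => by rw [hQc]; exact mem_isometryGroup_iff.1 z.2 v
    obtain ⟨hcpl, hndP, hndM⟩ := IsoEigen.invol_split Q hQ h2 hz hzi
    obtain ⟨⟨fP, hfP, hfPi⟩, ⟨fM, hfM, hfMi⟩⟩ := IsoEigen.restrict_iso Q hcomm
      (fun v => by rw [hQc]; exact mem_isometryGroup_iff.1 R.2 v)
    have hRr : R.1.1 ^ r = 1 := by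
      rw [← Units.val_pow_eq_pow_val, ← SubgroupClass.coe_pow, hR]; rfl
    have hfPr : fP ^ r = 1 := LinearMap.ext fun v => Subtype.ext (by
      rw [IsoEigen.pow_coe' hfP, hRr, Matrix.one_mulVec]; rfl)
    have hfMr : fM ^ r = 1 := LinearMap.ext fun v => Subtype.ext (by
      rw [IsoEigen.pow_coe hfM, hRr, Matrix.one_mulVec]; rfl)
    have hor : ∀ {W : Submodule F (Unit ⊕ (Fin (m + 1) ⊕ Fin (m + 1)) → F)} {f : Module.End F W}, f ^ r = 1 → f ≠ 1 →
        orderOf f = r := fun hf hne => by haveI := Fact.mk hr; exact orderOf_eq_prime hf hne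
    have hev : Even (finrank F (IsoEigen.minusSp z.1.1)) := by
      have hQ' := CfsgLib.Orth.nd_of_qf Q hQ
      rw [hQc] at hQ'
      have hzO : z ∈ Cfsg.Omega F (Cfsg.quadFormOdd (m + 1) F) := pow_mem hgO r
      have hdet := (CfsgLib.Orth.det_eq_one_iff hQ' h2 z.2).2
        ((CfsgLib.Orth.mem_omega_iff hQ' (by simp; omega) (CfsgLib.Orth.hex_of_two h2) (g := z)).1 hzO).2
      rw [(CfsgLib.Orth.det_invol h2 hz).1] at hdet
      by_contra ho
      change (-1 : F) ^ Module.finrank F ↥(IsoEigen.minusSp z.1.1) = 1 at hdet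
      rw [(Nat.not_even_iff_odd.1 ho : Odd _).neg_one_pow] at hdet
      exact h2 (by linear_combination -hdet)
    have hsum : finrank F (IsoEigen.plusSp z.1.1) + finrank F (IsoEigen.minusSp z.1.1) = 2 * (m + 1) + 1 := by
      rw [Submodule.finrank_add_eq_of_isCompl hcpl, Module.finrank_pi]
      simp; omega
    have hne0 : finrank F (IsoEigen.minusSp z.1.1) ≠ 0 := fun h0 => by
      refine hz1 (Matrix.ext_iff_mulVec.2 fun v => ?_)
      have hbot : IsoEigen.minusSp z.1.1 = ⊥ := Submodule.finrank_eq_zero.1 h0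
      have htop : IsoEigen.plusSp z.1.1 = ⊤ := by
        have := hcpl.sup_eq_top
        rwa [hbot, sup_bot_eq] at this
      rw [Matrix.one_mulVec]
      exact IsoEigen.mem_plusSp.1 (htop ▸ Submodule.mem_top)
    have hfM1 : fM ≠ 1 := by
      intro hM1
      by_cases hP1 : fP = 1
      · refine hR1 (Matrix.ext_iff_mulVec.2 fun v => ?_)
        obtain ⟨x, hx, y, hy, rfl⟩ := Submodule.mem_sup.1 (hcpl.sup_eq_top ▸ Submodule.mem_top :
          v ∈ IsoEigen.plusSp z.1.1 ⊔ IsoEigen.minusSp z.1.1)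
        rw [Matrix.one_mulVec, Matrix.mulVec_add, ← hfP ⟨x, hx⟩, ← hfM ⟨y, hy⟩, hP1, hM1]
        rfl
      · have hof := hor hfPr hP1
        have := IsoEigen.le_dim _ hndP fP hfPi p hr hr2 hrp (hof ▸ hr.pos) (hof ▸ dvd_rfl)
        obtain ⟨c, hc⟩ := hev
        omega
    have hof := hor hfMr hfM1
    have hle := IsoEigen.le_dim _ hndM fM hfMi p hr hr2 hrp (hof ▸ hr.pos) (hof ▸ dvd_rfl)
    obtain ⟨c, hc⟩ := hev
    obtain rfl : a = m + 1 := by omega
    have hzO : (⟨z.1, by rw [hQc]; exact z.2⟩ : ↥(Cfsg.isometryGroup F ⇑Q)) ∈ Cfsg.Omega F ⇑Q := by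
      have : ∀ (S : (Unit ⊕ (Fin (m + 1) ⊕ Fin (m + 1)) → F) → F) (hS : S = Cfsg.quadFormOdd (m + 1) F)
          (hm : z.1 ∈ Cfsg.isometryGroup F S), (⟨z.1, hm⟩ : ↥(Cfsg.isometryGroup F S)) ∈ Cfsg.Omega F S := by
        rintro S rfl hm
        exact pow_mem hgO r
      exact this _ hQc _
    exact IsoEigen.four_dvd Q hQ p h2 (by simp; omega) hr hr2 hrp (m := m) hae hzO hz (show finrank F (IsoEigen.minusSp z.1.1) = 2 * (m + 1) by omega) fM hfMi hof
  · rintro (⟨a, ha, han, hd⟩ | hd)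
    · obtain ⟨y, hy⟩ := OddTori.exists_block h2 (n := n - a) (e := 1) le_rfl (by omega) (pm_four_one h2) 1
      obtain ⟨z, hz⟩ := OddTori.exists_block h2 (n := n) ha (by omega) hd y
      refine OddTori.mem_range_of_order h2 (by omega) (z := z) (Or.inr ?_)
      rw [hz, hy, orderOf_one, Nat.lcm_one_right, Nat.lcm_comm, h4.lcm_eq_mul]; ring
    · obtain ⟨z, hz⟩ := OddTori.exists_block h2 (n := n) (e := n) (by omega) le_rfl hd 1
      refine OddTori.mem_range_of_order h2 (by omega) (z := z) (Or.inr ?_)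
      rw [hz, orderOf_one, Nat.lcm_one_right]; ring

end omega

section psp

variable {n : ℕ} (h2 : (2 : F) ≠ 0) (hn : 3 ≤ n)

local notation "PS" => Set.range (orderOf : Cfsg.PSp n F → ℕ)

include hn p in
theorem psp_rs {r s : ℕ} (hr : r.Prime) (hs : s.Prime) (hr2 : r ≠ 2) (hs2 : s ≠ 2)
    (hrp : r ≠ p) (hsp : s ≠ p) (hrs : r ≠ s) : r * s ∈ PS ↔ CondRS F n r s := by
  have hrs' : r.Coprime s := (Nat.coprime_primes hr hs).2 hrs
  have hodd : Odd (r * s) := (hr.odd_of_ne_two hr2).mul (hs.odd_of_ne_two hs2)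
  constructor
  · rintro ⟨x, hx⟩
    obtain ⟨A, hA0, hA, -⟩ := psp_lift hx
    exact condRS_of_matrix p (by simp; omega) A.1 (eig_inv_symplectic A) hr hs hr2 hs2 hrp hsp hrs hA0 hA
  · rintro (⟨e, he1, he, hd⟩ | ⟨a, b, ha, hb, hab, hda, hdb⟩)
    · obtain ⟨y, hy⟩ := exists_sp (F := F) e he1 hd
      obtain ⟨w, hw⟩ := exists_sp_block (show e + (n - e) = n by omega) y 1 (by rw [hy, orderOf_one, Nat.lcm_one_right])
      exact ⟨_, psp_order p (by omega) hw (Or.inl hodd)⟩
    · obtain ⟨x, hx⟩ := exists_sp (F := F) a ha hda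
      obtain ⟨y, hy⟩ := exists_sp (F := F) b hb hdb
      obtain ⟨z, hz⟩ := exists_sp_block (show a + b = a + b from rfl) x y (by rw [hx, hy, hrs'.lcm_eq_mul])
      obtain ⟨w, hw⟩ := exists_sp_block (show (a + b) + (n - (a + b)) = n by omega) z 1
        (by rw [hz, orderOf_one, Nat.lcm_one_right])
      exact ⟨_, psp_order p (by omega) hw (Or.inl hodd)⟩

include hn h2 p in
theorem psp_rp {r : ℕ} (hr : r.Prime) (hr2 : r ≠ 2) (hrp : r ≠ p) : r * p ∈ PS ↔ CondP F n r := by
  have hp2 : p ≠ 2 := fun h => h2 (by subst h; exact CharTwo.two_eq_zero)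
  constructor
  · rintro ⟨x, hx⟩
    obtain ⟨A, hA0, hA, -⟩ := psp_lift hx
    exact condP_of_matrix p hn (by simp; omega) A.1 (eig_inv_symplectic A) hr hr2 hrp hA0 hA
  · rintro ⟨a, ha, han, hd⟩
    obtain ⟨x, hx⟩ := exists_sp (F := F) a ha hd
    obtain ⟨u, hu⟩ := exists_sp_char (F := F) p (n - a) (by omega)
    obtain ⟨w, hw⟩ := exists_sp_block (show a + (n - a) = n by omega) x u
      (by rw [hx, hu, ((Nat.coprime_primes hr Fact.out).2 hrp).lcm_eq_mul])
    exact ⟨_, psp_order p (by omega) hw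
      (Or.inl ((hr.odd_of_ne_two hr2).mul ((Fact.out : p.Prime).odd_of_ne_two hp2)))⟩

include h2 in
/-- A block sum with a component of odd order keeps its order in the projective group. -/
theorem order_block_odd {a b : ℕ} (h : a + b = n) (ha : 1 ≤ a) {x : Matrix.symplecticGroup (Fin a) F}
    (y : Matrix.symplecticGroup (Fin b) F) (hx : Odd (orderOf x)) :
    Nat.lcm (orderOf x) (orderOf y) ∈ Set.range (orderOf : Cfsg.PSp n F → ℕ) := by
  subst h
  have hinj : Function.Injective (SpOrders.blockHom (F := F) a b) := fun u v huv => by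
    obtain ⟨h1, h2⟩ := SpOrders.bmat_inj (congrArg Subtype.val huv)
    exact Prod.ext (Subtype.ext h1) (Subtype.ext h2)
  set X := SpOrders.blockHom a b (x, y) with hX
  have ho : orderOf X = Nat.lcm (orderOf x) (orderOf y) := by rw [hX, orderOf_injective _ hinj, Prod.orderOf]
  refine ⟨CfsgLib.Sp.pr X, Nat.dvd_antisymm (ho ▸ orderOf_map_dvd _ _) ?_⟩
  rw [← ho]
  refine orderOf_dvd_of_pow_eq_one ?_
  have h := pow_orderOf_eq_one (CfsgLib.Sp.pr X)
  rw [← map_pow, ← map_one (CfsgLib.Sp.pr (m := a + b) (F := F)), eq_comm, CfsgLib.Sp.pr_eq_iff (by omega)] at h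
  rcases h with h | h
  · exact Subtype.ext h
  exfalso
  set k := orderOf (CfsgLib.Sp.pr X)
  have h1 : (X ^ k).1 ^ orderOf x = -1 := by
    rw [h, show (1 : Matrix.symplecticGroup (Fin (a + b)) F).1 = 1 from rfl, hx.neg_one_pow]
  have h3 : ((X ^ k) ^ orderOf x) = SpOrders.blockHom a b (1, (y ^ k) ^ orderOf x) := by
    rw [hX, ← map_pow, ← map_pow, Prod.pow_mk, Prod.pow_mk, ← pow_mul x, mul_comm, pow_mul, pow_orderOf_eq_one,
      one_pow]
  rw [← SubmonoidClass.coe_pow, h3] at h1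
  have h5 : SpOrders.bmat (1 : Matrix (Fin a ⊕ Fin a) (Fin a ⊕ Fin a) F) (((y ^ k) ^ orderOf x).1) =
      SpOrders.bmat (-1) (-1) := by
    rw [SpOrders.bmat_neg, ← SpOrders.bmat_one]
    exact h1
  have h4 := congrFun (congrFun (SpOrders.bmat_inj h5).1 (Sum.inl ⟨0, ha⟩)) (Sum.inl ⟨0, ha⟩)
  rw [Matrix.neg_apply, Matrix.one_apply_eq] at h4
  exact h2 (by linear_combination h4)

include hn h2 p in
theorem psp_two_p : 2 * p ∈ PS := by
  have hp2 : p ≠ 2 := fun h => h2 (by subst h; exact CharTwo.two_eq_zero)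
  obtain ⟨u, hu⟩ := exists_sp_char (F := F) p (n - 1) (by omega)
  obtain ⟨y, hy⟩ := exists_sp (F := F) 1 le_rfl (t := 2) ((pm_four_one h2).imp
    (Dvd.dvd.trans (by norm_num)) (Dvd.dvd.trans (by norm_num)))
  have := order_block_odd h2 (show (n - 1) + 1 = n by omega) (by omega) y (hu ▸ (Fact.out : p.Prime).odd_of_ne_two hp2)
  rwa [hu, hy, Nat.lcm_comm, ((Nat.coprime_primes Nat.prime_two Fact.out).2 hp2.symm).lcm_eq_mul] at this

include hn h2 p in
theorem psp_two_r {r : ℕ} (hr : r.Prime) (hr2 : r ≠ 2) (hrp : r ≠ p) : 2 * r ∈ PS ↔ CondTwo F n r := by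
  classical
  haveI := Fact.mk hr
  constructor
  · rintro ⟨x, hx⟩
    obtain ⟨a, ha, hae, hra⟩ := eta_exists (F := F) p hr hrp
    obtain ⟨A, hA0, hA, hAx⟩ := psp_lift hx
    have hi := eig_inv_symplectic A
    have hdr : r ∣ orderOf A.1 := dvd_of_mul_left_dvd hA
    by_cases han : a + 1 ≤ n
    · exact Or.inl ⟨a, ha, han, hra⟩
    right
    have hle := one_prime' A.1 hi p hr hr2 hrp hA0 hdr
    rw [hae, Fintype.card_sum, Fintype.card_fin] at hle
    obtain rfl : n = a := by omega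
    obtain ⟨b, hb, hbr⟩ := exists_order_dvd p A.1 hr hrp hA0 hdr
    have hb0 := ne_zero_of_mem A.1 hA0 (pow_orderOf_eq_one A.1) hb
    have hc := coprime_card (F := F) p hr hrp
    set k := orderOf ((q : ℕ) : ZMod r) with hk
    have hcard := eta2_le_card (F := F) hb0 hr hr2 hbr hc
    rw [← hk, hae] at hcard
    set T := orb' b k
    have hsub := orb'_subset A.1 hi hb k
    have hN : (eig A.1).card = 2 * n := by rw [card_eig, Fintype.card_sum, Fintype.card_fin, two_mul]
    have hTeq : T = (eig A.1).toFinset := Finset.eq_of_subset_of_card_le hsub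
      ((Multiset.toFinset_card_le _).trans (hN ▸ hcard))
    have hnd : (eig A.1).Nodup := Multiset.toFinset_card_eq_card_iff_nodup.1 (le_antisymm (Multiset.toFinset_card_le _)
      (by rw [hN, ← hTeq]; exact hcard))
    set N := orderOf b
    have hall : ∀ c ∈ eig A.1, orderOf c = N := fun c hc' =>
      Conj'.orderOf_eq A.1 hb hb0 (mem_orb' (hTeq ▸ Multiset.mem_toFinset.2 hc'))
    have hsemi : ∀ (e : ℕ) (t : AlgebraicClosure F), (∀ c ∈ eig A.1, c ^ e = t) →
        (A.1 ^ e).map (algebraMap F _) = t • (1 : Matrix _ _ (AlgebraicClosure F)) := by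
      intro e t he
      rcases Nat.eq_zero_or_pos e with rfl | he0
      · obtain rfl : (1 : AlgebraicClosure F) = t := by rw [← he b hb, pow_zero]
        simp [Matrix.map_one]
      have hP0 : (Polynomial.X ^ e - Polynomial.C t : Polynomial (AlgebraicClosure F)) ≠ 0 :=
        Polynomial.X_pow_sub_C_ne_zero he0 t
      have hd : ((eig A.1).map fun a => Polynomial.X - Polynomial.C a).prod ∣
          (Polynomial.X ^ e - Polynomial.C t : Polynomial (AlgebraicClosure F)) :=
        (Multiset.prod_X_sub_C_dvd_iff_le_roots hP0 _).2 ((Multiset.le_iff_subset hnd).2 fun c hc' =>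
          (Polynomial.mem_roots hP0).2 (by simp [Polynomial.IsRoot, he c hc']))
      have h0 := Polynomial.aeval_eq_zero_of_dvd_aeval_eq_zero hd (aeval_eig A.1)
      rw [map_sub, map_pow, Polynomial.aeval_X, Polynomial.aeval_C, sub_eq_zero, ← RingHom.mapMatrix_apply,
        ← map_pow, RingHom.mapMatrix_apply, Algebra.algebraMap_eq_smul_one] at h0
      exact h0
    have hpow : ∀ e, (∀ c ∈ eig A.1, c ^ e = 1) → A ^ e = 1 := fun e he => Subtype.ext (by
      rw [SubmonoidClass.coe_pow]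
      refine Matrix.map_injective (algebraMap F (AlgebraicClosure F)).injective ((hsemi e 1 he).trans ?_)
      rw [one_smul]; exact (Matrix.map_one _ (map_zero _) (map_one _)).symm)
    have hxpow : ∀ e, (A ^ e).1 = 1 ∨ (A ^ e).1 = -1 → x ^ e = 1 := by
      intro e he
      rw [← hAx, ← map_pow, ← map_one (CfsgLib.Sp.pr (m := n) (F := F)), eq_comm, CfsgLib.Sp.pr_eq_iff (by omega)]
      rcases he with he | he
      · exact Or.inl he
      · exact Or.inr (by simpa using he)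
    obtain ⟨w, hw⟩ : 2 ∣ N := by
      by_contra hN2
      have := hpow N fun c hc' => hall c hc' ▸ pow_orderOf_eq_one c
      have h2r := orderOf_dvd_of_pow_eq_one (hxpow N (Or.inl (congrArg Subtype.val this)))
      rw [hx] at h2r
      exact hN2 (dvd_of_mul_right_dvd h2r)
    have hw0 : 0 < w := by
      have : 0 < N := orderOf_pos_iff.2 (isOfFinOrder_iff_pow_eq_one.2
        ⟨_, hA0, pow_of_mem A.1 (pow_orderOf_eq_one A.1) hb⟩)
      omega
    have hneg : (A ^ w).1 = -1 := by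
      rw [SubmonoidClass.coe_pow]
      refine Matrix.map_injective (algebraMap F (AlgebraicClosure F)).injective ((hsemi w (-1) fun c hc' => ?_).trans ?_)
      · have h1 : (c ^ w) ^ 2 = 1 := by
          rw [← pow_mul, mul_comm, ← hw, ← hall c hc', pow_orderOf_eq_one]
        rcases sq_eq_one_iff.1 h1 with h | h
        · exfalso
          have := Nat.le_of_dvd hw0 (hall c hc' ▸ orderOf_dvd_of_pow_eq_one h)
          omega
        · exact h
      · ext i j
        by_cases hij : i = j <;> simp [hij]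
    have h4 : 4 * r ∣ N := by
      have h2r := orderOf_dvd_of_pow_eq_one (hxpow w (Or.inr hneg))
      rw [hx] at h2r
      rw [hw, show 4 * r = 2 * (2 * r) by ring]
      exact Nat.mul_dvd_mul_left 2 h2r
    have hkper : ∀ j, r ∣ q ^ j - 1 → k ∣ j := fun j => dvd_pow_sub_one_iff.1
    have hk0 := period_pos (F := F) p hr hrp
    rcases Nat.even_or_odd k with hev | hod
    · rw [eta2, if_pos hev] at hae
      have horb : (orb b k).card = k := card_orb hb0 hbr hc (period_prime hr)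
      have hall' : (eig A.1).toFinset = orb b k := (Finset.eq_of_subset_of_card_le (orb_subset A.1 hb k)
        ((Multiset.toFinset_card_le _).trans (by omega))).symm
      obtain ⟨i, hik, hbi⟩ := Finset.mem_image.1 (hall' ▸ Multiset.mem_toFinset.2 (Multiset.count_pos.1
        (by rw [count_inv A.1 hi]; exact Multiset.count_pos.2 hb)) : b⁻¹ ∈ orb b k)
      rw [Finset.mem_range] at hik
      have hNi : N ∣ q ^ i + 1 := orderOf_dvd_of_pow_eq_one (by rw [pow_succ, hbi, inv_mul_cancel₀ hb0])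
      obtain ⟨c, hc'⟩ := dvd_double_period (hbr.trans hNi) (period_prime hr)
      have hni := not_period_dvd hr hr2 (hbr.trans hNi)
      obtain rfl : i = n := by
        rw [← hk, hae] at hc'
        rcases c with _ | _ | c
        · exact absurd (by omega : i = 0) fun h => hni (h ▸ dvd_zero _)
        · omega
        · exfalso; nlinarith
      exact Or.inr (h4.trans hNi)
    · rw [eta2, if_neg (Nat.not_even_iff_odd.2 hod)] at hae
      obtain rfl : k = n := by omega
      left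
      refine h4.trans ?_
      have hmem : b ^ q ^ k ∈ T := hTeq ▸ Multiset.mem_toFinset.2 (mem_frob A.1 hb k)
      rcases Finset.mem_union.1 hmem with h | h
      · obtain ⟨i, hik, hbi⟩ := Finset.mem_image.1 h
        rw [Finset.mem_range] at hik
        have hd := hkper _ (pow_eq_of_lt hb0 hik.le hbi hbr hc)
        obtain rfl : i = 0 := by
          by_contra h0
          have := Nat.le_of_dvd (by omega) hd
          omega
        refine orderOf_dvd_of_pow_eq_one (mul_right_cancel₀ hb0 ?_)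
        rw [← pow_succ, Nat.sub_add_cancel (Nat.one_le_pow _ _ Fintype.card_pos), ← hbi, pow_zero, pow_one, one_mul]
      · exfalso
        obtain ⟨y, hy, hbi⟩ := Finset.mem_image.1 h
        obtain ⟨i, hik, rfl⟩ := Finset.mem_image.1 hy
        have hd : r ∣ q ^ k + q ^ i := hbr.trans (orderOf_dvd_of_pow_eq_one (by
          rw [pow_add, ← hbi, inv_mul_cancel₀ (pow_ne_zero _ hb0)]))
        rw [← ZMod.natCast_eq_zero_iff, Nat.cast_add, Nat.cast_pow, Nat.cast_pow, pow_orderOf_eq_one] at hd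
        have hq1 : r ∣ q ^ i + 1 := by
          rw [← ZMod.natCast_eq_zero_iff, Nat.cast_add, Nat.cast_pow, Nat.cast_one, add_comm]
          exact hd
        have h1 := dvd_double_period hq1 (period_prime hr)
        exact not_period_dvd hr hr2 hq1 (hk ▸ (Nat.coprime_two_right.2 hod).dvd_of_dvd_mul_left (hk ▸ h1))
  · rintro (⟨a, ha, han, hd⟩ | hd)
    · obtain ⟨x, hx⟩ := exists_sp (F := F) a ha hd
      obtain ⟨y, hy⟩ := exists_sp (F := F) (n - a) (by omega) (t := 2) (Or.inr (by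
        have hodd : q % 2 = 1 := FiniteField.odd_card_of_char_ne_two fun h => h2 (by
          haveI := ringChar.of_eq h; exact CharTwo.two_eq_zero)
        rw [Nat.dvd_iff_mod_eq_zero, Nat.add_mod, Nat.pow_mod, hodd, one_pow]; rfl))
      have := order_block_odd h2 (show a + (n - a) = n by omega) ha y (hx ▸ hr.odd_of_ne_two hr2)
      rwa [hx, hy, Nat.lcm_comm, ((Nat.coprime_primes Nat.prime_two hr).2 hr2.symm).lcm_eq_mul] at this
    · obtain ⟨X, hX⟩ := exists_sp (F := F) n (by omega) hd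
      set m := orderOf (CfsgLib.Sp.pr X) with hm
      have h := pow_orderOf_eq_one (CfsgLib.Sp.pr X)
      rw [← map_pow, ← map_one (CfsgLib.Sp.pr (m := n) (F := F)), eq_comm, CfsgLib.Sp.pr_eq_iff (by omega)] at h
      have h2m : X ^ (2 * m) = 1 := by
        rw [two_mul, pow_add]
        rcases h with h | h
        · rw [← hm] at h; rw [show X ^ m = 1 from Subtype.ext h, one_mul]
        · rw [← hm] at h
          refine Subtype.ext ?_
          simp [h]
      have hdm : 2 * r ∣ m := by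
        have := orderOf_dvd_of_pow_eq_one h2m
        rw [hX, show 4 * r = 2 * (2 * r) by ring] at this
        exact Nat.dvd_of_mul_dvd_mul_left two_pos this
      exact ⟨CfsgLib.Sp.pr X ^ (m / (2 * r)), orderOf_pow_orderOf_div (by
        intro h0
        have := orderOf_map_dvd CfsgLib.Sp.pr X
        rw [h0, hX, zero_dvd_iff] at this
        have := hr.pos
        omega) hdm⟩

end psp

end CfsgLib.Classical.OddSpectrum
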