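import Cfsg.Agent.Lib.Classical.PermModuleTwo

/-!
# Small orthogonal groups over the field of two elements
-/

set_option autoImplicit false

namespace CfsgLib.Classical.SmallOrth

open Module Matrix

local notation "F2" => ZMod 2

/-- Change of field along an isomorphism. -/
noncomputable def isoEquiv {F E : Type*} [Field F] [Field E] {κ : Type} [Fintype κ] [DecidableEq κ] (e : F ≃+* E)
    {S : (κ → F) → F} {S' : (κ → E) → E} (h : ∀ v, S' (fun i => e (v i)) = e (S v)) :
    ↥(Cfsg.isometryGroup F S) ≃* ↥(Cfsg.isometryGroup E S') := by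
  let G : GL κ F ≃* GL κ E := Units.mapEquiv e.mapMatrix.toMulEquiv
  refine (G.subgroupMap _).trans (MulEquiv.subgroupCongr (SetLike.ext fun g => ?_))
  show g ∈ Subgroup.map G.toMonoidHom _ ↔ _
  rw [Subgroup.mem_map_equiv, CfsgLib.Classical.mem_isometryGroup_iff, CfsgLib.Classical.mem_isometryGroup_iff]
  have key : ∀ v : κ → F, (fun i => e (((G.symm g).1 *ᵥ v) i)) = g.1 *ᵥ fun i => e (v i) := fun v => funext fun i => by
    have hg : g.1 = (G.symm g).1.map e :=
      (congrArg Units.val (G.apply_symm_apply g)).symm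
    rw [hg]
    exact e.toRingHom.map_mulVec (G.symm g).1 v i
  constructor
  · intro hg w
    have := hg (fun i => e.symm (w i))
    have hw : (fun i => e (e.symm (w i))) = w := funext fun i => e.apply_symm_apply _
    rw [← hw, ← key, h, h, this]
  · intro hg v
    exact e.injective (by rw [← h, ← h, key, hg])

/-- even weight vectors in dimension five -/
def E5 : Submodule F2 (Fin 5 → F2) := LinearMap.ker (∑ i, LinearMap.proj i)

theorem mem_E5 {x : Fin 5 → F2} : x ∈ E5 ↔ ∑ i, x i = 0 := by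
  simp [E5, LinearMap.mem_ker, LinearMap.sum_apply]

local notation "I4" => ((Fin 1 ⊕ Fin 1) ⊕ Fin 2)

/-- coordinates -/
def co : (I4 → F2) ≃ₗ[F2] E5 where
  toFun v := ⟨![v (.inl (.inr 0)), v (.inl (.inl 0)), v (.inl (.inl 0)) + v (.inl (.inr 0)) + v (.inr 0),
      v (.inl (.inl 0)) + v (.inl (.inr 0)) + v (.inr 0) + v (.inr 1),
      v (.inl (.inl 0)) + v (.inl (.inr 0)) + v (.inr 1)], mem_E5.2 (by
        have key : ∀ a b c d : F2, ∑ i, ![b, a, a + b + c, a + b + c + d, a + b + d] i = 0 := by decide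
        exact key _ _ _ _)⟩
  map_add' u v := Subtype.ext (funext fun i => by fin_cases i <;> simp <;> ring)
  map_smul' c v := Subtype.ext (funext fun i => by fin_cases i <;> simp [mul_add])
  invFun x := Sum.elim (Sum.elim (fun _ => x.1 1) (fun _ => x.1 0)) ![x.1 0 + x.1 1 + x.1 2, x.1 0 + x.1 1 + x.1 4]
  left_inv v := by
    have key : ∀ a b c : F2, b + a + (a + b + c) = c := by decide
    funext i
    rcases i with (i | i) | i <;> fin_cases i <;> simp [key]
  right_inv x := by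
    have key : ∀ a b c d e : F2, a + b + c + d + e = 0 → b + a + (a + b + c) = c ∧
        b + a + (a + b + c) + (a + b + e) = d ∧ b + a + (a + b + e) = e ∧ c + (a + b + e) = d := by decide
    obtain ⟨k1, k2, k3, k4⟩ := key _ _ _ _ _ ((Fin.sum_univ_five x.1).symm.trans (mem_E5.1 x.2))
    refine Subtype.ext (funext fun i => ?_)
    fin_cases i <;> simp [k1, k2, k3] <;> exact k4

/-- the action on five coordinates -/
def act5 : Equiv.Perm (Fin 5) →* Module.End F2 E5 where
  toFun p :=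
    { toFun := fun x => ⟨x.1 ∘ p.symm, mem_E5.2 ((Equiv.sum_comp p.symm x.1).trans (mem_E5.1 x.2))⟩
      map_add' := fun _ _ => rfl
      map_smul' := fun _ _ => rfl }
  map_one' := rfl
  map_mul' _ _ := rfl

theorem permFive : ∃ φ : Equiv.Perm (Fin 5) →* ↥(Cfsg.isometryGroup F2 (Cfsg.quadFormMinus 1 F2 1 1)), Function.Injective φ := by
  have hco : ∀ v, PermModuleTwo.hq (co v).1 = Cfsg.quadFormMinus 1 F2 1 1 v := by
    have key : ∀ a b c d : F2, PermModuleTwo.hq ![b, a, a + b + c, a + b + c + d, a + b + d] =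
        a * b + (c ^ 2 + 1 * c * d + 1 * d ^ 2) := by decide
    intro v
    exact (key _ _ _ _).trans (by simp [Cfsg.quadFormMinus])
  refine OrthEmbed.hom_of_action _ co act5 (fun g x => ?_) ?_
  · rw [← hco, ← hco, LinearEquiv.apply_symm_apply]
    show PermModuleTwo.hq ((co x).1 ∘ g.symm) = PermModuleTwo.hq (co x).1
    unfold PermModuleTwo.hq PermModuleTwo.wt
    rw [show (∑ i, (((co x).1 ∘ g.symm) i).val) = ∑ i, ((co x).1 i).val from Equiv.sum_comp g.symm fun i => ((co x).1 i).val]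
  · intro p r h
    refine Equiv.symm_bijective.injective (Equiv.ext fun a => ?_)
    have key : ∀ a b : Fin 5, a ≠ b → ∃ v : I4 → F2, (co v).1 a ≠ (co v).1 b := by decide
    by_contra hne
    obtain ⟨v, hv⟩ := key _ _ hne
    exact hv (congrFun (congrArg Subtype.val (LinearMap.congr_fun h (co v))) a)

/-- two-by-two matrices as coordinates -/
def toM (v : Fin 2 ⊕ Fin 2 → F2) : Matrix (Fin 2) (Fin 2) F2 := !![v (.inl 0), v (.inl 1); v (.inr 1), v (.inr 0)]

/-- and back -/
def toV : Matrix (Fin 2) (Fin 2) F2 ≃ₗ[F2] (Fin 2 ⊕ Fin 2 → F2) where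
  toFun X := Sum.elim ![X 0 0, X 0 1] ![X 1 1, X 1 0]
  invFun := toM
  map_add' X Y := funext fun i => by rcases i with i | i <;> fin_cases i <;> simp
  map_smul' c X := funext fun i => by rcases i with i | i <;> fin_cases i <;> simp
  left_inv X := by ext i j; fin_cases i <;> fin_cases j <;> simp [toM]
  right_inv v := funext fun i => by rcases i with i | i <;> fin_cases i <;> simp [toM]

theorem det_toV (X : Matrix (Fin 2) (Fin 2) F2) : Cfsg.quadFormPlus 2 F2 (toV X) = X.det := by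
  simp [Cfsg.quadFormPlus, toV, Fin.sum_univ_two, Matrix.det_fin_two, CharTwo.sub_eq_add]

local notation "GL2" => GL (Fin 2) F2

theorem det_one (g : GL2) : g.1.det = 1 := by
  rcases BinaryForms.two_cases g.1.det with h | h
  · exact absurd h g.det_ne_zero
  · exact h

/-- left multiplication -/
def lmul : GL2 →* Module.End F2 (Matrix (Fin 2) (Fin 2) F2) where
  toFun g :=
    { toFun := fun X => g.1 * X
      map_add' := fun X Y => Matrix.mul_add _ _ _
      map_smul' := fun c X => Matrix.mul_smul _ _ _ }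
  map_one' := LinearMap.ext fun X => Matrix.one_mul X
  map_mul' g h := LinearMap.ext fun X => Matrix.mul_assoc g.1 h.1 X

/-- right multiplication -/
def rmul : GL2 →* Module.End F2 (Matrix (Fin 2) (Fin 2) F2) where
  toFun g :=
    { toFun := fun X => X * (g⁻¹).1
      map_add' := fun X Y => Matrix.add_mul _ _ _
      map_smul' := fun c X => Matrix.smul_mul _ _ _ }
  map_one' := LinearMap.ext fun X => by simp
  map_mul' g h := LinearMap.ext fun X => by simp [Matrix.mul_assoc, _root_.mul_inv_rev]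

theorem gl_equiv : Nonempty (GL2 ≃* Equiv.Perm (Fin 3)) := by
  classical
  haveI : Fact (Nat.Prime 2) := ⟨Nat.prime_two⟩
  let S := {v : Fin 2 → F2 // v ≠ 0}
  let ψ : GL2 →* Equiv.Perm S :=
    { toFun := fun g =>
        { toFun := fun v => ⟨g.1 *ᵥ v.1, fun h => v.2 (by
            have := congrArg ((g⁻¹).1 *ᵥ ·) h
            simp only [Matrix.mulVec_mulVec, Units.inv_mul, Matrix.one_mulVec, Matrix.mulVec_zero] at this
            exact this)⟩
          invFun := fun v => ⟨(g⁻¹).1 *ᵥ v.1, fun h => v.2 (by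
            have := congrArg (g.1 *ᵥ ·) h
            simp only [Matrix.mulVec_mulVec, Units.mul_inv, Matrix.one_mulVec, Matrix.mulVec_zero] at this
            exact this)⟩
          left_inv := fun v => Subtype.ext (by simp only [Matrix.mulVec_mulVec, Units.inv_mul, Matrix.one_mulVec])
          right_inv := fun v => Subtype.ext (by simp only [Matrix.mulVec_mulVec, Units.mul_inv, Matrix.one_mulVec]) }
      map_one' := Equiv.ext fun v => Subtype.ext (Matrix.one_mulVec v.1)
      map_mul' := fun g h => Equiv.ext fun v => Subtype.ext (Matrix.mulVec_mulVec v.1 g.1 h.1).symm }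
  have hinj : Function.Injective ψ := fun g h e => Units.ext (Matrix.ext_iff_mulVec.2 fun v => by
    rcases eq_or_ne v 0 with rfl | hv
    · simp
    · exact congrArg Subtype.val (Equiv.congr_fun e ⟨v, hv⟩))
  have hcard : Fintype.card S = 3 := by
    rw [Fintype.card_subtype_compl, Fintype.card_subtype_eq]
    simp
  have hbij : Function.Bijective ψ := (Nat.bijective_iff_injective_and_card ψ).2 ⟨hinj, by
    rw [Matrix.card_GL_field, Nat.card_perm, Nat.card_eq_fintype_card, hcard, Fin.prod_univ_two, ZMod.card]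
    simp [Nat.factorial]⟩
  exact ⟨(MulEquiv.ofBijective ψ hbij).trans (Fintype.equivFinOfCardEq hcard).permCongrHom⟩

theorem scalar_key : ∀ g h : Matrix (Fin 2) (Fin 2) F2, g.det ≠ 0 →
    (∀ i j : Fin 2, g * Matrix.single i j 1 = Matrix.single i j 1 * h) → g = 1 := by decide

/-- exchanging the two off-diagonal entries -/
def swp : GL (Fin 2 ⊕ Fin 2) F2 :=
  ⟨(Equiv.swap (Sum.inl 1) (Sum.inr 1) : Equiv.Perm (Fin 2 ⊕ Fin 2)).permMatrix F2,
    (Equiv.swap (Sum.inl 1) (Sum.inr 1) : Equiv.Perm (Fin 2 ⊕ Fin 2)).permMatrix F2, by decide, by decide⟩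

theorem swp_mulVec : ∀ v : Fin 2 ⊕ Fin 2 → F2, swp.1 *ᵥ v = toV (toM v)ᵀ := by decide

theorem plusFour :
    Nat.card ↥(Cfsg.isometryGroup F2 (Cfsg.quadFormPlus 2 F2)) = 72 ∧
    ∃ (A B : Subgroup ↥(Cfsg.isometryGroup F2 (Cfsg.quadFormPlus 2 F2))),
      Nonempty (↥A ≃* Equiv.Perm (Fin 3)) ∧ Nonempty (↥B ≃* Equiv.Perm (Fin 3)) ∧ A ⊓ B = ⊥ ∧ (∀ a ∈ A, ∀ b ∈ B, a * b = b * a) ∧
      (A ⊔ B).index = 2 ∧ ∃ g : ↥(Cfsg.isometryGroup F2 (Cfsg.quadFormPlus 2 F2)), A.map (MulAut.conj g).toMonoidHom = B := by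
  classical
  haveI : Fact (Nat.Prime 2) := ⟨Nat.prime_two⟩
  obtain ⟨e3⟩ := gl_equiv
  have h72 : Nat.card ↥(Cfsg.isometryGroup F2 (Cfsg.quadFormPlus 2 F2)) = 72 := by
    rw [CfsgLib.Classical.card_iso_plus (F := F2) 1, ZMod.card]
    rfl
  let mk : (GL2 →* Module.End F2 (Matrix (Fin 2) (Fin 2) F2)) → GL2 →* Module.End F2 (Fin 2 ⊕ Fin 2 → F2) := fun ρ =>
    (LinearEquiv.conjAlgEquiv F2 toV).toMonoidHom.comp ρ
  have hmk : ∀ ρ g v, mk ρ g v = toV (ρ g (toV.symm v)) := fun ρ g v => rfl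
  have lift : ∀ ρ : GL2 →* Module.End F2 (Matrix (Fin 2) (Fin 2) F2), (∀ g X, (ρ g X).det = X.det) → Function.Injective ρ →
      ∃ φ : GL2 →* ↥(Cfsg.isometryGroup F2 (Cfsg.quadFormPlus 2 F2)), Function.Injective φ ∧
        ∀ g v, (φ g).1.1 *ᵥ v = toV (ρ g (toV.symm v)) := by
    intro ρ hρ hinj
    let M : GL2 →* Matrix (Fin 2 ⊕ Fin 2) (Fin 2 ⊕ Fin 2) F2 := LinearMap.toMatrixAlgEquiv'.toMonoidHom.comp (mk ρ)
    have hM : ∀ g v, M g *ᵥ v = toV (ρ g (toV.symm v)) := fun g v => LinearMap.toMatrix'_mulVec (mk ρ g) v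
    refine ⟨M.toHomUnits.codRestrict _ fun g => CfsgLib.Classical.mem_isometryGroup_iff.2 fun v => ?_, fun g h e => hinj ?_, hM⟩
    · show Cfsg.quadFormPlus 2 F2 (M g *ᵥ v) = _
      rw [hM, det_toV, hρ]
      exact (det_toV _).symm.trans (by rw [LinearEquiv.apply_symm_apply])
    · refine LinearMap.ext fun X => toV.injective ?_
      have := congrArg (fun z : ↥(Cfsg.isometryGroup F2 (Cfsg.quadFormPlus 2 F2)) => z.1.1 *ᵥ toV X) e
      change M g *ᵥ toV X = M h *ᵥ toV X at this
      rwa [hM, hM, LinearEquiv.symm_apply_apply] at this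
  obtain ⟨a, ha, haf⟩ := lift lmul (fun g X => by
      show (g.1 * X).det = X.det
      rw [Matrix.det_mul, det_one, one_mul])
    (fun g h e => Units.ext (by simpa [lmul] using LinearMap.congr_fun e 1))
  obtain ⟨b, hb, hbf⟩ := lift rmul (fun g X => by
      show (X * (g⁻¹).1).det = X.det
      rw [Matrix.det_mul, det_one, mul_one])
    (fun g h e => inv_injective (Units.ext (by simpa [rmul] using LinearMap.congr_fun e 1)))
  let G := ↥(Cfsg.isometryGroup F2 (Cfsg.quadFormPlus 2 F2))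
  have hext : ∀ x y : G, (∀ v, x.1.1 *ᵥ v = y.1.1 *ᵥ v) → x = y := fun x y h =>
    Subtype.ext (Units.ext (Matrix.ext_iff_mulVec.2 h))
  have hmul : ∀ (x y : G) v, (x * y).1.1 *ᵥ v = x.1.1 *ᵥ (y.1.1 *ᵥ v) := fun x y v => (Matrix.mulVec_mulVec v x.1.1 y.1.1).symm
  have hcomm : ∀ g h, Commute (a g) (b h) := fun g h => hext _ _ fun v => by
    rw [hmul, hmul, haf, hbf, haf, hbf]
    simp [lmul, rmul, Matrix.mul_assoc]
  have hdisj : a.range ⊓ b.range = ⊥ := by
    rw [eq_bot_iff]
    rintro x ⟨⟨g, rfl⟩, ⟨h, hh⟩⟩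
    have e : ∀ X, g.1 * X = X * (h⁻¹).1 := fun X => toV.injective (by
      have := congrArg (fun z : G => z.1.1 *ᵥ toV X) hh
      simp only [haf, hbf, LinearEquiv.symm_apply_apply] at this
      exact this.symm)
    rw [Subgroup.mem_bot, show g = 1 from Units.ext (scalar_key g.1 (h⁻¹).1 g.det_ne_zero fun i j => e _), map_one]
  have hidx : (a.range ⊔ b.range).index = 2 := by
    have hr : a.range ⊔ b.range = (a.noncommCoprod b hcomm).range := (a.noncommCoprod_range b hcomm).symm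
    have hi : Function.Injective (a.noncommCoprod b hcomm) :=
      (MonoidHom.noncommCoprod_injective a b hcomm).2 ⟨ha, hb, disjoint_iff.2 hdisj⟩
    have h1 := Subgroup.card_mul_index (a.range ⊔ b.range)
    rw [hr] at h1 ⊢
    rw [← Nat.card_congr (MonoidHom.ofInjective hi).toEquiv, Nat.card_prod, Nat.card_congr e3.toEquiv, Nat.card_perm,
      Nat.card_fin, h72] at h1
    simp [Nat.factorial] at h1
    omega
  refine ⟨h72, a.range, b.range, ⟨(MonoidHom.ofInjective ha).symm.trans e3⟩, ⟨(MonoidHom.ofInjective hb).symm.trans e3⟩,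
    hdisj, ?_, hidx, ?_⟩
  · rintro _ ⟨g, rfl⟩ _ ⟨h, rfl⟩
    exact hcomm g h
  -- transposition exchanges the factors
  let T : GL (Fin 2 ⊕ Fin 2) F2 := swp
  have hT : ∀ v, T.1 *ᵥ v = toV (toM v)ᵀ := swp_mulVec
  let tg : G := ⟨T, CfsgLib.Classical.mem_isometryGroup_iff.2 fun v => by
    rw [hT, det_toV, Matrix.det_transpose]
    exact (det_toV _).symm.trans (congrArg _ (toV.apply_symm_apply v))⟩
  refine ⟨tg, ?_⟩
  have hti : tg⁻¹ = tg := Subtype.ext (Units.ext rfl)
  let τ : GL2 → GL2 := fun g => ⟨((g⁻¹).1)ᵀ, (g.1)ᵀ,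
    by rw [← Matrix.transpose_mul, Units.mul_inv, Matrix.transpose_one],
    by rw [← Matrix.transpose_mul, Units.inv_mul, Matrix.transpose_one]⟩
  have hconj : ∀ g, MulAut.conj tg (a g) = b (τ g) := fun g => hext _ _ fun v => by
    show (tg * a g * tg⁻¹).1.1 *ᵥ v = _
    rw [hti, hmul, hmul, haf, hbf]
    show T.1 *ᵥ toV (lmul g (toV.symm (T.1 *ᵥ v))) = _
    rw [hT, hT, LinearEquiv.symm_apply_apply, show toM (toV (lmul g (toM v)ᵀ)) = lmul g (toM v)ᵀ from toV.symm_apply_apply _]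
    show toV (g.1 * (toM v)ᵀ)ᵀ = toV (toV.symm v * g.1ᵀ)
    rw [Matrix.transpose_mul, Matrix.transpose_transpose]
    rfl
  have hτ : Function.Surjective τ := fun g => ⟨τ g, Units.ext (by simp [τ])⟩
  ext x
  constructor
  · rintro ⟨_, ⟨g, rfl⟩, rfl⟩
    exact ⟨τ g, (hconj g).symm⟩
  · rintro ⟨h, rfl⟩
    obtain ⟨g, rfl⟩ := hτ h
    exact ⟨a g, ⟨g, rfl⟩, hconj g⟩

end CfsgLib.Classical.SmallOrth
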