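import Cfsg.Agent.Lib.Classical.PSL2Spectrum
import Cfsg.Agent.Lib.Char.TwoSmall

/-!
# Conjugacy class sizes in `PSL(2,q)`
-/

set_option autoImplicit false
set_option linter.unusedSectionVars false

namespace CfsgLib.Classical.PSL2ClassSizes

open CfsgLib.PSL2Two CfsgLib.Char CfsgLib.Classical.PSL2Spectrum

variable {F : Type*} [Field F] [Fintype F]

local notation "S2" => Matrix.SpecialLinearGroup (Fin 2) F
local notation "P2" => Matrix.ProjectiveSpecialLinearGroup (Fin 2) F
local notation "qF" => Fintype.card F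

/-- The class size of `π A` as a count. -/
noncomputable def size (A : S2) : ℕ := (Subgroup.centralizer ({π A} : Set P2)).index

theorem size_eq_card (A : S2) : size A = Nat.card {y : P2 // IsConj (π A) y} :=
  (CfsgLib.Char.card_isConj (π A)).symm

/-- The projection of a class. -/
def classMap (A : S2) : {x : S2 // IsConj A x} → {y : P2 // IsConj (π A) y} :=
  fun x => ⟨π x.1, (π : S2 →* P2).map_isConj x.2⟩

theorem classMap_surjective (A : S2) : Function.Surjective (classMap A) := by
  rintro ⟨y, hy⟩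
  obtain ⟨c, rfl⟩ := isConj_iff.1 hy
  obtain ⟨C, rfl⟩ := π_surjective c
  exact ⟨⟨C * A * C⁻¹, isConj_iff.2 ⟨C, rfl⟩⟩, Subtype.ext (by simp [classMap])⟩

theorem trace_neg_iff {x y : S2} (h : x.1 = -y.1) : x.1.trace = -y.1.trace := by rw [h, Matrix.trace_neg]

/-- Without fusion of `A` and `-A` the class keeps its size. -/
theorem size_of_ne (A : S2) (h : A.1.trace ≠ 0 ∨ 2 ∣ qF) :
    size A = Nat.card {x : S2 // IsConj A x} := by
  rw [size_eq_card]
  refine (Nat.card_eq_of_bijective (classMap A) ⟨fun x y hxy => ?_, classMap_surjective A⟩).symm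
  rcases π_eq_iff.1 (congrArg Subtype.val hxy) with e | e
  · exact Subtype.ext (Subtype.ext e)
  refine Subtype.ext (Subtype.ext ?_)
  by_cases h2 : (2 : F) = 0
  · haveI : CharP F 2 := CharTwo.of_one_ne_zero_of_two_eq_zero one_ne_zero h2
    rw [e]
    ext i j
    exact CharTwo.neg_eq _
  exfalso
  have ht : A.1.trace ≠ 0 := h.resolve_right fun hd =>
    h2 (haveI := char_two_of_dvd hd; CharTwo.two_eq_zero)
  have e1 := trace_neg_iff e
  rw [← (TwoClasses.sl_conj_spec x.2).1, ← (TwoClasses.sl_conj_spec y.2).1] at e1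
  exact ht ((mul_eq_zero.1 (show (2 : F) * A.1.trace = 0 by linear_combination e1)).resolve_left h2)

theorem root_iff {A : S2} : TwoClasses.IsEll A.1 ↔ ∀ a : F, a * (A.1.trace - a) ≠ 1 := by
  constructor
  · exact fun h a ha => TwoClasses.isEll_no_root h a (by rw [A.det_coe]; linear_combination -ha)
  · exact fun h => TwoClasses.isEll_of_no_root fun a ha => h a (by rw [A.det_coe] at ha; linear_combination -ha)

/-- Trace fibres away from the traces of scalars. -/
theorem fibre_cases (A : S2) (h : ∀ a : F, a * a = 1 → A.1.trace ≠ 2 * a) :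
    (¬ TwoClasses.IsEll A.1 ∧ Nat.card {x : S2 // x.1.trace = A.1.trace} = qF * (qF + 1)) ∨
      (TwoClasses.IsEll A.1 ∧ Nat.card {x : S2 // x.1.trace = A.1.trace} = qF * (qF - 1)) := by
  classical
  have hq : 1 < qF := Fintype.one_lt_card
  obtain ⟨k, hk⟩ : ∃ k, qF = k + 2 := ⟨qF - 2, by omega⟩
  by_cases he : TwoClasses.IsEll A.1
  · refine Or.inr ⟨he, ?_⟩
    have := TwoClasses.card_trace_fibre_ell he
    rw [hk] at this ⊢
    rw [show k + 2 - 1 = k + 1 from rfl]
    nlinarith
  · refine Or.inl ⟨he, ?_⟩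
    obtain ⟨a, ha⟩ : ∃ a : F, a * (A.1.trace - a) = 1 := by
      by_contra hc
      exact he (root_iff.2 (not_exists.1 hc))
    have hne : A.1.trace - a ≠ a := fun e => h a (by rwa [e] at ha) (by linear_combination e)
    have hr : Nat.card {b : F // b * (A.1.trace - b) = 1} = 2 := by
      refine Nat.card_eq_two_iff.2 ⟨⟨a, ha⟩, ⟨A.1.trace - a, by linear_combination ha⟩,
        fun e => hne (congrArg Subtype.val e).symm, ?_⟩
      refine Set.eq_univ_of_forall fun b => ?_
      have hm : (b.1 - a) * (b.1 - (A.1.trace - a)) = 0 := by linear_combination ha - b.2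
      rcases mul_eq_zero.1 hm with hm | hm
      · exact Or.inl (Subtype.ext (sub_eq_zero.1 hm))
      · exact Or.inr (Subtype.ext (sub_eq_zero.1 hm))
    have := TwoClasses.card_trace_fibre (F := F) A.1.trace
    rw [hr] at this
    nlinarith

theorem not_scalar_of_trace {A : S2} (h : ∀ a : F, a * a = 1 → A.1.trace ≠ 2 * a) :
    ¬ TwoClasses.IsScalar2 A.1 := by
  intro hs
  obtain ⟨ε, hε, hA⟩ := (TwoClasses.sl_scalar_iff A).1 hs
  refine h ε (by rw [← pow_two]; exact hε) ?_
  rw [hA, Matrix.trace_smul, Matrix.trace_one, smul_eq_mul, Fintype.card_fin]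
  push_cast
  ring

/-- A regular semisimple class is its trace fibre. -/
theorem class_eq_fibre (A : S2) (h : ∀ a : F, a * a = 1 → A.1.trace ≠ 2 * a) :
    Nat.card {x : S2 // IsConj A x} = Nat.card {x : S2 // x.1.trace = A.1.trace} := by
  refine Nat.card_congr (Equiv.subtypeEquivRight fun x => ⟨fun hc => (TwoClasses.sl_conj_spec hc).1.symm,
    fun ht => ?_⟩)
  refine TwoClasses.sl_isConj_of_trace (not_scalar_of_trace h)
    (not_scalar_of_trace (A := x) (ht.symm ▸ h)) ht.symm ?_
  by_cases h2 : (2 : F) = 0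
  · exact Or.inr (ringChar.eq_iff.2 (CharTwo.of_one_ne_zero_of_two_eq_zero one_ne_zero h2))
  refine Or.inl fun hd => h (A.1.trace / 2) ?_ ?_
  · simp only [TwoClasses.dsc] at hd
    field_simp
    linear_combination hd
  · field_simp

/-- Trace zero halves the class in odd characteristic. -/
theorem size_trace_zero (hodd : qF % 2 = 1) (A : S2) (ht : A.1.trace = 0) :
    2 * size A = Nat.card {x : S2 // IsConj A x} := by
  classical
  have h2 := two_ne_zero_of_odd hodd
  have hA : ∀ a : F, a * a = 1 → A.1.trace ≠ 2 * a := fun a ha e => by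
    rcases mul_eq_zero.1 (ht ▸ e).symm with h | h
    · exact h2 h
    · simp [h] at ha
  have hfib : ∀ y, Nat.card {x : {x : S2 // IsConj A x} // classMap A x = y} = 2 := by
    intro y
    obtain ⟨x, rfl⟩ := classMap_surjective A y
    have hxt : x.1.1.trace = 0 := (TwoClasses.sl_conj_spec x.2).1.symm.trans ht
    let n : S2 := ⟨-x.1.1, by rw [Matrix.det_neg, x.1.det_coe, Fintype.card_fin]; norm_num⟩
    have hn : IsConj A n := by
      have hnt : n.1.trace = 0 := by simp [n, hxt]
      refine TwoClasses.sl_isConj_of_trace (not_scalar_of_trace hA)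
        (not_scalar_of_trace (A := n) (by rw [hnt, ← ht]; exact hA)) (ht.trans hnt.symm) (Or.inl ?_)
      simp only [TwoClasses.dsc, ht]
      ring_nf
      simpa [show (4 : F) = 2 * 2 by norm_num] using h2
    refine Nat.card_eq_two_iff.2 ⟨⟨x, rfl⟩, ⟨⟨n, hn⟩, Subtype.ext (π_eq_iff.2 (Or.inr rfl))⟩, fun e => ?_, ?_⟩
    · have e' : x.1.1 = -x.1.1 := congrArg (fun z => z.1.1.1) e
      have : x.1.1 = 0 := by
        ext i j
        have := congrFun (congrFun e' i) j
        exact (mul_eq_zero.1 (show (2 : F) * x.1.1 i j = 0 by rw [Matrix.neg_apply] at this; linear_combination this)).resolve_left h2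
      simpa [this] using x.1.det_coe
    · refine Set.eq_univ_of_forall fun z => ?_
      rcases π_eq_iff.1 (congrArg Subtype.val z.2) with e | e
      · exact Or.inl (Subtype.ext (Subtype.ext (Subtype.ext e)))
      · exact Or.inr (Subtype.ext (Subtype.ext (Subtype.ext e)))
  rw [size_eq_card, ← Nat.card_congr (Equiv.sigmaFiberEquiv (classMap A)), Nat.card_sigma]
  rw [Finset.sum_congr rfl fun y _ => hfib y, Finset.sum_const, Finset.card_univ, smul_eq_mul,
    Nat.card_eq_fintype_card, mul_comm]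

theorem size_scalar {A : S2} (h : π A = 1) : size A = 1 := by
  rw [size, h, Subgroup.index_eq_one, Subgroup.centralizer_eq_top_iff_subset]
  simp

/-- The unipotent classes. -/
theorem size_trace_two (A : S2) (ht : A.1.trace = 2) (h1 : A ≠ 1) :
    size A = (qF ^ 2 - 1) / Nat.gcd 2 (qF - 1) := by
  classical
  obtain ⟨p, hc⟩ := CharP.exists F
  obtain ⟨n, hp, hn⟩ := FiniteField.card F p
  haveI : Fact p.Prime := ⟨hp⟩
  rcases Nat.mod_two_eq_zero_or_one qF with he | ho
  · have h2 : 2 ∣ qF := Nat.dvd_of_mod_eq_zero he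
    haveI := char_two_of_dvd h2
    have hd : Nat.gcd 2 (qF - 1) = 1 := by
      rw [Nat.gcd_rec, show (qF - 1) % 2 = 1 by have := Fintype.card_pos (α := F); omega]; rfl
    rw [hd, Nat.div_one, size_of_ne A (Or.inr h2),
      ← TwoChars.card_trace_two_ne (F := F) TwoChars.card_trace_two_odd]
    have hA := (TwoChars.orderOf_eq_char_iff 2 A).2 ⟨h1, ht⟩
    refine Nat.card_congr (Equiv.subtypeEquivRight fun x => ⟨fun hc => ?_, fun hx =>
      TwoChars.involution_class_even A x hA ((TwoChars.orderOf_eq_char_iff 2 x).2 hx) |>.1⟩)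
    exact ⟨fun e => h1 (isConj_one_left.1 (e ▸ hc)), (TwoClasses.sl_conj_spec hc).1.symm.trans ht⟩
  · have hodd : Odd qF := Nat.odd_iff.2 ho
    rw [Nat.gcd_eq_left (by omega : 2 ∣ qF - 1),
      size_of_ne A (Or.inl (by rw [ht]; exact two_ne_zero_of_odd ho)),
      ← (TwoChars.ord_p_classes hodd p).2 A ((TwoChars.orderOf_eq_char_iff p A).2 ⟨h1, ht⟩)]
    exact Nat.card_congr (Equiv.subtypeEquivRight fun x =>
      ⟨fun h => ConjClasses.mem_carrier_iff_mk_eq.2 (ConjClasses.mk_eq_mk_iff_isConj.2 h.symm),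
        fun h => (ConjClasses.mk_eq_mk_iff_isConj.1 (ConjClasses.mem_carrier_iff_mk_eq.1 h)).symm⟩)

/-- All class sizes: identity, unipotent, split or nonsplit regular semisimple. -/
theorem size_cases (A : S2) :
    (π A = 1 ∧ size A = 1) ∨ size A = (qF ^ 2 - 1) / Nat.gcd 2 (qF - 1) ∨
      (A.1.trace = 0 ∧ qF % 2 = 1 ∧ ¬ TwoClasses.IsEll A.1 ∧ 2 * size A = qF * (qF + 1)) ∨
      (A.1.trace = 0 ∧ qF % 2 = 1 ∧ TwoClasses.IsEll A.1 ∧ 2 * size A = qF * (qF - 1)) ∨
      size A = qF * (qF + 1) ∨ size A = qF * (qF - 1) := by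
  classical
  by_cases h1 : π A = 1
  · exact Or.inl ⟨h1, size_scalar h1⟩
  right
  by_cases hs : ∀ a : F, a * a = 1 → A.1.trace ≠ 2 * a
  · right
    by_cases hz : A.1.trace = 0 ∧ qF % 2 = 1
    · have h := size_trace_zero hz.2 A hz.1
      rw [class_eq_fibre A hs] at h
      rcases fibre_cases A hs with ⟨he, hf⟩ | ⟨he, hf⟩
      · exact Or.inl ⟨hz.1, hz.2, he, h.trans hf⟩
      · exact Or.inr (Or.inl ⟨hz.1, hz.2, he, h.trans hf⟩)
    · have h := size_of_ne A (by
        rcases Nat.mod_two_eq_zero_or_one qF with he | ho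
        · exact Or.inr (Nat.dvd_of_mod_eq_zero he)
        · exact Or.inl fun h => hz ⟨h, ho⟩)
      rw [class_eq_fibre A hs] at h
      rcases fibre_cases A hs with ⟨-, hf⟩ | ⟨-, hf⟩
      · exact Or.inr (Or.inr (Or.inl (h.trans hf)))
      · exact Or.inr (Or.inr (Or.inr (h.trans hf)))
  · left
    push Not at hs
    obtain ⟨a, ha, ht⟩ := hs
    rcases mul_self_eq_one_iff.1 ha with rfl | rfl
    · exact size_trace_two A (by rw [ht, mul_one]) fun e => h1 (by rw [e, map_one])
    · let n : S2 := ⟨-A.1, by rw [Matrix.det_neg, A.det_coe, Fintype.card_fin]; norm_num⟩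
      have hn : π n = π A := π_eq_iff.2 (Or.inr rfl)
      rw [show size A = size n by rw [size, size, hn]]
      refine size_trace_two n (by simp [n, ht]) fun e => h1 ?_
      rw [← hn, e, map_one]

/-- Size of the class of a regular semisimple element of nonzero trace. -/
theorem size_generic (A : S2) (hs : ∀ a : F, a * a = 1 → A.1.trace ≠ 2 * a) (ht : A.1.trace ≠ 0 ∨ 2 ∣ qF) :
    (¬ TwoClasses.IsEll A.1 → size A = qF * (qF + 1)) ∧ (TwoClasses.IsEll A.1 → size A = qF * (qF - 1)) := by
  have h := (size_of_ne A ht).trans (class_eq_fibre A hs)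
  rcases fibre_cases A hs with ⟨he, hf⟩ | ⟨he, hf⟩
  · exact ⟨fun _ => h.trans hf, fun h' => absurd h' he⟩
  · exact ⟨fun h' => absurd he h', fun _ => h.trans hf⟩

theorem exists_unipotent : ∃ A : S2, size A = (qF ^ 2 - 1) / Nat.gcd 2 (qF - 1) := by
  classical
  exact ⟨TwoChars.elS 1 1, size_trace_two _ (TwoChars.elS_one_trace _) (TwoChars.elS_one_ne one_ne_zero)⟩

/-- A split class of full size. -/
theorem exists_split (h : 4 ≤ qF) (h5 : qF ≠ 5) : ∃ A : S2, size A = qF * (qF + 1) := by
  classical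
  obtain ⟨u, hu⟩ := IsCyclic.exists_ofOrder_eq_natCard (α := Fˣ)
  rw [Nat.card_units, Nat.card_eq_fintype_card] at hu
  refine ⟨TwoChars.elS u 0, (size_generic _ (fun a ha e => ?_) ?_).1 fun he =>
    TwoClasses.isEll_lower he (by simp [TwoChars.elS_val])⟩
  · simp [TwoChars.elS_val, Matrix.trace_fin_two] at e
    have hm : ((u : F) - a) ^ 2 = 0 := by
      field_simp at e
      linear_combination e + ha
    rw [pow_eq_zero_iff two_ne_zero, sub_eq_zero] at hm
    have : u ^ 2 = 1 := Units.ext (by rw [Units.val_pow_eq_pow_val, hm, pow_two]; exact ha)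
    have := Nat.le_of_dvd two_pos (orderOf_dvd_of_pow_eq_one this)
    omega
  · rcases Nat.mod_two_eq_zero_or_one qF with he | ho
    · exact Or.inr (Nat.dvd_of_mod_eq_zero he)
    · refine Or.inl fun e => ?_
      simp [TwoChars.elS_val, Matrix.trace_fin_two] at e
      field_simp at e
      have : u ^ 4 = 1 := Units.ext (by
        rw [Units.val_pow_eq_pow_val, Units.val_one]; linear_combination ((u : F) ^ 2 - 1) * e)
      have := Nat.le_of_dvd (by norm_num) (orderOf_dvd_of_pow_eq_one this)
      omega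

/-- A nonsplit class of full size. -/
theorem exists_nonsplit (h : 4 ≤ qF) : ∃ A : S2, size A = qF * (qF - 1) := by
  classical
  obtain ⟨x, hx⟩ := TwoChars.exists_ell (F := F)
  haveI := TwoChars.ell_centralizer_cyclic hx
  obtain ⟨g, hg⟩ := IsCyclic.exists_ofOrder_eq_natCard (α := Subgroup.centralizer ({x} : Set S2))
  have hcard : Nat.card (Subgroup.centralizer ({x} : Set S2)) = qF + 1 := by
    rcases Nat.even_or_odd qF with he | ho
    · haveI := char_two_of_dvd he.two_dvd
      exact TwoChars.card_centralizer_ell_two hx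
    · exact TwoChars.card_centralizer_ell ho hx
  have hord : orderOf (g : S2) = qF + 1 := by rw [Subgroup.orderOf_coe, hg, hcard]
  have h4 : (g : S2) ^ 4 ≠ 1 := fun e => by
    have := Nat.le_of_dvd (by norm_num) (orderOf_dvd_of_pow_eq_one e)
    omega
  have hns : ¬ TwoClasses.IsScalar2 (g : S2).1 := fun hs => by
    obtain ⟨ε, hε, he⟩ := (TwoClasses.sl_scalar_iff _).1 hs
    refine h4 (Subtype.ext ?_)
    rw [Matrix.SpecialLinearGroup.coe_pow, he, smul_pow, one_pow, show (4 : ℕ) = 2 * 2 from rfl, pow_mul, hε,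
      one_pow, one_smul, Matrix.SpecialLinearGroup.coe_one]
  have hell : TwoClasses.IsEll (g : S2).1 := TwoClasses.isEll_of_no_root fun a ha => by
    have hcomm : ((g : S2).1 - a • 1) * x.1 = x.1 * ((g : S2).1 - a • 1) := by
      rw [sub_mul, mul_sub, Matrix.smul_mul, Matrix.mul_smul, one_mul, mul_one,
        ← Matrix.SpecialLinearGroup.coe_mul, ← Matrix.SpecialLinearGroup.coe_mul,
        Subgroup.mem_centralizer_singleton_iff.1 g.2]
    have hdet : ((g : S2).1 - a • (1 : Matrix (Fin 2) (Fin 2) F)).det = 0 := by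
      have hd := (g : S2).det_coe
      rw [Matrix.det_fin_two] at hd
      simp [Matrix.det_fin_two, Matrix.trace_fin_two] at ha hd ⊢
      linear_combination ha + hd
    exact hns ((TwoClasses.isScalar2_iff _).2 ⟨a, sub_eq_zero.1 (TwoChars.ell_commute_eq_zero hx hcomm hdet)⟩)
  refine ⟨g, (size_generic _ (fun a ha e => ?_) ?_).2 hell⟩
  · exact TwoClasses.isEll_no_root hell a (by rw [(g : S2).det_coe, e]; linear_combination -ha)
  · rcases Nat.mod_two_eq_zero_or_one qF with he | ho
    · exact Or.inr (Nat.dvd_of_mod_eq_zero he)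
    · refine Or.inl fun e => h4 ?_
      have hsq : ((g : S2) * (g : S2)).1 = -1 := by
        rw [Matrix.SpecialLinearGroup.coe_mul, TwoChars.sl_cayley, e, zero_smul, zero_sub]
      refine Subtype.ext ?_
      rw [show (g : S2) ^ 4 = ((g : S2) * g) * (g * g) by simp [pow_succ, mul_assoc], Matrix.SpecialLinearGroup.coe_mul, hsq,
        Matrix.SpecialLinearGroup.coe_one, neg_mul_neg, one_mul]

/-- The class of the trace zero elements. -/
theorem exists_trace_zero (hodd : qF % 2 = 1) :
    ∃ A : S2, (qF % 4 = 1 → 2 * size A = qF * (qF + 1)) ∧ (qF % 4 = 3 → 2 * size A = qF * (qF - 1)) := by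
  classical
  have h2 := two_ne_zero_of_odd hodd
  have hA : ∀ a : F, a * a = 1 → (J : S2).1.trace ≠ 2 * a := fun a ha e => by
    simp [J, Matrix.trace_fin_two] at e
    rcases e with e | e
    · exact h2 e
    · simp [e] at ha
  have ht : (J : S2).1.trace = 0 := by simp [J, Matrix.trace_fin_two]
  refine ⟨J, fun h4 => ?_, fun h4 => ?_⟩ <;>
    rw [size_trace_zero hodd J ht, class_eq_fibre J hA] <;>
    rcases fibre_cases (J : S2) hA with ⟨he, hf⟩ | ⟨he, hf⟩
  · exact hf
  · exfalso
    obtain ⟨i, hi⟩ := (FiniteField.isSquare_neg_one_iff (F := F)).2 (by omega)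
    exact TwoClasses.isEll_no_root he i (by rw [ht, (J : S2).det_coe]; linear_combination -hi)
  · exfalso
    refine he (root_iff.2 fun a ha => ?_)
    rw [ht] at ha
    exact (FiniteField.isSquare_neg_one_iff (F := F)).1 ⟨a, by linear_combination ha⟩ h4
  · exact hf

end CfsgLib.Classical.PSL2ClassSizes
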