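import Cfsg.Agent.Lib.Classical.SL2OddSylow
import Cfsg.Agent.S0802

/-!
# Normalisers of the Sylow two-subgroups of `SL(2, q)`
-/

set_option autoImplicit false
set_option linter.unusedSectionVars false

namespace CfsgLib.Classical.SL2TwoNormalizer

open Matrix CfsgLib.Char CfsgLib.Char.TwoChars

variable {F : Type*} [Field F] [Fintype F] [DecidableEq F]

local notation "S2" => Matrix.SpecialLinearGroup (Fin 2) F

theorem negS_comm (g : S2) : g * negS = negS * g :=
  Subgroup.mem_center_iff.1 ((sl_mem_center_iff _).2 scalar_negS) g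

theorem negS_mul_self : (negS : S2) * negS = 1 := Subtype.ext (by simp [negS_val])

/-- Torus data. -/
structure TData (T : Subgroup S2) : Prop where
  cyc : IsCyclic T
  comm : ∀ x ∈ T, ¬ TwoClasses.IsScalar2 x.1 → Subgroup.centralizer ({x} : Set S2) = T
  out : ∀ g ∈ Subgroup.normalizer (T : Set S2), g ∉ T → g * g = negS
  card_norm : Nat.card (Subgroup.normalizer (T : Set S2)) = 2 * Nat.card T
  neg_mem : (negS : S2) ∈ T

theorem TData.inverts {T : Subgroup S2} (h : TData T) {g : S2} (hg : g ∈ Subgroup.normalizer (T : Set S2)) (hn : g ∉ T)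
    {t : S2} (ht : t ∈ T) : g * t * g⁻¹ = t⁻¹ := by
  have hgt : g * t ∉ T := fun hm => hn (by simpa using mul_mem hm (inv_mem ht))
  have e1 := h.out _ (mul_mem hg (Subgroup.le_normalizer ht)) hgt
  rw [← h.out g hg hn, mul_assoc, mul_right_inj, ← mul_assoc] at e1
  calc g * t * g⁻¹ = t⁻¹ * (t * g * t) * g⁻¹ := by group
    _ = t⁻¹ := by rw [e1]; group

theorem order_gen {T : Subgroup S2} (h : TData T) {e : ℕ} (he : 2 ≤ e) (hd : 2 ^ e ∣ Nat.card T) :
    ∃ x ∈ T, orderOf x = 2 ^ e := by
  haveI := h.cyc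
  obtain ⟨t, ht⟩ := IsCyclic.exists_ofOrder_eq_natCard (α := T)
  obtain ⟨c, hc⟩ := hd
  have hc0 : c ≠ 0 := fun h0 => by rw [h0, mul_zero] at hc; exact Nat.card_pos.ne' hc
  exact ⟨((t ^ c : T) : S2), SetLike.coe_mem _, by
    rw [Subgroup.orderOf_coe, orderOf_pow_of_dvd hc0 (ht ▸ hc ▸ dvd_mul_left _ _), ht, hc,
      Nat.mul_div_cancel _ (Nat.pos_of_ne_zero hc0)]⟩

theorem not_scalar_gen (hodd : Odd (Fintype.card F)) {x : S2} {e : ℕ} (he : 2 ≤ e) (hx : orderOf x = 2 ^ e) :
    ¬ TwoClasses.IsScalar2 x.1 := fun h => by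
  have h2 : x ^ 2 = 1 := by
    rcases scalar_cases h with rfl | rfl
    · exact one_pow 2
    · rw [pow_two, negS_mul_self]
  have h4 := Nat.le_of_dvd two_pos (hx ▸ orderOf_dvd_of_pow_eq_one h2)
  have : 2 ^ 2 ≤ 2 ^ e := Nat.pow_le_pow_right two_pos he
  omega

theorem eq_negS_of_order_two (hodd : Odd (Fintype.card F)) {x : S2} (h : x * x = 1) (hne : x ≠ 1) : x = negS :=
  (scalar_cases (scalar_of_sq_one hodd h)).resolve_left hne

/-- The facts about a Sylow two-subgroup. -/
theorem facts (hodd : Odd (Fintype.card F)) {T : Subgroup S2} (h : TData T) {e : ℕ} (he : 2 ≤ e)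
    (hd : 2 ^ e ∣ Nat.card T) (hfull : (Nat.card S2).factorization 2 = e + 1) (S : Sylow 2 S2) :
    Subgroup.centralizer ((S : Subgroup S2) : Set S2) = Subgroup.center S2 ∧
      (3 ≤ e → Subgroup.normalizer ((S : Subgroup S2) : Set S2) = (S : Subgroup S2)) ∧
      (e = 2 → Nat.card (Subgroup.normalizer ((S : Subgroup S2) : Set S2)) ≤ 3 * Nat.card S) := by
  classical
  haveI : Fact (Nat.Prime 2) := ⟨Nat.prime_two⟩
  haveI := h.cyc
  obtain ⟨x, hxT, hx⟩ := order_gen h he hd
  have hxns := not_scalar_gen hodd he hx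
  have hCx := h.comm x hxT hxns
  obtain ⟨w, hw, hwT⟩ : ∃ w ∈ Subgroup.normalizer (T : Set S2), w ∉ T := by
    by_contra hcon
    push Not at hcon
    have := Subgroup.card_le_of_le (show Subgroup.normalizer (T : Set S2) ≤ T from hcon)
    rw [h.card_norm] at this
    have := Nat.card_pos (α := T)
    omega
  set X := Subgroup.zpowers x
  have hXT : X ≤ T := Subgroup.zpowers_le.2 hxT
  have hnegX : (negS : S2) ∈ X := by
    have hy : orderOf (x ^ 2 ^ (e - 1)) = 2 := by
      rw [orderOf_pow_of_dvd (by positivity) (hx ▸ pow_dvd_pow 2 (Nat.sub_le e 1)), hx,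
        Nat.pow_div (Nat.sub_le e 1) two_pos, show e - (e - 1) = 1 by omega, pow_one]
    have h2 := pow_orderOf_eq_one (x ^ 2 ^ (e - 1))
    rw [hy, pow_two] at h2
    rw [← eq_negS_of_order_two hodd h2 fun h1 => by rw [h1, orderOf_one] at hy; omega]
    exact Subgroup.pow_mem _ (Subgroup.mem_zpowers x) _
  have hinvw : w⁻¹ = w * negS := by
    refine inv_eq_of_mul_eq_one_right ?_
    rw [← mul_assoc, h.out w hw hwT, negS_mul_self]
  have hwxw : ∀ t ∈ T, w * t = t⁻¹ * w := fun t ht => by
    conv_rhs => rw [← h.inverts hw hwT ht]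
    group
  -- the subgroup generated by `x` and `w`
  let Q0 : Subgroup S2 :=
    { carrier := {g | g ∈ X ∨ g * w⁻¹ ∈ X}
      one_mem' := Or.inl (one_mem X)
      mul_mem' := by
        rintro a b (ha | ha) (hb | hb)
        · exact Or.inl (mul_mem ha hb)
        · right; rw [mul_assoc]; exact mul_mem ha hb
        · right
          have e1 : a * b * w⁻¹ = a * w⁻¹ * b⁻¹ := by
            calc a * b * w⁻¹ = a * w⁻¹ * (w * b * w⁻¹) := by group
              _ = _ := by rw [h.inverts hw hwT (hXT hb)]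
          rw [e1]; exact mul_mem ha (inv_mem hb)
        · left
          have e1 : a * b = a * w⁻¹ * (b * w⁻¹)⁻¹ * (w * w) := by
            calc a * b = a * w⁻¹ * (w * (b * w⁻¹) * w⁻¹) * (w * w) := by group
              _ = _ := by rw [h.inverts hw hwT (hXT hb)]
          rw [e1, h.out w hw hwT]; exact mul_mem (mul_mem ha (inv_mem hb)) hnegX
      inv_mem' := by
        rintro a (ha | ha)
        · exact Or.inl (inv_mem ha)
        · right
          have e1 : a⁻¹ * w⁻¹ = (a * w⁻¹) * (w⁻¹ * w⁻¹) := by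
            calc a⁻¹ * w⁻¹ = w⁻¹ * (a * w⁻¹)⁻¹ * w * (w⁻¹ * w⁻¹) := by group
              _ = _ := by
                have e2 := h.inverts hw hwT (hXT ha)
                calc w⁻¹ * (a * w⁻¹)⁻¹ * w * (w⁻¹ * w⁻¹) = w⁻¹ * (w * (a * w⁻¹) * w⁻¹) * w * (w⁻¹ * w⁻¹) := by rw [e2]
                  _ = _ := by group
          rw [e1, ← _root_.mul_inv_rev, h.out w hw hwT]
          exact mul_mem ha (inv_mem hnegX) }
  have hQX : X ≤ Q0 := fun g hg => Or.inl hg
  have hwQ : w ∈ Q0 := Or.inr (by rw [mul_inv_cancel]; exact one_mem X)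
  have hQN : Q0 ≤ Subgroup.normalizer (T : Set S2) := by
    rintro g (hg | hg)
    · exact Subgroup.le_normalizer (hXT hg)
    · simpa using mul_mem (Subgroup.le_normalizer (hXT hg)) hw
  have hQcard : Nat.card Q0 = 2 ^ (e + 1) := by
    have hb : Function.Bijective (fun p : Bool × X =>
        (⟨(p.2 : S2) * (if p.1 then w else 1), mul_mem (hQX p.2.2) (by cases p.1; exacts [one_mem _, hwQ])⟩ : Q0)) := by
      constructor
      · rintro ⟨s, a⟩ ⟨t, b⟩ hh
        have h' : (a : S2) * (if s then w else 1) = (b : S2) * (if t then w else 1) := congrArg Subtype.val hh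
        cases s <;> cases t <;> simp at h'
        · rw [h']
        · exact absurd (hXT (show w ∈ X by rw [eq_inv_mul_of_mul_eq h'.symm]; exact mul_mem (inv_mem b.2) a.2)) hwT
        · exact absurd (hXT (show w ∈ X by rw [eq_inv_mul_of_mul_eq h']; exact mul_mem (inv_mem a.2) b.2)) hwT
        · rw [h']
      · rintro ⟨g, hg | hg⟩
        · exact ⟨(false, ⟨g, hg⟩), Subtype.ext (mul_one g)⟩
        · exact ⟨(true, ⟨g * w⁻¹, hg⟩), Subtype.ext (inv_mul_cancel_right g w)⟩
    rw [← Nat.card_eq_of_bijective _ hb, Nat.card_prod, Nat.card_eq_fintype_card, Fintype.card_bool, Nat.card_zpowers, hx, pow_succ']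
  let Q : Sylow 2 S2 := Sylow.ofCard Q0 (by rw [hfull, hQcard])
  obtain ⟨g, hg⟩ := MulAction.exists_smul_eq S2 Q S
  have hS : (S : Subgroup S2) = Q0.map (MulAut.conj g).toMonoidHom := by rw [← hg]; rfl
  have hCQ : Subgroup.centralizer (Q0 : Set S2) = Subgroup.center S2 := by
    refine le_antisymm (fun c hc => ?_) (Subgroup.center_le_centralizer _)
    have hcT : c ∈ T := by
      rw [← hCx, Subgroup.mem_centralizer_singleton_iff]
      exact ((Subgroup.mem_centralizer_iff.1 hc) x (hQX (Subgroup.mem_zpowers x))).symm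
    have e1 := h.inverts hw hwT hcT
    rw [(Subgroup.mem_centralizer_iff.1 hc) w hwQ, mul_inv_cancel_right] at e1
    exact (sl_mem_center_iff c).2 (scalar_of_sq_one hodd (eq_inv_iff_mul_eq_one.1 e1))
  set N0 := Subgroup.normalizer (Q0 : Set S2)
  have hNS : Subgroup.normalizer ((S : Subgroup S2) : Set S2) = N0.map (MulAut.conj g).toMonoidHom := by
    rw [hS, Subgroup.map_equiv_normalizer_eq]
  have hTN : ∀ n ∈ N0, n ∈ T → n ∈ X := by
    intro n hn hnT
    have hm := (Subgroup.mem_normalizer_iff.1 hn w).1 hwQ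
    have e1 : n * w * n⁻¹ = n * n * w := by
      rw [mul_assoc n w, hwxw _ (inv_mem hnT), inv_inv, mul_assoc]
    rw [e1] at hm
    have hn2 : n * n ∈ X := by
      rcases hm with hm | hm
      · exact absurd (show w ∈ T by
          rw [show w = (n * n)⁻¹ * (n * n * w) by group]
          exact mul_mem (inv_mem (mul_mem hnT hnT)) (hXT hm)) hwT
      · simpa using hm
    have hn2' : (n ^ 2) ^ (2 ^ e) = 1 := by
      obtain ⟨k, hk⟩ := Subgroup.mem_zpowers_iff.1 hn2
      rw [pow_two, ← hk, ← zpow_natCast, ← _root_.zpow_mul, mul_comm, _root_.zpow_mul, zpow_natCast, ← hx,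
        pow_orderOf_eq_one, _root_.one_zpow]
    have hpn : n ^ (2 ^ (e + 1)) = 1 := by rw [pow_succ', pow_mul]; exact hn2'
    obtain ⟨j, hj, ho⟩ := (Nat.dvd_prime_pow Nat.prime_two).1 (orderOf_dvd_of_pow_eq_one hpn)
    have hje : j ≤ e := by
      by_contra hje
      have hsub : 2 ^ (e + 1) ∣ Nat.card T := by
        rw [show e + 1 = j by omega, ← ho, ← Nat.card_zpowers]
        exact Subgroup.card_dvd_of_le (Subgroup.zpowers_le.2 hnT)
      have hdvd : 2 * Nat.card T ∣ Nat.card S2 := h.card_norm ▸ Subgroup.card_subgroup_dvd_card _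
      have := (Nat.mul_dvd_mul_left 2 hsub).trans hdvd
      rw [← pow_succ', Nat.prime_two.pow_dvd_iff_le_factorization Nat.card_pos.ne', hfull] at this
      omega
    have hpe : n ^ (2 ^ e) = 1 := orderOf_dvd_iff_pow_eq_one.1 (ho ▸ pow_dvd_pow 2 hje)
    obtain ⟨t, ht⟩ := IsCyclic.exists_generator (α := T)
    obtain ⟨a, ha⟩ := Subgroup.mem_zpowers_iff.1 (ht ⟨x, hxT⟩)
    obtain ⟨b, hb⟩ := Subgroup.mem_zpowers_iff.1 (ht ⟨n, hnT⟩)
    haveI : Fintype T := Fintype.ofFinite _
    have hsub : Finset.univ.filter (fun y : T => y ∈ Subgroup.zpowers (⟨x, hxT⟩ : T)) =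
        Finset.univ.filter (fun y : T => y ^ 2 ^ e = 1) := by
      refine Finset.eq_of_subset_of_card_le (fun y hy => ?_) ?_
      · simp only [Finset.mem_filter, Finset.mem_univ, true_and] at hy ⊢
        obtain ⟨k, rfl⟩ := Subgroup.mem_zpowers_iff.1 hy
        have h1 : (⟨x, hxT⟩ : T) ^ 2 ^ e = 1 :=
          Subtype.ext (by rw [SubgroupClass.coe_pow, ← hx]; exact pow_orderOf_eq_one x)
        rw [← zpow_natCast, ← _root_.zpow_mul, mul_comm, _root_.zpow_mul, zpow_natCast, h1, _root_.one_zpow]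
      · refine (IsCyclic.card_pow_eq_one_le (by positivity)).trans (le_of_eq ?_)
        rw [← Fintype.card_subtype, ← Nat.card_eq_fintype_card]
        exact ((Nat.card_zpowers _).trans ((Subgroup.orderOf_mk ..).trans hx)).symm
    have hmem : (⟨n, hnT⟩ : T) ∈ Subgroup.zpowers (⟨x, hxT⟩ : T) := by
      have hmm : (⟨n, hnT⟩ : T) ∈ Finset.univ.filter (fun y : T => y ^ 2 ^ e = 1) :=
        Finset.mem_filter.2 ⟨Finset.mem_univ _, Subtype.ext hpe⟩
      rw [← hsub] at hmm
      exact (Finset.mem_filter.1 hmm).2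
    obtain ⟨k, hk⟩ := Subgroup.mem_zpowers_iff.1 hmem
    exact ⟨k, by simpa using congrArg Subtype.val hk⟩
  have hfix : ∀ n ∈ N0, n * x * n⁻¹ ∈ X → n ∈ Q0 := by
    intro n hn hnx
    have hgen : Subgroup.zpowers (n * x * n⁻¹) = X :=
      Subgroup.eq_of_le_of_card_ge (Subgroup.zpowers_le.2 hnx) (le_of_eq (by
        rw [Nat.card_zpowers, Nat.card_zpowers]; exact ((MulAut.conj n).orderOf_eq x).symm))
    have hnT : n ∈ Subgroup.normalizer (T : Set S2) := by
      refine Subgroup.mem_normalizer_iff.2 fun y => ?_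
      rw [← hCx, Subgroup.mem_centralizer_singleton_iff, Subgroup.mem_centralizer_singleton_iff]
      constructor
      · intro hy
        obtain ⟨k, hk⟩ := Subgroup.mem_zpowers_iff.1 (hgen.symm ▸ Subgroup.mem_zpowers x : x ∈ Subgroup.zpowers (n * x * n⁻¹))
        have hc : Commute (n * y * n⁻¹) (n * x * n⁻¹) := (show Commute y x from hy).map (MulAut.conj n).toMonoidHom
        rw [← hk]; exact (hc.zpow_right k).eq
      · intro hy
        obtain ⟨k, hk⟩ := Subgroup.mem_zpowers_iff.1 hnx
        have hc : Commute (n * y * n⁻¹) (n * x * n⁻¹) := hk ▸ (show Commute (n * y * n⁻¹) x from hy).zpow_right k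
        have := hc.map (MulAut.conj n⁻¹).toMonoidHom
        simpa [mul_assoc] using this.eq
    by_cases hnin : n ∈ T
    · exact hQX (hTN n hn hnin)
    · have hnwT : n * w⁻¹ ∈ T := by
        by_contra hc
        have e2 : ∀ t ∈ T, n * w⁻¹ * t * (n * w⁻¹)⁻¹ = t := fun t ht => by
          have a1 := h.inverts hw hwT (inv_mem ht)
          have a2 := h.inverts hnT hnin (inv_mem ht)
          rw [inv_inv] at a1 a2
          calc n * w⁻¹ * t * (n * w⁻¹)⁻¹ = n * (w⁻¹ * t * w) * n⁻¹ := by group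
            _ = n * t⁻¹ * n⁻¹ := by rw [show w⁻¹ * t * w = t⁻¹ by nth_rewrite 1 [← a1]; group]
            _ = t := a2
        refine hc (hCx ▸ ?_)
        rw [Subgroup.mem_centralizer_singleton_iff]
        exact mul_inv_eq_iff_eq_mul.1 (e2 x hxT)
      have := hQX (hTN _ (mul_mem hn (inv_mem (Subgroup.le_normalizer hwQ))) hnwT)
      simpa using mul_mem this hwQ
  refine ⟨?_, fun he3 => ?_, fun he2 => ?_⟩
  · rw [hS, Subgroup.coe_map]
    ext y
    rw [Subgroup.mem_centralizer_iff, Set.forall_mem_image]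
    constructor
    · intro hy
      have hm : g⁻¹ * y * g ∈ Subgroup.center S2 := by
        rw [← hCQ, Subgroup.mem_centralizer_iff]
        intro z hz
        have := congrArg (fun u => g⁻¹ * u * g) (hy hz)
        simpa [mul_assoc] using this
      rw [show y = g * (g⁻¹ * y * g) * g⁻¹ by group, Subgroup.mem_center_iff.1 hm g, mul_inv_cancel_right]
      exact hm
    · intro hy z _
      exact Subgroup.mem_center_iff.1 hy _
  · rw [hNS, hS]
    refine congrArg (Subgroup.map _) (le_antisymm (fun n hn => hfix n hn ?_) Subgroup.le_normalizer)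
    rcases (Subgroup.mem_normalizer_iff.1 hn x).1 (hQX (Subgroup.mem_zpowers x)) with hm | hm
    · exact hm
    · exfalso
      have hnm : n * x * n⁻¹ ∉ T := fun hc => hwT (by
        simpa [mul_assoc] using mul_mem (inv_mem (hXT hm)) hc)
      have e1 := h.out _ (hQN ((Subgroup.mem_normalizer_iff.1 hn x).1 (hQX (Subgroup.mem_zpowers x)))) hnm
      have e2 : x * x = negS := by
        have := congrArg (fun u => n⁻¹ * u * n) e1
        rw [show n⁻¹ * negS * n = (negS : S2) by rw [mul_assoc, ← negS_comm n, inv_mul_cancel_left]] at this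
        simpa [mul_assoc] using this
      have h4 : x ^ 4 = 1 := by rw [show 4 = 2 * 2 from rfl, pow_mul, pow_two x, e2, pow_two, negS_mul_self]
      have := Nat.le_of_dvd (by norm_num) (hx ▸ orderOf_dvd_of_pow_eq_one h4)
      have : 2 ^ 3 ≤ 2 ^ e := Nat.pow_le_pow_right two_pos he3
      omega
  · rw [hNS, hS, Subgroup.card_map_of_injective (MulEquiv.injective _), Subgroup.card_map_of_injective (MulEquiv.injective _)]
    haveI : Fintype N0 := Fintype.ofFinite _
    haveI : Fintype Q0 := Fintype.ofFinite _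
    have hmaps : ∀ n ∈ (Finset.univ : Finset N0), (⟨(n : S2) * x * (n : S2)⁻¹,
        (Subgroup.mem_normalizer_iff.1 n.2 x).1 (hQX (Subgroup.mem_zpowers x))⟩ : Q0) ∈
        (Finset.univ : Finset Q0).filter fun y : Q0 => (y : S2) ≠ 1 ∧ (y : S2) ≠ negS := fun n _ => by
      simp only [Finset.mem_filter, Finset.mem_univ, true_and]
      refine ⟨fun h1 => hxns ?_, fun h1 => hxns ?_⟩
      · rw [conj_eq_one_iff.1 h1]; simp [TwoClasses.IsScalar2]
      · rw [mul_inv_eq_iff_eq_mul, ← negS_comm, mul_right_inj] at h1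
        rw [h1]; exact scalar_negS
    have hk := Finset.card_le_mul_card_image_of_maps_to hmaps (2 ^ e) fun y hy => by
      rcases Finset.eq_empty_or_nonempty ((Finset.univ : Finset N0).filter fun n : N0 => (⟨(n : S2) * x * (n : S2)⁻¹,
        (Subgroup.mem_normalizer_iff.1 n.2 x).1 (hQX (Subgroup.mem_zpowers x))⟩ : Q0) = y) with he0 | ⟨n0, hn0⟩
      · rw [he0]; simp
      rw [show (2 : ℕ) ^ e = Nat.card X by rw [Nat.card_zpowers, hx], ← Fintype.card_subtype, ← Nat.card_eq_fintype_card]
      refine Nat.card_le_card_of_injective (fun n => ⟨(n0 : S2)⁻¹ * n.1, hTN _ (mul_mem (inv_mem n0.2) n.1.2) ?_⟩)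
        fun a b hab => Subtype.ext (Subtype.ext (mul_left_cancel (congrArg Subtype.val hab)))
      rw [← hCx, Subgroup.mem_centralizer_singleton_iff]
      have e1 : (n0 : S2) * x * (n0 : S2)⁻¹ = (n.1 : S2) * x * (n.1 : S2)⁻¹ :=
        (congrArg Subtype.val (Finset.mem_filter.1 hn0).2).trans (congrArg Subtype.val n.2).symm
      calc (n0 : S2)⁻¹ * n.1 * x = (n0 : S2)⁻¹ * ((n.1 : S2) * x * (n.1 : S2)⁻¹) * n.1 := by group
        _ = x * ((n0 : S2)⁻¹ * n.1) := by rw [← e1]; group
    have hcard2 : ((Finset.univ : Finset Q0).filter fun y : Q0 => (y : S2) ≠ 1 ∧ (y : S2) ≠ negS).card + 2 = 2 ^ (e + 1) := by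
      rw [← hQcard, Nat.card_eq_fintype_card, ← Finset.card_univ,
        ← Finset.card_filter_add_card_filter_not (s := (Finset.univ : Finset Q0)) (p := fun y : Q0 => (y : S2) ≠ 1 ∧ (y : S2) ≠ negS)]
      congr 1
      rw [show ((Finset.univ : Finset Q0).filter fun y : Q0 => ¬ ((y : S2) ≠ 1 ∧ (y : S2) ≠ negS)) =
        {1, ⟨negS, hQX hnegX⟩} by
          ext y
          simp only [Finset.mem_filter, Finset.mem_univ, true_and, Finset.mem_insert, Finset.mem_singleton,
            Subtype.ext_iff, OneMemClass.coe_one, not_and_or, not_not]]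
      exact (Finset.card_pair fun hh => negS_ne_one hodd (congrArg Subtype.val hh).symm).symm
    rw [Finset.card_univ, ← Nat.card_eq_fintype_card] at hk
    subst he2
    rw [hQcard]
    norm_num at hk hcard2 ⊢
    omega

theorem le_normalizer_map {G : Type*} [Group G] (K : Subgroup G) (M : Subgroup K) [M.Normal] :
    K ≤ Subgroup.normalizer ((M.map K.subtype : Subgroup G) : Set G) := by
  have h := Subgroup.le_normalizer_map K.subtype (H := M)
  rwa [Subgroup.normalizer_eq_top, ← MonoidHom.range_eq_map, Subgroup.range_subtype] at h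

theorem exists_big_normalizer (hq : Fintype.card F % 8 = 3 ∨ Fintype.card F % 8 = 5) (S : Sylow 2 S2)
    (hS : Nat.card S = 8) : 3 * Nat.card S ≤ Nat.card (Subgroup.normalizer ((S : Subgroup S2) : Set S2)) := by
  classical
  haveI : Fact (Nat.Prime 2) := ⟨Nat.prime_two⟩
  have hodd : Odd (Fintype.card F) := Nat.odd_iff.2 (by omega)
  obtain ⟨p, hc⟩ := CharP.exists F
  obtain ⟨n, hp, hn⟩ := FiniteField.card F p
  haveI := Fact.mk hp
  obtain ⟨H, ⟨e⟩⟩ := (Cfsg.Agent.S0802.result p n hn).2 fun h => by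
    rw [hn, h.1, Nat.odd_pow_iff (PNat.ne_zero n)] at hodd
    exact absurd hodd (by decide)
  let π : S2 →* Matrix.ProjectiveSpecialLinearGroup (Fin 2) F := QuotientGroup.mk' _
  have hπ : Function.Surjective π := QuotientGroup.mk'_surjective _
  set K := H.comap π
  let f : K →* alternatingGroup (Fin 4) := e.toMonoidHom.comp (π.subgroupComap H)
  have hf : Function.Surjective f := e.surjective.comp (π.subgroupComap_surjective_of_surjective H hπ)
  have h4 : Nat.card (Fin 4) = 4 := Nat.card_fin 4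
  haveI := alternatingGroup.normal_kleinFour h4
  set M := (alternatingGroup.kleinFour (Fin 4)).comap f
  haveI : M.Normal := Subgroup.Normal.comap inferInstance f
  have hker : Nat.card f.ker = 2 := by
    have e1 : ∀ k : K, k ∈ f.ker ↔ (k : S2) = 1 ∨ (k : S2) = negS := fun k => by
      have : k ∈ f.ker ↔ (k : S2) ∈ Subgroup.center S2 := by
        rw [MonoidHom.mem_ker]
        show e (π.subgroupComap H k) = 1 ↔ _
        rw [map_eq_one_iff e e.injective, Subtype.ext_iff]
        exact QuotientGroup.eq_one_iff (k : S2)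
      rw [this, sl_mem_center_iff]
      exact ⟨scalar_cases, fun h => by rcases h with h | h <;> rw [h]; exacts [by simp [TwoClasses.IsScalar2], scalar_negS]⟩
    have hnm : (negS : S2) ∈ K := Subgroup.mem_comap.2 (by
      rw [show π negS = 1 from (QuotientGroup.eq_one_iff _).2 ((sl_mem_center_iff _).2 scalar_negS)]
      exact one_mem H)
    rw [Nat.card_eq_two_iff]
    refine ⟨⟨1, one_mem _⟩, ⟨⟨negS, hnm⟩, (e1 _).2 (Or.inr rfl)⟩,
      fun hh => negS_ne_one hodd (congrArg (fun z : f.ker => ((z : K) : S2)) hh).symm, Set.eq_univ_of_forall fun z => ?_⟩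
    rcases (e1 z).1 z.2 with h | h
    · exact Or.inl (Subtype.ext (Subtype.ext h))
    · exact Or.inr (Subtype.ext (Subtype.ext h))
  have hKc : Nat.card K = 24 := by
    have := Subgroup.card_mul_index f.ker
    rw [Subgroup.index_ker, MonoidHom.range_eq_top.2 hf, Subgroup.card_top, hker,
      nat_card_alternatingGroup, Nat.card_fin] at this
    rw [← this]; rfl
  have hMc : Nat.card M = 8 := by
    have h1 : M.index = 3 := by
      rw [Subgroup.index_comap_of_surjective _ hf]
      have := Subgroup.card_mul_index (alternatingGroup.kleinFour (Fin 4))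
      rw [alternatingGroup.kleinFour_card_of_card_eq_four h4, nat_card_alternatingGroup, Nat.card_fin] at this
      simp [Nat.factorial] at this ⊢
      omega
    have := Subgroup.card_mul_index M
    rw [h1, hKc] at this
    omega
  let M' : Subgroup S2 := M.map K.subtype
  have hM'c : Nat.card M' = 8 := by rw [Subgroup.card_map_of_injective (Subgroup.subtype_injective K), hMc]
  let P : Sylow 2 S2 := Sylow.ofCard M' (by rw [hM'c, ← hS, S.card_eq_multiplicity])
  have hKN : K ≤ Subgroup.normalizer ((P : Subgroup S2) : Set S2) := le_normalizer_map K M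
  obtain ⟨g, hg⟩ := MulAction.exists_smul_eq S2 P S
  have hmap : Subgroup.normalizer ((S : Subgroup S2) : Set S2) =
      (Subgroup.normalizer ((P : Subgroup S2) : Set S2)).map (MulAut.conj g).toMonoidHom := by
    rw [Subgroup.map_equiv_normalizer_eq, ← hg]; rfl
  rw [hmap, Subgroup.card_map_of_injective (MulEquiv.injective _), hS]
  exact le_of_eq_of_le hKc.symm (Subgroup.card_le_of_le hKN)

theorem main (hodd : Odd (Fintype.card F)) (S : Sylow 2 S2) :
    Subgroup.centralizer ((S : Subgroup S2) : Set S2) = Subgroup.center S2 ∧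
    ((Fintype.card F % 8 = 1 ∨ Fintype.card F % 8 = 7) →
      Subgroup.normalizer ((S : Subgroup S2) : Set S2) = (S : Subgroup S2)) ∧
    ((Fintype.card F % 8 = 3 ∨ Fintype.card F % 8 = 5) →
      Nat.card (Subgroup.normalizer ((S : Subgroup S2) : Set S2)) = 3 * Nat.card S) := by
  classical
  haveI : Fact (Nat.Prime 2) := ⟨Nat.prime_two⟩
  have hq := Fintype.one_lt_card (α := F)
  have hqo := Nat.odd_iff.1 hodd
  -- the torus whose order is divisible by four
  obtain ⟨T, hT, c, hTc, hm4, hc⟩ : ∃ T : Subgroup S2, TData T ∧ ∃ c : ℕ, c * Nat.card T = (Fintype.card F - 1) * (Fintype.card F + 1) ∧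
      4 ∣ Nat.card T ∧ c % 4 = 2 := by
    by_cases h4 : 4 ∣ Fintype.card F + 1
    · obtain ⟨A, hA⟩ := PSL2Spectrum.exists_order_add_one (F := F)
      exact ⟨Subgroup.zpowers A, ⟨inferInstance, fun x hx hns => SL2EllTorus.centralizer_elem hodd hA hx hns,
        fun g hg hn => SL2EllTorus.sq_outside hodd hA hg hn, by rw [SL2EllTorus.card_normalizer hodd hA, SL2EllTorus.card_tor hA],
        negS_mem (SL2EllTorus.card_tor hA) hodd⟩, Fintype.card F - 1, by rw [SL2EllTorus.card_tor hA],
        by rw [SL2EllTorus.card_tor hA]; exact h4, by omega⟩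
    · obtain ⟨u, hu⟩ := IsCyclic.exists_ofOrder_eq_natCard (α := Fˣ)
      rw [Nat.card_units, Nat.card_eq_fintype_card] at hu
      have h3 : 3 ≤ Fintype.card F - 1 := by omega
      let d : S2 := elS u 0
      have hd01 : d.1 0 1 = 0 := by simp [d, elS_val]
      have hd10 : d.1 1 0 = 0 := by simp [d, elS_val]
      have hda : d.1 0 0 ^ 2 ≠ 1 := fun h => by
        have h' : u ^ 2 = 1 := Units.ext (by simpa [d, elS_val] using h)
        have := Nat.le_of_dvd two_pos (hu ▸ orderOf_dvd_of_pow_eq_one h')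
        omega
      have hiff := SL2TorusNormalizer.centralizer_iff d hd01 hd10 hda
      obtain ⟨hcyc, hcT⟩ := SL2OddSylow.diag_torus d hd01 hd10 hda
      refine ⟨Subgroup.centralizer ({d} : Set S2), ⟨hcyc, fun x hx hns => ?_, fun g hg hn => ?_, ?_, ?_⟩,
        Fintype.card F + 1, by rw [hcT, mul_comm], by rw [hcT]; omega, by omega⟩
      · obtain ⟨hx1, hx2⟩ := (hiff x).1 hx
        have hxa : x.1 0 0 ^ 2 ≠ 1 := fun h => hns ⟨hx1, hx2, by
          have dx := x.det_coe
          rw [Matrix.det_fin_two, hx1, zero_mul, sub_zero] at dx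
          linear_combination (x.1 1 1) * h - (x.1 0 0) * dx⟩
        ext g
        rw [SL2TorusNormalizer.centralizer_iff x hx1 hx2 hxa, hiff]
      · exact Subtype.ext (SL2TorusNormalizer.sq_outside d hd01 hd10 hda g hg hn)
      · rw [SL2TorusNormalizer.card_normalizer d hd01 hd10 hda, hcT]
      · rw [hiff]; simp [negS_val]
  set e := (Nat.card T).factorization 2 with he_def
  have hT0 : Nat.card T ≠ 0 := Nat.card_pos.ne'
  have he : 2 ≤ e := (Nat.prime_two.pow_dvd_iff_le_factorization hT0).1 hm4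
  have hfull : (Nat.card S2).factorization 2 = e + 1 := by
    have hc0 : c ≠ 0 := by omega
    rw [CfsgLib.Classical.card_sl2, ← hTc, Nat.factorization_mul (by omega) (mul_ne_zero hc0 hT0),
      Nat.factorization_mul hc0 hT0, Finsupp.add_apply, Finsupp.add_apply, ← he_def,
      Nat.factorization_eq_zero_of_not_dvd (fun h => by omega : ¬ 2 ∣ Fintype.card F), zero_add, add_comm]
    congr 1
    refine le_antisymm ?_ ((Nat.prime_two.pow_dvd_iff_le_factorization hc0).1 (by rw [pow_one]; omega))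
    by_contra hcon
    have := (Nat.prime_two.pow_dvd_iff_le_factorization hc0 (k := 2)).2 (by omega)
    omega
  obtain ⟨hC, hN3, hN2⟩ := facts hodd hT he (Nat.ordProj_dvd _ _) hfull S
  have h3iff : 3 ≤ e ↔ 8 ∣ Nat.card T := (Nat.prime_two.pow_dvd_iff_le_factorization hT0 (k := 3)).symm
  refine ⟨hC, fun hq8 => hN3 (h3iff.2 ?_), fun hq8 => ?_⟩
  · have h16 : 16 ∣ c * Nat.card T := by
      rw [hTc]
      obtain ⟨j, hj⟩ : ∃ j, Fintype.card F = 8 * j + 1 ∨ Fintype.card F = 8 * j + 7 := ⟨Fintype.card F / 8, by omega⟩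
      rcases hj with hj | hj <;> rw [hj]
      · refine ⟨j * (4 * j + 1), ?_⟩
        rw [show 8 * j + 1 - 1 = 8 * j by omega]; ring
      · refine ⟨(4 * j + 3) * (j + 1), ?_⟩
        rw [show 8 * j + 7 - 1 = 8 * j + 6 by omega]; ring
    obtain ⟨c', rfl⟩ : ∃ c', c = 2 * c' := ⟨c / 2, by omega⟩
    have h8 : 8 ∣ c' * Nat.card T := by
      rw [mul_assoc] at h16
      exact Nat.dvd_of_mul_dvd_mul_left two_pos h16
    have hco : Nat.Coprime 8 c' := (Nat.Coprime.pow_left 3 (Nat.prime_two.coprime_iff_not_dvd.2 (by omega)) : Nat.Coprime (2 ^ 3) c')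
    exact hco.dvd_of_dvd_mul_left h8
  · have he2 : e = 2 := by
      refine le_antisymm ?_ he
      by_contra hcon
      obtain ⟨k, hk⟩ := h3iff.1 (by omega)
      obtain ⟨c', rfl⟩ : ∃ c', c = 2 * c' := ⟨c / 2, by omega⟩
      have h16 : 16 ∣ (Fintype.card F - 1) * (Fintype.card F + 1) := by
        rw [← hTc, hk]; exact ⟨c' * k, by ring⟩
      obtain ⟨j, hj⟩ : ∃ j, Fintype.card F = 8 * j + 3 ∨ Fintype.card F = 8 * j + 5 := ⟨Fintype.card F / 8, by omega⟩
      rcases hj with hj | hj <;> rw [hj] at h16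
      · rw [show (8 * j + 3 - 1) * (8 * j + 3 + 1) = 16 * (4 * j * j + 3 * j) + 8 by
          rw [show 8 * j + 3 - 1 = 8 * j + 2 by omega]; ring] at h16
        omega
      · rw [show (8 * j + 5 - 1) * (8 * j + 5 + 1) = 16 * (4 * j * j + 5 * j + 1) + 8 by
          rw [show 8 * j + 5 - 1 = 8 * j + 4 by omega]; ring] at h16
        omega
    exact le_antisymm (hN2 he2) (exists_big_normalizer hq8 S (by rw [S.card_eq_multiplicity, hfull, he2]; norm_num))

end CfsgLib.Classical.SL2TwoNormalizer
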