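import Cfsg.Agent.Lib.Classical.SLBasic

/-!
The Sylow subgroups of `GL_2` in the natural characteristic.
-/

set_option autoImplicit false

namespace CfsgLib.Classical

open Matrix

variable {F : Type*} [Field F]

/-- `[[1, t], [0, 1]]`. -/
def upGL : Multiplicative F →* GL (Fin 2) F where
  toFun t := ⟨!![1, t.toAdd; 0, 1], !![1, -t.toAdd; 0, 1],
    by ext i j; fin_cases i <;> fin_cases j <;> simp [Matrix.mul_apply, Fin.sum_univ_two],
    by ext i j; fin_cases i <;> fin_cases j <;> simp [Matrix.mul_apply, Fin.sum_univ_two]⟩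
  map_one' := Units.ext (by ext i j; fin_cases i <;> fin_cases j <;> simp)
  map_mul' s t := Units.ext (by
    ext i j; fin_cases i <;> fin_cases j <;> simp [Matrix.mul_apply, Fin.sum_univ_two, add_comm])

/-- The upper unitriangular subgroup. -/
def upU : Subgroup (GL (Fin 2) F) := (upGL (F := F)).range

theorem mem_upU {g : GL (Fin 2) F} : g ∈ upU ↔ g.1 0 0 = 1 ∧ g.1 1 0 = 0 ∧ g.1 1 1 = 1 := by
  constructor
  · rintro ⟨t, rfl⟩
    simp [upGL]
  · rintro ⟨h1, h2, h3⟩
    refine ⟨Multiplicative.ofAdd (g.1 0 1), Units.ext ?_⟩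
    ext i j
    fin_cases i <;> fin_cases j <;> simp [upGL, h1, h2, h3]

theorem upGL_injective : Function.Injective (upGL (F := F)) := fun s t h => by
  have := congrArg (fun g : GL (Fin 2) F => g.1 0 1) h
  exact Multiplicative.toAdd.injective (by simpa [upGL] using this)

/-- The upper triangular subgroup. -/
def borel2 : Subgroup (GL (Fin 2) F) where
  carrier := {g | g.1 1 0 = 0}
  one_mem' := by simp
  mul_mem' {a b} ha hb := by
    simp only [Set.mem_setOf_eq] at *
    rw [Units.val_mul, Matrix.mul_apply, Fin.sum_univ_two, ha, hb]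
    simp
  inv_mem' {a} ha := by
    simp only [Set.mem_setOf_eq] at *
    have h := congrFun (congrFun (Units.mul_inv a) 1) 0
    rw [Matrix.mul_apply, Fin.sum_univ_two, ha, zero_mul, zero_add, Matrix.one_apply_ne (by decide)] at h
    have hd : a.1 1 1 ≠ 0 := fun h0 => by
      have := (Matrix.isUnit_iff_isUnit_det _).1 a.isUnit
      rw [Matrix.det_fin_two, ha, h0] at this
      simp at this
    exact (mul_eq_zero.1 h).resolve_left hd

theorem mem_borel2 {g : GL (Fin 2) F} : g ∈ borel2 ↔ g.1 1 0 = 0 := Iff.rfl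

theorem diag_ne_zero {g : GL (Fin 2) F} (h : g ∈ borel2) : g.1 0 0 ≠ 0 ∧ g.1 1 1 ≠ 0 := by
  have := (Matrix.isUnit_iff_isUnit_det _).1 g.isUnit
  rw [Matrix.det_fin_two, mem_borel2.1 h, mul_zero, sub_zero, isUnit_iff_ne_zero, mul_ne_zero_iff] at this
  exact this

/-- A conjugate of a non-trivial element of `U` lies in `U` only for triangular conjugators. -/
theorem conj_upU_iff {g a : GL (Fin 2) F} (ha : a ∈ upU) (ha1 : a ≠ 1) :
    g * a * g⁻¹ ∈ upU ↔ g ∈ borel2 := by
  obtain ⟨h1, h2, h3⟩ := mem_upU.1 ha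
  have ht : a.1 0 1 ≠ 0 := fun h => ha1 (Units.ext (by
    ext i j; fin_cases i <;> fin_cases j <;> simp [h, h1, h2, h3]))
  constructor
  · intro hb
    set b := g * a * g⁻¹ with hbdef
    obtain ⟨k1, k2, k3⟩ := mem_upU.1 hb
    have e : g.1 * a.1 = b.1 * g.1 := by
      rw [← Units.val_mul, ← Units.val_mul, hbdef, inv_mul_cancel_right]
    have e11 := congrFun (congrFun e 1) 1
    simp [Matrix.mul_apply, Fin.sum_univ_two, h3, k2, k3] at e11
    rw [mem_borel2]
    rcases e11 with h | h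
    · exact h
    · exact absurd h ht
  · intro hg
    have hd := diag_ne_zero hg
    rw [mem_borel2] at hg
    obtain ⟨b, hb⟩ : ∃ b : GL (Fin 2) F, b = upGL (Multiplicative.ofAdd (g.1 0 0 * a.1 0 1 / g.1 1 1)) := ⟨_, rfl⟩
    have e : g * a * g⁻¹ = b := by
      rw [mul_inv_eq_iff_eq_mul]
      apply Units.ext
      rw [Units.val_mul, Units.val_mul, hb]
      ext i j
      fin_cases i <;> fin_cases j <;>
        simp [upGL, Matrix.mul_apply, Fin.sum_univ_two, h1, h2, h3, hg, div_mul_cancel₀ _ hd.2, add_comm]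
    rw [e, hb]
    exact ⟨_, rfl⟩

theorem normalizer_upU : Subgroup.normalizer ((upU : Subgroup (GL (Fin 2) F)) : Set (GL (Fin 2) F)) = borel2 := by
  classical
  set a : GL (Fin 2) F := upGL (Multiplicative.ofAdd 1) with hadef
  have ha : a ∈ upU := ⟨_, rfl⟩
  have ha1 : a ≠ 1 := fun h => by
    rw [hadef, ← map_one (upGL (F := F))] at h
    exact one_ne_zero (α := F) (congrArg Multiplicative.toAdd (upGL_injective h))
  ext g
  rw [Subgroup.mem_normalizer_iff]
  constructor
  · intro h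
    exact (conj_upU_iff ha ha1).1 ((h a).1 ha)
  · intro hg x
    have key : ∀ (g x : GL (Fin 2) F), g ∈ borel2 → x ∈ upU → g * x * g⁻¹ ∈ upU := by
      intro g x hg hx
      rcases eq_or_ne x 1 with rfl | hx1
      · simp [one_mem]
      · exact (conj_upU_iff hx hx1).2 hg
    refine ⟨key g x hg, fun h => ?_⟩
    have := key g⁻¹ _ (inv_mem hg) h
    simpa [mul_assoc] using this

theorem centralizer_upU {a : GL (Fin 2) F} (ha : a ∈ upU) (ha1 : a ≠ 1) {g : GL (Fin 2) F} :
    g ∈ Subgroup.centralizer ({a} : Set (GL (Fin 2) F)) ↔ g.1 1 0 = 0 ∧ g.1 0 0 = g.1 1 1 := by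
  obtain ⟨h1, h2, h3⟩ := mem_upU.1 ha
  have ht : a.1 0 1 ≠ 0 := fun h => ha1 (Units.ext (by
    ext i j; fin_cases i <;> fin_cases j <;> simp [h, h1, h2, h3]))
  rw [Subgroup.mem_centralizer_singleton_iff]
  constructor
  · intro h
    have e : g.1 * a.1 = a.1 * g.1 := by rw [← Units.val_mul, ← Units.val_mul, h]
    have e00 := congrFun (congrFun e 0) 0
    have e01 := congrFun (congrFun e 0) 1
    simp [Matrix.mul_apply, Fin.sum_univ_two, h1, h2, h3] at e00 e01
    have hg : g.1 1 0 = 0 := e00.resolve_left ht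
    refine ⟨hg, mul_right_cancel₀ ht ?_⟩
    linear_combination e01
  · rintro ⟨hg, hd⟩
    apply Units.ext
    rw [Units.val_mul, Units.val_mul]
    ext i j
    fin_cases i <;> fin_cases j <;> simp [Matrix.mul_apply, Fin.sum_univ_two, h1, h2, h3, hg, hd] <;> ring

variable [Fintype F]

theorem card_upU : Nat.card (upU : Subgroup (GL (Fin 2) F)) = Fintype.card F := by
  rw [upU, ← Nat.card_congr (MonoidHom.ofInjective (upGL_injective (F := F))).toEquiv,
    Nat.card_congr Multiplicative.toAdd, Nat.card_eq_fintype_card]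

theorem card_gl2 : Nat.card (GL (Fin 2) F) =
    Fintype.card F * ((Fintype.card F - 1) ^ 2 * (Fintype.card F + 1)) := by
  rw [Matrix.card_GL_field, Fin.prod_univ_two, Fin.val_zero, Fin.val_one, pow_zero, pow_one]
  obtain ⟨a, ha⟩ : ∃ a, Fintype.card F = a + 1 := ⟨Fintype.card F - 1, by have := Fintype.card_pos (α := F); omega⟩
  rw [ha, show (a + 1) ^ 2 - 1 = a * (a + 2) by rw [Nat.sub_eq_of_eq_add]; ring,
    show (a + 1) ^ 2 - (a + 1) = a * (a + 1) by rw [Nat.sub_eq_of_eq_add]; ring, Nat.add_sub_cancel]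
  ring

theorem card_borel2 : Nat.card (borel2 : Subgroup (GL (Fin 2) F)) =
    Fintype.card F * (Fintype.card F - 1) ^ 2 := by
  have e : (borel2 : Subgroup (GL (Fin 2) F)) ≃ F × Fˣ × Fˣ :=
    { toFun := fun g => (g.1.1 0 1, Units.mk0 _ (diag_ne_zero g.2).1, Units.mk0 _ (diag_ne_zero g.2).2)
      invFun := fun x => ⟨GeneralLinearGroup.mkOfDetNeZero !![(x.2.1 : F), x.1; 0, (x.2.2 : F)]
        (by simp [Matrix.det_fin_two]), by rw [mem_borel2]; simp⟩
      left_inv := fun g => by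
        refine Subtype.ext (Units.ext ?_)
        ext i j
        fin_cases i <;> fin_cases j <;> simp [mem_borel2.1 g.2]
      right_inv := fun x => by ext <;> simp }
  rw [Nat.card_congr e, Nat.card_prod, Nat.card_prod, Nat.card_units, Nat.card_eq_fintype_card, pow_two]

theorem card_centralizer_upU {a : GL (Fin 2) F} (ha : a ∈ upU) (ha1 : a ≠ 1) :
    Nat.card (Subgroup.centralizer ({a} : Set (GL (Fin 2) F))) = Fintype.card F * (Fintype.card F - 1) := by
  have e : Subgroup.centralizer ({a} : Set (GL (Fin 2) F)) ≃ F × Fˣ :=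
    { toFun := fun g => (g.1.1 0 1, Units.mk0 _ (diag_ne_zero ((centralizer_upU ha ha1).1 g.2).1).1)
      invFun := fun x => ⟨GeneralLinearGroup.mkOfDetNeZero !![(x.2 : F), x.1; 0, (x.2 : F)]
        (by simp [Matrix.det_fin_two]), (centralizer_upU ha ha1).2 (by simp)⟩
      left_inv := fun g => by
        refine Subtype.ext (Units.ext ?_)
        obtain ⟨h1, h2⟩ := (centralizer_upU ha ha1).1 g.2
        ext i j
        fin_cases i <;> fin_cases j <;> simp [h1, h2]
      right_inv := fun x => by ext <;> simp }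
  rw [Nat.card_congr e, Nat.card_prod, Nat.card_units, Nat.card_eq_fintype_card]

variable (p : ℕ) [Fact p.Prime] [CharP F p]

theorem factorization_of_coprime {k r : ℕ} (hr : ¬ p ∣ r) : (p ^ k * r).factorization p = k := by
  have hp : p.Prime := Fact.out
  rw [Nat.factorization_mul (pow_ne_zero _ hp.ne_zero) (fun h => hr (by rw [h]; exact dvd_zero p)), Finsupp.add_apply,
    Nat.factorization_eq_zero_of_not_dvd hr, add_zero, Nat.factorization_pow, hp.factorization]
  simp

/-- `U` is a Sylow subgroup. -/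
noncomputable def sylowUp : Sylow p (GL (Fin 2) F) :=
  Sylow.ofCard upU (by
    obtain ⟨k, hp, hk⟩ := FiniteField.card F p
    rw [card_upU, card_gl2, hk, factorization_of_coprime]
    have hd : p ∣ p ^ (k : ℕ) := dvd_pow_self p k.ne_zero
    intro h
    rcases (Nat.Prime.dvd_mul hp).1 h with h1 | h1
    · have h2 := hp.dvd_of_dvd_pow h1
      have h3 : 1 ≤ p ^ (k : ℕ) := Nat.one_le_pow _ _ hp.pos
      have := Nat.dvd_sub hd h2
      rw [show p ^ (k : ℕ) - (p ^ (k : ℕ) - 1) = 1 by omega] at this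
      exact hp.ne_one (Nat.dvd_one.1 this)
    · exact hp.ne_one (Nat.dvd_one.1 ((Nat.dvd_add_right hd).1 h1)))

theorem sylowUp_coe : ((sylowUp p : Sylow p (GL (Fin 2) F)) : Subgroup (GL (Fin 2) F)) = upU := rfl

/-- Every Sylow subgroup is a conjugate of `U`. -/
theorem exists_conj_upU (P : Sylow p (GL (Fin 2) F)) :
    ∃ g : GL (Fin 2) F, ∀ x, x ∈ (P : Subgroup (GL (Fin 2) F)) ↔ g⁻¹ * x * g ∈ upU := by
  obtain ⟨g, hg⟩ := MulAction.exists_smul_eq (GL (Fin 2) F) (sylowUp p) P
  refine ⟨g, fun x => ?_⟩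
  rw [← hg, ← sylowUp_coe p]
  show x ∈ (g • sylowUp p : Sylow p (GL (Fin 2) F)).toSubgroup ↔ _
  rw [Sylow.coe_subgroup_smul, Subgroup.mem_pointwise_smul_iff_inv_smul_mem]
  simp [mul_assoc]

theorem card_sylow_gl2 : Nat.card (Sylow p (GL (Fin 2) F)) = Fintype.card F + 1 := by
  rw [(sylowUp p).card_eq_index_normalizer]
  show (Subgroup.normalizer ((upU : Subgroup (GL (Fin 2) F)) : Set (GL (Fin 2) F))).index = _
  have h := Subgroup.card_mul_index (borel2 : Subgroup (GL (Fin 2) F))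
  rw [card_borel2, card_gl2, ← mul_assoc] at h
  rw [normalizer_upU]
  refine Nat.eq_of_mul_eq_mul_left ?_ h
  have := Fintype.one_lt_card (α := F)
  exact Nat.mul_pos (by omega) (pow_pos (by omega) 2)

theorem card_normalizer_sylow (P : Sylow p (GL (Fin 2) F)) :
    Nat.card (Subgroup.normalizer ((P : Subgroup (GL (Fin 2) F)) : Set (GL (Fin 2) F))) =
      Fintype.card F * (Fintype.card F - 1) ^ 2 := by
  have h := Subgroup.card_mul_index (Subgroup.normalizer ((P : Subgroup (GL (Fin 2) F)) : Set (GL (Fin 2) F)))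
  rw [show (Subgroup.normalizer ((P : Subgroup (GL (Fin 2) F)) : Set (GL (Fin 2) F))).index =
      Fintype.card F + 1 from P.card_eq_index_normalizer.symm.trans (card_sylow_gl2 p), card_gl2,
    ← mul_assoc] at h
  exact Nat.eq_of_mul_eq_mul_right (by omega) h

theorem sylow_disjoint {P Q : Sylow p (GL (Fin 2) F)} (h : P ≠ Q) :
    (P : Subgroup (GL (Fin 2) F)) ⊓ (Q : Subgroup (GL (Fin 2) F)) = ⊥ := by
  obtain ⟨g, hg⟩ := exists_conj_upU p P
  obtain ⟨k, hk⟩ := exists_conj_upU p Q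
  rw [eq_bot_iff]
  intro x hx
  rw [Subgroup.mem_bot]
  by_contra hx1
  obtain ⟨hxP, hxQ⟩ := hx
  have ha : g⁻¹ * x * g ∈ upU := (hg x).1 hxP
  have ha1 : g⁻¹ * x * g ≠ 1 := fun e => hx1 (by
    have : x = g * (g⁻¹ * x * g) * g⁻¹ := by group
    rw [this, e, mul_one, mul_inv_cancel])
  have hb : k⁻¹ * g ∈ borel2 := by
    refine (conj_upU_iff ha ha1).1 ?_
    have : k⁻¹ * g * (g⁻¹ * x * g) * (k⁻¹ * g)⁻¹ = k⁻¹ * x * k := by group
    rw [this]
    exact (hk x).1 hxQ
  refine h (Sylow.ext (SetLike.ext fun y => ?_))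
  rw [hg, hk]
  rw [← normalizer_upU, Subgroup.mem_normalizer_iff] at hb
  rw [hb, show k⁻¹ * g * (g⁻¹ * y * g) * (k⁻¹ * g)⁻¹ = k⁻¹ * y * k by group]

theorem card_centralizer_sylow (P : Sylow p (GL (Fin 2) F)) {a : GL (Fin 2) F}
    (ha : a ∈ (P : Subgroup (GL (Fin 2) F))) (ha1 : a ≠ 1) :
    Nat.card (Subgroup.centralizer ({a} : Set (GL (Fin 2) F))) = Fintype.card F * (Fintype.card F - 1) := by
  obtain ⟨g, hg⟩ := exists_conj_upU p P
  have hb : g⁻¹ * a * g ∈ upU := (hg a).1 ha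
  have hb1 : g⁻¹ * a * g ≠ 1 := fun e => ha1 (by
    have : a = g * (g⁻¹ * a * g) * g⁻¹ := by group
    rw [this, e, mul_one, mul_inv_cancel])
  rw [← card_centralizer_upU hb hb1]
  refine Nat.card_congr ((MulAut.conj g⁻¹).toEquiv.subtypeEquiv fun x => ?_)
  rw [Subgroup.mem_centralizer_singleton_iff, Subgroup.mem_centralizer_singleton_iff]
  show _ ↔ g⁻¹ * x * g⁻¹⁻¹ * (g⁻¹ * a * g) = g⁻¹ * a * g * (g⁻¹ * x * g⁻¹⁻¹)
  rw [inv_inv, show g⁻¹ * x * g * (g⁻¹ * a * g) = g⁻¹ * (x * a) * g by group,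
    show g⁻¹ * a * g * (g⁻¹ * x * g) = g⁻¹ * (a * x) * g by group]
  exact ⟨fun h => by rw [h], fun h => mul_left_cancel (mul_right_cancel h)⟩

end CfsgLib.Classical
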