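import Cfsg.Agent.Lib.Classical.SympSplit
import Cfsg.Agent.Lib.Classical.PSL2Spectrum
import Cfsg.Agent.Lib.Char.TwoEllTorus
import Cfsg.Agent.Lib.GLClass.Regular
import Cfsg.Agent.Lib.GLClass.Unipotent

/-!
# Elements of prescribed orders in symplectic groups
-/

set_option autoImplicit false

namespace CfsgLib.Classical.SpOrders

open Matrix Module CfsgLib.Sp

section block

variable {F : Type*} [Field F]

/-- coordinates of an orthogonal sum -/
def ix (a b : ℕ) : (Fin a ⊕ Fin a) ⊕ (Fin b ⊕ Fin b) ≃ Fin (a + b) ⊕ Fin (a + b) :=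
  (Equiv.sumSumSumComm _ _ _ _).trans (finSumFinEquiv.sumCongr finSumFinEquiv)

theorem J_split (a b : ℕ) :
    (fromBlocks (Matrix.J (Fin a) F) 0 0 (Matrix.J (Fin b) F)).submatrix (ix a b).symm (ix a b).symm =
      Matrix.J (Fin (a + b)) F := by
  ext (i | i) (j | j) <;> refine Fin.addCases (fun i' => ?_) (fun i' => ?_) i <;>
    refine Fin.addCases (fun j' => ?_) (fun j' => ?_) j <;>
    simp [ix, Matrix.J, Matrix.one_apply, Fin.ext_iff] <;> omega

/-- the matrix of an orthogonal sum -/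
def bmat {a b : ℕ} (X : Matrix (Fin a ⊕ Fin a) (Fin a ⊕ Fin a) F) (Y : Matrix (Fin b ⊕ Fin b) (Fin b ⊕ Fin b) F) :
    Matrix (Fin (a + b) ⊕ Fin (a + b)) (Fin (a + b) ⊕ Fin (a + b)) F :=
  (fromBlocks X 0 0 Y).submatrix (ix a b).symm (ix a b).symm

theorem bmat_mul {a b : ℕ} (X X' : Matrix (Fin a ⊕ Fin a) (Fin a ⊕ Fin a) F)
    (Y Y' : Matrix (Fin b ⊕ Fin b) (Fin b ⊕ Fin b) F) : bmat X Y * bmat X' Y' = bmat (X * X') (Y * Y') := by
  rw [bmat, bmat, Matrix.submatrix_mul_equiv, fromBlocks_multiply]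
  simp [bmat]

theorem bmat_inj {a b : ℕ} {X X' : Matrix (Fin a ⊕ Fin a) (Fin a ⊕ Fin a) F}
    {Y Y' : Matrix (Fin b ⊕ Fin b) (Fin b ⊕ Fin b) F} (h : bmat X Y = bmat X' Y') : X = X' ∧ Y = Y' := by
  have h' : fromBlocks X 0 0 Y = fromBlocks X' 0 0 Y' := by
    have := congrArg (fun M : Matrix _ _ F => M.submatrix (ix a b) (ix a b)) h
    simpa [bmat, Matrix.submatrix_submatrix, Equiv.symm_comp_self] using this
  exact ⟨congrArg toBlocks₁₁ h', congrArg toBlocks₂₂ h'⟩

/-- the orthogonal sum -/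
def blockHom (a b : ℕ) : Matrix.symplecticGroup (Fin a) F × Matrix.symplecticGroup (Fin b) F →*
    Matrix.symplecticGroup (Fin (a + b)) F where
  toFun p := ⟨bmat p.1.1 p.2.1, by
    rw [SymplecticGroup.mem_iff, ← J_split, bmat, Matrix.transpose_submatrix, Matrix.submatrix_mul_equiv,
      Matrix.submatrix_mul_equiv, fromBlocks_transpose, fromBlocks_multiply, fromBlocks_multiply]
    simp [SymplecticGroup.mem_iff.1 p.1.2, SymplecticGroup.mem_iff.1 p.2.2]⟩
  map_one' := Subtype.ext (by simp [bmat, fromBlocks_one])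
  map_mul' p q := Subtype.ext (bmat_mul p.1.1 q.1.1 p.2.1 q.2.1).symm

theorem bmat_one (a b : ℕ) : (1 : Matrix (Fin (a + b) ⊕ Fin (a + b)) (Fin (a + b) ⊕ Fin (a + b)) F) = bmat 1 1 := by
  simp [bmat, fromBlocks_one]

theorem bmat_neg {a b : ℕ} (X : Matrix (Fin a ⊕ Fin a) (Fin a ⊕ Fin a) F) (Y : Matrix (Fin b ⊕ Fin b) (Fin b ⊕ Fin b) F) :
    bmat (-X) (-Y) = -bmat X Y := by
  rw [bmat, bmat, show fromBlocks (-X) 0 0 (-Y) = -fromBlocks X 0 0 Y by rw [fromBlocks_neg]; simp]
  rfl

end block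

section regular

variable {F : Type*} [Field F]

theorem fromBlocks_pow_sum {n : Type*} [Fintype n] [DecidableEq n] (P R B : Matrix n n F) (k : ℕ) :
    (fromBlocks P B 0 R) ^ k = fromBlocks (P ^ k) (∑ i ∈ Finset.range k, P ^ i * B * R ^ (k - 1 - i)) 0 (R ^ k) := by
  induction k with
  | zero => simp [fromBlocks_one]
  | succ k ih =>
    rw [pow_succ, ih, fromBlocks_multiply, fromBlocks_inj]
    refine ⟨by simp [pow_succ], ?_, by simp, by simp [pow_succ]⟩
    rw [Finset.sum_range_succ, Nat.add_sub_cancel, Nat.sub_self, pow_zero, mul_one, Finset.sum_mul, add_comm]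
    refine congrArg (· + _) (Finset.sum_congr rfl fun i hi => ?_)
    rw [Matrix.mul_assoc, ← pow_succ, show k - 1 - i + 1 = k - i by have := Finset.mem_range.1 hi; omega]

open CfsgLib.GLClass in
theorem exists_regular (m : ℕ) (hm : 1 ≤ m) : ∃ u : Matrix.symplecticGroup (Fin m) F,
    IsNilpotent (u.1 - 1) ∧ (u.1 - 1) ^ (2 * m - 1) ≠ 0 := by
  classical
  set S0 : Matrix (Fin m) (Fin m) F := shiftMat m F with hS0
  have hs0 : S0 ^ m = 0 := by
    rw [hS0, shiftMat_pow]; ext i j; simp; omega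
  have hu0 : IsUnit (1 + S0) := by
    rw [show (1 : Matrix (Fin m) (Fin m) F) + S0 = 1 - (-S0) by abel]
    exact IsNilpotent.isUnit_one_sub (IsNilpotent.neg ⟨m, hs0⟩)
  obtain ⟨A, hA⟩ := hu0
  set B : Matrix (Fin m) (Fin m) F := ((A⁻¹).1)ᵀ with hB
  have hAB : A.1ᵀ * B = 1 := by rw [hB, ← Matrix.transpose_mul, Units.inv_mul, Matrix.transpose_one]
  let z : Fin m := ⟨m - 1, by omega⟩
  let o : Fin m := ⟨0, by omega⟩
  set S : Matrix (Fin m) (Fin m) F := Matrix.single z z 1 with hS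
  have hSt : Sᵀ = S := by rw [hS, Matrix.transpose_single]
  have hmem : fromBlocks A.1 (A.1 * S) 0 B ∈ Matrix.symplecticGroup (Fin m) F := by
    rw [SymplecticGroup.mem_iff, Matrix.J, fromBlocks_transpose, fromBlocks_multiply, fromBlocks_multiply]
    have e1 : A.1 * Bᵀ = 1 := by rw [hB, Matrix.transpose_transpose, Units.mul_inv]
    have e2 : B * A.1ᵀ = 1 := mul_eq_one_comm.1 hAB
    simp only [Matrix.mul_zero, Matrix.zero_mul, Matrix.mul_neg, Matrix.neg_mul, mul_one, Matrix.transpose_zero,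
      add_zero, zero_add, Matrix.transpose_mul, hSt, neg_zero]
    rw [fromBlocks_inj]
    refine ⟨?_, ?_, ?_, ?_⟩
    · rw [Matrix.mul_assoc]; exact add_neg_cancel _
    · rw [e1]
    · rw [e2]
    · rfl
  set N1 := A.1 - 1 with hN1
  set N2 := B - 1 with hN2
  have hN1' : N1 = S0 := by rw [hN1, hA, add_sub_cancel_left]
  have hN2' : N2 = -(((A⁻¹).1 * S0)ᵀ) := by
    rw [hN2, hB, ← hN1', hN1, mul_sub, Units.inv_mul, mul_one, Matrix.transpose_sub, Matrix.transpose_one, neg_sub]
  have hcom : Commute (A⁻¹).1 S0 := by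
    have h : Commute A.1 S0 := by rw [hA]; exact (Commute.one_left _).add_left (Commute.refl _)
    exact h.units_inv_left
  have hN2p : ∀ k, N2 ^ k = ((-1 : F) ^ k) • (((A⁻¹).1 ^ k * S0 ^ k)ᵀ) := fun k => by
    rw [hN2', show -(((A⁻¹).1 * S0)ᵀ) = (-1 : F) • ((A⁻¹).1 * S0)ᵀ by simp, smul_pow, ← Matrix.transpose_pow,
      hcom.mul_pow]
  have hN2m : N2 ^ m = 0 := by rw [hN2p, hs0, mul_zero, Matrix.transpose_zero, smul_zero]
  have hN1m : N1 ^ m = 0 := by rw [hN1', hs0]
  have hsub : fromBlocks A.1 (A.1 * S) 0 B - 1 = fromBlocks N1 (A.1 * S) 0 N2 := by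
    rw [← fromBlocks_one, sub_eq_add_neg, fromBlocks_neg, fromBlocks_add]
    simp [hN1, hN2, sub_eq_add_neg]
  refine ⟨⟨_, hmem⟩, ?_, ?_⟩
  · refine ⟨2 * m, ?_⟩
    show (fromBlocks A.1 (A.1 * S) 0 B - 1) ^ (2 * m) = 0
    rw [hsub, fromBlocks_pow_sum, pow_eq_zero_of_le (by omega) hN1m, pow_eq_zero_of_le (by omega) hN2m,
      Finset.sum_eq_zero fun i hi => ?_, fromBlocks_zero]
    rcases Nat.lt_or_ge i m with h | h
    · rw [pow_eq_zero_of_le (by omega : m ≤ 2 * m - 1 - i) hN2m, mul_zero]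
    · rw [pow_eq_zero_of_le h hN1m, zero_mul, zero_mul]
  · show (fromBlocks A.1 (A.1 * S) 0 B - 1) ^ (2 * m - 1) ≠ 0
    rw [hsub, fromBlocks_pow_sum, Finset.sum_eq_single (m - 1)]
    · intro h
      have h12 := congrArg toBlocks₁₂ h
      rw [toBlocks_fromBlocks₁₂, show 2 * m - 1 - 1 - (m - 1) = m - 1 by omega] at h12
      have hS0p : S0 ^ (m - 1) = Matrix.single o z 1 := by
        rw [hS0, shiftMat_pow]
        ext i j
        simp [Matrix.single_apply, o, z, Fin.ext_iff]
        have := i.isLt; have := j.isLt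
        split_ifs <;> first | rfl | (exfalso; omega)
      rw [hN1', hS0p] at h12
      have e1 : Matrix.single o z (1 : F) * (A.1 * S) = Matrix.single o z 1 := by
        rw [hS, ← Matrix.mul_assoc]
        ext i j
        by_cases hi : o = i <;> by_cases hj : z = j
        · subst hi; subst hj
          simp [Matrix.mul_apply, Matrix.single_apply, hA, hS0, shiftMat]
        · simp [Matrix.mul_apply, Matrix.single_apply, hj]
        · simp [Matrix.mul_apply, Matrix.single_apply, hi, Ne.symm hi]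
        · simp [Matrix.mul_apply, Matrix.single_apply, hi, hj]
      rw [e1, hN2p, hS0p, Matrix.mul_smul, show (0 : Matrix (Fin m ⊕ Fin m) (Fin m ⊕ Fin m) F).toBlocks₁₂ = 0 from rfl,
        smul_eq_zero] at h12
      have h3 := h12.resolve_left (pow_ne_zero _ (neg_ne_zero.2 one_ne_zero))
      rw [Matrix.transpose_mul, Matrix.transpose_single, ← Matrix.mul_assoc, Matrix.single_mul_single_same,
        mul_one] at h3
      have h4 := congrArg (· * ((A.1 ^ (m - 1))ᵀ)) h3
      simp only [Matrix.zero_mul, Matrix.mul_assoc, ← Matrix.transpose_mul] at h4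
      rw [← Units.val_pow_eq_pow_val, ← Units.val_pow_eq_pow_val, ← Units.val_mul, inv_pow, mul_inv_cancel, Units.val_one,
        Matrix.transpose_one, Matrix.mul_one] at h4
      simpa using congrFun (congrFun h4 o) o
    · intro i hi hne
      rcases Nat.lt_or_ge i m with h | h
      · rw [pow_eq_zero_of_le (by have := Finset.mem_range.1 hi; omega : m ≤ 2 * m - 1 - 1 - i) hN2m, mul_zero]
      · rw [pow_eq_zero_of_le h hN1m, zero_mul, zero_mul]
    · intro h; exact absurd (Finset.mem_range.2 (by omega)) h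

theorem exists_unipotent_order [Fintype F] (p : ℕ) [Fact p.Prime] [CharP F p] (m : ℕ) (hm : 1 ≤ m) :
    ∃ u : Matrix.symplecticGroup (Fin m) F, orderOf u = p ^ Nat.clog p (2 * m) := by
  obtain ⟨u, hn, hu⟩ := exists_regular (F := F) m hm
  refine ⟨u, ?_⟩
  have hc : Fintype.card (Fin m ⊕ Fin m) = 2 * m := by simp; omega
  let g : GL (Fin m ⊕ Fin m) F := ⟨u.1, (u⁻¹).1, congrArg Subtype.val (mul_inv_cancel u), congrArg Subtype.val (inv_mul_cancel u)⟩
  rw [← hc, ← CfsgLib.GLClass.orderOf_eq_pow_clog p g hn (by rw [hc]; exact hu)]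
  refine orderOf_eq_orderOf_iff.2 fun k => ?_
  rw [Units.ext_iff, Units.val_pow_eq_pow_val, Subtype.ext_iff, SubmonoidClass.coe_pow]
  rfl

end regular

section torus

variable {F : Type*} [Field F] [Fintype F]

theorem exists_sl_hom (d : ℕ) (hd : 1 ≤ d) {K : Type*} [Field K] [Fintype K] [Algebra F K] (hK : finrank F K = d) :
    ∃ φ : Matrix.SpecialLinearGroup (Fin 2) K →* Matrix.symplecticGroup (Fin d) F, Function.Injective φ ∧
      ∀ g : Matrix.SpecialLinearGroup (Fin 2) K, g.1 = -1 → (φ g).1 = -1 := by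
  classical
  let f : (Fin 2 → K) → (Fin 2 → K) → K := fun u v => u 0 * v 1 - u 1 * v 0
  let B : LinearMap.BilinForm F (Fin 2 → K) := LinearMap.mk₂ F (fun u v => Algebra.trace F K (f u v))
    (fun a b c => by rw [← map_add]; congr 1; simp [f]; ring)
    (fun r a b => by rw [← map_smul]; congr 1; simp [f, Algebra.smul_def]; ring)
    (fun a b c => by rw [← map_add]; congr 1; simp [f]; ring)
    (fun r a b => by rw [← map_smul]; congr 1; simp [f, Algebra.smul_def]; ring)
  have hA : B.IsAlt := fun u => by show Algebra.trace F K (f u u) = 0; simp [f, mul_comm]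
  have hB : ∀ u, (∀ v, B u v = 0) → u = 0 := fun u hu => by
    have key : ∀ z : K, (∀ c, Algebra.trace F K (z * c) = 0) → z = 0 := fun z hz =>
      (traceForm_nondegenerate F K).1 z hz
    funext i
    fin_cases i
    · exact key _ fun c => by simpa [B, f] using hu ![0, c]
    · exact key _ fun c => by simpa [B, f] using hu ![-c, 0]
  have hV : finrank F (Fin 2 → K) = 2 * d := by rw [Module.finrank_pi_fintype]; simp [hK]
  obtain ⟨b, hb⟩ := SympSplit.exists_basis_J B hA hB hV
  let ρ : Matrix.SpecialLinearGroup (Fin 2) K → (Fin 2 → K) →ₗ[F] (Fin 2 → K) := fun g => g.1.mulVecLin.restrictScalars F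
  have hρ : ∀ g u v, B (ρ g u) (ρ g v) = B u v := fun g u v => by
    show Algebra.trace F K (f (g.1 *ᵥ u) (g.1 *ᵥ v)) = Algebra.trace F K (f u v)
    congr 1
    have hd := g.det_coe
    rw [Matrix.det_fin_two] at hd
    simp [f, Matrix.mulVec, dotProduct, Fin.sum_univ_two]
    linear_combination (u 0 * v 1 - u 1 * v 0) * hd
  have hmem : ∀ g, LinearMap.toMatrix b b (ρ g) ∈ Matrix.symplecticGroup (Fin d) F := fun g => by
    have hJ' : LinearMap.BilinForm.toMatrix b B = Matrix.J (Fin d) F := Matrix.ext fun i j => by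
      rw [LinearMap.BilinForm.toMatrix_apply, hb]
    have hc : B.comp (ρ g) (ρ g) = B := LinearMap.ext₂ fun u v => hρ g u v
    have := congrArg (LinearMap.BilinForm.toMatrix b) hc
    rw [LinearMap.BilinForm.toMatrix_comp (b := b) (c := b), hJ'] at this
    exact SymplecticGroup.mem_iff'.2 this
  refine ⟨MonoidHom.mk' (fun g => ⟨_, hmem g⟩) fun g h => Subtype.ext ?_, fun g h hgh => ?_, fun g hg => ?_⟩
  · show LinearMap.toMatrix b b (ρ (g * h)) = LinearMap.toMatrix b b (ρ g) * LinearMap.toMatrix b b (ρ h)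
    rw [← LinearMap.toMatrix_comp]
    congr 1
    exact LinearMap.ext fun v => (Matrix.mulVec_mulVec v g.1 h.1).symm
  · refine Subtype.ext (Matrix.ext_iff_mulVec.2 fun v => ?_)
    exact LinearMap.congr_fun ((LinearMap.toMatrix b b).injective (congrArg Subtype.val hgh)) v
  · show LinearMap.toMatrix b b (ρ g) = -1
    rw [show ρ g = -LinearMap.id from LinearMap.ext fun v => by
      show g.1 *ᵥ v = -v
      rw [hg, Matrix.neg_mulVec, Matrix.one_mulVec], map_neg, LinearMap.toMatrix_id]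

theorem exists_orders (p : ℕ) [Fact p.Prime] [CharP F p] (hodd : Odd (Fintype.card F)) (d : ℕ) (hd : 1 ≤ d) (k : ℕ)
    (hk : k ∣ Fintype.card F ^ d - 1 ∨ k ∣ Fintype.card F ^ d + 1) :
    ∃ x : Matrix.symplecticGroup (Fin d) F, orderOf x = k ∧ (2 ∣ k → (x ^ (k / 2)).1 = -1) := by
  classical
  let K := FiniteField.Extension F p d
  haveI : NeZero d := ⟨by omega⟩
  have hfin : finrank F K = d := FiniteField.finrank_extension F p d
  haveI : Finite K := Module.finite_of_finite F
  letI : Fintype K := Fintype.ofFinite K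
  have hcard : Fintype.card K = Fintype.card F ^ d := by rw [Module.card_eq_pow_finrank (K := F), hfin]
  obtain ⟨φ, hφ, hneg⟩ := exists_sl_hom d hd hfin
  obtain ⟨A, hA⟩ : ∃ A : Matrix.SpecialLinearGroup (Fin 2) K, orderOf A = k := by
    rcases hk with hk | hk
    · obtain ⟨A, hA⟩ := PSL2Spectrum.exists_order_sub_one (F := K)
      rw [hcard] at hA
      exact ⟨A ^ (orderOf A / k), orderOf_pow_orderOf_div (orderOf_pos A).ne' (hA ▸ hk)⟩
    · obtain ⟨A, hA⟩ := PSL2Spectrum.exists_order_add_one (F := K)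
      rw [hcard] at hA
      exact ⟨A ^ (orderOf A / k), orderOf_pow_orderOf_div (orderOf_pos A).ne' (hA ▸ hk)⟩
  refine ⟨φ A, by rw [orderOf_injective φ hφ, hA], fun h2 => ?_⟩
  rw [← map_pow]
  refine hneg _ ?_
  set B := A ^ (k / 2)
  have hB : orderOf B = 2 := by
    have h0 : k ≠ 0 := hA ▸ (orderOf_pos A).ne'
    obtain ⟨c, rfl⟩ := h2
    have hc : c ≠ 0 := by omega
    rw [show B = A ^ c by rw [show B = A ^ (2 * c / 2) from rfl, Nat.mul_div_cancel_left _ two_pos],
      orderOf_pow_of_dvd hc (hA ▸ dvd_mul_left _ _), hA, Nat.mul_div_cancel _ (Nat.pos_of_ne_zero hc)]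
  have h22 : B * B = 1 := by
    have h := pow_orderOf_eq_one B
    rwa [hB, pow_two] at h
  haveI : CharP K p := charP_of_injective_algebraMap (algebraMap F K).injective p
  have hKodd : Odd (Fintype.card K) := hcard ▸ hodd.pow
  rcases CfsgLib.Char.TwoChars.scalar_cases (CfsgLib.Char.TwoChars.scalar_of_sq_one hKodd h22) with h | h
  · rw [h, orderOf_one] at hB; omega
  · rw [h]; rfl

end torus

end CfsgLib.Classical.SpOrders
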