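import Mathlib
import Cfsg.Agent.Lib.Sp.Basic
import Cfsg.Agent.Lib.Perm.Trans.SympGen

/-!
# Perfection and simplicity of the symplectic groups
-/

set_option autoImplicit false

namespace CfsgLib.Classical

open scoped Matrix Pointwise commutatorElement
open Matrix CfsgLib.Sp

variable {F : Type*} [Field F] {m : ℕ}

theorem tv_pair_eq {u w z : Fin m ⊕ Fin m → F} (huw : sf u w = 0) (huz : sf u z = 0) (hwz : sf w z = 0) (b : F) :
    (tv (u + w) b * tv u (-b) * tv w (-b)) * (tv (u + z) b * tv u (-b) * tv z (-b)) =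
      tv (u + (w + z)) b * tv u (-b) * tv (w + z) (-b) := by
  have hwu : sf w u = 0 := by rw [sf_swap, huw, neg_zero]
  have hzu : sf z u = 0 := by rw [sf_swap, huz, neg_zero]
  have hzw : sf z w = 0 := by rw [sf_swap, hwz, neg_zero]
  refine sp_ext_vec fun x => ?_
  simp only [sp_mul_mulVec, tv_mulVec, sf_add_left, sf_add_right, sf_smul_left, sf_smul_right, sf_self, huw, huz,
    hwz, hwu, hzu, hzw, mul_zero, add_zero, zero_add]
  module

theorem commutator_symplectic [Fintype F]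
    (h : 3 ≤ m ∨ (m = 2 ∧ 3 ≤ Fintype.card F) ∨ 4 ≤ Fintype.card F) :
    commutator (Matrix.symplecticGroup (Fin m) F) = ⊤ := by
  classical
  rcases Nat.eq_zero_or_pos m with rfl | hm
  · refine eq_top_iff.2 fun A _ => ?_
    rw [show A = 1 from Subtype.ext (Matrix.ext fun i => by rcases i with i | i <;> exact i.elim0)]
    exact one_mem _
  rw [eq_top_iff, ← CfsgLib.Perm.Trans.Symp.closure_tvSet]
  refine (Subgroup.closure_le _).2 ?_
  rintro A ⟨v, c, hA⟩
  rw [show A = tv v c from Subtype.ext hA]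
  rcases eq_or_ne v 0 with rfl | hv
  · rw [show tv (0 : Fin m ⊕ Fin m → F) c = 1 from sp_ext_vec fun x => by simp [tv_mulVec]]
    exact Subgroup.one_mem _
  let π := QuotientGroup.mk' (commutator (Matrix.symplecticGroup (Fin m) F))
  have hcomm : ∀ g x : Matrix.symplecticGroup (Fin m) F, π (g * x * g⁻¹) = π x := fun g x => by
    rw [QuotientGroup.mk'_apply, QuotientGroup.mk'_apply, QuotientGroup.eq, ← Subgroup.inv_mem_iff]
    have : ((g * x * g⁻¹)⁻¹ * x)⁻¹ = ⁅x⁻¹, g⁆ := by group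
    rw [this]
    exact Subgroup.commutator_mem_commutator (Subgroup.mem_top _) (Subgroup.mem_top _)
  -- the image of a transvection does not depend on the vector
  have hP : ∀ {u w : Fin m ⊕ Fin m → F}, u ≠ 0 → w ≠ 0 → ∀ a, π (tv u a) = π (tv w a) := fun {u w} hu hw a => by
    obtain ⟨g, hg⟩ := exists_move hu hw
    rw [← hcomm g (tv u a), tv_conj, hg]
  have hone : ∀ a, π (tv v a) = 1 := by
    by_cases hq : ∃ a : F, a ≠ 0 ∧ a * a ≠ 1
    · obtain ⟨a, ha0, ha⟩ := hq
      intro d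
      obtain ⟨e, rfl⟩ : ∃ e, d = a * a * e - e := ⟨d / (a * a - 1),
        (div_mul_cancel₀ d (sub_ne_zero.2 ha)).symm.trans (by ring)⟩
      have h1 : π (tv v (a * a * e)) = π (tv v e) := by
        rw [← tv_smul]; exact hP (smul_ne_zero ha0 hv) hv e
      have h2 : π (tv v (a * a * e - e)) * π (tv v e) = π (tv v (a * a * e)) := by
        rw [← map_mul, tv_mul, sub_add_cancel]
      rw [h1] at h2
      exact mul_eq_right.1 h2
    · push Not at hq
      have hq3 : Fintype.card F ≤ 3 := by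
        have hsub : (Finset.univ : Finset F) ⊆ {0, 1, -1} := fun a _ => by
          simp only [Finset.mem_insert, Finset.mem_singleton]
          rcases eq_or_ne a 0 with h0 | h0
          · exact Or.inl h0
          · exact Or.inr (mul_self_eq_one_iff.1 (hq a h0))
        exact (Finset.card_le_card hsub).trans Finset.card_le_three
      intro d
      -- `w`, `z` orthogonal to `v` and to each other, with `v + ·` non-zero
      obtain ⟨w, z, hvw, hvz, hwz, hw, hz, hwz', hvw', hvz', hvwz⟩ :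
          ∃ w z : Fin m ⊕ Fin m → F, sf v w = 0 ∧ sf v z = 0 ∧ sf w z = 0 ∧ w ≠ 0 ∧ z ≠ 0 ∧ w + z ≠ 0 ∧
            v + w ≠ 0 ∧ v + z ≠ 0 ∧ v + (w + z) ≠ 0 := by
        let i₀ : Fin m := ⟨0, hm⟩
        let e₀ : Fin m ⊕ Fin m → F := Pi.single (.inl i₀) 1
        obtain ⟨g, hg⟩ := exists_move (show e₀ ≠ 0 from Pi.single_ne_zero_iff.2 one_ne_zero) hv
        suffices ∃ w z : Fin m ⊕ Fin m → F, sf e₀ w = 0 ∧ sf e₀ z = 0 ∧ sf w z = 0 ∧ w ≠ 0 ∧ z ≠ 0 ∧ w + z ≠ 0 ∧
            e₀ + w ≠ 0 ∧ e₀ + z ≠ 0 ∧ e₀ + (w + z) ≠ 0 by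
          obtain ⟨w, z, a1, a2, a3, a4, a5, a6, a7, a8, a9⟩ := this
          refine ⟨g.1 *ᵥ w, g.1 *ᵥ z, ?_, ?_, ?_, ?_, ?_, ?_, ?_, ?_, ?_⟩ <;>
            (try simp only [← hg, sf_sp, ← Matrix.mulVec_add]) <;>
            first | assumption | (apply sp_mulVec_ne_zero; assumption)
        have hz0 : ∀ i j : Fin m, sf (Pi.single (.inl i) (1 : F)) (Pi.single (.inl j) 1) = 0 := fun i j => by
          rw [sf_single_inl]; simp
        rcases h with h3 | ⟨h2, hF⟩ | h4
        · let i₁ : Fin m := ⟨1, by omega⟩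
          let i₂ : Fin m := ⟨2, by omega⟩
          have d01 : (Sum.inl i₀ : Fin m ⊕ Fin m) ≠ .inl i₁ := by simp [i₀, i₁]
          have d02 : (Sum.inl i₀ : Fin m ⊕ Fin m) ≠ .inl i₂ := by simp [i₀, i₂]
          have d12 : (Sum.inl i₁ : Fin m ⊕ Fin m) ≠ .inl i₂ := by simp [i₁, i₂]
          refine ⟨Pi.single (.inl i₁) 1, Pi.single (.inl i₂) 1, hz0 _ _, hz0 _ _, hz0 _ _,
            Pi.single_ne_zero_iff.2 one_ne_zero, Pi.single_ne_zero_iff.2 one_ne_zero, fun h => ?_, fun h => ?_,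
            fun h => ?_, fun h => ?_⟩
          · simpa [d12] using congrFun h (.inl i₁)
          · simpa [e₀, d01] using congrFun h (.inl i₀)
          · simpa [e₀, d02] using congrFun h (.inl i₀)
          · simpa [e₀, d01, d02] using congrFun h (.inl i₀)
        · let i₁ : Fin m := ⟨1, by omega⟩
          have d01 : (Sum.inl i₀ : Fin m ⊕ Fin m) ≠ .inl i₁ := by simp [i₀, i₁]
          have h20 : (2 : F) ≠ 0 := Ring.two_ne_zero fun hc => by
            have := FiniteField.even_card_of_char_two hc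
            omega
          refine ⟨Pi.single (.inl i₁) 1, Pi.single (.inl i₁) 1, hz0 _ _, hz0 _ _, hz0 _ _,
            Pi.single_ne_zero_iff.2 one_ne_zero, Pi.single_ne_zero_iff.2 one_ne_zero, fun h => h20 ?_, fun h => ?_,
            fun h => ?_, fun h => ?_⟩
          · have := congrFun h (.inl i₁)
            simp at this
            linear_combination this
          · simpa [e₀, d01] using congrFun h (.inl i₀)
          · simpa [e₀, d01] using congrFun h (.inl i₀)
          · simpa [e₀, d01] using congrFun h (.inl i₀)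
        · omega
      have hk : ∀ w : Fin m ⊕ Fin m → F, w ≠ 0 → v + w ≠ 0 →
          π (tv (v + w) (-d) * tv v (- -d) * tv w (- -d)) = π (tv v d) := fun w hw hvw => by
        rw [map_mul, map_mul, hP hvw hv, hP hw hv, neg_neg, ← map_mul, tv_mul, neg_add_cancel, tv_zero, map_one,
          one_mul]
      have hid := congrArg π (tv_pair_eq hvw hvz hwz (-d))
      rw [map_mul, hk w hw hvw', hk z hz hvz', hk (w + z) hwz' hvwz] at hid
      exact mul_eq_left.1 hid
  exact (QuotientGroup.eq_one_iff _).1 (hone c)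

/-! ### The action on root subgroups -/

/-- the root subgroup of a vector -/
def rootSub (v : Fin m ⊕ Fin m → F) : Subgroup (Cfsg.PSp m F) where
  carrier := Set.range (pT v)
  mul_mem' := by rintro _ _ ⟨a, rfl⟩ ⟨b, rfl⟩; exact ⟨a + b, (pT_mul v a b).symm⟩
  one_mem' := ⟨0, by rw [pT, tv_zero, map_one]⟩
  inv_mem' := by
    rintro _ ⟨a, rfl⟩
    exact ⟨-a, eq_inv_of_mul_eq_one_left (by rw [pT_mul, neg_add_cancel, pT, tv_zero, map_one])⟩

theorem conj_rootSub (A : Matrix.symplecticGroup (Fin m) F) (v : Fin m ⊕ Fin m → F) :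
    MulAut.conj (pr A) • rootSub v = rootSub (A.1 *ᵥ v) := by
  ext x
  constructor
  · rintro ⟨_, ⟨c, rfl⟩, rfl⟩
    exact ⟨c, (pT_conj A v c).symm⟩
  · rintro ⟨c, rfl⟩
    exact ⟨pT v c, ⟨c, rfl⟩, pT_conj A v c⟩

/-- the projective points, as root subgroups -/
def RootPt (m : ℕ) (F : Type*) [Field F] : Type _ := {T : Subgroup (Cfsg.PSp m F) // ∃ v : Fin m ⊕ Fin m → F, v ≠ 0 ∧ T = rootSub v}

instance : MulAction (Cfsg.PSp m F) (RootPt m F) where
  smul g T := ⟨MulAut.conj g • T.1, by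
    obtain ⟨A, rfl⟩ := QuotientGroup.mk'_surjective _ g
    obtain ⟨v, hv, hT⟩ := T.2
    exact ⟨A.1 *ᵥ v, sp_mulVec_ne_zero A hv, by rw [hT]; exact conj_rootSub A v⟩⟩
  one_smul T := Subtype.ext (show MulAut.conj (1 : Cfsg.PSp m F) • T.1 = T.1 by rw [map_one, one_smul])
  mul_smul g h T := Subtype.ext (show MulAut.conj (g * h) • T.1 = MulAut.conj g • MulAut.conj h • T.1 by
    rw [map_mul, mul_smul])

/-- the point of a vector -/
def pt (v : Fin m ⊕ Fin m → F) (hv : v ≠ 0) : RootPt m F := ⟨rootSub v, v, hv, rfl⟩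

theorem smul_pt (A : Matrix.symplecticGroup (Fin m) F) (v : Fin m ⊕ Fin m → F) (hv : v ≠ 0) :
    pr A • pt v hv = pt (A.1 *ᵥ v) (sp_mulVec_ne_zero A hv) :=
  Subtype.ext (conj_rootSub A v)

theorem pt_surj (x : RootPt m F) : ∃ v, ∃ hv : v ≠ 0, x = pt v hv := by
  obtain ⟨T, v, hv, rfl⟩ := x
  exact ⟨v, hv, rfl⟩

theorem pt_eq_iff (hm : 2 ≤ m) {v w : Fin m ⊕ Fin m → F} (hv : v ≠ 0) (hw : w ≠ 0) :
    pt v hv = pt w hw ↔ ∃ a : F, v = a • w := by
  constructor
  · intro h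
    obtain ⟨d, hd⟩ : pT v 1 ∈ rootSub w := by
      rw [show rootSub w = rootSub v from congrArg Subtype.val h.symm]
      exact ⟨1, rfl⟩
    exact pT_par hm hv one_ne_zero hd.symm
  · rintro ⟨a, rfl⟩
    have ha : a ≠ 0 := fun h => hv (by rw [h, zero_smul])
    refine Subtype.ext (SetLike.ext fun x => ⟨?_, ?_⟩)
    · rintro ⟨c, rfl⟩
      exact ⟨a * a * c, by rw [pT, pT, tv_smul]⟩
    · rintro ⟨c, rfl⟩
      refine ⟨c / (a * a), ?_⟩
      rw [pT, pT, tv_smul, mul_div_cancel₀ _ (mul_ne_zero ha ha)]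

theorem rootPt_preprimitive (hm : 2 ≤ m) : MulAction.IsPreprimitive (Cfsg.PSp m F) (RootPt m F) := by
  haveI : MulAction.IsPretransitive (Cfsg.PSp m F) (RootPt m F) := ⟨fun x y => by
    obtain ⟨v, hv, rfl⟩ := pt_surj x
    obtain ⟨w, hw, rfl⟩ := pt_surj y
    obtain ⟨A, hA⟩ := exists_move hv hw
    exact ⟨pr A, by rw [smul_pt]; exact Subtype.ext (by simp [pt, hA])⟩⟩
  refine ⟨fun {B} hB => ?_⟩
  rw [MulAction.IsTrivialBlock, or_iff_not_imp_left]
  intro hns
  -- a block that meets its translate is invariant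
  have hinv : ∀ g : Cfsg.PSp m F, ∀ x ∈ B, g • x ∈ B → g • B = B := fun g x hx hgx =>
    (MulAction.isBlock_iff_smul_eq_of_nonempty.1 hB) ⟨g • x, Set.smul_mem_smul_set hx, hgx⟩
  obtain ⟨x, hx, y, hy, hxy⟩ := Set.not_subsingleton_iff.1 hns
  obtain ⟨a, ha, rfl⟩ := pt_surj x
  obtain ⟨b, hb, rfl⟩ := pt_surj y
  -- there is a point of the block non-orthogonal to another
  obtain ⟨a, ha, b, hb, hxa, hxb, hab⟩ : ∃ a, ∃ ha : a ≠ 0, ∃ b, ∃ hb : b ≠ 0,
      pt a ha ∈ B ∧ pt b hb ∈ B ∧ sf a b ≠ 0 := by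
    by_cases hab : sf a b = 0
    · obtain ⟨w, hwb, hwa⟩ : ∃ w, sf w b = 0 ∧ sf w a ≠ 0 := by
        by_contra hc
        push Not at hc
        obtain ⟨k, hk⟩ : ∃ k : F, a = k • b := ⟨_, eq_smul_of_orth hb hc⟩
        exact hxy ((pt_eq_iff hm ha hb).2 ⟨k, hk⟩)
      have hfix : (tv w 1).1 *ᵥ b = b := by rw [tv_mulVec, sf_swap, hwb]; simp
      have hgB := hinv (pr (tv w 1)) _ hy (by
        rw [smul_pt]
        convert hy using 1
        exact Subtype.ext (by simp [pt, hfix]))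
      refine ⟨a, ha, (tv w 1).1 *ᵥ a, sp_mulVec_ne_zero _ ha, hx, ?_, ?_⟩
      · rw [← hgB, ← smul_pt (hv := ha)]
        exact Set.smul_mem_smul_set hx
      · rw [tv_mulVec, sf_add_right, sf_self, zero_add, sf_smul_right, one_mul, sf_swap a w]
        simp [hwa]
    · exact ⟨a, ha, b, hb, hx, hy, hab⟩
  -- then the block contains every point non-orthogonal to one of its points
  have hclose : ∀ a, ∀ ha : a ≠ 0, ∀ b, ∀ hb : b ≠ 0, pt a ha ∈ B → pt b hb ∈ B → sf a b ≠ 0 →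
      ∀ c, ∀ hc : c ≠ 0, sf a c ≠ 0 → pt c hc ∈ B := by
    intro a ha b hb hxa hxb hab c hc hac
    have h1 : Cfsg.sympForm m F a ((sf a b)⁻¹ • b) = 1 := by
      show sf _ _ = 1
      rw [sf_smul_right, inv_mul_cancel₀ hab]
    have h2 : Cfsg.sympForm m F a ((sf a c)⁻¹ • c) = 1 := by
      show sf _ _ = 1
      rw [sf_smul_right, inv_mul_cancel₀ hac]
    obtain ⟨A, -, hA1, hA2⟩ := CfsgLib.Perm.Trans.Symp.exists_pair_move h1 h2
    have hgB := hinv (pr A) _ hxa (by
      rw [smul_pt]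
      convert hxa using 1
      exact Subtype.ext (by simp [pt, hA1]))
    rw [← hgB]
    refine ⟨pt b hb, hxb, ?_⟩
    show pr A • pt b hb = pt c hc
    rw [smul_pt, pt_eq_iff hm]
    refine ⟨sf a b * (sf a c)⁻¹, ?_⟩
    rw [Matrix.mulVec_smul] at hA2
    rw [← smul_smul, ← hA2, smul_inv_smul₀ hab]
  refine Set.eq_univ_of_forall fun z => ?_
  obtain ⟨c, hc, rfl⟩ := pt_surj z
  by_cases hac : sf a c = 0
  · obtain ⟨d, hd1, hd2⟩ : ∃ d, sf a d ≠ 0 ∧ sf c d ≠ 0 := by
      obtain ⟨u, hu⟩ := exists_sf_eq_one hc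
      have hu' : sf c u ≠ 0 := by rw [sf_swap, hu]; simp
      by_cases hau : sf a u = 0
      · by_cases hcb : sf c b = 0
        · exact ⟨u + b, by rw [sf_add_right, hau, zero_add]; exact hab,
            by rw [sf_add_right, hcb, add_zero]; exact hu'⟩
        · exact ⟨b, hab, hcb⟩
      · exact ⟨u, hau, hu'⟩
    have hd0 : d ≠ 0 := fun h => hd1 (by rw [h]; simp [Cfsg.sympForm])
    exact hclose d hd0 a ha (hclose a ha b hb hxa hxb hab d hd0 hd1) hxa
      (by rw [sf_swap]; exact neg_ne_zero.2 hd1) c hc (by rw [sf_swap]; exact neg_ne_zero.2 hd2)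
  · exact hclose a ha b hb hxa hxb hab c hc hac

theorem psp_isSimple [Fintype F] (hm : 2 ≤ m) (h : m = 2 → 3 ≤ Fintype.card F) :
    IsSimpleGroup (Cfsg.PSp m F) := by
  classical
  have hperf : commutator (Cfsg.PSp m F) = ⊤ := by
    have hc := commutator_symplectic (F := F) (m := m) (by
      rcases Nat.lt_or_ge m 3 with h3 | h3
      · exact Or.inr (Or.inl ⟨by omega, h (by omega)⟩)
      · exact Or.inl h3)
    rw [commutator_def, ← Subgroup.map_top_of_surjective (pr (m := m) (F := F)) (QuotientGroup.mk'_surjective _),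
      ← Subgroup.map_commutator, ← commutator_def, hc]
  obtain ⟨e₀, he₀⟩ : ∃ v : Fin m ⊕ Fin m → F, v ≠ 0 :=
    ⟨Pi.single (.inl ⟨0, by omega⟩) 1, Pi.single_ne_zero_iff.2 one_ne_zero⟩
  haveI : Nontrivial (Cfsg.PSp m F) := ⟨⟨pT e₀ 1, 1, pT_ne_one hm he₀ one_ne_zero⟩⟩
  haveI := rootPt_preprimitive (F := F) hm
  let I : MulAction.IwasawaStructure (Cfsg.PSp m F) (RootPt m F) :=
    { T := fun x => x.1
      is_comm := fun x => by
        obtain ⟨v, hv, rfl⟩ := pt_surj x
        refine ⟨⟨fun a b => Subtype.ext ?_⟩⟩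
        obtain ⟨_, c, rfl⟩ := a
        obtain ⟨_, d, rfl⟩ := b
        show pT v c * pT v d = pT v d * pT v c
        rw [pT_mul, pT_mul, add_comm]
      is_conj := fun g x => rfl
      is_generator := by
        rw [eq_top_iff, ← Subgroup.map_top_of_surjective (pr (m := m) (F := F)) (QuotientGroup.mk'_surjective _),
          ← CfsgLib.Perm.Trans.Symp.closure_tvSet, MonoidHom.map_closure, Subgroup.closure_le]
        rintro _ ⟨A, ⟨v, c, hA⟩, rfl⟩
        rw [show A = tv v c from Subtype.ext hA]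
        rcases eq_or_ne v 0 with rfl | hv
        · rw [show tv (0 : Fin m ⊕ Fin m → F) c = 1 from sp_ext_vec fun x => by simp [tv_mulVec], map_one]
          exact one_mem _
        · exact Subgroup.mem_iSup_of_mem (pt v hv) ⟨c, rfl⟩ }
  refine I.isSimpleGroup hperf ⟨fun {g h} e => ?_⟩
  obtain ⟨A, rfl⟩ := QuotientGroup.mk'_surjective _ g
  obtain ⟨B, rfl⟩ := QuotientGroup.mk'_surjective _ h
  have key : ∀ v, v ≠ 0 → ∃ c : F, (B⁻¹ * A).1 *ᵥ v = c • v := fun v hv => by
    have h1 := e (pt v hv)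
    have h2 : pr (B⁻¹ * A) • pt v hv = pt v hv := by
      rw [map_mul, mul_smul, map_inv, inv_smul_eq_iff]; exact h1
    rw [smul_pt, pt_eq_iff hm] at h2
    exact h2
  obtain ⟨c, hc⟩ := eq_smul_of_forall_eigen (f := Matrix.toLin' (B⁻¹ * A).1) (by omega) fun v => by
    rcases eq_or_ne v 0 with rfl | hv
    · exact ⟨0, by simp⟩
    · rw [Matrix.toLin'_apply]; exact key v hv
  refine ((QuotientGroup.mk'_eq_mk' _).2 ⟨B⁻¹ * A, Subgroup.mem_center_iff.2 fun X => ?_, by group⟩).symm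
  refine sp_ext_vec fun x => ?_
  have hc' : ∀ y, (B⁻¹ * A).1 *ᵥ y = c • y := fun y => by rw [← Matrix.toLin'_apply, hc]
  rw [sp_mul_mulVec X, sp_mul_mulVec (B⁻¹ * A) X, hc', hc', Matrix.mulVec_smul]

end CfsgLib.Classical
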