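import Cfsg.Agent.Lib.Classical.SympCount
import Cfsg.Prelude.Def_ClassicalGeometry

/-!
# The stabiliser of a non-degenerate subspace in the symplectic group
-/

set_option autoImplicit false

namespace CfsgLib.Classical.SympSplit

open Matrix Module CfsgLib.Sp CfsgLib.Classical.SympCount

variable {F : Type*} [Field F]

/-- A non-degenerate alternating space has a basis with Gram matrix `J`. -/
theorem exists_basis_J {V : Type*} [AddCommGroup V] [Module F V] [FiniteDimensional F V]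
    (B : LinearMap.BilinForm F V) (hA : B.IsAlt) (hB : ∀ u, (∀ v, B u v = 0) → u = 0) {k : ℕ}
    (hV : finrank F V = 2 * k) :
    ∃ b : Basis (Fin k ⊕ Fin k) F V, ∀ i j, B (b i) (b j) = Matrix.J (Fin k) F i j := by
  classical
  obtain ⟨n, r, b, hb1, hb2, hb3, hb4⟩ := Alt.exists_sympBasis _ rfl B hA
  have hr : r = 0 := by
    by_contra hr
    exact b.ne_zero (Sum.inr ⟨0, Nat.pos_of_ne_zero hr⟩) (hB _ (hb4 _))
  have hn : n = k := by
    have := Module.finrank_eq_card_basis b
    simp [hV, hr] at this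
    omega
  subst hr; subst hn
  refine ⟨b.reindex ((Equiv.sumEmpty (Fin n ⊕ Fin n) (Fin 0)).trans (Equiv.sumComm (Fin n) (Fin n))), ?_⟩
  rintro (i | i) (j | j) <;> simp [Matrix.J, hb2, hb3]
  · rw [Alt.swap hA, hb1]
    by_cases h : i = j
    · subst h; simp
    · simp [Matrix.one_apply, h, Ne.symm h]
  · rw [hb1, Matrix.one_apply]

variable (m : ℕ) (F) in
/-- An adapted coordinate system. -/
structure Split (k r : ℕ) (W : Submodule F (Fin m ⊕ Fin m → F)) where
  c : Basis ((Fin k ⊕ Fin k) ⊕ (Fin r ⊕ Fin r)) F (Fin m ⊕ Fin m → F)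
  gram : ∀ u v, sf (c.equivFun.symm u) (c.equivFun.symm v) =
    u ⬝ᵥ (fromBlocks (Matrix.J (Fin k) F) 0 0 (Matrix.J (Fin r) F) *ᵥ v)
  mem_iff : ∀ v, v ∈ W ↔ ∀ i, c.equivFun v (Sum.inr i) = 0

variable {m : ℕ}

local notation "Vm" => Fin m ⊕ Fin m → F
local notation "Spm" => Matrix.symplecticGroup (Fin m) F

theorem exists_split (k : ℕ) (hk : k ≤ m) (W : Submodule F Vm) (hWk : finrank F W = 2 * k)
    (hW : ∀ u ∈ W, (∀ v ∈ W, sf u v = 0) → u = 0) : Nonempty (Split F m k (m - k) W) := by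
  classical
  set B := sB m F
  set P := B.orthogonal W
  have hd : Disjoint W P := by
    rw [Submodule.disjoint_def]
    intro x hx hxP
    refine hW x hx fun v hv => ?_
    rw [sf_swap, show sf v x = 0 from LinearMap.BilinForm.mem_orthogonal_iff.1 hxP v hv, neg_zero]
  have hPdim : finrank F P = 2 * (m - k) := by
    rw [LinearMap.BilinForm.finrank_orthogonal sB_nondegenerate, hWk]
    simp; omega
  have hc : IsCompl W P := ⟨hd, codisjoint_iff.2 (Submodule.eq_top_of_finrank_eq (by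
    have := Submodule.finrank_sup_add_finrank_inf_eq W P
    rw [hd.eq_bot, finrank_bot, hWk, hPdim] at this
    simp; omega))⟩
  obtain ⟨bW, hbW⟩ := exists_basis_J (B.compl₁₂ W.subtype W.subtype) (fun w => sf_self _)
    (fun u hu => Subtype.ext (hW u u.2 fun v hv => hu ⟨v, hv⟩)) hWk
  obtain ⟨bP, hbP⟩ := exists_basis_J (B.compl₁₂ P.subtype P.subtype) (fun w => sf_self _) (by
    intro u hu
    refine Subtype.ext (eq_zero_of_sf fun z => ?_)
    obtain ⟨w, hw, p, hp, rfl⟩ : ∃ w ∈ W, ∃ p ∈ P, w + p = z :=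
      Submodule.mem_sup.1 (hc.sup_eq_top.symm ▸ Submodule.mem_top : z ∈ W ⊔ P)
    rw [sf_add_right, sf_swap, show sf w (u : Vm) = 0 from LinearMap.BilinForm.mem_orthogonal_iff.1 u.2 w hw,
      neg_zero, zero_add]
    exact hu ⟨p, hp⟩) hPdim
  let c := (bW.prod bP).map (Submodule.prodEquivOfIsCompl W P hc)
  have c1 : ∀ i, c (Sum.inl i) = (bW i : Vm) := fun i => by simp [c]
  have c2 : ∀ i, c (Sum.inr i) = (bP i : Vm) := fun i => by simp [c]
  refine ⟨⟨c, ?_, ?_⟩⟩
  · intro u v
    have hG : ∀ a b, sf (c a) (c b) = fromBlocks (Matrix.J (Fin k) F) 0 0 (Matrix.J (Fin (m - k)) F) a b := by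
      rintro (i | i) (j | j)
      · simpa [c1, B, sB_apply] using hbW i j
      · rw [c1, c2, fromBlocks_apply₁₂, Matrix.zero_apply]
        exact LinearMap.BilinForm.mem_orthogonal_iff.1 (bP j).2 _ (bW i).2
      · rw [c1, c2, fromBlocks_apply₂₁, Matrix.zero_apply, sf_swap,
          show sf (bW j : Vm) (bP i : Vm) = 0 from LinearMap.BilinForm.mem_orthogonal_iff.1 (bP i).2 _ (bW j).2,
          neg_zero]
      · simpa [c2, B, sB_apply] using hbP i j
    rw [← sB_apply, Basis.equivFun_symm_apply, Basis.equivFun_symm_apply, map_sum]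
    simp only [map_sum, LinearMap.sum_apply, map_smul, LinearMap.smul_apply, sB_apply, hG, smul_eq_mul, dotProduct, Matrix.mulVec,
      Finset.mul_sum]
    rw [Finset.sum_comm]
    refine Finset.sum_congr rfl fun i _ => Finset.sum_congr rfl fun j _ => by ring
  · intro v
    obtain ⟨⟨w, p⟩, rfl⟩ := (Submodule.prodEquivOfIsCompl W P hc).surjective v
    have he : ∀ i, c.equivFun (Submodule.prodEquivOfIsCompl W P hc (w, p)) (Sum.inr i) = bP.repr p i := fun i => by
      simp [c, -Submodule.coe_prodEquivOfIsCompl']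
    simp only [he]
    constructor
    · intro h i
      have hp : (p : Vm) ∈ W := by
        have := W.sub_mem h w.2
        simpa [Submodule.coe_prodEquivOfIsCompl'] using this
      have hp0 : p = 0 := Subtype.ext (Submodule.disjoint_def.1 hd _ hp p.2)
      simp [hp0]
    · intro h
      have hp0 : p = 0 := bP.repr.injective (Finsupp.ext fun i => by simp [h i])
      rw [hp0, Submodule.coe_prodEquivOfIsCompl']
      simp

variable {k r : ℕ} {W : Submodule F (Fin m ⊕ Fin m → F)}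

/-- The endomorphism given by a block matrix. -/
noncomputable def Split.mat (S : Split F m k r W)
    (M : Matrix ((Fin k ⊕ Fin k) ⊕ (Fin r ⊕ Fin r)) ((Fin k ⊕ Fin k) ⊕ (Fin r ⊕ Fin r)) F) :
    Matrix (Fin m ⊕ Fin m) (Fin m ⊕ Fin m) F :=
  LinearMap.toMatrix' ((S.c.equivFun.symm.toLinearMap.comp (Matrix.toLin' M)).comp S.c.equivFun.toLinearMap)

theorem Split.mat_mulVec (S : Split F m k r W)
    (M : Matrix ((Fin k ⊕ Fin k) ⊕ (Fin r ⊕ Fin r)) ((Fin k ⊕ Fin k) ⊕ (Fin r ⊕ Fin r)) F) (v : Vm) :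
    S.mat M *ᵥ v = S.c.equivFun.symm (M *ᵥ S.c.equivFun v) := by
  rw [Split.mat, LinearMap.toMatrix'_mulVec]
  simp [Matrix.toLin'_apply]

theorem dot_mulVec_congr {ι : Type*} [Fintype ι] [DecidableEq ι] (M G : Matrix ι ι F) (u v : ι → F) :
    (M *ᵥ u) ⬝ᵥ (G *ᵥ (M *ᵥ v)) = u ⬝ᵥ ((Mᵀ * G * M) *ᵥ v) := by
  rw [← Matrix.mulVec_mulVec, ← Matrix.mulVec_mulVec, Matrix.dotProduct_mulVec u Mᵀ, Matrix.vecMul_transpose]

/-- The embedding of the product. -/
noncomputable def Split.hom (S : Split F m k r W) :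
    Matrix.symplecticGroup (Fin k) F × Matrix.symplecticGroup (Fin r) F →* Spm where
  toFun p := ⟨S.mat (fromBlocks p.1.1 0 0 p.2.1), mem_sp_iff.2 fun u v => by
    rw [S.mat_mulVec, S.mat_mulVec, S.gram, dot_mulVec_congr, fromBlocks_transpose, fromBlocks_multiply,
      fromBlocks_multiply]
    simp only [Matrix.mul_zero, Matrix.zero_mul, add_zero, zero_add, Matrix.transpose_zero,
      SymplecticGroup.mem_iff'.1 p.1.2, SymplecticGroup.mem_iff'.1 p.2.2]
    rw [← S.gram, LinearEquiv.symm_apply_apply, LinearEquiv.symm_apply_apply]⟩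
  map_one' := Subtype.ext (Matrix.ext_iff_mulVec.2 fun v => by
    simp [S.mat_mulVec, fromBlocks_one])
  map_mul' p q := sp_ext_vec fun v => by
    rw [sp_mul_mulVec]
    simp only [S.mat_mulVec, LinearEquiv.apply_symm_apply, Matrix.mulVec_mulVec, fromBlocks_multiply]
    simp

theorem Split.hom_mulVec (S : Split F m k r W)
    (p : Matrix.symplecticGroup (Fin k) F × Matrix.symplecticGroup (Fin r) F) (v : Vm) :
    (S.hom p).1 *ᵥ v = S.c.equivFun.symm (fromBlocks p.1.1 0 0 p.2.1 *ᵥ S.c.equivFun v) := S.mat_mulVec _ v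

theorem Split.hom_injective (S : Split F m k r W) : Function.Injective S.hom := by
  intro p q h
  have hM : fromBlocks p.1.1 0 0 p.2.1 = fromBlocks q.1.1 0 0 q.2.1 := Matrix.ext_iff_mulVec.2 fun u => by
    have h' := congrArg (fun A : Spm => A.1 *ᵥ S.c.equivFun.symm u) h
    simp only [S.hom_mulVec, LinearEquiv.apply_symm_apply] at h'
    exact S.c.equivFun.symm.injective h'
  exact Prod.ext (Subtype.ext (congrArg toBlocks₁₁ hM)) (Subtype.ext (congrArg toBlocks₂₂ hM))

theorem Split.hom_range (S : Split F m k r W) :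
    S.hom.range = Cfsg.stabilizing (Cfsg.spToMat m F) (W : Set Vm) := by
  classical
  refine le_antisymm ?_ fun A hA => ?_
  · rintro _ ⟨p, rfl⟩
    have key : ∀ p, ∀ v ∈ W, (S.hom p).1 *ᵥ v ∈ W := by
      intro p v hv
      rw [S.hom_mulVec, S.mem_iff]
      intro i
      rw [LinearEquiv.apply_symm_apply, Matrix.fromBlocks_mulVec, Sum.elim_inr]
      have hz : ⇑(S.c.repr v) ∘ Sum.inr = 0 := funext fun i => (S.mem_iff v).1 hv i
      simp [hz]
    intro v
    refine ⟨key p v, fun hv => ?_⟩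
    have := key p⁻¹ _ hv
    change (S.hom p⁻¹).1 *ᵥ ((S.hom p).1 *ᵥ v) ∈ W at this
    rwa [map_inv, sp_inv_mulVec] at this
  · set T := (S.c.equivFun.toLinearMap.comp (Matrix.toLin' A.1)).comp S.c.equivFun.symm.toLinearMap
    set M := LinearMap.toMatrix' T with hM
    have hMv : ∀ u, M *ᵥ u = S.c.equivFun (A.1 *ᵥ S.c.equivFun.symm u) := fun u => by
      rw [hM, LinearMap.toMatrix'_mulVec]
      simp [T, Matrix.toLin'_apply]
    set G := fromBlocks (Matrix.J (Fin k) F) 0 0 (Matrix.J (Fin r) F) with hG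
    have hMG : Mᵀ * G * M = G := by
      ext i j
      have h := sf_sp A (S.c.equivFun.symm (Pi.single i 1)) (S.c.equivFun.symm (Pi.single j 1))
      rw [← LinearEquiv.symm_apply_apply S.c.equivFun (A.1 *ᵥ _),
        ← LinearEquiv.symm_apply_apply S.c.equivFun (A.1 *ᵥ S.c.equivFun.symm (Pi.single j 1)), ← hMv, ← hMv,
        S.gram, S.gram, ← hG, dot_mulVec_congr] at h
      simpa using h
    have h21 : M.toBlocks₂₁ = 0 := by
      ext i j
      have hw : S.c.equivFun.symm (Pi.single (Sum.inl j) 1) ∈ W := by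
        rw [S.mem_iff]; intro i; rw [LinearEquiv.apply_symm_apply]; simp
      have h := (S.mem_iff _).1 ((hA _).1 hw) i
      change S.c.equivFun (A.1 *ᵥ _) (Sum.inr i) = 0 at h
      rw [← hMv] at h
      simpa [Matrix.toBlocks₂₁] using h
    set P := M.toBlocks₁₁
    set R := M.toBlocks₁₂
    set Q := M.toBlocks₂₂
    have hMb : M = fromBlocks P R 0 Q := by rw [← h21]; exact (fromBlocks_toBlocks M).symm
    rw [hMb, hG, fromBlocks_transpose, fromBlocks_multiply, fromBlocks_multiply, fromBlocks_inj] at hMG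
    simp only [Matrix.mul_zero, Matrix.zero_mul, add_zero, zero_add, Matrix.transpose_zero] at hMG
    obtain ⟨h1, h2, -, h4⟩ := hMG
    have hP : P ∈ Matrix.symplecticGroup (Fin k) F := SymplecticGroup.mem_iff'.2 h1
    have hR : R = 0 := by
      have hu : IsUnit (Pᵀ * Matrix.J (Fin k) F) := by
        rw [Matrix.isUnit_iff_isUnit_det, Matrix.det_mul, Matrix.det_transpose]
        exact (SymplecticGroup.symplectic_det hP).mul (Matrix.isUnit_det_J (Fin k) F)
      obtain ⟨U, hU⟩ := hu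
      rw [← hU] at h2
      calc R = (U⁻¹ : _).val * (U.val * R) := by rw [← Matrix.mul_assoc, Units.inv_mul, Matrix.one_mul]
        _ = 0 := by rw [h2, Matrix.mul_zero]
    rw [hR] at h4 hMb
    simp only [Matrix.transpose_zero, Matrix.zero_mul, zero_add] at h4
    have hQ : Q ∈ Matrix.symplecticGroup (Fin r) F := SymplecticGroup.mem_iff'.2 h4
    refine ⟨(⟨P, hP⟩, ⟨Q, hQ⟩), sp_ext_vec fun v => ?_⟩
    rw [S.hom_mulVec]
    change S.c.equivFun.symm (fromBlocks P 0 0 Q *ᵥ S.c.equivFun v) = A.1 *ᵥ v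
    rw [← hMb, hMv, LinearEquiv.symm_apply_apply, LinearEquiv.symm_apply_apply]

theorem stab_equiv_prod (k : ℕ) (hk : k ≤ m) (W : Submodule F Vm) (hWk : finrank F W = 2 * k)
    (hW : ∀ u ∈ W, (∀ v ∈ W, sf u v = 0) → u = 0) :
    Nonempty (↥(Cfsg.stabilizing (Cfsg.spToMat m F) (W : Set Vm)) ≃*
      Matrix.symplecticGroup (Fin k) F × Matrix.symplecticGroup (Fin (m - k)) F) := by
  obtain ⟨S⟩ := exists_split k hk W hWk hW
  exact ⟨((MonoidHom.ofInjective S.hom_injective).trans (MulEquiv.subgroupCongr S.hom_range)).symm⟩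

end CfsgLib.Classical.SympSplit
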