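import Mathlib
import Cfsg.Agent.Lib.GLClass.Unipotent

/-!
Frobenius orbits on the eigenvalues of a matrix over a finite field, and lower bounds for the size of the
matrix in terms of the multiplicative orders of `q` modulo the primes dividing its order.
-/

set_option autoImplicit false

namespace CfsgLib.Classical.RootOrbits

open Polynomial Matrix

variable {F : Type*} [Field F] {ι : Type*} [Fintype ι] [DecidableEq ι]

/-- Eigenvalues in an algebraic closure, with multiplicity. -/
noncomputable def eig (M : Matrix ι ι F) : Multiset (AlgebraicClosure F) :=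
  (M.map (algebraMap F (AlgebraicClosure F))).charpoly.roots

local notation "K" => AlgebraicClosure F

theorem card_eig (M : Matrix ι ι F) : (eig M).card = Fintype.card ι := by
  rw [eig, ← (IsAlgClosed.splits _).natDegree_eq_card_roots, Matrix.charpoly_natDegree_eq_dim]

theorem prod_eig (M : Matrix ι ι F) : algebraMap F K M.det = (eig M).prod := by
  rw [eig, ← Matrix.det_eq_prod_roots_charpoly, ← RingHom.mapMatrix_apply, ← RingHom.map_det]

theorem aeval_eig (M : Matrix ι ι F) :
    aeval (M.map (algebraMap F K)) ((eig M).map fun a => X - C a).prod = 0 := by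
  rw [eig, ← (IsAlgClosed.splits (M.map (algebraMap F K)).charpoly).eq_prod_roots_of_monic (Matrix.charpoly_monic _),
    Matrix.aeval_self_charpoly]

theorem pow_of_mem (M : Matrix ι ι F) {N : ℕ} (hM : M ^ N = 1) {a : K} (ha : a ∈ eig M) : a ^ N = 1 := by
  have hr : Module.End.HasEigenvalue (Matrix.toLinAlgEquiv' (M.map (algebraMap F K)) : Module.End K (ι → K)) a := by
    rw [Module.End.hasEigenvalue_iff_isRoot_charpoly]
    have : LinearMap.charpoly (Matrix.toLinAlgEquiv' (M.map (algebraMap F K)) : Module.End K (ι → K)) =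
        (M.map (algebraMap F K)).charpoly := Matrix.charpoly_toLin' _
    rw [this]
    exact Polynomial.isRoot_of_mem_roots ha
  obtain ⟨v, hv⟩ := hr.exists_hasEigenvector
  have h1 := hv.pow_apply N
  rw [← map_pow, ← RingHom.mapMatrix_apply, ← map_pow, hM, map_one, map_one, Module.End.one_apply] at h1
  exact (smul_left_injective K hv.2 (show (1 : K) • v = a ^ N • v by rw [one_smul]; exact h1)).symm

theorem ne_zero_of_mem (M : Matrix ι ι F) {N : ℕ} (hN : 0 < N) (hM : M ^ N = 1) {a : K} (ha : a ∈ eig M) : a ≠ 0 := by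
  intro h
  have := pow_of_mem M hM ha
  rw [h, zero_pow hN.ne'] at this
  exact zero_ne_one this

theorem pow_eq_one_of_dvd (M : Matrix ι ι F) {N : ℕ} {h : K[X]} (hd : ((eig M).map fun a => X - C a).prod ∣ h)
    (he : aeval (M.map (algebraMap F K)) h = (M ^ N).map (algebraMap F K) - 1) : M ^ N = 1 := by
  have h0 := aeval_eq_zero_of_dvd_aeval_eq_zero hd (aeval_eig M)
  rw [he, sub_eq_zero] at h0
  exact Matrix.map_injective (algebraMap F K).injective (h0.trans (Matrix.map_one _ (map_zero _) (map_one _)).symm)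

theorem prod_dvd_pow {S : Multiset K} {h : K[X]} (hS : ∀ a ∈ S, h.IsRoot a) :
    (S.map fun a => X - C a).prod ∣ h ^ S.card := by
  induction S using Multiset.induction with
  | empty => simp
  | cons a S ih =>
    rw [Multiset.map_cons, Multiset.prod_cons, Multiset.card_cons, pow_succ']
    exact mul_dvd_mul (dvd_iff_isRoot.2 (hS a (Multiset.mem_cons_self a S)))
      (ih fun b hb => hS b (Multiset.mem_cons_of_mem hb))

theorem aeval_X_pow_sub_one (M : Matrix ι ι F) (N : ℕ) :
    aeval (M.map (algebraMap F K)) ((X : K[X]) ^ N - 1) = (M ^ N).map (algebraMap F K) - 1 := by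
  rw [map_sub, map_pow, aeval_X, map_one, ← RingHom.mapMatrix_apply, ← map_pow, RingHom.mapMatrix_apply]

/-- If all eigenvalues are `N`-th roots of unity then so is the semisimple part. -/
theorem pow_prime_pow_mul (p : ℕ) [Fact p.Prime] [CharP F p] (M : Matrix ι ι F) {N : ℕ}
    (h : ∀ a ∈ eig M, a ^ N = 1) : ∃ e, M ^ (N * p ^ e) = 1 := by
  haveI : CharP K p := charP_of_injective_algebraMap (algebraMap F K).injective p
  refine ⟨(eig M).card, pow_eq_one_of_dvd M (N := N * p ^ (eig M).card) (h := (X ^ N - 1 : K[X]) ^ p ^ (eig M).card) ?_ ?_⟩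
  · refine (prod_dvd_pow fun a ha => ?_).trans (pow_dvd_pow _ (Nat.lt_pow_self (Fact.out : p.Prime).one_lt).le)
    simp [h a ha]
  · rw [sub_pow_char_pow, one_pow, ← pow_mul, aeval_X_pow_sub_one]

theorem exists_order_dvd (p : ℕ) [Fact p.Prime] [CharP F p] (M : Matrix ι ι F) {r : ℕ} (hr : r.Prime)
    (hrp : r ≠ p) (hM : 0 < orderOf M) (hdvd : r ∣ orderOf M) : ∃ a ∈ eig M, r ∣ orderOf a := by
  by_contra hcon
  push Not at hcon
  obtain ⟨e, N, hN, hNe⟩ := Nat.exists_eq_pow_mul_and_not_dvd hM.ne' r hr.ne_one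
  have h : ∀ a ∈ eig M, a ^ N = 1 := fun a ha => by
    rw [← orderOf_dvd_iff_pow_eq_one]
    have h1 : orderOf a ∣ r ^ e * N := hNe ▸ orderOf_dvd_of_pow_eq_one (pow_of_mem M (pow_orderOf_eq_one M) ha)
    exact ((hr.coprime_iff_not_dvd.2 (hcon a ha)).symm.pow_right e).dvd_of_dvd_mul_left h1
  obtain ⟨c, hc⟩ := pow_prime_pow_mul p M h
  have := hdvd.trans (orderOf_dvd_of_pow_eq_one hc)
  rcases hr.dvd_mul.1 this with h | h
  · exact hN h
  · exact hrp ((Nat.prime_dvd_prime_iff_eq hr Fact.out).1 (hr.dvd_of_dvd_pow h))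

theorem exists_double (p : ℕ) [Fact p.Prime] [CharP F p] [DecidableEq K] (M : Matrix ι ι F) (hM : 0 < orderOf M)
    (hdvd : p ∣ orderOf M) : ∃ a ∈ eig M, 2 ≤ (eig M).count a := by
  by_contra hcon
  push Not at hcon
  haveI : CharP K p := charP_of_injective_algebraMap (algebraMap F K).injective p
  have hnd : (eig M).Nodup := Multiset.nodup_iff_count_le_one.2 fun a => by
    by_cases ha : a ∈ eig M
    · exact Nat.lt_succ_iff.1 (hcon a ha)
    · simp [Multiset.count_eq_zero_of_notMem ha]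
  obtain ⟨e, N, hN, hNe⟩ := Nat.exists_eq_pow_mul_and_not_dvd hM.ne' p (Fact.out : p.Prime).ne_one
  have h : ∀ a ∈ eig M, a ^ N = 1 := fun a ha => by
    have h1 := pow_of_mem M (pow_orderOf_eq_one M) ha
    rw [hNe, mul_comm, pow_mul] at h1
    have h2 : (a ^ N - 1) ^ p ^ e = 0 := by rw [sub_pow_char_pow, one_pow, h1, sub_self]
    exact sub_eq_zero.1 (pow_eq_zero_iff (pow_ne_zero _ (Fact.out : p.Prime).ne_zero) |>.1 h2)
  have hd : ((eig M).map fun a => X - C a).prod ∣ ((X : K[X]) ^ N - 1) := by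
    have key : ∀ S : Multiset K, S.Nodup → (∀ a ∈ S, a ^ N = 1) → (S.map fun a => X - C a).prod ∣ ((X : K[X]) ^ N - 1) := by
      intro S hS hr
      induction S using Multiset.induction with
      | empty => simp
      | cons a S ih =>
        rw [Multiset.nodup_cons] at hS
        rw [Multiset.map_cons, Multiset.prod_cons]
        refine IsCoprime.mul_dvd ?_ (dvd_iff_isRoot.2 (by simp [hr a (Multiset.mem_cons_self a S)]))
          (ih hS.2 fun b hb => hr b (Multiset.mem_cons_of_mem hb))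
        clear ih
        have hne : ∀ b ∈ S, a ≠ b := fun b hb h => hS.1 (h ▸ hb)
        clear hS hr
        induction S using Multiset.induction with
        | empty => simpa using isCoprime_one_right
        | cons b S ih =>
          rw [Multiset.map_cons, Multiset.prod_cons]
          exact (isCoprime_X_sub_C_of_isUnit_sub (isUnit_iff_ne_zero.2
            (sub_ne_zero.2 (hne b (Multiset.mem_cons_self b S))))).mul_right
            (ih fun c hc => hne c (Multiset.mem_cons_of_mem hc))
    exact key _ hnd h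
  have := hdvd.trans (orderOf_dvd_of_pow_eq_one (pow_eq_one_of_dvd M hd (aeval_X_pow_sub_one M N)))
  exact hN this

section finite

variable [Fintype F]

local notation "q" => Fintype.card F

/-- Conjugate over the ground field. -/
def Conj (a b : K) : Prop := ∃ i, b = a ^ q ^ i

/-- Conjugate up to inversion. -/
def Conj' (a b : K) : Prop := ∃ i, b = a ^ q ^ i ∨ b = (a ^ q ^ i)⁻¹

theorem frob_injective : Function.Injective fun a : K => a ^ q := by
  obtain ⟨p, hp⟩ := CharP.exists F
  obtain ⟨f, hp', hf⟩ := FiniteField.card F p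
  haveI := Fact.mk hp'
  haveI : CharP K p := charP_of_injective_algebraMap (algebraMap F K).injective p
  intro a b h
  exact (iterateFrobenius K p f).injective (by simp only [iterateFrobenius_def, ← hf]; exact h)

theorem eig_frob (M : Matrix ι ι F) : (eig M).map (fun a => a ^ q) = eig M := by
  obtain ⟨p, hp⟩ := CharP.exists F
  obtain ⟨f, hp', hf⟩ := FiniteField.card F p
  haveI := Fact.mk hp'
  haveI : CharP K p := charP_of_injective_algebraMap (algebraMap F K).injective p
  have hfun : (fun a : K => a ^ q) = iterateFrobenius K p f := funext fun a => by rw [iterateFrobenius_def, hf]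
  rw [hfun, eig, ← (IsAlgClosed.splits _).roots_map, Matrix.charpoly_map, Polynomial.map_map]
  congr 2
  refine RingHom.ext fun x => ?_
  rw [RingHom.comp_apply, iterateFrobenius_def, ← map_pow, ← hf, FiniteField.pow_card]

theorem count_frob [DecidableEq K] (M : Matrix ι ι F) (a : K) (i : ℕ) : (eig M).count (a ^ q ^ i) = (eig M).count a := by
  induction i with
  | zero => simp
  | succ i ih =>
    rw [pow_succ, pow_mul, ← ih]
    conv_lhs => rw [← eig_frob M]
    exact Multiset.count_map_eq_count' _ _ frob_injective _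

theorem mem_frob (M : Matrix ι ι F) {a : K} (ha : a ∈ eig M) (i : ℕ) : a ^ q ^ i ∈ eig M := by
  classical
  rw [← Multiset.count_pos] at ha ⊢
  rwa [count_frob]

theorem frob_periodic (M : Matrix ι ι F) {a : K} (ha : a ∈ eig M) : ∃ P, 0 < P ∧ a ^ q ^ P = a := by
  classical
  obtain ⟨i, j, hne, hij⟩ := Finite.exists_ne_map_eq_of_infinite
    (fun i : ℕ => (⟨a ^ q ^ i, Multiset.mem_toFinset.2 (mem_frob M ha i)⟩ : (eig M).toFinset))
  rw [Subtype.mk.injEq] at hij
  wlog h : i < j generalizing i j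
  · exact this j i hne.symm hij.symm (by omega)
  refine ⟨j - i, by omega, ?_⟩
  have hinj : Function.Injective fun b : K => b ^ q ^ i := by
    have : (fun b : K => b ^ q ^ i) = (fun b : K => b ^ q)^[i] := by
      clear hij h hne
      induction i with
      | zero => funext b; simp
      | succ i ih =>
        funext b
        rw [Function.iterate_succ_apply', ← ih, ← pow_mul, ← pow_succ]
    rw [this]
    exact frob_injective.iterate i
  refine hinj (?_ : (a ^ q ^ (j - i)) ^ q ^ i = a ^ q ^ i)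
  rw [← pow_mul, ← pow_add, Nat.sub_add_cancel h.le, hij]

theorem Conj.refl (a : K) : Conj a a := ⟨0, by simp⟩

theorem Conj.trans {a b c : K} (h : Conj a b) (h' : Conj b c) : Conj a c := by
  obtain ⟨i, rfl⟩ := h; obtain ⟨j, rfl⟩ := h'
  exact ⟨i + j, by rw [← pow_mul, ← pow_add]⟩

theorem Conj.symm (M : Matrix ι ι F) {a b : K} (ha : a ∈ eig M) (h : Conj a b) : Conj b a := by
  obtain ⟨i, rfl⟩ := h
  obtain ⟨P, hP, hPa⟩ := frob_periodic M ha
  have hk : ∀ k, a ^ q ^ (P * k) = a := fun k => by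
    induction k with
    | zero => simp
    | succ k ih => rw [Nat.mul_succ, pow_add, pow_mul, ih, hPa]
  refine ⟨P * i - i, ?_⟩
  rw [← pow_mul, ← pow_add, Nat.add_sub_cancel' (Nat.le_mul_of_pos_left i hP), hk]

theorem Conj'.symm (M : Matrix ι ι F) {a b : K} (ha : a ∈ eig M) (h : Conj' a b) : Conj' b a := by
  obtain ⟨i, h | h⟩ := h
  · obtain ⟨j, hj⟩ := Conj.symm M ha ⟨i, h⟩
    exact ⟨j, Or.inl hj⟩
  · obtain ⟨j, hj⟩ := Conj.symm M ha ⟨i, rfl⟩
    exact ⟨j, Or.inr (by rw [h, inv_pow, inv_inv]; exact hj)⟩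

theorem Conj'.trans {a b c : K} (h : Conj' a b) (h' : Conj' b c) : Conj' a c := by
  obtain ⟨i, h⟩ := h; obtain ⟨j, h'⟩ := h'
  refine ⟨i + j, ?_⟩
  rcases h with rfl | rfl <;> rcases h' with rfl | rfl <;> simp [inv_pow, ← pow_mul, ← pow_add]

theorem coprime_orderOf (M : Matrix ι ι F) {a : K} (ha : a ∈ eig M) (ha0 : a ≠ 0) (i : ℕ) :
    (orderOf a).Coprime (q ^ i) := by
  obtain ⟨P, hP, hPa⟩ := frob_periodic M ha
  have h1 : a ^ (q ^ P - 1) = 1 := by
    refine mul_right_cancel₀ ha0 ?_
    rw [← pow_succ, Nat.sub_add_cancel (Nat.one_le_pow _ _ Fintype.card_pos), hPa, one_mul]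
  refine Nat.Coprime.pow_right i (Nat.Coprime.coprime_dvd_left (orderOf_dvd_of_pow_eq_one h1) ?_)
  refine Nat.Coprime.coprime_dvd_right (dvd_pow_self q hP.ne') ?_
  obtain ⟨r, hr⟩ : ∃ r, q ^ P = r + 1 := ⟨q ^ P - 1, by have := Nat.one_le_pow P q Fintype.card_pos; omega⟩
  rw [hr, Nat.add_sub_cancel]; simp

theorem Conj'.orderOf_eq (M : Matrix ι ι F) {a b : K} (ha : a ∈ eig M) (ha0 : a ≠ 0) (h : Conj' a b) :
    orderOf b = orderOf a := by
  obtain ⟨i, h⟩ := h
  have h1 : orderOf (a ^ q ^ i) = orderOf a := Nat.Coprime.orderOf_pow (coprime_orderOf M ha ha0 i)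
  rcases h with rfl | rfl
  · exact h1
  · refine (orderOf_eq_orderOf_iff.2 fun n => ?_).trans h1
    rw [inv_pow, inv_eq_one]

/-- `L` is the period of `q` modulo `t`. -/
def Period (t L : ℕ) : Prop := ∀ j, t ∣ q ^ j - 1 → L ∣ j

theorem period_prime {r : ℕ} (hr : r.Prime) : Period (F := F) r (orderOf ((q : ℕ) : ZMod r)) := by
  intro j hj
  refine orderOf_dvd_of_pow_eq_one ?_
  have h := (ZMod.natCast_eq_zero_iff _ r).2 hj
  rw [Nat.cast_sub (Nat.one_le_pow _ _ Fintype.card_pos), Nat.cast_pow, Nat.cast_one, sub_eq_zero] at h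
  exact h

theorem period_lcm {r s k l : ℕ} (hk : Period (F := F) r k) (hl : Period (F := F) s l) :
    Period (F := F) (r * s) (Nat.lcm k l) := fun j hj =>
  Nat.lcm_dvd (hk j (dvd_of_mul_right_dvd hj)) (hl j (dvd_of_mul_left_dvd hj))

/-- The first `L` conjugates. -/
noncomputable def orb [DecidableEq K] (a : K) (L : ℕ) : Finset K := (Finset.range L).image fun i => a ^ q ^ i

theorem pow_eq_of_lt {a : K} (ha0 : a ≠ 0) {i j : ℕ} (hij : i ≤ j) (h : a ^ q ^ i = a ^ q ^ j)
    {t : ℕ} (ht : t ∣ orderOf a) (hc : t.Coprime q) : t ∣ q ^ (j - i) - 1 := by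
  have h1 : (a ^ q ^ i) ^ (q ^ (j - i) - 1) = 1 := by
    refine mul_right_cancel₀ (pow_ne_zero (q ^ i) ha0) ?_
    rw [← pow_succ, Nat.sub_add_cancel (Nat.one_le_pow _ _ Fintype.card_pos), ← pow_mul, ← pow_add,
      Nat.add_sub_cancel' hij, one_mul, h]
  rw [← pow_mul, ← orderOf_dvd_iff_pow_eq_one] at h1
  exact (hc.pow_right i).dvd_of_dvd_mul_left (ht.trans h1)

theorem card_orb [DecidableEq K] {a : K} (ha0 : a ≠ 0) {t L : ℕ} (ht : t ∣ orderOf a) (hc : t.Coprime q)
    (hL : Period (F := F) t L) : (orb a L).card = L := by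
  rw [orb, Finset.card_image_of_injOn, Finset.card_range]
  intro i hi j hj h
  simp only [Finset.coe_range, Set.mem_Iio] at hi hj
  have aux : ∀ i j, i ≤ j → j < L → a ^ q ^ i = a ^ q ^ j → i = j := fun i j hij hj h => by
    have h1 := hL _ (pow_eq_of_lt ha0 hij h ht hc)
    have h2 : j - i = 0 := Nat.eq_zero_of_dvd_of_lt h1 (by omega)
    omega
  rcases le_total i j with hij | hij
  · exact aux i j hij hj h
  · exact (aux j i hij hi h.symm).symm

theorem orb_subset [DecidableEq K] (M : Matrix ι ι F) {a : K} (ha : a ∈ eig M) (L : ℕ) :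
    orb a L ⊆ (eig M).toFinset := by
  intro x hx
  obtain ⟨i, -, rfl⟩ := Finset.mem_image.1 hx
  exact Multiset.mem_toFinset.2 (mem_frob M ha i)

theorem card_le [DecidableEq K] (M : Matrix ι ι F) {T : Finset K} (c : K → ℕ)
    (hT : ∀ x ∈ T, c x ≤ (eig M).count x) : ∑ x ∈ T, c x ≤ Fintype.card ι := by
  refine (Finset.sum_le_sum hT).trans ?_
  rw [← card_eig M, ← Multiset.sum_count_eq_card (s := T ∪ (eig M).toFinset)
    fun x hx => Finset.mem_union_right _ (Multiset.mem_toFinset.2 hx)]
  exact Finset.sum_le_sum_of_subset Finset.subset_union_left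

theorem card_le' [DecidableEq K] (M : Matrix ι ι F) {T : Finset K} (hT : T ⊆ (eig M).toFinset) :
    T.card ≤ Fintype.card ι := by
  rw [Finset.card_eq_sum_ones]
  exact card_le M (fun _ => 1) fun x hx => Multiset.count_pos.2 (Multiset.mem_toFinset.1 (hT hx))

theorem coprime_card {r : ℕ} (p : ℕ) [Fact p.Prime] [CharP F p] (hr : r.Prime) (hrp : r ≠ p) : r.Coprime q := by
  obtain ⟨f, hp, hf⟩ := FiniteField.card F p
  rw [hf]
  exact (((Nat.coprime_primes hr hp).2 hrp).pow_right f)

theorem one_prime (p : ℕ) [Fact p.Prime] [CharP F p] (M : Matrix ι ι F) {r : ℕ} (hr : r.Prime) (hrp : r ≠ p)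
    (hM : 0 < orderOf M) (hd : r ∣ orderOf M) : orderOf ((q : ℕ) : ZMod r) ≤ Fintype.card ι := by
  classical
  obtain ⟨a, ha, har⟩ := exists_order_dvd p M hr hrp hM hd
  have h := card_le' M (orb_subset M ha (orderOf ((q : ℕ) : ZMod r)))
  rwa [card_orb (ne_zero_of_mem M hM (pow_orderOf_eq_one M) ha) har (coprime_card p hr hrp) (period_prime hr)] at h

/-- Two primes in the order of a matrix. -/
theorem two_primes (p : ℕ) [Fact p.Prime] [CharP F p] (M : Matrix ι ι F) {r s : ℕ} (hr : r.Prime)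
    (hs : s.Prime) (hrp : r ≠ p) (hsp : s ≠ p) (hrs : r ≠ s) (hM : 0 < orderOf M) (hd : r * s ∣ orderOf M) :
    Nat.lcm (orderOf ((q : ℕ) : ZMod r)) (orderOf ((q : ℕ) : ZMod s)) ≤ Fintype.card ι ∨
      orderOf ((q : ℕ) : ZMod r) + orderOf ((q : ℕ) : ZMod s) ≤ Fintype.card ι := by
  classical
  set k := orderOf ((q : ℕ) : ZMod r)
  set l := orderOf ((q : ℕ) : ZMod s)
  obtain ⟨a, ha, har⟩ := exists_order_dvd p M hr hrp hM (dvd_of_mul_right_dvd hd)
  obtain ⟨b, hb, hbs⟩ := exists_order_dvd p M hs hsp hM (dvd_of_mul_left_dvd hd)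
  have ha0 := ne_zero_of_mem M hM (pow_orderOf_eq_one M) ha
  have hb0 := ne_zero_of_mem M hM (pow_orderOf_eq_one M) hb
  by_cases hc : Conj a b
  · left
    obtain ⟨i, hi⟩ := hc
    have ho : orderOf b = orderOf a := Conj'.orderOf_eq M ha ha0 ⟨i, Or.inl hi⟩
    have hrs' : r * s ∣ orderOf a := ((Nat.coprime_primes hr hs).2 hrs).mul_dvd_of_dvd_of_dvd har (ho ▸ hbs)
    have h := card_le' M (orb_subset M ha (Nat.lcm k l))
    rwa [card_orb ha0 hrs' ((coprime_card p hr hrp).mul_left (coprime_card p hs hsp))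
      (period_lcm (period_prime hr) (period_prime hs))] at h
  · right
    have hdis : Disjoint (orb a k) (orb b l) := by
      rw [Finset.disjoint_left]
      intro x hx hx'
      obtain ⟨i, -, rfl⟩ := Finset.mem_image.1 hx
      obtain ⟨j, -, hj⟩ := Finset.mem_image.1 hx'
      exact hc (Conj.trans ⟨i, hj⟩ (Conj.symm M hb ⟨j, rfl⟩))
    have h := card_le' M (Finset.union_subset (orb_subset M ha k) (orb_subset M hb l))
    rwa [Finset.card_union_of_disjoint hdis, card_orb ha0 har (coprime_card p hr hrp) (period_prime hr),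
      card_orb hb0 hbs (coprime_card p hs hsp) (period_prime hs)] at h

/-- The characteristic and another prime in the order of a matrix. -/
theorem prime_char (p : ℕ) [Fact p.Prime] [CharP F p] (M : Matrix ι ι F) {r : ℕ} (hr : r.Prime)
    (hrp : r ≠ p) (hM : 0 < orderOf M) (hd : r * p ∣ orderOf M) :
    orderOf ((q : ℕ) : ZMod r) + 2 ≤ Fintype.card ι ∨ 2 * orderOf ((q : ℕ) : ZMod r) ≤ Fintype.card ι := by
  classical
  set k := orderOf ((q : ℕ) : ZMod r)
  obtain ⟨a, ha, har⟩ := exists_order_dvd p M hr hrp hM (dvd_of_mul_right_dvd hd)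
  obtain ⟨b, hb, hb2⟩ := exists_double p M hM (dvd_of_mul_left_dvd hd)
  have ha0 := ne_zero_of_mem M hM (pow_orderOf_eq_one M) ha
  have hcard := card_orb ha0 har (coprime_card p hr hrp) (period_prime hr)
  by_cases hc : b ∈ orb a k
  · right
    have h := card_le M (T := orb a k) (fun _ => 2) fun x hx => by
      obtain ⟨i, -, rfl⟩ := Finset.mem_image.1 hx
      obtain ⟨j, -, rfl⟩ := Finset.mem_image.1 hc
      rw [count_frob] at hb2 ⊢
      exact hb2
    rwa [Finset.sum_const, smul_eq_mul, hcard, mul_comm] at h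
  · left
    have h := card_le M (T := insert b (orb a k)) (fun x => if x = b then 2 else 1) fun x hx => by
      split_ifs with hxb
      · exact hxb ▸ hb2
      · exact Multiset.count_pos.2 (Multiset.mem_toFinset.1 (orb_subset M ha k ((Finset.mem_insert.1 hx).resolve_left hxb)))
    rw [Finset.sum_insert hc, if_pos rfl,
      Finset.sum_congr rfl (fun x hx => if_neg (ne_of_mem_of_not_mem hx hc)), Finset.sum_const, smul_eq_mul, mul_one, hcard] at h
    omega

section inverse

variable (M : Matrix ι ι F) (hinv : (eig M).map (·⁻¹) = eig M)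

include hinv in
theorem count_inv [DecidableEq K] (a : K) : (eig M).count a⁻¹ = (eig M).count a := by
  conv_lhs => rw [← hinv]
  exact Multiset.count_map_eq_count' _ _ inv_injective _

/-- The first `L` conjugates and their inverses. -/
noncomputable def orb' [DecidableEq K] (a : K) (L : ℕ) : Finset K := orb a L ∪ (orb a L).image (·⁻¹)

include hinv in
theorem count_orb' [DecidableEq K] {a x : K} {L : ℕ} (hx : x ∈ orb' a L) : (eig M).count x = (eig M).count a := by
  rcases Finset.mem_union.1 hx with h | h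
  · obtain ⟨i, -, rfl⟩ := Finset.mem_image.1 h
    exact count_frob M a i
  · obtain ⟨y, hy, rfl⟩ := Finset.mem_image.1 h
    obtain ⟨i, -, rfl⟩ := Finset.mem_image.1 hy
    rw [count_inv M hinv, count_frob]

include hinv in
theorem orb'_subset [DecidableEq K] {a : K} (ha : a ∈ eig M) (L : ℕ) : orb' a L ⊆ (eig M).toFinset := fun x hx => by
  rw [Multiset.mem_toFinset, ← Multiset.count_pos, count_orb' M hinv hx]
  exact Multiset.count_pos.2 ha

theorem mem_orb' [DecidableEq K] {a x : K} {L : ℕ} (hx : x ∈ orb' a L) : Conj' a x := by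
  rcases Finset.mem_union.1 hx with h | h
  · obtain ⟨i, -, rfl⟩ := Finset.mem_image.1 h
    exact ⟨i, Or.inl rfl⟩
  · obtain ⟨y, hy, rfl⟩ := Finset.mem_image.1 h
    obtain ⟨i, -, rfl⟩ := Finset.mem_image.1 hy
    exact ⟨i, Or.inr rfl⟩

/-- Either the orbit is closed under inversion, so that `q^(L/2) = -1` modulo `t`, or its size doubles. -/
theorem card_orb' [DecidableEq K] {a : K} (ha0 : a ≠ 0) {t L : ℕ} (ht : t ∣ orderOf a)
    (hc : t.Coprime q) (hL : Period (F := F) t L) :
    (∃ i, t ∣ q ^ i + 1) ∧ L ≤ (orb' a L).card ∨ (orb' a L).card = 2 * L := by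
  have hcard := card_orb ha0 ht hc hL
  by_cases hd : Disjoint (orb a L) ((orb a L).image (·⁻¹))
  · right
    rw [orb', Finset.card_union_of_disjoint hd, Finset.card_image_of_injective _ inv_injective, hcard, two_mul]
  · left
    refine ⟨?_, hcard.symm.le.trans (Finset.card_le_card Finset.subset_union_left)⟩
    obtain ⟨x, hx, hx'⟩ := Finset.not_disjoint_iff.1 hd
    obtain ⟨i, -, rfl⟩ := Finset.mem_image.1 hx
    obtain ⟨y, hy, hy'⟩ := Finset.mem_image.1 hx'
    obtain ⟨j, -, rfl⟩ := Finset.mem_image.1 hy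
    have h1 : a ^ (q ^ i + q ^ j) = 1 := by
      rw [pow_add, ← hy', inv_mul_cancel₀ (pow_ne_zero _ ha0)]
    rw [← orderOf_dvd_iff_pow_eq_one] at h1
    have h2 := ht.trans h1
    rcases le_total i j with hij | hij
    · refine ⟨j - i, (hc.pow_right i).dvd_of_dvd_mul_left ?_⟩
      rwa [mul_add, mul_one, ← pow_add, Nat.add_sub_cancel' hij, add_comm]
    · refine ⟨i - j, (hc.pow_right j).dvd_of_dvd_mul_left ?_⟩
      rwa [mul_add, mul_one, ← pow_add, Nat.add_sub_cancel' hij]

theorem dvd_double_period {t i : ℕ} (h : t ∣ q ^ i + 1) {L : ℕ} (hL : Period (F := F) t L) : L ∣ 2 * i := by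
  refine hL _ ?_
  rw [two_mul, pow_add, ← pow_two, ← one_pow 2, Nat.sq_sub_sq]
  exact h.mul_right _

theorem not_period_dvd {r i : ℕ} (hr : r.Prime) (hr2 : r ≠ 2) (h : r ∣ q ^ i + 1) :
    ¬ orderOf ((q : ℕ) : ZMod r) ∣ i := by
  intro hd
  have h1 : ((q : ℕ) : ZMod r) ^ i = 1 := orderOf_dvd_iff_pow_eq_one.1 hd
  have h2 := (ZMod.natCast_eq_zero_iff _ r).2 h
  rw [Nat.cast_add, Nat.cast_pow, Nat.cast_one, h1, one_add_one_eq_two] at h2
  have h3 : r ∣ 2 := (ZMod.natCast_eq_zero_iff 2 r).1 (by exact_mod_cast h2)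
  exact hr2 ((Nat.prime_dvd_prime_iff_eq hr Nat.prime_two).1 h3)

/-- `2η(k)`. -/
def eta2 (k : ℕ) : ℕ := if Even k then k else 2 * k

theorem eta2_le_card [DecidableEq K] {a : K} (ha0 : a ≠ 0) {r : ℕ} (hr : r.Prime) (hr2 : r ≠ 2) (ht : r ∣ orderOf a)
    (hc : r.Coprime q) : eta2 (orderOf ((q : ℕ) : ZMod r)) ≤ (orb' a (orderOf ((q : ℕ) : ZMod r))).card := by
  unfold eta2
  rcases card_orb' ha0 ht hc (period_prime hr) with ⟨⟨i, hi⟩, h⟩ | h
  · rw [if_pos]
    · exact h
    · rw [Nat.even_iff]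
      by_contra hodd
      refine not_period_dvd hr hr2 hi ?_
      have h2 := dvd_double_period hi (period_prime hr)
      exact (Nat.coprime_two_right.2 (Nat.odd_iff.2 (by omega))).dvd_of_dvd_mul_left h2
  · split_ifs <;> omega

include hinv in
theorem prime_char' (p : ℕ) [Fact p.Prime] [CharP F p] {r : ℕ} (hr : r.Prime) (hr2 : r ≠ 2)
    (hrp : r ≠ p) (hM : 0 < orderOf M) (hd : r * p ∣ orderOf M) :
    eta2 (orderOf ((q : ℕ) : ZMod r)) + 2 ≤ Fintype.card ι ∨
      2 * eta2 (orderOf ((q : ℕ) : ZMod r)) ≤ Fintype.card ι := by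
  classical
  obtain ⟨a, ha, har⟩ := exists_order_dvd p M hr hrp hM (dvd_of_mul_right_dvd hd)
  obtain ⟨b, hb, hb2⟩ := exists_double p M hM (dvd_of_mul_left_dvd hd)
  have ha0 := ne_zero_of_mem M hM (pow_orderOf_eq_one M) ha
  have hcard := eta2_le_card (F := F) ha0 hr hr2 har (coprime_card p hr hrp)
  set T := orb' a (orderOf ((q : ℕ) : ZMod r))
  by_cases hc : b ∈ T
  · right
    have h := card_le M (T := T) (fun _ => 2) fun x hx => by
      rw [count_orb' M hinv hx, ← count_orb' M hinv hc]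
      exact hb2
    rw [Finset.sum_const, smul_eq_mul] at h
    omega
  · left
    have h := card_le M (T := insert b T) (fun x => if x = b then 2 else 1) fun x hx => by
      split_ifs with hxb
      · exact hxb ▸ hb2
      · exact Multiset.count_pos.2 (Multiset.mem_toFinset.1 (orb'_subset M hinv ha _ ((Finset.mem_insert.1 hx).resolve_left hxb)))
    rw [Finset.sum_insert hc, if_pos rfl,
      Finset.sum_congr rfl (fun x hx => if_neg (ne_of_mem_of_not_mem hx hc)), Finset.sum_const, smul_eq_mul, mul_one] at h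
    omega

include hinv in
theorem two_primes' (p : ℕ) [Fact p.Prime] [CharP F p] {r s : ℕ} (hr : r.Prime) (hs : s.Prime) (hr2 : r ≠ 2)
    (hs2 : s ≠ 2) (hrp : r ≠ p) (hsp : s ≠ p) (hrs : r ≠ s) (hM : 0 < orderOf M) (hd : r * s ∣ orderOf M) :
    eta2 (orderOf ((q : ℕ) : ZMod r)) + eta2 (orderOf ((q : ℕ) : ZMod s)) ≤ Fintype.card ι ∨
    2 * Nat.lcm (orderOf ((q : ℕ) : ZMod r)) (orderOf ((q : ℕ) : ZMod s)) ≤ Fintype.card ι ∨
    (Nat.lcm (orderOf ((q : ℕ) : ZMod r)) (orderOf ((q : ℕ) : ZMod s)) ≤ Fintype.card ι ∧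
      ∃ i, ¬ orderOf ((q : ℕ) : ZMod r) ∣ i ∧ ¬ orderOf ((q : ℕ) : ZMod s) ∣ i ∧
        orderOf ((q : ℕ) : ZMod r) ∣ 2 * i ∧ orderOf ((q : ℕ) : ZMod s) ∣ 2 * i) := by
  classical
  set k := orderOf ((q : ℕ) : ZMod r)
  set l := orderOf ((q : ℕ) : ZMod s)
  obtain ⟨a, ha, har⟩ := exists_order_dvd p M hr hrp hM (dvd_of_mul_right_dvd hd)
  obtain ⟨b, hb, hbs⟩ := exists_order_dvd p M hs hsp hM (dvd_of_mul_left_dvd hd)
  have ha0 := ne_zero_of_mem M hM (pow_orderOf_eq_one M) ha
  have hb0 := ne_zero_of_mem M hM (pow_orderOf_eq_one M) hb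
  by_cases hc : Conj' a b
  · right
    have ho : orderOf b = orderOf a := Conj'.orderOf_eq M ha ha0 hc
    have hrs' : r * s ∣ orderOf a := ((Nat.coprime_primes hr hs).2 hrs).mul_dvd_of_dvd_of_dvd har (ho ▸ hbs)
    have h := card_le' M (orb'_subset M hinv ha (Nat.lcm k l))
    rcases card_orb' ha0 hrs' ((coprime_card p hr hrp).mul_left (coprime_card p hs hsp))
      (period_lcm (period_prime hr) (period_prime hs)) with ⟨⟨i, hi⟩, h'⟩ | h'
    · right
      refine ⟨h'.trans h, i, not_period_dvd hr hr2 (dvd_of_mul_right_dvd hi), not_period_dvd hs hs2 (dvd_of_mul_left_dvd hi),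
        dvd_double_period (dvd_of_mul_right_dvd hi) (period_prime hr),
        dvd_double_period (dvd_of_mul_left_dvd hi) (period_prime hs)⟩
    · left
      have h'' : (orb' a (Nat.lcm k l)).card = 2 * Nat.lcm k l := h'
      show 2 * Nat.lcm k l ≤ _
      omega
  · left
    have hdis : Disjoint (orb' a k) (orb' b l) := by
      rw [Finset.disjoint_left]
      intro x hx hx'
      exact hc ((mem_orb' hx).trans (Conj'.symm M hb (mem_orb' hx')))
    have h := card_le' M (Finset.union_subset (orb'_subset M hinv ha k) (orb'_subset M hinv hb l))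
    rw [Finset.card_union_of_disjoint hdis] at h
    have h1 := eta2_le_card (F := F) ha0 hr hr2 har (coprime_card p hr hrp)
    have h2 := eta2_le_card (F := F) hb0 hs hs2 hbs (coprime_card p hs hsp)
    change eta2 k ≤ (orb' a k).card at h1
    change eta2 l ≤ (orb' b l).card at h2
    show eta2 k + eta2 l ≤ _
    omega

include hinv in
theorem one_prime' (p : ℕ) [Fact p.Prime] [CharP F p] {r : ℕ} (hr : r.Prime) (hr2 : r ≠ 2) (hrp : r ≠ p)
    (hM : 0 < orderOf M) (hd : r ∣ orderOf M) : eta2 (orderOf ((q : ℕ) : ZMod r)) ≤ Fintype.card ι := by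
  classical
  obtain ⟨a, ha, har⟩ := exists_order_dvd p M hr hrp hM hd
  exact (eta2_le_card (F := F) (ne_zero_of_mem M hM (pow_orderOf_eq_one M) ha) hr hr2 har (coprime_card p hr hrp)).trans
    (card_le' M (orb'_subset M hinv ha _))

end inverse

end finite

theorem roots_reverse_prod (S : Multiset K) (h : ∀ a ∈ S, a ≠ 0) :
    ((S.map fun a => X - C a).prod).reverse.roots = S.map (·⁻¹) := by
  induction S using Multiset.induction with
  | empty =>
    rw [Multiset.map_zero, Multiset.prod_zero, Multiset.map_zero, ← map_one (C : K →+* K[X]), reverse_C, roots_C]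
  | cons a S ih =>
    have ha : a ≠ 0 := h a (Multiset.mem_cons_self a S)
    rw [Multiset.map_cons, Multiset.prod_cons, reverse_mul_of_domain, Multiset.map_cons]
    have hrev : (X - C a : K[X]).reverse = C (-a) * (X - C a⁻¹) := by
      rw [mul_sub, ← C_mul, neg_mul, mul_inv_cancel₀ ha]
      ext i
      rw [coeff_reverse, natDegree_X_sub_C]
      rcases i with _ | _ | i
      · rw [show revAt 1 0 = 1 from rfl]; simp [coeff_X, coeff_C, coeff_one, ha]
      · rw [show revAt 1 (0 + 1) = 0 from rfl]; simp [coeff_X, coeff_C, coeff_one, ha]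
      · rw [show revAt 1 (i + 1 + 1) = i + 1 + 1 by
            rw [← revAtFun_eq]; exact if_neg (by omega)]
        simp [coeff_X, coeff_C, coeff_one, ha]
    rw [roots_mul, hrev, roots_C_mul _ (neg_ne_zero.2 ha), roots_X_sub_C,
      ih fun b hb => h b (Multiset.mem_cons_of_mem hb), Multiset.singleton_add]
    rw [hrev]
    refine mul_ne_zero (mul_ne_zero (C_ne_zero.2 (neg_ne_zero.2 ha)) (X_sub_C_ne_zero _)) ?_
    rw [Ne, reverse_eq_zero]
    exact (monic_multiset_prod_of_monic _ _ fun b _ => monic_X_sub_C b).ne_zero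

/-- Eigenvalues of a matrix similar to its inverse are closed under inversion. -/
theorem eig_inv (M : Matrix ι ι F) (hM : IsUnit M) (h : M⁻¹.charpoly = M.charpoly) : (eig M).map (·⁻¹) = eig M := by
  have hd : M.det ≠ 0 := ((Matrix.isUnit_iff_isUnit_det M).1 hM).ne_zero
  have h0 : ∀ a ∈ eig M, a ≠ 0 := fun a ha e => by
    subst e
    have := prod_eig M
    rw [Multiset.prod_eq_zero ha, map_eq_zero] at this
    exact hd this
  rw [Matrix.charpoly_inv M hM, ← Matrix.reverse_charpoly] at h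
  have h' := congrArg (fun P : F[X] => (P.map (algebraMap F K)).roots) h
  have hrev : (M.charpoly.reverse).map (algebraMap F K) = (M.charpoly.map (algebraMap F K)).reverse := by
    ext i
    rw [coeff_map, coeff_reverse, coeff_reverse, coeff_map, natDegree_map]
  simp only [Polynomial.map_mul, Polynomial.map_pow, Polynomial.map_neg, Polynomial.map_one, Polynomial.map_C] at h'
  rw [hrev, ← map_one (C : K →+* K[X]), ← C_neg, ← C_pow, ← C_mul, roots_C_mul, ← Matrix.charpoly_map,
    (IsAlgClosed.splits (M.map (algebraMap F K)).charpoly).eq_prod_roots_of_monic (Matrix.charpoly_monic _)] at h'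
  · rw [← eig, roots_reverse_prod _ h0, roots_multiset_prod_X_sub_C] at h'
    exact h'
  · refine mul_ne_zero (pow_ne_zero _ (neg_ne_zero.2 one_ne_zero)) ?_
    rw [Ring.inverse_eq_inv', map_inv₀]
    exact inv_ne_zero ((_root_.map_ne_zero _).2 hd)

theorem eig_inv_symplectic {l : Type*} [Fintype l] [DecidableEq l] (A : Matrix.symplecticGroup l F) :
    (eig A.1).map (·⁻¹) = eig A.1 := by
  have h1 : A.1 * (A⁻¹).1 = 1 := congrArg Subtype.val (mul_inv_cancel A)
  refine eig_inv A.1 (IsUnit.of_mul_eq_one _ h1) ?_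
  rw [Matrix.inv_eq_right_inv h1, SymplecticGroup.coe_inv]
  let U : (Matrix (l ⊕ l) (l ⊕ l) F)ˣ := ⟨-Matrix.J l F, Matrix.J l F,
    by rw [neg_mul, Matrix.J_squared, neg_neg], by rw [mul_neg, Matrix.J_squared, neg_neg]⟩
  have := Matrix.charpoly_units_conj U A.1ᵀ
  rw [← Matrix.coe_units_inv U] at this
  exact this.trans (Matrix.charpoly_transpose A.1)

end CfsgLib.Classical.RootOrbits
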