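import Mathlib
import Cfsg.Agent.Lib.Classical.RootOrbits
import Cfsg.Agent.Lib.Classical.SpOrders
import Cfsg.Agent.Lib.GLClass.Absorb

/-!
Elements of order a product of two primes in `PSL` and `PSp`.
-/

set_option autoImplicit false

namespace CfsgLib.Classical.Adjacency

open Matrix CfsgLib.Classical.RootOrbits

variable {F : Type*} [Field F] [Fintype F]

local notation "q" => Fintype.card F

theorem dvd_pow_sub_one_iff {r j : ℕ} : r ∣ q ^ j - 1 ↔ orderOf ((q : ℕ) : ZMod r) ∣ j := by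
  rw [orderOf_dvd_iff_pow_eq_one, ← ZMod.natCast_eq_zero_iff, Nat.cast_sub (Nat.one_le_pow _ _ Fintype.card_pos),
    Nat.cast_pow, Nat.cast_one, sub_eq_zero]

theorem coprime_card_sub_one (p : ℕ) [Fact p.Prime] [CharP F p] : p.Coprime (q - 1) := by
  obtain ⟨f, hp, hf⟩ := FiniteField.card F p
  have : (q - 1).Coprime q := by
    obtain ⟨r, hr⟩ : ∃ r, q = r + 1 := ⟨q - 1, by have := Fintype.card_pos (α := F); omega⟩
    rw [hr, Nat.add_sub_cancel]; simp
  exact (Nat.Coprime.coprime_dvd_right (hf ▸ dvd_pow_self p f.pos.ne') this).symm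

theorem coprime_sub_one_of_two_le {r : ℕ} (hr : r.Prime) (hk : 2 ≤ orderOf ((q : ℕ) : ZMod r)) :
    r.Coprime (q - 1) := by
  refine hr.coprime_iff_not_dvd.2 fun h => ?_
  have := Nat.le_of_dvd one_pos ((dvd_pow_sub_one_iff (F := F) (j := 1)).1 (by simpa using h))
  exact absurd (le_trans hk this) (by omega)

theorem orderOf_val {n : ℕ} (A : Matrix.SpecialLinearGroup (Fin n) F) : orderOf A.1 = orderOf A :=
  orderOf_injective
    ({ toFun := fun X => X.1, map_one' := rfl, map_mul' := fun _ _ => rfl } :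
      Matrix.SpecialLinearGroup (Fin n) F →* Matrix (Fin n) (Fin n) F) Subtype.val_injective A

theorem psl_lift {n : ℕ} {N : ℕ} {x : Matrix.ProjectiveSpecialLinearGroup (Fin n) F} (hx : orderOf x = N) :
    ∃ A : Matrix.SpecialLinearGroup (Fin n) F, 0 < orderOf A.1 ∧ N ∣ orderOf A.1 ∧ QuotientGroup.mk A = x := by
  haveI : Finite (Matrix.SpecialLinearGroup (Fin n) F) := Finite.of_injective (fun X => X.1) Subtype.val_injective
  obtain ⟨A, rfl⟩ := QuotientGroup.mk_surjective x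
  exact ⟨A, orderOf_val A ▸ orderOf_pos A, hx ▸ orderOf_val A ▸ orderOf_map_dvd (QuotientGroup.mk' _) A, rfl⟩

theorem psl_order_of_coprime {n t : ℕ} {A : Matrix.SpecialLinearGroup (Fin n) F} (hA : orderOf A = t)
    (hc : t.Coprime (q - 1)) : orderOf (QuotientGroup.mk A : Matrix.ProjectiveSpecialLinearGroup (Fin n) F) = t := by
  set x : Matrix.ProjectiveSpecialLinearGroup (Fin n) F := QuotientGroup.mk A
  refine Nat.dvd_antisymm (hA ▸ orderOf_map_dvd (QuotientGroup.mk' _) A) ?_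
  rw [← hA]
  refine orderOf_dvd_of_pow_eq_one (Subtype.ext ?_)
  have h : (QuotientGroup.mk (A ^ orderOf x) : Matrix.ProjectiveSpecialLinearGroup (Fin n) F) = 1 := pow_orderOf_eq_one x
  obtain ⟨c, hc'⟩ := CfsgLib.Absorb.mk_eq_one.1 h
  rcases Nat.eq_zero_or_pos n with rfl | hn
  · exact Matrix.ext fun i => i.elim0
  have h1 : c ^ t = 1 := by
    have h2 : ((A ^ orderOf x).1) ^ t = 1 := by
      rw [← Matrix.SpecialLinearGroup.coe_pow, ← pow_mul, mul_comm, pow_mul, ← hA, pow_orderOf_eq_one, one_pow]; rfl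
    rw [hc', _root_.smul_pow, one_pow] at h2
    simpa using congrFun (congrFun h2 ⟨0, hn⟩) ⟨0, hn⟩
  have h0 : c ≠ 0 := fun h => by
    rw [h] at hc'
    have := congrArg Matrix.det hc'
    haveI hne : Nonempty (Fin n) := ⟨⟨0, hn⟩⟩
    rw [(A ^ orderOf x).2, zero_smul, Matrix.det_zero] at this
    exact one_ne_zero this
  have h2 : c = 1 := by
    have := pow_gcd_eq_one.2 ⟨h1, FiniteField.pow_card_sub_one_eq_one c h0⟩
    rwa [hc.gcd_eq_one, pow_one] at this
  rw [hc', h2, one_smul]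
  rfl

theorem exists_sl (d t : ℕ) (hd : 1 ≤ d) (ht : t ∣ q ^ d - 1) (hc : t.Coprime (q - 1)) :
    ∃ A : Matrix.SpecialLinearGroup (Fin d) F, orderOf A = t := by
  classical
  obtain ⟨p, hp⟩ := CharP.exists F
  haveI : Fact p.Prime := ⟨CharP.char_is_prime F p⟩
  haveI : NeZero d := ⟨by omega⟩
  let K := FiniteField.Extension F p d
  have hfin : Module.finrank F K = d := FiniteField.finrank_extension F p d
  let b := Module.finBasisOfFinrankEq F K hfin
  obtain ⟨u, hu⟩ := IsCyclic.exists_ofOrder_eq_natCard (α := Kˣ)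
  rw [Nat.card_units, FiniteField.natCard_extension, Nat.card_eq_fintype_card] at hu
  obtain ⟨w, hw⟩ : ∃ w : Kˣ, orderOf w = t := ⟨_, orderOf_pow_orderOf_div (orderOf_pos u).ne' (hu ▸ ht)⟩
  have hwt : (w : K) ^ t = 1 := by rw [← hw, ← Units.val_pow_eq_pow_val, pow_orderOf_eq_one, Units.val_one]
  have hdet : (Algebra.leftMulMatrix b (w : K)).det = 1 := by
    set c := (Algebra.leftMulMatrix b (w : K)).det
    have h1 : c ^ t = 1 := by
      rw [← Matrix.det_pow, ← map_pow, hwt, map_one, Matrix.det_one]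
    have ht0 : t ≠ 0 := hw ▸ (orderOf_pos w).ne'
    have h0 : c ≠ 0 := fun h => by rw [h, zero_pow ht0] at h1; exact zero_ne_one h1
    have := pow_gcd_eq_one.2 ⟨h1, FiniteField.pow_card_sub_one_eq_one c h0⟩
    rwa [hc.gcd_eq_one, pow_one] at this
  refine ⟨⟨_, hdet⟩, (orderOf_val _).symm.trans ?_⟩
  show orderOf (Algebra.leftMulMatrix b (w : K)) = t
  rw [← hw, ← orderOf_units (y := w)]
  exact orderOf_injective (Algebra.leftMulMatrix b).toMonoidHom (Algebra.leftMulMatrix_injective b) _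

/-- Two diagonal blocks. -/
def slBlock (a b n : ℕ) (h : a + b = n) :
    Matrix.SpecialLinearGroup (Fin a) F × Matrix.SpecialLinearGroup (Fin b) F →* Matrix.SpecialLinearGroup (Fin n) F where
  toFun x := ⟨Matrix.reindex (finSumFinEquiv.trans (finCongr h)) (finSumFinEquiv.trans (finCongr h))
      (Matrix.fromBlocks x.1.1 0 0 x.2.1), by
    rw [Matrix.det_reindex_self, Matrix.det_fromBlocks_zero₂₁, x.1.2, x.2.2, one_mul]⟩
  map_one' := Subtype.ext (by
    show Matrix.reindex _ _ (Matrix.fromBlocks 1 0 0 1) = 1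
    rw [Matrix.fromBlocks_one, Matrix.reindex_apply, Matrix.submatrix_one_equiv])
  map_mul' x y := Subtype.ext (by
    show Matrix.reindex _ _ _ = Matrix.reindex _ _ _ * Matrix.reindex _ _ _
    rw [Matrix.reindex_apply, Matrix.reindex_apply, Matrix.reindex_apply, Matrix.submatrix_mul_equiv,
      Matrix.fromBlocks_multiply]
    simp)

theorem slBlock_injective (a b n : ℕ) (h : a + b = n) : Function.Injective (slBlock (F := F) a b n h) := by
  intro x y hxy
  have h1 := (Matrix.reindex (finSumFinEquiv.trans (finCongr h)) (finSumFinEquiv.trans (finCongr h))).injective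
    (congrArg Subtype.val hxy)
  obtain ⟨e1, -, -, e2⟩ := Matrix.fromBlocks_inj.1 h1
  exact Prod.ext (Subtype.ext e1) (Subtype.ext e2)

theorem slBlock_inr (a b n : ℕ) (h : a + b = n) (x : Matrix.SpecialLinearGroup (Fin a) F)
    (y : Matrix.SpecialLinearGroup (Fin b) F) (i j : Fin b) :
    (slBlock a b n h (x, y)).1 (finCongr h (finSumFinEquiv (Sum.inr i))) (finCongr h (finSumFinEquiv (Sum.inr j))) = y.1 i j := by
  show Matrix.reindex _ _ (Matrix.fromBlocks x.1 0 0 y.1) _ _ = _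
  simp

theorem orderOf_slBlock (a b n : ℕ) (h : a + b = n) (x : Matrix.SpecialLinearGroup (Fin a) F)
    (y : Matrix.SpecialLinearGroup (Fin b) F) :
    orderOf (slBlock a b n h (x, y)) = Nat.lcm (orderOf x) (orderOf y) := by
  rw [orderOf_injective _ (slBlock_injective a b n h), Prod.orderOf]

/-- The transvection `1 + E₀₁`. -/
def transv (b : ℕ) (hb : 2 ≤ b) : Matrix.SpecialLinearGroup (Fin b) F :=
  ⟨Matrix.transvection (⟨0, by omega⟩ : Fin b) ⟨1, by omega⟩ 1, Matrix.det_transvection_of_ne _ _ (by simp) _⟩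

theorem transv_pow (b : ℕ) (hb : 2 ≤ b) (k : ℕ) :
    ((transv (F := F) b hb) ^ k).1 = Matrix.transvection (⟨0, by omega⟩ : Fin b) ⟨1, by omega⟩ (k : F) := by
  induction k with
  | zero => simp [Matrix.transvection_zero]
  | succ k ih =>
    rw [pow_succ, Matrix.SpecialLinearGroup.coe_mul, ih]
    show _ * Matrix.transvection _ _ 1 = _
    rw [Matrix.transvection_mul_transvection_same _ _ (by simp), Nat.cast_succ]

theorem orderOf_transv (p : ℕ) [Fact p.Prime] [CharP F p] (b : ℕ) (hb : 2 ≤ b) :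
    orderOf (transv (F := F) b hb) = p := by
  refine orderOf_eq_prime (Subtype.ext ?_) fun h => ?_
  · rw [transv_pow, CharP.cast_eq_zero, Matrix.transvection_zero]; rfl
  · have := congrFun (congrFun (congrArg Subtype.val h) ⟨0, by omega⟩) ⟨1, by omega⟩
    simp [transv, Matrix.transvection, Matrix.one_apply] at this

/-- Order of a block sum with a transvection. -/
theorem psl_order_block_transv (p : ℕ) [Fact p.Prime] [CharP F p] {a b n r : ℕ} (hb : 2 ≤ b) (h : a + b = n)
    {A : Matrix.SpecialLinearGroup (Fin a) F} (hA : orderOf A = r) (hrp : r.Coprime p) :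
    orderOf (QuotientGroup.mk (slBlock a b n h (A, transv b hb)) : Matrix.ProjectiveSpecialLinearGroup (Fin n) F) =
      r * p := by
  set X := slBlock a b n h (A, transv b hb) with hX
  have ho : orderOf X = r * p := by
    rw [hX, orderOf_slBlock, hA, orderOf_transv p, hrp.lcm_eq_mul]
  refine Nat.dvd_antisymm (ho ▸ orderOf_map_dvd (QuotientGroup.mk' _) X) ?_
  set x : Matrix.ProjectiveSpecialLinearGroup (Fin n) F := QuotientGroup.mk X
  rw [← ho]
  refine orderOf_dvd_of_pow_eq_one ?_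
  have h1 : (QuotientGroup.mk (X ^ orderOf x) : Matrix.ProjectiveSpecialLinearGroup (Fin n) F) = 1 := pow_orderOf_eq_one x
  obtain ⟨c, hc⟩ := CfsgLib.Absorb.mk_eq_one.1 h1
  refine Subtype.ext (hc.trans ?_)
  have h2 : c = 1 := by
    rw [hX, ← map_pow] at hc
    have h3 := congrFun (congrFun hc (finCongr h (finSumFinEquiv (Sum.inr ⟨0, by omega⟩))))
      (finCongr h (finSumFinEquiv (Sum.inr ⟨0, by omega⟩)))
    rw [Prod.pow_mk, slBlock_inr, transv_pow] at h3
    simp [Matrix.transvection] at h3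
    exact h3.symm
  rw [h2, one_smul]; rfl

theorem exists_sl_two {r : ℕ} (hr : r ∣ q - 1) : ∃ A : Matrix.SpecialLinearGroup (Fin 2) F, orderOf A = r := by
  classical
  obtain ⟨u, hu⟩ := IsCyclic.exists_ofOrder_eq_natCard (α := Fˣ)
  rw [Nat.card_units, Nat.card_eq_fintype_card] at hu
  obtain ⟨w, hw⟩ : ∃ w : Fˣ, orderOf w = r := ⟨_, orderOf_pow_orderOf_div (orderOf_pos u).ne' (hu ▸ hr)⟩
  let φ : Fˣ →* Matrix.SpecialLinearGroup (Fin 2) F :=
    { toFun := fun v => ⟨!![(v : F), 0; 0, ((v⁻¹ : Fˣ) : F)], by simp [Matrix.det_fin_two]⟩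
      map_one' := Subtype.ext (by simp [Matrix.one_fin_two])
      map_mul' := fun v v' => Subtype.ext (by
        show !![((v * v' : Fˣ) : F), 0; 0, (((v * v')⁻¹ : Fˣ) : F)] = !![(v : F), 0; 0, ((v⁻¹ : Fˣ) : F)] * !![(v' : F), 0; 0, ((v'⁻¹ : Fˣ) : F)]
        simp [Matrix.mul_fin_two, mul_comm]) }
  refine ⟨φ w, ?_⟩
  rw [orderOf_injective φ (fun v v' hv => Units.ext ?_), hw]
  have := congrFun (congrFun (congrArg Subtype.val hv) 0) 0
  exact this

/-! Symplectic groups -/

theorem orderOf_val_sp {n : ℕ} (A : Matrix.symplecticGroup (Fin n) F) : orderOf A.1 = orderOf A :=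
  orderOf_injective (Matrix.symplecticGroup (Fin n) F).subtype Subtype.val_injective A

theorem exists_sp (d : ℕ) (hd : 1 ≤ d) {t : ℕ} (ht : t ∣ q ^ d - 1 ∨ t ∣ q ^ d + 1) :
    ∃ x : Matrix.symplecticGroup (Fin d) F, orderOf x = t := by
  classical
  obtain ⟨p, hp⟩ := CharP.exists F
  haveI : Fact p.Prime := ⟨CharP.char_is_prime F p⟩
  haveI : NeZero d := ⟨by omega⟩
  let K := FiniteField.Extension F p d
  have hfin : Module.finrank F K = d := FiniteField.finrank_extension F p d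
  haveI : Finite K := Module.finite_of_finite F
  letI : Fintype K := Fintype.ofFinite K
  have hcard : Fintype.card K = q ^ d := by rw [Module.card_eq_pow_finrank (K := F), hfin]
  obtain ⟨φ, hφ, -⟩ := SpOrders.exists_sl_hom (F := F) d hd hfin
  obtain ⟨A, hA⟩ : ∃ A : Matrix.SpecialLinearGroup (Fin 2) K, orderOf A = t := by
    rcases ht with ht | ht
    · obtain ⟨A, hA⟩ := PSL2Spectrum.exists_order_sub_one (F := K)
      rw [hcard] at hA
      exact ⟨A ^ (orderOf A / t), orderOf_pow_orderOf_div (orderOf_pos A).ne' (hA ▸ ht)⟩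
    · obtain ⟨A, hA⟩ := PSL2Spectrum.exists_order_add_one (F := K)
      rw [hcard] at hA
      exact ⟨A ^ (orderOf A / t), orderOf_pow_orderOf_div (orderOf_pos A).ne' (hA ▸ ht)⟩
  exact ⟨φ A, by rw [orderOf_injective φ hφ, hA]⟩

theorem psp_lift {n : ℕ} {N : ℕ} {x : Cfsg.PSp n F} (hx : orderOf x = N) :
    ∃ A : Matrix.symplecticGroup (Fin n) F, 0 < orderOf A.1 ∧ N ∣ orderOf A.1 ∧ CfsgLib.Sp.pr A = x := by
  haveI : Finite (Matrix.symplecticGroup (Fin n) F) := Subtype.finite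
  obtain ⟨A, rfl⟩ := QuotientGroup.mk'_surjective _ x
  exact ⟨A, orderOf_val_sp A ▸ orderOf_pos A, hx ▸ orderOf_val_sp A ▸ orderOf_map_dvd _ A, rfl⟩

theorem psp_order (p : ℕ) [Fact p.Prime] [CharP F p] {n t : ℕ} (hn : 1 ≤ n) {A : Matrix.symplecticGroup (Fin n) F}
    (hA : orderOf A = t) (ht : Odd t ∨ p = 2) : orderOf (CfsgLib.Sp.pr A) = t := by
  refine Nat.dvd_antisymm (hA ▸ orderOf_map_dvd _ _) ?_
  rw [← hA]
  refine orderOf_dvd_of_pow_eq_one (Subtype.ext ?_)
  have h := pow_orderOf_eq_one (CfsgLib.Sp.pr A)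
  rw [← map_pow, ← map_one (CfsgLib.Sp.pr (m := n) (F := F)), eq_comm, CfsgLib.Sp.pr_eq_iff hn] at h
  set k := orderOf (CfsgLib.Sp.pr A)
  rcases h with h | h
  · exact h
  rcases ht with ht | rfl
  · have h1 : ((A ^ k) ^ t).1 = 1 := by rw [← pow_mul, mul_comm, pow_mul, ← hA, pow_orderOf_eq_one, one_pow]; rfl
    rw [SubmonoidClass.coe_pow, h, show (1 : Matrix.symplecticGroup (Fin n) F).1 = 1 from rfl, ht.neg_one_pow] at h1
    rw [h]
    exact h1
  · rw [h]
    ext i j
    exact CharTwo.neg_eq _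

theorem exists_sp_char (p : ℕ) [Fact p.Prime] [CharP F p] (b : ℕ) (hb : 1 ≤ b) :
    ∃ x : Matrix.symplecticGroup (Fin b) F, orderOf x = p := by
  haveI : Finite (Matrix.symplecticGroup (Fin b) F) := Subtype.finite
  obtain ⟨u, hu⟩ := SpOrders.exists_unipotent_order (F := F) p b hb
  refine ⟨_, orderOf_pow_orderOf_div (orderOf_pos u).ne' (hu.symm ▸ dvd_pow_self p ?_)⟩
  exact (Nat.clog_pos (Fact.out : p.Prime).one_lt (by omega)).ne'

theorem exists_sp_block {a b n t : ℕ} (h : a + b = n) (x : Matrix.symplecticGroup (Fin a) F)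
    (y : Matrix.symplecticGroup (Fin b) F) (ht : Nat.lcm (orderOf x) (orderOf y) = t) :
    ∃ z : Matrix.symplecticGroup (Fin n) F, orderOf z = t := by
  subst h
  refine ⟨SpOrders.blockHom a b (x, y), ?_⟩
  rw [orderOf_injective _ (fun u v huv => ?_), Prod.orderOf, ht]
  obtain ⟨h1, h2⟩ := SpOrders.bmat_inj (congrArg Subtype.val huv)
  exact Prod.ext (Subtype.ext h1) (Subtype.ext h2)

theorem dvd_eta {r k e : ℕ} (hr : r.Prime) (hc : r.Coprime q) (hk : k = orderOf ((q : ℕ) : ZMod r))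
    (he : (Odd k ∧ e = k) ∨ (Even k ∧ 2 * e = k)) :
    (Odd k ∧ r ∣ q ^ e - 1) ∨ (Even k ∧ r ∣ q ^ e + 1) := by
  rcases he with ⟨ho, rfl⟩ | ⟨hev, he⟩
  · exact Or.inl ⟨ho, dvd_pow_sub_one_iff.2 (hk ▸ dvd_rfl)⟩
  · refine Or.inr ⟨hev, ?_⟩
    haveI := Fact.mk hr
    have h1 : ((q : ZMod r) ^ e) ^ 2 = 1 := by rw [← pow_mul, mul_comm, he, hk, pow_orderOf_eq_one]
    rcases sq_eq_one_iff.1 h1 with h | h
    · exfalso
      have h2 := orderOf_dvd_of_pow_eq_one h
      rw [← hk] at h2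
      rcases Nat.eq_zero_or_pos e with h0 | h0
      · have hk0 : k = 0 := by omega
        have hq : ((q : ℕ) : ZMod r) ≠ 0 := fun h0' =>
          (hr.coprime_iff_not_dvd.1 hc) ((ZMod.natCast_eq_zero_iff _ r).1 h0')
        exact (orderOf_pos_iff.2 (isOfFinOrder_iff_pow_eq_one.2
          ⟨r - 1, Nat.sub_pos_of_lt hr.one_lt, ZMod.pow_card_sub_one_eq_one hq⟩)).ne' (hk ▸ hk0)
      · have := Nat.le_of_dvd h0 h2
        omega
    · rw [← ZMod.natCast_eq_zero_iff, Nat.cast_add, Nat.cast_pow, h, Nat.cast_one, neg_add_cancel]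

end CfsgLib.Classical.Adjacency
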