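import Cfsg.Agent.Lib.Classical.QuadOrder

/-!
# Quadratic forms over two elements
-/

set_option autoImplicit false

namespace CfsgLib.Classical.BinaryForms

open Module

local notation "F2" => ZMod 2

theorem two_cases : ∀ a : F2, a = 0 ∨ a = 1 := by decide

section Sums

variable {W : Type*} [AddCommGroup W] [Module F2 W] [Fintype W]

/-- The sign. -/
def sgn (a : F2) : ℤ := if a = 0 then 1 else -1

theorem sgn_add : ∀ a b : F2, sgn (a + b) = sgn a * sgn b := by decide

variable (q : W → F2) (p : W →ₗ[F2] W →ₗ[F2] F2)

omit [Fintype W] in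
theorem q_zero (hq : ∀ u v, q (u + v) = q u + q v + p u v) : q 0 = 0 := by
  have h := hq 0 0
  rw [add_zero, map_zero, add_zero] at h
  exact left_eq_add.1 h

/-- The Gauss sum is not zero. -/
theorem gauss_ne_zero (hq : ∀ u v, q (u + v) = q u + q v + p u v) (hp : ∀ z, (∀ v, p v z = 0) → z = 0) :
    ∑ v, sgn (q v) ≠ 0 := by
  classical
  intro h
  have h1 : (∑ v, sgn (q v)) * ∑ v, sgn (q v) = (Fintype.card W : ℤ) := by
    rw [Finset.sum_mul]
    calc ∑ v, sgn (q v) * ∑ z, sgn (q z) = ∑ v, ∑ z, sgn (q z) * sgn (p v z) := by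
          refine Finset.sum_congr rfl fun v _ => ?_
          rw [Finset.mul_sum, ← Equiv.sum_comp (Equiv.addLeft v)]
          refine Finset.sum_congr rfl fun z _ => ?_
          show sgn (q v) * sgn (q (v + z)) = _
          rw [hq, sgn_add, sgn_add, ← mul_assoc, ← mul_assoc, ← sgn_add, CharTwo.add_self_eq_zero]
          simp [sgn]
      _ = ∑ z, sgn (q z) * ∑ v, sgn (p v z) := by rw [Finset.sum_comm]; simp [Finset.mul_sum]
      _ = sgn (q 0) * ∑ v, sgn (p v 0) := by
          refine Finset.sum_eq_single 0 (fun z _ hz => ?_) (by simp)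
          obtain ⟨u, hu⟩ : ∃ u, p u z ≠ 0 := by
            by_contra hc
            push Not at hc
            exact hz (hp z hc)
          have e : ∑ v, sgn (p v z) = -∑ v, sgn (p v z) := by
            rw [← Finset.sum_neg_distrib]
            refine (Equiv.sum_comp (Equiv.addLeft u) fun v => sgn (p v z)).symm.trans (Finset.sum_congr rfl fun v _ => ?_)
            show sgn (p (u + v) z) = _
            rw [map_add, LinearMap.add_apply, sgn_add, (two_cases _).resolve_left hu]
            show -1 * sgn (p v z) = _
            rw [neg_one_mul]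
          rw [show ∑ v, sgn (p v z) = 0 by linarith, mul_zero]
      _ = _ := by simp [sgn, q_zero q p hq]
  rw [h, mul_zero] at h1
  have h2 := Fintype.card_pos (α := W)
  omega

theorem translate_iff (hq : ∀ u v, q (u + v) = q u + q v + p u v) (hp : ∀ z, (∀ v, p v z = 0) → z = 0)
    (w : W) (hpw : p w w = 0) :
    (∃ g : W ≃ₗ[F2] W, ∀ v, q v + p v w = q (g v)) ↔ q w = 0 := by
  classical
  constructor
  · rintro ⟨g, hg⟩
    by_contra hw
    have hw1 := (two_cases _).resolve_left hw
    refine gauss_ne_zero q p hq hp ?_
    have e1 : ∑ v, sgn (q v + p v w) = ∑ v, sgn (q v) := by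
      simp only [hg]
      exact Equiv.sum_comp g.toEquiv fun v => sgn (q v)
    have e2 : ∑ v, sgn (q v + p v w) = -∑ v, sgn (q v) := by
      rw [← Finset.sum_neg_distrib]
      refine (Finset.sum_congr rfl fun v _ => ?_).trans (Equiv.sum_comp (Equiv.addRight w) fun v => -sgn (q v))
      show _ = -sgn (q (v + w))
      rw [hq, hw1, sgn_add (q v + 1), sgn_add (q v) 1, sgn_add (q v) (p v w)]
      show _ = -(sgn (q v) * -1 * sgn (p v w))
      ring
    linarith
  · intro hw
    have hinv : ∀ v, p v w • w + (v + p v w • w) - p v w • w = v + p v w • w := fun v => by abel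
    let t : W →ₗ[F2] W := LinearMap.id + (p.flip w).smulRight w
    have ht : ∀ v, t v = v + p v w • w := fun v => rfl
    have htt : ∀ v, t (t v) = v := fun v => by
      rw [ht (t v), ht v, map_add, map_smul, LinearMap.add_apply, LinearMap.smul_apply, hpw, smul_zero, add_zero,
        add_assoc, ← add_smul, CharTwo.add_self_eq_zero, zero_smul, add_zero]
    refine ⟨LinearEquiv.ofLinear t t (LinearMap.ext htt) (LinearMap.ext htt), fun v => ?_⟩
    show q v + p v w = q (t v)
    rw [ht]
    rcases two_cases (p v w) with h | h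
    · rw [h, zero_smul, add_zero, add_zero]
    · rw [h, one_smul, hq, hw, h, add_zero]

end Sums

/-- The dimension of a totally singular subspace is at most the number of hyperbolic pairs. -/
theorem finrank_le {F : Type*} [Field F] {n : ℕ} {V Z : Type*} [AddCommGroup V] [Module F V] [FiniteDimensional F V]
    [AddCommGroup Z] [Module F Z] (x y : V →ₗ[F] (Fin n → F)) (z : V →ₗ[F] Z) (r : Z → F)
    (hr : ∀ c, r c = 0 → c = 0) (hker : ∀ v, x v = 0 → y v = 0 → z v = 0 → v = 0)
    (U : Submodule F V) (hU : ∀ u ∈ U, ∑ i, x u i * y u i + r (z u) = 0) : finrank F U ≤ n := by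
  classical
  let xU := x.comp U.subtype
  let S := LinearMap.ker xU
  have hz : ∀ u : S, z (u.1 : V) = 0 := fun u => hr _ (by
    have := hU _ u.1.2
    rw [show x (u.1 : V) = 0 from u.2] at this
    simpa using this)
  have hpair : ∀ (u : U) (s : S), ∑ i, x (u : V) i * y (s.1 : V) i = 0 := fun u s => by
    have h1 := hU _ (U.add_mem u.2 s.1.2)
    have h2 := hU _ u.2
    rw [map_add, map_add, map_add, hz s, add_zero, show x (s.1 : V) = 0 from s.2, add_zero] at h1
    simp only [Pi.add_apply, mul_add, Finset.sum_add_distrib] at h1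
    linear_combination h1 - h2
  -- the pairing embeds the kernel into the annihilator
  let P := LinearMap.range xU
  let f : S →ₗ[F] Module.Dual F (Fin n → F) :=
    (dotProductEquiv F (Fin n)).toLinearMap.comp (y.comp (U.subtype.comp S.subtype))
  have hf : ∀ s, f s ∈ P.dualAnnihilator := by
    intro s
    rw [Submodule.mem_dualAnnihilator]
    rintro _ ⟨u, rfl⟩
    show dotProduct (y (s.1 : V)) (x (u : V)) = 0
    rw [dotProduct]
    refine (Finset.sum_congr rfl fun i _ => mul_comm _ _).trans (hpair u s)
  have hinj : Function.Injective (f.codRestrict P.dualAnnihilator hf) := by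
    refine (injective_iff_map_eq_zero _).2 fun s hs => ?_
    have h0 : y (s.1 : V) = 0 := (dotProductEquiv F (Fin n)).injective
      ((congrArg Subtype.val hs : f s = 0).trans (map_zero _).symm)
    exact Subtype.ext (Subtype.ext (hker _ s.2 h0 (hz s)))
  have h1 := LinearMap.finrank_le_finrank_of_injective hinj
  have h2 := Subspace.finrank_add_finrank_dualAnnihilator_eq (K := F) P
  have h3 := xU.finrank_range_add_finrank_ker
  rw [Module.finrank_fin_fun] at h2
  change finrank F P + finrank F S = finrank F U at h3
  omega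

end CfsgLib.Classical.BinaryForms
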