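import Mathlib

/-!
# The flag of iterated fixed points of a `p`-subgroup of `SL_n`
-/

set_option autoImplicit false

namespace CfsgLib.BorelTitsSL

open Matrix

variable {F : Type*} [Field F] {n : ℕ}

/-- vectors fixed modulo `W` -/
def fixMod (U : Subgroup (Matrix.SpecialLinearGroup (Fin n) F)) (W : Submodule F (Fin n → F)) :
    Submodule F (Fin n → F) :=
  ⨅ u : U, W.comap (((u : Matrix.SpecialLinearGroup (Fin n) F) : Matrix (Fin n) (Fin n) F).mulVecLin - 1)

theorem mem_fixMod {U : Subgroup (Matrix.SpecialLinearGroup (Fin n) F)} {W : Submodule F (Fin n → F)} {v : Fin n → F} :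
    v ∈ fixMod U W ↔ ∀ u ∈ U, (u : Matrix (Fin n) (Fin n) F) *ᵥ v - v ∈ W := by
  simp [fixMod]

/-- the iterates -/
def ser (U : Subgroup (Matrix.SpecialLinearGroup (Fin n) F)) : ℕ → Submodule F (Fin n → F)
  | 0 => ⊥
  | i + 1 => fixMod U (ser U i)

theorem ser_le_succ (U : Subgroup (Matrix.SpecialLinearGroup (Fin n) F)) : ∀ i, ser U i ≤ ser U (i + 1)
  | 0 => bot_le
  | i + 1 => fun v hv => mem_fixMod.2 fun u hu => ser_le_succ U i (mem_fixMod.1 hv u hu)

theorem mulVec_mem_ser (U : Subgroup (Matrix.SpecialLinearGroup (Fin n) F)) {g : Matrix.SpecialLinearGroup (Fin n) F}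
    (hg : g ∈ Subgroup.normalizer (U : Set (Matrix.SpecialLinearGroup (Fin n) F))) :
    ∀ i, ∀ v ∈ ser U i, (g : Matrix (Fin n) (Fin n) F) *ᵥ v ∈ ser U i
  | 0 => fun v hv => by
    rw [ser, Submodule.mem_bot] at hv ⊢
    rw [hv, mulVec_zero]
  | i + 1 => fun v hv => mem_fixMod.2 fun u hu => by
    obtain ⟨w, hw, e⟩ : ∃ w ∈ U, u * g = g * w := ⟨g⁻¹ * u * g, (Subgroup.mem_normalizer_iff''.1 hg u).1 hu, by group⟩
    have e2 : (u : Matrix (Fin n) (Fin n) F) *ᵥ ((g : Matrix (Fin n) (Fin n) F) *ᵥ v) =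
        (g : Matrix (Fin n) (Fin n) F) *ᵥ ((w : Matrix (Fin n) (Fin n) F) *ᵥ v) := by
      rw [Matrix.mulVec_mulVec, Matrix.mulVec_mulVec, ← Matrix.SpecialLinearGroup.coe_mul, e,
        Matrix.SpecialLinearGroup.coe_mul]
    rw [e2, ← Matrix.mulVec_sub]
    exact mulVec_mem_ser U hg i _ (mem_fixMod.1 hv w hw)

variable [Fintype F] {p : ℕ} [Fact p.Prime] [CharP F p]

theorem ser_lt_succ (U : Subgroup (Matrix.SpecialLinearGroup (Fin n) F)) (hU : IsPGroup p ↥U) (i : ℕ)
    (h : ser U i ≠ ⊤) : ser U i < ser U (i + 1) := by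
  classical
  refine lt_of_le_of_ne (ser_le_succ U i) fun heq => ?_
  have hinv : ∀ u : U, ∀ v ∈ ser U i, ((u : Matrix.SpecialLinearGroup (Fin n) F) : Matrix (Fin n) (Fin n) F) *ᵥ v ∈ ser U i :=
    fun u => mulVec_mem_ser U (Subgroup.le_normalizer u.2) i
  let X := (Fin n → F) ⧸ ser U i
  let act : ↥U → X → X := fun u => Submodule.mapQ (ser U i) (ser U i)
    ((u : Matrix.SpecialLinearGroup (Fin n) F) : Matrix (Fin n) (Fin n) F).mulVecLin (fun v hv => hinv u v hv)
  letI : MulAction ↥U X :=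
    { smul := act
      one_smul := fun x => Submodule.Quotient.induction_on _ x fun v => by
        show Submodule.Quotient.mk _ = Submodule.Quotient.mk v
        simp
      mul_smul := fun a b x => Submodule.Quotient.induction_on _ x fun v => by
        show Submodule.Quotient.mk _ = Submodule.Quotient.mk _
        simp [Matrix.mulVec_mulVec] }
  haveI : Nontrivial X := Submodule.Quotient.nontrivial_iff.2 h
  have hd : p ∣ Nat.card X := by
    rw [Module.natCard_eq_pow_finrank (K := F) (V := X)]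
    obtain ⟨e, -, he⟩ := FiniteField.card F p
    exact (Nat.card_eq_fintype_card (α := F) ▸ he ▸ dvd_pow_self p e.ne_zero).trans
      (dvd_pow_self _ (Module.finrank_pos (R := F) (M := X)).ne')
  have hfix0 : (0 : X) ∈ MulAction.fixedPoints ↥U X := fun u => map_zero (Submodule.mapQ _ _ _ _)
  obtain ⟨x, hx, hx0⟩ := hU.exists_fixed_point_of_prime_dvd_card_of_fixed_point X hd hfix0
  obtain ⟨v, rfl⟩ := Submodule.Quotient.mk_surjective _ x
  have hv : v ∈ ser U (i + 1) := mem_fixMod.2 fun u hu => (Submodule.Quotient.eq (ser U i)).1 (hx ⟨u, hu⟩)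
  rw [← heq] at hv
  exact hx0 ((Submodule.Quotient.mk_eq_zero _).2 hv).symm

theorem exists_flag (U : Subgroup (Matrix.SpecialLinearGroup (Fin n) F)) (hU : IsPGroup p ↥U) (hne : U ≠ ⊥) :
    ∃ (k : ℕ) (V : Fin (k + 2) → Submodule F (Fin n → F)), 1 ≤ k ∧ StrictMono V ∧ V 0 = ⊥ ∧ V (Fin.last (k + 1)) = ⊤ ∧
      (∀ g ∈ Subgroup.normalizer (U : Set (Matrix.SpecialLinearGroup (Fin n) F)), ∀ i, (V i).map (Matrix.mulVecLin (g : Matrix (Fin n) (Fin n) F)) = V i) ∧
      (∀ u ∈ U, ∀ i : Fin (k + 1), ∀ v ∈ V i.succ, (u : Matrix (Fin n) (Fin n) F).mulVec v - v ∈ V (Fin.castSucc i)) := by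
  classical
  have hex : ∃ i, ser U i = ⊤ := by
    by_contra h
    push Not at h
    have : ∀ i, i ≤ Module.finrank F (ser U i) := fun i => by
      induction i with
      | zero => exact Nat.zero_le _
      | succ i ih => exact Nat.lt_of_le_of_lt ih (Submodule.finrank_lt_finrank_of_lt (ser_lt_succ U hU i (h i)))
    have h1 := (this (n + 1)).trans (Submodule.finrank_le _)
    rw [Module.finrank_fintype_fun_eq_card, Fintype.card_fin] at h1
    omega
  obtain ⟨u₀, hu₀, hu₁⟩ : ∃ u ∈ U, u ≠ 1 := by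
    obtain ⟨u, hu⟩ := Subgroup.ne_bot_iff_exists_ne_one.1 hne
    exact ⟨u.1, u.2, fun h => hu (Subtype.ext h)⟩
  have h1 : ser U 1 ≠ ⊤ := fun h => hu₁ (Subtype.ext (Matrix.ext_iff_mulVec.2 fun v => by
    have := mem_fixMod.1 ((h ▸ Submodule.mem_top : v ∈ ser U 1)) _ hu₀
    rw [ser, Submodule.mem_bot, sub_eq_zero] at this
    simpa using this))
  have hlt : 2 ≤ Nat.find hex := by
    rcases Nat.lt_or_ge (Nat.find hex) 2 with h | h
    · have hs := Nat.find_spec hex
      interval_cases hN : Nat.find hex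
      · exact absurd (le_antisymm le_top (hs ▸ ser_le_succ U 0)) h1
      · exact absurd hs h1
    · exact h
  obtain ⟨k, hk⟩ : ∃ k, Nat.find hex = k + 1 := ⟨Nat.find hex - 1, by omega⟩
  refine ⟨k, fun i => ser U i.val, by omega, Fin.strictMono_iff_lt_succ.2 fun i => ?_, rfl, ?_, fun g hg i => ?_,
    fun u hu i v hv => mem_fixMod.1 hv u hu⟩
  · exact ser_lt_succ U hU i (Nat.find_min hex (by rw [hk]; exact i.isLt))
  · simp only [Fin.val_last, ← hk]
    exact Nat.find_spec hex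
  · refine le_antisymm (Submodule.map_le_iff_le_comap.2 fun v hv => mulVec_mem_ser U hg i v hv) fun v hv => ?_
    refine ⟨_, mulVec_mem_ser U (inv_mem hg) i v hv, ?_⟩
    rw [Matrix.mulVecLin_apply, Matrix.mulVec_mulVec, ← Matrix.SpecialLinearGroup.coe_mul, mul_inv_cancel,
      Matrix.SpecialLinearGroup.coe_one, Matrix.one_mulVec]

end CfsgLib.BorelTitsSL
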