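import Cfsg.Agent.Lib.Classical.ExcIsoSix
import Cfsg.Agent.Lib.Classical.PSpSimple
import Cfsg.Agent.Lib.Classical.SpOrder

/-!
# Five-dimensional orthogonal groups
-/

set_option autoImplicit false

namespace CfsgLib.Classical.ExcIsoFive

open Matrix CfsgLib.Orth CfsgLib.Classical.ExcIso CfsgLib.Classical.ExcIsoSix Cfsg.Geo CfsgLib.Perm.Trans.Quad CfsgLib.Sp

variable {F : Type*} [Field F]

local notation "I₄" => (Fin 2 ⊕ Fin 2)
local notation "Sp₄" => Matrix.symplecticGroup (Fin 2) F

/-- renumbering -/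
def ix : I₄ ≃ Fin 4 := finSumFinEquiv

/-- embedding of the hyperplane -/
def inc : (Unit ⊕ (I₄) → F) →ₗ[F] (Fin 3 ⊕ Fin 3 → F) where
  toFun w := Sum.elim ![w (.inr (.inl 0)), w (.inl ()), w (.inr (.inl 1))] ![w (.inr (.inr 0)), w (.inl ()), w (.inr (.inr 1))]
  map_add' u w := by funext i; rcases i with i | i <;> fin_cases i <;> simp
  map_smul' c w := by funext i; rcases i with i | i <;> fin_cases i <;> simp

theorem quad_inc (w : Unit ⊕ I₄ → F) : Cfsg.quadFormPlus 3 F (inc w) = Cfsg.quadFormOdd 2 F w := by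
  simp [inc, Cfsg.quadFormPlus, Cfsg.quadFormOdd, Fin.sum_univ_three, Fin.sum_univ_two]
  ring

/-- the pairing with the form -/
def co (A : Matrix I₄ I₄ F) : F := (Matrix.J (Fin 2) F * A).trace

theorem co_eq (A : Matrix I₄ I₄ F) :
    co A = -A (.inr 0) (.inl 0) - A (.inr 1) (.inl 1) + A (.inl 0) (.inr 0) + A (.inl 1) (.inr 1) := by
  simp [co, Matrix.trace, Matrix.J, Matrix.mul_apply, Fintype.sum_sum_type, Fin.sum_univ_two, Matrix.one_apply]
  ring

/-- renumbered action -/
def act5 : Sp₄ →* Module.End F (Matrix (Fin 4) (Fin 4) F) where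
  toFun g :=
    { toFun := fun X => g.1.submatrix ix.symm ix.symm * X * (g.1.submatrix ix.symm ix.symm)ᵀ
      map_add' := fun X Y => by rw [Matrix.mul_add, Matrix.add_mul]
      map_smul' := fun c X => by rw [Matrix.mul_smul, Matrix.smul_mul]; rfl }
  map_one' := LinearMap.ext fun X => by
    show (1 : Matrix I₄ I₄ F).submatrix ix.symm ix.symm * X * ((1 : Matrix I₄ I₄ F).submatrix ix.symm ix.symm)ᵀ = X
    simp
  map_mul' g h := LinearMap.ext fun X => by
    show (g.1 * h.1).submatrix ix.symm ix.symm * X * ((g.1 * h.1).submatrix ix.symm ix.symm)ᵀ =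
      g.1.submatrix ix.symm ix.symm * (h.1.submatrix ix.symm ix.symm * X * (h.1.submatrix ix.symm ix.symm)ᵀ) *
        (g.1.submatrix ix.symm ix.symm)ᵀ
    rw [← Matrix.submatrix_mul_equiv g.1 h.1 ix.symm ix.symm ix.symm]
    simp only [Matrix.transpose_mul, Matrix.mul_assoc]

theorem exists_hom5 (h2 : (2 : F) ≠ 0) (hdet : ∀ g : Sp₄, g.1.det = 1) : ∃ φ : Sp₄ →* Cfsg.isometryGroup F (Cfsg.quadFormOdd 2 F),
    (∀ g : Sp₄, g.1 = 1 ∨ g.1 = -1 → φ g = 1) ∧ ∃ g, φ g ≠ 1 := by
  let T : (Unit ⊕ I₄ → F) →ₗ[F] Matrix (Fin 4) (Fin 4) F := wedge.comp inc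
  have hT : Function.Injective T := wedge_injective.comp fun u w h => by
    funext i
    rcases i with i | i | i
    · exact congrFun h (.inl 1)
    · fin_cases i
      · exact congrFun h (.inl 0)
      · exact congrFun h (.inl 2)
    · fin_cases i
      · exact congrFun h (.inr 0)
      · exact congrFun h (.inr 2)
  have hco : ∀ v, co ((wedge (F := F) v).submatrix ix ix) = 2 * (v (.inl 1) - v (.inr 1)) := fun v => by
    rw [co_eq]
    simp [ix, wedge, upper, finSumFinEquiv, Fin.natAdd, Fin.castAdd, Fin.castLE]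
    ring
  obtain ⟨φ, hφ⟩ := hom_of_embed (Cfsg.quadFormOdd 2 F) T hT act5 (fun g w => by
    set g' := g.1.submatrix ix.symm ix.symm
    obtain ⟨v, hv⟩ := wedge_range (g' * upper (inc w) * g'ᵀ)
    have hv' : wedge v = g' * wedge (inc w) * g'ᵀ := hv.trans (by
      show _ = g' * (upper (inc w) - (upper (inc w))ᵀ) * g'ᵀ
      simp only [Matrix.transpose_mul, Matrix.transpose_transpose, Matrix.mul_sub, Matrix.sub_mul, Matrix.mul_assoc])
    have h0 : co ((wedge v).submatrix ix ix) = 0 := by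
      rw [hv', ← Matrix.submatrix_mul_equiv _ _ _ ix ix, ← Matrix.submatrix_mul_equiv _ _ _ ix ix,
        ← Matrix.transpose_submatrix]
      simp only [g', Matrix.submatrix_submatrix, Equiv.symm_comp_self, Matrix.submatrix_id_id]
      have hg := SymplecticGroup.mem_iff'.1 g.2
      rw [co, ← Matrix.mul_assoc, Matrix.trace_mul_comm, ← Matrix.mul_assoc, ← Matrix.mul_assoc, hg]
      show co ((wedge (inc w)).submatrix ix ix) = 0
      rw [hco]
      simp [inc]
    have hv1 : v (.inl 1) = v (.inr 1) := by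
      rw [hco] at h0
      exact sub_eq_zero.1 ((mul_eq_zero.1 h0).resolve_left h2)
    refine ⟨Sum.elim (fun _ => v (.inl 1)) (Sum.elim ![v (.inl 0), v (.inl 2)] ![v (.inr 0), v (.inr 2)]), ?_⟩
    show wedge (inc _) = g' * wedge (inc w) * g'ᵀ
    rw [← hv']
    congr 1
    funext i
    rcases i with i | i <;> fin_cases i <;> simp [inc, hv1]) fun g x y h => by
    rw [← quad_inc, ← quad_inc, pf_wedge, pf_wedge]
    change wedge (inc y) = g.1.submatrix ix.symm ix.symm * wedge (inc x) * (g.1.submatrix ix.symm ix.symm)ᵀ at h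
    rw [h, pf_conj, Matrix.det_submatrix_equiv_self]
    rw [hdet, one_mul]
  refine ⟨φ, fun g hg => (apply_eq_one_iff T hT act5 hφ g).2 fun x => ?_, ?_⟩
  · show g.1.submatrix ix.symm ix.symm * T x * (g.1.submatrix ix.symm ix.symm)ᵀ = T x
    rcases hg with hg | hg <;> rw [hg]
    · simp
    · simp [Matrix.submatrix_neg]
  let d : Matrix I₄ I₄ F := Matrix.diagonal (Sum.elim ![-1, 1] ![-1, 1])
  have hd : d ∈ Matrix.symplecticGroup (Fin 2) F := by
    rw [SymplecticGroup.mem_iff]
    ext i j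
    rcases i with i | i <;> rcases j with j | j <;> fin_cases i <;> fin_cases j <;>
      simp [d, Matrix.J, Matrix.diagonal_mul, Matrix.mul_diagonal]
  refine ⟨⟨d, hd⟩, fun h => ?_⟩
  have h' := (apply_eq_one_iff T hT act5 hφ _).1 h (Sum.elim 0 (Sum.elim ![1, 0] 0))
  have := congrFun (congrFun h' 0) 1
  change (d.submatrix ix.symm ix.symm * T _ * (d.submatrix ix.symm ix.symm)ᵀ) 0 1 = _ at this
  simp [d, T, inc, wedge, upper, ix, Matrix.mul_apply, Fin.sum_univ_four, finSumFinEquiv, Matrix.diagonal,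
    Fin.addCases] at this
  exact h2 (by linear_combination -this)

theorem omega_five [Fintype F] (hodd : Odd (Fintype.card F)) :
    Nonempty (Cfsg.POmega F (Cfsg.quadFormOdd 2 F) ≃* Cfsg.PSp 2 F) := by
  classical
  have h2 : (2 : F) ≠ 0 := CfsgLib.CentralPair.two_ne_zero_of_odd hodd
  have hq : 3 ≤ Fintype.card F := by
    have := Fintype.one_lt_card (α := F)
    obtain ⟨k, hk⟩ := hodd
    omega
  have hperf := commutator_symplectic (F := F) (m := 2) (Or.inr (Or.inl ⟨rfl, hq⟩))
  let D : Sp₄ →* F :=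
    { toFun := fun g => g.1.det
      map_one' := Matrix.det_one
      map_mul' := fun g h => Matrix.det_mul g.1 h.1 }
  have hdet : ∀ g : Sp₄, g.1.det = 1 := fun g =>
    congrArg Units.val (DFunLike.congr_fun (hom_trivial_of_perfect hperf D.toHomUnits) g)
  obtain ⟨φ, hφ, g₀, hg₀⟩ := exists_hom5 h2 hdet
  have hsimp := psp_isSimple (F := F) (m := 2) le_rfl fun _ => hq
  have hcen : ∀ g : Sp₄, g ∈ Subgroup.center Sp₄ ↔ g.1 = 1 ∨ g.1 = -1 := fun g => by
    refine ⟨fun hg => center_scalar (by omega) fun v _ => (Subgroup.mem_center_iff.1 hg _).symm, fun h =>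
      Subgroup.mem_center_iff.2 fun s => Subtype.ext ?_⟩
    show s.1 * g.1 = g.1 * s.1
    rcases h with h | h <;> simp [h]
  have hker : φ.ker = Subgroup.center Sp₄ := by
    refine le_antisymm ?_ fun g hg => hφ g ((hcen g).1 hg)
    let π : Sp₄ →* Cfsg.PSp 2 F := QuotientGroup.mk' _
    rcases (Subgroup.Normal.map inferInstance π (QuotientGroup.mk'_surjective _) :
      (φ.ker.map π).Normal).eq_bot_or_eq_top with h | h
    · exact fun x hx => (QuotientGroup.eq_one_iff x).1 ((Subgroup.eq_bot_iff_forall _).1 h _ (Subgroup.mem_map_of_mem π hx))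
    · exfalso
      refine hg₀ ?_
      have hle : commutator Sp₄ ≤ φ.ker := by
        rw [commutator_def, Subgroup.commutator_le]
        intro x _ y _
        obtain ⟨a, ha, ea⟩ : π x ∈ φ.ker.map π := h ▸ Subgroup.mem_top _
        obtain ⟨b, hb, eb⟩ : π y ∈ φ.ker.map π := h ▸ Subgroup.mem_top _
        have hxz : φ x = 1 := by
          have hz : φ (a⁻¹ * x) = 1 := hφ _ ((hcen _).1 (QuotientGroup.eq.1 ea))
          rwa [map_mul, map_inv, MonoidHom.mem_ker.1 ha, inv_one, one_mul] at hz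
        rw [MonoidHom.mem_ker, map_commutatorElement, hxz, commutatorElement_one_left]
      exact hle (hperf ▸ Subgroup.mem_top g₀)
  have hk : Nat.card (Subgroup.center Sp₄) = 2 := by
    have hne : (-1 : Matrix I₄ I₄ F) ≠ 1 := fun h => h2 (by
      have := congrFun (congrFun h (.inl 0)) (.inl 0)
      simp at this
      linear_combination -this)
    have hmem : (-1 : Matrix I₄ I₄ F) ∈ Matrix.symplecticGroup (Fin 2) F :=
      SymplecticGroup.neg_mem (one_mem _)
    rw [Nat.card_eq_two_iff]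
    refine ⟨⟨1, one_mem _⟩, ⟨⟨-1, hmem⟩, (hcen _).2 (Or.inr rfl)⟩,
      fun h => hne (congrArg (fun z : Subgroup.center Sp₄ => z.1.1) h).symm, Set.eq_univ_of_forall fun z => ?_⟩
    rcases (hcen z.1).1 z.2 with h | h
    · exact Or.inl (Subtype.ext (Subtype.ext h))
    · exact Or.inr (Subtype.ext (Subtype.ext h))
  refine pomega_equiv φ hker.le (le_omega φ fun ψ => hom_trivial_of_perfect hperf ψ) ?_
    (center_quotient_bot hperf hsimp)
  rw [hker, hk, omega_index_odd (quadFormOdd_nd (F := F) (m := 2) h2) (by simp) h2,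
    CfsgLib.Classical.card_symplectic, CfsgLib.Classical.card_iso_odd h2 2]
  ring

end CfsgLib.Classical.ExcIsoFive
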