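import Cfsg.Agent.Lib.Classical.ExcIso
import Cfsg.Agent.Lib.Classical.SmallOrth
import Cfsg.Agent.Lib.Classical.HermOrder

/-!
# Orthogonal groups in dimensions three and four
-/

set_option autoImplicit false

namespace CfsgLib.Classical.ExcIsoTwo

open Matrix CfsgLib.Orth CfsgLib.Classical.ExcIso Cfsg.Geo CfsgLib.Perm.Trans.Quad

variable {F : Type*} [Field F] [Fintype F]

local notation "SL₂" => Matrix.SpecialLinearGroup (Fin 2) F

omit [Fintype F] in
theorem scalar_of_commute {g : Matrix (Fin 2) (Fin 2) F} (h1 : g * !![0, 1; 0, 0] = !![0, 1; 0, 0] * g)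
    (h2 : g * !![0, 0; 1, 0] = !![0, 0; 1, 0] * g) : g = Matrix.scalar (Fin 2) (g 0 0) := by
  have a := congrFun (congrFun h1 0) 0
  have b := congrFun (congrFun h1 0) 1
  have c := congrFun (congrFun h2 0) 0
  simp [Matrix.mul_apply, Fin.sum_univ_two] at a b c
  ext i j
  fin_cases i <;> fin_cases j <;> simp [a, b, c]

omit [Fintype F] in
theorem sl2_center_iff {g : SL₂} : g ∈ Subgroup.center SL₂ ↔ g.1 = Matrix.scalar (Fin 2) (g.1 0 0) := by
  constructor
  · intro hg
    have h1 : !![1, 1; 0, 1] * g.1 = g.1 * !![1, 1; 0, 1] :=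
      congrArg Subtype.val (Subgroup.mem_center_iff.1 hg ⟨!![1, 1; 0, 1], by simp [Matrix.det_fin_two]⟩)
    have h2 : !![1, 0; 1, 1] * g.1 = g.1 * !![1, 0; 1, 1] :=
      congrArg Subtype.val (Subgroup.mem_center_iff.1 hg ⟨!![1, 0; 1, 1], by simp [Matrix.det_fin_two]⟩)
    refine scalar_of_commute ?_ ?_
    · have e : (!![0, 1; 0, 0] : Matrix (Fin 2) (Fin 2) F) = !![1, 1; 0, 1] - 1 := by
        ext i j; fin_cases i <;> fin_cases j <;> simp
      rw [e, mul_sub, sub_mul, h1, mul_one, one_mul]
    · have e : (!![0, 0; 1, 0] : Matrix (Fin 2) (Fin 2) F) = !![1, 0; 1, 1] - 1 := by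
        ext i j; fin_cases i <;> fin_cases j <;> simp
      rw [e, mul_sub, sub_mul, h2, mul_one, one_mul]
  · intro hg
    refine Subgroup.mem_center_iff.2 fun s => Subtype.ext ?_
    rw [Matrix.SpecialLinearGroup.coe_mul, Matrix.SpecialLinearGroup.coe_mul, hg,
      (Matrix.scalar_commute _ (fun _ => Commute.all _ _) s.1).eq]

theorem card_center_two : Nat.card (Subgroup.center SL₂) = Nat.card (SqClass F) := by
  rw [card_sqClass_gcd, CfsgLib.Classical.card_center_sl (n := 2) (by omega)]

omit [Fintype F] in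
theorem inv_mul_val {n : Type} [Fintype n] [DecidableEq n] (g : Matrix.SpecialLinearGroup n F) : (g⁻¹).1 * g.1 = 1 := by
  rw [← Matrix.SpecialLinearGroup.coe_mul, inv_mul_cancel, Matrix.SpecialLinearGroup.coe_one]

omit [Fintype F] in
theorem mul_inv_val {n : Type} [Fintype n] [DecidableEq n] (g : Matrix.SpecialLinearGroup n F) : g.1 * (g⁻¹).1 = 1 := by
  rw [← Matrix.SpecialLinearGroup.coe_mul, mul_inv_cancel, Matrix.SpecialLinearGroup.coe_one]

/-- the adjoint action -/
def adj : SL₂ →* Module.End F (Matrix (Fin 2) (Fin 2) F) where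
  toFun g :=
    { toFun := fun X => g.1 * X * (g⁻¹).1
      map_add' := fun X Y => by rw [Matrix.mul_add, Matrix.add_mul]
      map_smul' := fun c X => by rw [Matrix.mul_smul, Matrix.smul_mul]; rfl }
  map_one' := LinearMap.ext fun X => by simp
  map_mul' g h := LinearMap.ext fun X => by
    show (g * h).1 * X * ((g * h)⁻¹).1 = g.1 * (h.1 * X * (h⁻¹).1) * (g⁻¹).1
    rw [_root_.mul_inv_rev]
    simp only [Matrix.SpecialLinearGroup.coe_mul, Matrix.mul_assoc]

theorem omega_three (hodd : Odd (Fintype.card F)) :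
    Nonempty (Cfsg.POmega F (Cfsg.quadFormOdd 1 F) ≃* Matrix.ProjectiveSpecialLinearGroup (Fin 2) F) := by
  classical
  have h2 : (2 : F) ≠ 0 := CfsgLib.CentralPair.two_ne_zero_of_odd hodd
  have hq : 3 ≤ Fintype.card F := by
    have := Fintype.one_lt_card (α := F)
    obtain ⟨k, hk⟩ := hodd
    omega
  let T : (Unit ⊕ (Fin 1 ⊕ Fin 1) → F) →ₗ[F] Matrix (Fin 2) (Fin 2) F :=
    { toFun := fun v => !![v (.inl ()), v (.inr (.inl 0)); v (.inr (.inr 0)), -v (.inl ())]
      map_add' := fun u v => by ext i j; fin_cases i <;> fin_cases j <;> simp <;> ring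
      map_smul' := fun c v => by ext i j; fin_cases i <;> fin_cases j <;> simp }
  have hT : Function.Injective T := fun u v h => by
    funext i
    rcases i with i | i | i
    · exact congrFun (congrFun h 0) 0
    · rw [Fin.fin_one_eq_zero i]; exact congrFun (congrFun h 0) 1
    · rw [Fin.fin_one_eq_zero i]; exact congrFun (congrFun h 1) 0
  have hQT : ∀ v, Cfsg.quadFormOdd 1 F v = -(T v).det := fun v => by
    simp [T, Cfsg.quadFormOdd, Matrix.det_fin_two]; ring
  obtain ⟨φ, hφ⟩ := hom_of_embed (Cfsg.quadFormOdd 1 F) T hT adj (fun g x => by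
    have htr : (adj g (T x)).trace = 0 := by
      show (g.1 * T x * (g⁻¹).1).trace = 0
      rw [Matrix.trace_mul_cycle, inv_mul_val, one_mul]
      simp [T, Matrix.trace_fin_two]
    refine ⟨Sum.elim (fun _ => adj g (T x) 0 0) (Sum.elim (fun _ => adj g (T x) 0 1) fun _ => adj g (T x) 1 0), ?_⟩
    rw [Matrix.trace_fin_two] at htr
    ext i j
    fin_cases i <;> fin_cases j <;> simp [T]
    linear_combination -htr) fun g x y h => by
    rw [hQT, hQT, h]
    show -(g.1 * T x * (g⁻¹).1).det = _
    rw [Matrix.det_mul, Matrix.det_mul, g.2, (g⁻¹).2, one_mul, mul_one]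
  have hker : φ.ker = Subgroup.center SL₂ := by
    ext g
    rw [MonoidHom.mem_ker, apply_eq_one_iff T hT adj hφ]
    constructor
    · intro h
      refine sl2_center_iff.2 ?_
      have hc : ∀ v, g.1 * T v = T v * g.1 := fun v => by
        have := congrArg (· * g.1) (h v)
        change g.1 * T v * (g⁻¹).1 * g.1 = T v * g.1 at this
        rwa [mul_assoc _ (g⁻¹).1, inv_mul_val, mul_one] at this
      refine scalar_of_commute ?_ ?_
      · simpa [T] using hc (Sum.elim 0 (Sum.elim 1 0))
      · simpa [T] using hc (Sum.elim 0 (Sum.elim 0 1))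
    · intro hg x
      show g.1 * T x * (g⁻¹).1 = T x
      rw [sl2_center_iff.1 hg, (Matrix.scalar_commute _ (fun _ => Commute.all _ _) (T x)).eq,
        ← sl2_center_iff.1 hg, mul_assoc, mul_inv_val, mul_one]
  have hQ := quadFormOdd_nd (F := F) (m := 1) h2
  have hex : Fintype.card F ≠ 2 ∨ Fintype.card (Unit ⊕ (Fin 1 ⊕ Fin 1)) ≠ 4 := Or.inl (by omega)
  refine pomega_equiv φ hker.le (le_omega φ (sl_two_hom_trivial hq (abelianization_pow_four hQ (by simp) hex))) ?_
    (center_psl_bot le_rfl fun _ => hq)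
  rw [omega_index_eq hQ (by simp) hex, hker, card_center_two, CfsgLib.Classical.card_sl2,
    CfsgLib.Classical.card_iso_odd h2 1, Finset.prod_range_one]
  obtain ⟨k, hk⟩ : ∃ k, Fintype.card F = k + 3 := ⟨_, (Nat.sub_add_cancel hq).symm⟩
  rw [hk, show (k + 3) ^ (2 * (0 + 1)) - 1 = (k + 2) * (k + 4) by
    rw [show (k + 3) ^ (2 * (0 + 1)) = (k + 2) * (k + 4) + 1 by ring]; omega, show k + 3 - 1 = k + 2 by omega]
  ring

/-- left and right multiplication -/
def pairAct : SL₂ × SL₂ →* Module.End F (Matrix (Fin 2) (Fin 2) F) where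
  toFun g :=
    { toFun := fun X => g.1.1 * X * (g.2⁻¹).1
      map_add' := fun X Y => by rw [Matrix.mul_add, Matrix.add_mul]
      map_smul' := fun c X => by rw [Matrix.mul_smul, Matrix.smul_mul]; rfl }
  map_one' := LinearMap.ext fun X => by simp
  map_mul' g h := LinearMap.ext fun X => by
    show (g * h).1.1 * X * ((g * h).2⁻¹).1 = g.1.1 * (h.1.1 * X * (h.2⁻¹).1) * (g.2⁻¹).1
    simp only [Prod.fst_mul, Prod.snd_mul, _root_.mul_inv_rev, Matrix.SpecialLinearGroup.coe_mul, Matrix.mul_assoc]

omit [Fintype F] in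
theorem center_prod_eq {G H : Type*} [Group G] [Group H] :
    Subgroup.center (G × H) = (Subgroup.center G).prod (Subgroup.center H) := by
  ext ⟨a, b⟩
  simp only [Subgroup.mem_prod, Subgroup.mem_center_iff, Prod.forall, Prod.mk_mul_mk, Prod.mk.injEq]
  exact ⟨fun h => ⟨fun x => (h x 1).1, fun y => (h 1 y).2⟩, fun h x y => ⟨h.1 x, h.2 y⟩⟩

theorem omega_four_plus (hq : 3 ≤ Fintype.card F) :
    Nonempty (Cfsg.POmega F (Cfsg.quadFormPlus 2 F) ≃*
      Matrix.ProjectiveSpecialLinearGroup (Fin 2) F × Matrix.ProjectiveSpecialLinearGroup (Fin 2) F) := by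
  classical
  let T : (Fin 2 ⊕ Fin 2 → F) →ₗ[F] Matrix (Fin 2) (Fin 2) F :=
    { toFun := fun v => !![v (.inl 0), v (.inl 1); -v (.inr 1), v (.inr 0)]
      map_add' := fun u v => by ext i j; fin_cases i <;> fin_cases j <;> simp <;> ring
      map_smul' := fun c v => by ext i j; fin_cases i <;> fin_cases j <;> simp }
  have hT : Function.Injective T := fun u v h => by
    funext i
    rcases i with i | i <;> fin_cases i
    · exact congrFun (congrFun h 0) 0
    · exact congrFun (congrFun h 0) 1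
    · exact congrFun (congrFun h 1) 1
    · exact neg_injective (congrFun (congrFun h 1) 0)
  have hsurj : ∀ X, ∃ v, T v = X := fun X => ⟨Sum.elim ![X 0 0, X 0 1] ![X 1 1, -X 1 0], by
    ext i j; fin_cases i <;> fin_cases j <;> simp [T]⟩
  have hQT : ∀ v, Cfsg.quadFormPlus 2 F v = (T v).det := fun v => by
    simp [T, Cfsg.quadFormPlus, Matrix.det_fin_two, Fin.sum_univ_two]
  obtain ⟨φ, hφ⟩ := hom_of_embed (Cfsg.quadFormPlus 2 F) T hT pairAct (fun g x => hsurj _) fun g x y h => by
    rw [hQT, hQT, h]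
    show (g.1.1 * T x * (g.2⁻¹).1).det = _
    rw [Matrix.det_mul, Matrix.det_mul, g.1.2, (g.2⁻¹).2, one_mul, mul_one]
  have hker : ∀ g : SL₂ × SL₂, g ∈ φ.ker ↔ g.1 = g.2 ∧ g.1 ∈ Subgroup.center SL₂ := fun g => by
    rw [MonoidHom.mem_ker, apply_eq_one_iff T hT pairAct hφ]
    constructor
    · intro h
      have hX : ∀ X, g.1.1 * X = X * g.2.1 := fun X => by
        obtain ⟨v, rfl⟩ := hsurj X
        have := congrArg (· * g.2.1) (h v)
        change g.1.1 * T v * (g.2⁻¹).1 * g.2.1 = T v * g.2.1 at this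
        rwa [mul_assoc _ (g.2⁻¹).1, inv_mul_val, mul_one] at this
      have h1 : g.1 = g.2 := Subtype.ext (by simpa using hX 1)
      exact ⟨h1, sl2_center_iff.2 (scalar_of_commute (by rw [hX, h1]) (by rw [hX, h1]))⟩
    · rintro ⟨h1, hc⟩ x
      show g.1.1 * T x * (g.2⁻¹).1 = T x
      rw [← h1, sl2_center_iff.1 hc, (Matrix.scalar_commute _ (fun _ => Commute.all _ _) (T x)).eq,
        ← sl2_center_iff.1 hc, mul_assoc, mul_inv_val, mul_one]
  have hQ := quadFormPlus_nd (F := F) (m := 2)
  have hex : Fintype.card F ≠ 2 ∨ Fintype.card (Fin 2 ⊕ Fin 2) ≠ 4 := Or.inl (by omega)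
  have hK : φ.ker ≤ Subgroup.center (SL₂ × SL₂) := fun g hg => by
    obtain ⟨h1, hc⟩ := (hker g).1 hg
    rw [center_prod_eq, Subgroup.mem_prod]
    exact ⟨hc, h1 ▸ hc⟩
  let π : SL₂ × SL₂ →* Matrix.ProjectiveSpecialLinearGroup (Fin 2) F × Matrix.ProjectiveSpecialLinearGroup (Fin 2) F :=
    (QuotientGroup.mk' (Subgroup.center SL₂)).prodMap (QuotientGroup.mk' (Subgroup.center SL₂))
  have hπ : Function.Surjective π := (QuotientGroup.mk'_surjective _).prodMap (QuotientGroup.mk'_surjective _)
  have hπk : π.ker = Subgroup.center (SL₂ × SL₂) := by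
    rw [center_prod_eq, MonoidHom.ker_prodMap, QuotientGroup.ker_mk']
  let e : (SL₂ × SL₂) ⧸ Subgroup.center (SL₂ × SL₂) ≃* _ :=
    (QuotientGroup.quotientMulEquivOfEq hπk.symm).trans (QuotientGroup.quotientKerEquivOfSurjective π hπ)
  have hZ : Subgroup.center ((SL₂ × SL₂) ⧸ Subgroup.center (SL₂ × SL₂)) = ⊥ := by
    refine (Subgroup.eq_bot_iff_forall _).2 fun x hx => e.injective ?_
    have hx' : e x ∈ Subgroup.center _ := Subgroup.mem_center_iff.2 fun y => by
      obtain ⟨y, rfl⟩ := e.surjective y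
      rw [← map_mul, ← map_mul, Subgroup.mem_center_iff.1 hx y]
    rw [center_prod_eq, center_psl_bot le_rfl fun _ => hq, Subgroup.bot_prod_bot, Subgroup.mem_bot] at hx'
    rw [hx', map_one]
  obtain ⟨e'⟩ := pomega_equiv φ hK (le_omega φ fun ψ => by
    have ht := fun χ => sl_two_hom_trivial (A := Abelianization (Cfsg.isometryGroup F (Cfsg.quadFormPlus 2 F))) hq
      (abelianization_pow_four hQ (by simp) hex) χ
    refine MonoidHom.ext fun g => ?_
    rw [show g = (g.1, 1) * (1, g.2) by simp, map_mul]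
    have e1 : ψ (g.1, 1) = 1 := DFunLike.congr_fun (ht (ψ.comp (MonoidHom.inl _ _))) g.1
    have e2 : ψ (1, g.2) = 1 := DFunLike.congr_fun (ht (ψ.comp (MonoidHom.inr _ _))) g.2
    rw [e1, e2, one_mul]; rfl) (by
    have hc : Nat.card φ.ker = Nat.card (SqClass F) := by
      rw [← card_center_two]
      exact Nat.card_congr
        { toFun := fun g => ⟨g.1.1, ((hker g.1).1 g.2).2⟩
          invFun := fun z => ⟨(z.1, z.1), (hker _).2 ⟨rfl, z.2⟩⟩
          left_inv := fun g => Subtype.ext (Prod.ext rfl ((hker g.1).1 g.2).1)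
          right_inv := fun z => rfl }
    rw [omega_index_eq hQ (by simp) hex, hc, Nat.card_prod, CfsgLib.Classical.card_sl2,
      CfsgLib.Classical.card_iso_plus (F := F) 1, Finset.prod_range_one]
    obtain ⟨k, hk⟩ : ∃ k, Fintype.card F = k + 3 := ⟨_, (Nat.sub_add_cancel hq).symm⟩
    rw [hk, show (k + 3) ^ (2 * (0 + 1)) - 1 = (k + 2) * (k + 4) by
      rw [show (k + 3) ^ (2 * (0 + 1)) = (k + 2) * (k + 4) + 1 by ring]; omega, show k + 3 - 1 = k + 2 by omega]
    ring) hZ
  exact ⟨e'.trans e⟩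

/-- `O⁻₄(2)` is the symmetric group of degree five. -/
theorem iso_minus_two (hF : Fintype.card F = 2) :
    Nonempty (↥(Cfsg.isometryGroup F (Cfsg.quadFormMinus 1 F 1 1)) ≃* Equiv.Perm (Fin 5)) := by
  obtain ⟨φ, hφ⟩ := CfsgLib.Classical.SmallOrth.permFive
  have hc : Nat.card ↥(Cfsg.isometryGroup (ZMod 2) (Cfsg.quadFormMinus 1 (ZMod 2) 1 1)) = Nat.card (Equiv.Perm (Fin 5)) := by
    rw [CfsgLib.Classical.card_iso_minus (F := ZMod 2) (by decide) 1, Nat.card_perm, Nat.card_fin, ZMod.card]
    simp [Nat.factorial]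
  have hbij : Function.Bijective φ := (Nat.bijective_iff_injective_and_card φ).2 ⟨hφ, hc.symm⟩
  let e : ZMod 2 ≃+* F := FiniteField.ringEquivOfCardEq (by rw [ZMod.card, hF])
  exact ⟨(CfsgLib.Classical.SmallOrth.isoEquiv e
    (fun v => by simp only [Cfsg.quadFormMinus, map_add, map_mul, map_sum, map_pow, map_one])).symm.trans
    (MulEquiv.ofBijective φ hbij).symm⟩

omit [Fintype F] in
theorem index_commutator_perm {G : Type*} [Group G] (e : G ≃* Equiv.Perm (Fin 5)) : (commutator G).index = 2 := by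
  have halt : commutator (Equiv.Perm (Fin 5)) = alternatingGroup (Fin 5) := by
    refine le_antisymm alternatingGroup.commutator_perm_le ?_
    rw [← commutator_alternatingGroup_eq_self (α := Fin 5) (by simp), commutator_def]
    exact Subgroup.commutator_mono le_top le_top
  have hmap : commutator G = (alternatingGroup (Fin 5)).map e.symm.toMonoidHom := by
    rw [← halt, commutator_def, commutator_def, Subgroup.map_commutator, ← MonoidHom.range_eq_map,
      MonoidHom.range_eq_top.2 (show Function.Surjective e.symm.toMonoidHom from e.symm.surjective)]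
  rw [hmap]
  exact (Subgroup.index_map_equiv _ e.symm).trans alternatingGroup.index_eq_two

theorem omega_four_minus {K : Type*} [Field K] [Fintype K] {q : ℕ} (hF : Fintype.card F = q)
    (hK : Fintype.card K = q ^ 2) {a b : F}
    (hab : ∀ z₁ z₂ : F, z₁ ^ 2 + a * z₁ * z₂ + b * z₂ ^ 2 = 0 → z₁ = 0 ∧ z₂ = 0) :
    Nonempty (Cfsg.POmega F (Cfsg.quadFormMinus 1 F a b) ≃* Matrix.ProjectiveSpecialLinearGroup (Fin 2) K) := by
  classical
  obtain ⟨C⟩ := CfsgLib.Classical.uctx_exists hK
  obtain ⟨f, w, hw⟩ := exists_root hF hK hab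
  letI : Algebra F K := f.toAlgebra
  have hfb : ∀ x, C.bar (f x) = f x := fun x => by rw [C.bar_eq, ← map_pow, ← hF, FiniteField.pow_card]
  have hwne : C.bar w ≠ w := by
    intro hfix
    have hcard : Nat.card (CfsgLib.Descent.fixedField C.bar) = q := by
      have h := CfsgLib.Descent.card_fixedField_pow C.bar
      rw [C.order_two, hK] at h
      exact Nat.pow_left_injective two_ne_zero h
    have hinj : Function.Injective fun x : F => (⟨f x, hfb x⟩ : CfsgLib.Descent.fixedField C.bar) :=
      fun x y h => f.injective (congrArg Subtype.val h)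
    have hbij := (Nat.bijective_iff_injective_and_card _).2 ⟨hinj, by rw [Nat.card_eq_fintype_card, hF, hcard]⟩
    obtain ⟨t, ht⟩ := hbij.2 ⟨w, hfix⟩
    have ht' : f t = w := congrArg Subtype.val ht
    exact one_ne_zero (hab t 1 (f.injective (by simp only [map_add, map_mul, map_pow, map_one, map_zero, ht']; linear_combination hw))).2
  have hbw : C.bar w = -f a - w := by
    have h := congrArg C.bar hw
    rw [map_add, map_add, map_pow, map_mul, hfb, hfb, map_zero] at h
    refine sub_eq_zero.1 ((mul_eq_zero.1 (show (C.bar w - w) * (C.bar w - (-f a - w)) = 0 by linear_combination h - hw)).resolve_left (sub_ne_zero.2 hwne))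
  let z : F → F → K := fun u v => f u - f v * w
  have hzN : ∀ u v, z u v * C.bar (z u v) = f (u ^ 2 + a * u * v + b * v ^ 2) := fun u v => by
    simp only [z, map_sub, map_mul, hfb, hbw, map_add, map_pow]
    linear_combination -(f v) ^ 2 * hw
  let T : ((Fin 1 ⊕ Fin 1) ⊕ Fin 2 → F) →ₗ[F] Matrix (Fin 2) (Fin 2) K :=
    { toFun := fun v => !![-f (v (.inl (.inl 0))), z (v (.inr 0)) (v (.inr 1)); C.bar (z (v (.inr 0)) (v (.inr 1))), f (v (.inl (.inr 0)))]
      map_add' := fun u v => by ext i j; fin_cases i <;> fin_cases j <;> simp [z] <;> ring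
      map_smul' := fun c v => by
        ext i j
        fin_cases i <;> fin_cases j <;> simp [z, Algebra.smul_def, RingHom.algebraMap_toAlgebra, hfb] <;> ring }
  have hQT : ∀ v, f (Cfsg.quadFormMinus 1 F a b v) = -(T v).det := fun v => by
    simp only [Cfsg.quadFormMinus, Fin.sum_univ_one, map_add, ← hzN, map_mul]
    simp [T, Matrix.det_fin_two]
    ring
  have hzinj : Function.Injective fun p : F × F => z p.1 p.2 := fun p r h => by
    have hb := congrArg C.bar h
    simp only [z, map_sub, map_mul, hfb] at h hb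
    have e : f p.2 = f r.2 := mul_right_cancel₀ (sub_ne_zero.2 hwne.symm) (show f p.2 * (w - C.bar w) = f r.2 * (w - C.bar w) by
      linear_combination hb - h)
    exact Prod.ext (f.injective (by linear_combination h + w * e)) (f.injective e)
  have hzsurj : Function.Surjective fun p : F × F => z p.1 p.2 :=
    ((Nat.bijective_iff_injective_and_card _).2 ⟨hzinj, by rw [Nat.card_prod, Nat.card_eq_fintype_card, Nat.card_eq_fintype_card, hF, hK, sq]⟩).2
  have hT : Function.Injective T := fun u v h => by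
    have h0 := congrFun (congrFun h 0) 0
    have h1 := congrFun (congrFun h 1) 1
    have h2 : z (u (.inr 0)) (u (.inr 1)) = z (v (.inr 0)) (v (.inr 1)) := congrFun (congrFun h 0) 1
    obtain ⟨e1, e2⟩ := Prod.ext_iff.1 (hzinj (a₁ := (u (.inr 0), u (.inr 1))) (a₂ := (v (.inr 0), v (.inr 1))) h2)
    funext i
    rcases i with (i | i) | i
    · rw [Fin.fin_one_eq_zero i]; exact f.injective (neg_injective h0)
    · rw [Fin.fin_one_eq_zero i]; exact f.injective h1
    · fin_cases i
      · exact e1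
      · exact e2
  have hrange : ∀ Y : Matrix (Fin 2) (Fin 2) K, (Y.map C.bar)ᵀ = Y → ∃ v, T v = Y := fun Y hY => by
    have hfix : ∀ i, C.bar (Y i i) = Y i i := fun i => congrFun (congrFun hY i) i
    have hY10 : C.bar (Y 0 1) = Y 1 0 := congrFun (congrFun hY 1) 0
    obtain ⟨⟨u, v⟩, huv⟩ := hzsurj (Y 0 1)
    have hin : ∀ y, C.bar y = y → ∃ x, f x = y := fun y hy => by
      obtain ⟨⟨x, x'⟩, hx⟩ := hzsurj y
      refine ⟨x, ?_⟩
      have h0 : x' = 0 := by
        have hb := congrArg C.bar hx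
        simp only [z, map_sub, map_mul, hfb, hy] at hx hb
        exact f.injective (by rw [map_zero]; exact (mul_eq_zero.1 (show f x' * (w - C.bar w) = 0 by linear_combination hb - hx)).resolve_right (sub_ne_zero.2 hwne.symm))
      simpa [z, h0] using hx
    obtain ⟨x, hx⟩ := hin _ (show C.bar (-Y 0 0) = -Y 0 0 by rw [map_neg, hfix])
    obtain ⟨y, hy⟩ := hin _ (hfix 1)
    refine ⟨Sum.elim (Sum.elim (fun _ => x) fun _ => y) ![u, v], ?_⟩
    simp only at huv
    ext i j
    fin_cases i <;> fin_cases j <;> simp [T, hx, hy, huv, hY10]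
  have hTh : ∀ v, ((T v).map C.bar)ᵀ = T v := fun v => by
    ext i j; fin_cases i <;> fin_cases j <;> simp [T, hfb, C.bar_bar]
  let ρ : Matrix.SpecialLinearGroup (Fin 2) K →* Module.End F (Matrix (Fin 2) (Fin 2) K) :=
    { toFun := fun g =>
        { toFun := fun X => g.1 * X * (g.1.map C.bar)ᵀ
          map_add' := fun X Y => by rw [Matrix.mul_add, Matrix.add_mul]
          map_smul' := fun c X => by rw [Matrix.mul_smul, Matrix.smul_mul]; rfl }
      map_one' := LinearMap.ext fun X => by simp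
      map_mul' := fun g h => LinearMap.ext fun X => by
        show (g * h).1 * X * ((g * h).1.map C.bar)ᵀ = g.1 * (h.1 * X * (h.1.map C.bar)ᵀ) * (g.1.map C.bar)ᵀ
        simp only [Matrix.SpecialLinearGroup.coe_mul, Matrix.map_mul, Matrix.transpose_mul, Matrix.mul_assoc] }
  obtain ⟨φ, hφ⟩ := hom_of_embed (Cfsg.quadFormMinus 1 F a b) T hT ρ (fun g x => by
    refine hrange _ ?_
    show ((g.1 * T x * (g.1.map C.bar)ᵀ).map C.bar)ᵀ = _
    have hgg : ((g.1.map C.bar)ᵀ.map C.bar) = g.1ᵀ := by ext i j; simp [C.bar_bar]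
    rw [Matrix.map_mul, Matrix.map_mul, hgg, Matrix.transpose_mul, Matrix.transpose_mul, Matrix.transpose_transpose, hTh]
    exact (Matrix.mul_assoc _ _ _).symm) fun g x y h => f.injective (by
    rw [hQT, hQT, h]
    show -(g.1 * T x * (g.1.map C.bar)ᵀ).det = _
    rw [Matrix.det_mul, Matrix.det_mul, Matrix.det_transpose, show (g.1.map C.bar).det = C.bar g.1.det from
      (C.bar.toRingHom.map_det _).symm, g.2, map_one, one_mul, mul_one])
  have hker : φ.ker = Subgroup.center (Matrix.SpecialLinearGroup (Fin 2) K) := by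
    ext g
    rw [MonoidHom.mem_ker, apply_eq_one_iff T hT ρ hφ]
    constructor
    · intro h
      have hY : ∀ Y : Matrix (Fin 2) (Fin 2) K, (Y.map C.bar)ᵀ = Y → g.1 * Y * (g.1.map C.bar)ᵀ = Y := fun Y hY => by
        obtain ⟨v, rfl⟩ := hrange Y hY
        exact h v
      have h1 := hY 1 (by simp)
      rw [mul_one] at h1
      have h1' := mul_eq_one_comm.1 h1
      have hc : ∀ Y : Matrix (Fin 2) (Fin 2) K, (Y.map C.bar)ᵀ = Y → g.1 * Y = Y * g.1 := fun Y hY' => by
        conv_rhs => rw [← hY Y hY', mul_assoc, h1', mul_one]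
      have ha := hc !![1, 0; 0, 0] (by ext i j; fin_cases i <;> fin_cases j <;> simp)
      have hb := hc !![0, 1; 1, 0] (by ext i j; fin_cases i <;> fin_cases j <;> simp)
      have a01 := congrFun (congrFun ha 0) 1
      have a10 := congrFun (congrFun ha 1) 0
      have b01 := congrFun (congrFun hb 0) 1
      simp [Matrix.mul_apply, Fin.sum_univ_two] at a01 a10 b01
      refine sl2_center_iff.2 ?_
      ext i j
      fin_cases i <;> fin_cases j <;> simp [← a01, a10, ← b01]
    · intro hg x
      have hs := sl2_center_iff.1 hg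
      have hd : g.1 0 0 * g.1 0 0 = 1 := by
        have := g.2
        rw [hs] at this
        simpa [pow_two] using this
      show g.1 * T x * (g.1.map C.bar)ᵀ = T x
      have hb : C.bar (g.1 0 0) = g.1 0 0 := by
        rcases mul_self_eq_one_iff.1 hd with h | h <;> simp [h]
      rw [hs, show ((Matrix.scalar (Fin 2) (g.1 0 0)).map C.bar)ᵀ = Matrix.scalar (Fin 2) (g.1 0 0) by
        ext i j; by_cases hij : i = j <;> simp [hij, hb, Ne.symm]]
      ext i j
      simp
      linear_combination (T x i j) * hd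
  have hq2 : 2 ≤ q := hF ▸ Fintype.one_lt_card
  have hK3 : 4 ≤ Fintype.card K := by rw [hK]; nlinarith
  obtain ⟨hperf, hsimp⟩ := CfsgLib.Classical.sl_perfect_and_psl_simple (F := K) (n := 2) le_rfl (by omega)
  refine pomega_equiv φ hker.le (le_omega φ fun ψ => hom_trivial_of_perfect hperf ψ) ?_
    (center_quotient_bot hperf hsimp)
  have hQ := quadFormMinus_nd (m := 1) a b hab
  have hidx : (Cfsg.Omega F (Cfsg.quadFormMinus 1 F a b)).index = Nat.gcd 2 (q - 1) * 2 := by
    rcases eq_or_ne q 2 with h2 | h2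
    · subst h2
      obtain ⟨e5⟩ := iso_minus_two hF
      have h01 : ∀ x : F, x = 0 ∨ x = 1 := fun x => by
        let e : ZMod 2 ≃+* F := FiniteField.ringEquivOfCardEq (by rw [ZMod.card, hF])
        rcases BinaryForms.two_cases (e.symm x) with h | h
        · exact Or.inl (e.symm.injective (h.trans (map_zero _).symm))
        · exact Or.inr (e.symm.injective (h.trans (map_one _).symm))
      have hb : b = 1 := (h01 b).resolve_left fun h => one_ne_zero (hab 0 1 (by rw [h]; ring)).2
      have htwo : (2 : F) = 0 := by simpa [hF] using Nat.cast_card_eq_zero F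
      have ha : a = 1 := (h01 a).resolve_left fun h => one_ne_zero (hab 1 1 (by rw [h, hb]; linear_combination htwo)).1
      subst ha hb
      exact index_commutator_perm e5
    · rw [omega_index_eq hQ (by simp) (Or.inl (by omega)), card_sqClass_gcd, hF]
  rw [hidx, hker, CfsgLib.Classical.card_sl2, CfsgLib.Classical.card_iso_minus hab 1, Finset.prod_range_one, hK, hF,
    CfsgLib.Classical.card_center_sl (n := 2) (by omega), hK]
  have hg : Nat.gcd 2 (q ^ 2 - 1) = Nat.gcd 2 (q - 1) := by
    rcases Nat.even_or_odd q with he | ho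
    · rw [Nat.coprime_two_left.2 (Nat.Even.sub_odd (Nat.one_le_pow _ _ (by omega)) (by simpa [Nat.even_pow] using he) odd_one),
        Nat.coprime_two_left.2 (Nat.Even.sub_odd (by omega) he odd_one)]
    · rw [Nat.gcd_eq_left (even_iff_two_dvd.1 (Nat.Odd.sub_odd (ho.pow) odd_one)),
        Nat.gcd_eq_left (even_iff_two_dvd.1 (Nat.Odd.sub_odd ho odd_one))]
  rw [hg]
  simp only [Nat.reduceAdd, Nat.reduceMul]
  ring

end CfsgLib.Classical.ExcIsoTwo
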