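import Cfsg.Agent.Lib.Classical.ExcIso
import Cfsg.Agent.Lib.Classical.ExcIsoTwo

/-!
# The Klein correspondence
-/

set_option autoImplicit false

namespace CfsgLib.Classical.ExcIsoSix

open Matrix CfsgLib.Orth CfsgLib.Classical.ExcIso Cfsg.Geo CfsgLib.Perm.Trans.Quad

variable {F : Type*} [Field F]

local notation "SL₄" => Matrix.SpecialLinearGroup (Fin 4) F
local notation "M₄" => Matrix (Fin 4) (Fin 4) F

/-- upper triangular part of the coordinates -/
def upper (v : Fin 3 ⊕ Fin 3 → F) : M₄ :=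
  !![0, v (.inl 0), v (.inl 1), v (.inl 2); 0, 0, v (.inr 2), -v (.inr 1); 0, 0, 0, v (.inr 0); 0, 0, 0, 0]

/-- alternating matrices -/
def wedge : (Fin 3 ⊕ Fin 3 → F) →ₗ[F] M₄ where
  toFun v := upper v - (upper v)ᵀ
  map_add' u v := by ext i j; fin_cases i <;> fin_cases j <;> simp [upper] <;> ring
  map_smul' c v := by ext i j; fin_cases i <;> fin_cases j <;> simp [upper] <;> ring

/-- the Pfaffian -/
def pf (A : M₄) : F := A 0 1 * A 2 3 - A 0 2 * A 1 3 + A 0 3 * A 1 2

theorem pf_wedge (v : Fin 3 ⊕ Fin 3 → F) : Cfsg.quadFormPlus 3 F v = pf (wedge v) := by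
  simp [pf, wedge, upper, Cfsg.quadFormPlus, Fin.sum_univ_three]

theorem wedge_injective : Function.Injective (wedge (F := F)) := by
  intro u v h
  funext i
  rcases i with i | i <;> fin_cases i
  · simpa [wedge, upper] using congrFun (congrFun h 0) 1
  · simpa [wedge, upper] using congrFun (congrFun h 0) 2
  · simpa [wedge, upper] using congrFun (congrFun h 0) 3
  · simpa [wedge, upper] using congrFun (congrFun h 2) 3
  · simpa [wedge, upper] using congrFun (congrFun h 1) 3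
  · simpa [wedge, upper] using congrFun (congrFun h 1) 2

theorem wedge_range (W : M₄) : ∃ v, wedge v = W - Wᵀ := by
  refine ⟨Sum.elim ![W 0 1 - W 1 0, W 0 2 - W 2 0, W 0 3 - W 3 0] ![W 2 3 - W 3 2, W 3 1 - W 1 3, W 1 2 - W 2 1], ?_⟩
  ext i j
  fin_cases i <;> fin_cases j <;> simp [wedge, upper]

theorem pf_conj (g : M₄) (v : Fin 3 ⊕ Fin 3 → F) : pf (g * wedge v * gᵀ) = g.det * pf (wedge v) := by
  rw [Matrix.det_succ_row_zero]
  simp [Fin.sum_univ_four, Matrix.det_fin_three, Fin.succAbove, pf, wedge, upper, Matrix.mul_apply, Matrix.transpose_apply]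
  ring

/-- the action on alternating matrices -/
def act : SL₄ →* Module.End F M₄ where
  toFun g :=
    { toFun := fun X => g.1 * X * g.1ᵀ
      map_add' := fun X Y => by rw [Matrix.mul_add, Matrix.add_mul]
      map_smul' := fun c X => by rw [Matrix.mul_smul, Matrix.smul_mul]; rfl }
  map_one' := LinearMap.ext fun X => by simp
  map_mul' g h := LinearMap.ext fun X => by
    show (g * h).1 * X * (g * h).1ᵀ = g.1 * (h.1 * X * h.1ᵀ) * g.1ᵀ
    simp only [Matrix.SpecialLinearGroup.coe_mul, Matrix.transpose_mul, Matrix.mul_assoc]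

theorem scalar_of_fix (g : SL₄) (h : ∀ v, g.1 * wedge v * g.1ᵀ = wedge v) :
    ∃ c : F, c * c = 1 ∧ g.1 = Matrix.scalar (Fin 4) c := by
  let A : Fin 4 → Fin 4 → M₄ := fun i j => Matrix.single i j 1 - Matrix.single j i 1
  set k : M₄ := ((g⁻¹).1)ᵀ
  have hA : ∀ i j, g.1 * A i j = A i j * k := fun i j => by
    obtain ⟨v, hv⟩ := wedge_range (Matrix.single i j (1 : F))
    rw [Matrix.transpose_single] at hv
    have : g.1 * wedge v * g.1ᵀ * k = wedge v * k := congrArg (· * k) (h v)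
    rwa [mul_assoc, show g.1ᵀ * k = 1 by rw [← Matrix.transpose_mul, ← Matrix.SpecialLinearGroup.coe_mul,
      inv_mul_cancel, Matrix.SpecialLinearGroup.coe_one, Matrix.transpose_one], mul_one, hv] at this
  have he : ∀ a i j, i ≠ j → g.1 a i = (if a = i then k j j else 0) - if a = j then k i j else 0 := fun a i j hij => by
    have := congrFun (congrFun (hA i j) a) j
    simp [A, Matrix.mul_apply, Matrix.single_apply, mul_sub, sub_mul, Finset.sum_sub_distrib, hij, eq_comm] at this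
    rw [this]
    by_cases h1 : a = i <;> by_cases h2 : a = j <;> simp [h1, h2, hij, Ne.symm hij]
  have hoff : ∀ a i, a ≠ i → g.1 a i = 0 := fun a i hai => by
    obtain ⟨j, hj1, hj2⟩ : ∃ j : Fin 4, j ≠ a ∧ j ≠ i := by revert a i; decide
    rw [he a i j (Ne.symm hj2), if_neg hai, if_neg (Ne.symm hj1), sub_zero]
  have hdiag : ∀ i l, g.1 i i = g.1 l l := fun i l => by
    obtain ⟨j, hj1, hj2⟩ : ∃ j : Fin 4, j ≠ i ∧ j ≠ l := by revert i l; decide
    rw [he i i j (Ne.symm hj1), he l l j (Ne.symm hj2)]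
    simp [Ne.symm hj1, Ne.symm hj2]
  have hs : g.1 = Matrix.scalar (Fin 4) (g.1 0 0) := by
    ext i l
    by_cases hil : i = l
    · subst hil; simpa using hdiag i 0
    · simp [hil, hoff i l hil]
  refine ⟨g.1 0 0, ?_, hs⟩
  obtain ⟨v, hv⟩ := wedge_range (Matrix.single 0 1 (1 : F))
  have := h v
  have := congrFun (congrFun this 0) 1
  rw [hs, hv] at this
  simpa [Matrix.mul_apply, Fin.sum_univ_four, Matrix.single_apply] using this

theorem exists_hom : ∃ φ : SL₄ →* Cfsg.isometryGroup F (Cfsg.quadFormPlus 3 F),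
    ∀ g, φ g = 1 ↔ ∃ c : F, c * c = 1 ∧ g.1 = Matrix.scalar (Fin 4) c := by
  obtain ⟨φ, hφ⟩ := hom_of_embed (Cfsg.quadFormPlus 3 F) wedge wedge_injective act
    (fun g x => by
      obtain ⟨v, hv⟩ := wedge_range (g.1 * upper x * g.1ᵀ)
      refine ⟨v, hv.trans ?_⟩
      show _ = g.1 * (upper x - (upper x)ᵀ) * g.1ᵀ
      simp only [Matrix.transpose_mul, Matrix.transpose_transpose, Matrix.mul_sub, Matrix.sub_mul, Matrix.mul_assoc])
    fun g x y h => by
      rw [pf_wedge, pf_wedge, h]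
      show pf (g.1 * wedge x * g.1ᵀ) = _
      rw [pf_conj, g.2, one_mul]
  refine ⟨φ, fun g => ?_⟩
  rw [apply_eq_one_iff wedge wedge_injective act hφ]
  constructor
  · exact scalar_of_fix g
  · rintro ⟨c, hc, hg⟩ x
    show g.1 * wedge x * g.1ᵀ = wedge x
    rw [hg]
    ext i j
    simp
    linear_combination (wedge x i j) * hc

theorem omega_six_plus [Fintype F] :
    Nonempty (Cfsg.POmega F (Cfsg.quadFormPlus 3 F) ≃* Matrix.ProjectiveSpecialLinearGroup (Fin 4) F) := by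
  classical
  obtain ⟨φ, hφ⟩ := exists_hom (F := F)
  obtain ⟨hperf, hsimp⟩ := CfsgLib.Classical.sl_perfect_and_psl_simple (F := F) (n := 4) (by omega) (by omega)
  refine pomega_equiv φ (fun g hg => ?_) (le_omega φ fun ψ => hom_trivial_of_perfect hperf ψ) ?_ (center_quotient_bot hperf hsimp)
  · obtain ⟨c, -, hc⟩ := (hφ g).1 hg
    refine Subgroup.mem_center_iff.2 fun s => Subtype.ext ?_
    rw [Matrix.SpecialLinearGroup.coe_mul, Matrix.SpecialLinearGroup.coe_mul, hc,
      (Matrix.scalar_commute _ (fun _ => Commute.all _ _) s.1).eq]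
  have hk : Nat.card φ.ker = Nat.card (SqClass F) := by
    rw [card_sqClass_mul]
    refine (Nat.card_eq_of_bijective (fun u : (powMonoidHom 2 : Fˣ →* Fˣ).ker =>
      (⟨⟨Matrix.scalar (Fin 4) ((u : Fˣ) : F), ?_⟩, ?_⟩ : φ.ker)) ⟨?_, ?_⟩).symm
    · rcases (mem_sq_ker (u : Fˣ)).1 u.2 with h | h <;> rw [h] <;> simp <;> norm_num
    · refine (hφ _).2 ⟨_, ?_, rfl⟩
      rcases (mem_sq_ker (u : Fˣ)).1 u.2 with h | h <;> rw [h] <;> simp
    · intro u v h
      have := congrFun (congrFun (congrArg (fun z : φ.ker => z.1.1) h) 0) 0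
      simp at this
      exact Subtype.ext (Units.ext this)
    · rintro ⟨g, hg⟩
      obtain ⟨c, hc, hgc⟩ := (hφ g).1 hg
      exact ⟨⟨Units.mkOfMulEqOne c c hc, (mem_sq_ker _).2 (mul_self_eq_one_iff.1 hc)⟩, Subtype.ext (Subtype.ext hgc.symm)⟩
  have hq := Fintype.one_lt_card (α := F)
  rw [omega_index_eq (quadFormPlus_nd (F := F) (m := 3)) (by simp) (Or.inr (by simp)), hk,
    CfsgLib.Classical.card_iso_plus (F := F) 2, Finset.prod_range_succ, Finset.prod_range_one]
  refine Nat.eq_of_mul_eq_mul_left (show 0 < Fintype.card F - 1 by omega) ?_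
  rw [← mul_assoc, CfsgLib.Classical.card_sl_mul (n := 4) (by omega), Fin.prod_univ_four]
  set q := Fintype.card F
  have h1 : 1 ≤ q := by omega
  have a1 : q ≤ q ^ 4 := Nat.le_self_pow (by omega) q
  have a2 : q ^ 2 ≤ q ^ 4 := Nat.pow_le_pow_right h1 (by omega)
  have a3 : q ^ 3 ≤ q ^ 4 := Nat.pow_le_pow_right h1 (by omega)
  have a4 : 1 ≤ q ^ 4 := Nat.one_le_pow _ _ h1
  have a5 : 1 ≤ q ^ 2 := Nat.one_le_pow _ _ h1
  have a6 : 1 ≤ q ^ 3 := Nat.one_le_pow _ _ h1
  zify [h1, show q ^ (↑(0 : Fin 4) : ℕ) ≤ q ^ 4 by simpa using a4, show q ^ (↑(1 : Fin 4) : ℕ) ≤ q ^ 4 by simpa using a1,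
    show q ^ (↑(2 : Fin 4) : ℕ) ≤ q ^ 4 by simpa using a2, show q ^ (↑(3 : Fin 4) : ℕ) ≤ q ^ 4 by simpa using a3,
    show 1 ≤ q ^ (2 * (0 + 1)) by simpa using a5, show 1 ≤ q ^ (2 * (1 + 1)) by simpa using a4,
    show 1 ≤ q ^ (2 + 1) by simpa using a6]
  simp
  ring

end CfsgLib.Classical.ExcIsoSix
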