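import Cfsg.Agent.Lib.Classical.WedgeDual
import Cfsg.Agent.Lib.Classical.OrthEmbed
import Cfsg.Agent.Lib.Classical.PSUSimple

/-!
# The exceptional isomorphism for the six-dimensional minus form
-/

set_option autoImplicit false

namespace CfsgLib.Classical.ExcIsoUnitary

open Matrix Module CfsgLib.SU CfsgLib.Orth CfsgLib.Classical.ExcIso CfsgLib.Classical.ExcIsoSix
open CfsgLib.Classical.WedgeDual CfsgLib.Perm.Trans.Quad

variable {F K : Type*} [Field F] [Fintype F] [Field K] [Fintype K] {q : ℕ}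

local notation "J₆" => ((Fin 2 ⊕ Fin 2) ⊕ Fin 2)

/-- The Hermitian norm on three-space is a minus type form. -/
theorem exists_norm_minus (C : UCtx K q) (hF : Fintype.card F = q) (hK : Fintype.card K = q ^ 2) [Algebra F K]
    (hjb : ∀ x : F, C.bar (algebraMap F K x) = algebraMap F K x)
    (hfix : ∀ y : K, C.bar y = y → ∃ x : F, algebraMap F K x = y) {a b : F}
    (hab : ∀ z₁ z₂ : F, z₁ ^ 2 + a * z₁ * z₂ + b * z₂ ^ 2 = 0 → z₁ = 0 ∧ z₂ = 0) :
    ∃ L : (J₆ → F) →ₗ[F] (Fin 3 → K), Function.Bijective L ∧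
      ∀ v, algebraMap F K (Cfsg.quadFormMinus 2 F a b v) = C.form (L v) (L v) := by
  classical
  set j := algebraMap F K
  have hsmul : ∀ (c : F) (v : Fin 3 → K), c • v = j c • v := fun c v => algebra_compatible_smul K c v
  let N : (Fin 3 → K) → F := fun v => (hfix _ (C.form_self_fixed v)).choose
  have hN : ∀ v, j (N v) = C.form v v := fun v => (hfix _ (C.form_self_fixed v)).choose_spec
  have hpol : ∀ u v, j (QuadraticMap.polar N u v) = C.form u v + C.form v u := fun u v => by
    simp only [QuadraticMap.polar, map_sub, hN, C.form_add_left, C.form_add_right]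
    ring
  let Q : QuadraticForm F (Fin 3 → K) := QuadraticMap.ofPolar N
    (fun c v => j.injective (by
      rw [smul_eq_mul, map_mul, map_mul, hN, hN, hsmul, C.form_smul_left, C.form_smul_right, hjb]
      ring))
    (fun u u' v => j.injective (by
      rw [map_add, hpol, hpol, hpol, C.form_add_left, C.form_add_right]
      ring))
    (fun c u v => j.injective (by
      rw [smul_eq_mul, map_mul, hpol, hpol, hsmul, C.form_smul_left, C.form_smul_right, hjb]
      ring))
  have key : ∀ u, (∀ v, QuadraticMap.polar N u v = 0) → u = 0 := by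
    intro u hu
    obtain ⟨w, -, hw⟩ := C.exists_trace_ne_zero
    refine C.eq_zero_of_form fun v => ?_
    by_contra hne
    have h := hpol u (C.bar (w / C.form u v) • v)
    rw [hu, map_zero, C.form_smul_right, C.form_smul_left, C.bar_bar, ← C.bar_form u v, ← map_mul,
      div_mul_cancel₀ _ hne] at h
    exact hw h.symm
  have hQnd : (QuadraticMap.polarBilin Q).Nondegenerate :=
    ⟨fun u hu => key u hu, fun v hv => key v fun u => (QuadraticMap.polar_comm N v u).trans (hv u)⟩
  have hdim : finrank F (Fin 3 → K) = 6 := by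
    have h := Module.card_eq_pow_finrank (K := F) (V := Fin 3 → K)
    rw [Fintype.card_fun, Fintype.card_fin, hK, hF, ← pow_mul] at h
    exact (Nat.pow_right_injective (hF ▸ Fintype.one_lt_card) h).symm
  have hzero : (Nat.card {v : Fin 3 → K // N v = 0} : ℤ) =
      (q : ℤ) ^ (2 * 2 + 1) + (-1) ^ (2 + 1) * ((q : ℤ) ^ (2 + 1) - (q : ℤ) ^ 2) := by
    rw [← (CfsgLib.Classical.hcount_closed C hK 2).1]
    refine congrArg Nat.cast (Nat.card_congr (Equiv.subtypeEquivRight fun v => ?_))
    exact Iff.trans (map_eq_zero j).symm (by rw [hN])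
  have hlt : (q : ℤ) ^ 2 < (q : ℤ) ^ (2 + 1) :=
    pow_lt_pow_right₀ (by exact_mod_cast (hF ▸ Fintype.one_lt_card)) (by omega)
  rcases CfsgLib.Orth.FieldCls.exists_even_normal Q hQnd (k := 2) hdim hab with ⟨L, hL, hLS⟩ | ⟨L, hL, hLS⟩
  · exfalso
    let Le := LinearMap.linearEquivOfInjective L hL (by rw [hdim]; simp)
    have hc : Nat.card {v : Fin (2 + 1) ⊕ Fin (2 + 1) → F // Cfsg.quadFormPlus (2 + 1) F v = 0} =
        Nat.card {v : Fin 3 → K // N v = 0} :=
      Nat.card_congr (Le.toEquiv.subtypeEquiv fun v => by rw [← hLS]; rfl)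
    have h := CfsgLib.Classical.card_sing_plus (F := F) 2
    rw [hc, hzero, hF] at h
    norm_num at h hlt
    linarith
  · let Le := LinearMap.linearEquivOfInjective L hL (by rw [hdim]; simp)
    exact ⟨L, Le.bijective, fun v => by rw [← hLS]; exact hN _⟩

theorem omega_six_minus (hF : Fintype.card F = q) (hK : Fintype.card K = q ^ 2) {a b : F}
    (hab : ∀ z₁ z₂ : F, z₁ ^ 2 + a * z₁ * z₂ + b * z₂ ^ 2 = 0 → z₁ = 0 ∧ z₂ = 0) :
    Nonempty (Cfsg.POmega F (Cfsg.quadFormMinus 2 F a b) ≃* Cfsg.PSU 4 K q) := by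
  classical
  obtain ⟨C⟩ := CfsgLib.Classical.uctx_exists hK
  obtain ⟨⟨e⟩, -⟩ := SympEmbed.exists_equiv C hK hF
  let j : F →+* K := (CfsgLib.Descent.fixedField C.bar).subtype.comp e.symm.toRingHom
  letI : Algebra F K := j.toAlgebra
  have hjb : ∀ x : F, C.bar (j x) = j x := fun x => (e.symm x).2
  obtain ⟨L, hLb, hLQ⟩ := exists_norm_minus C hF hK (a := a) (b := b) hjb
    (fun y hy => ⟨e ⟨y, hy⟩, by show j _ = _; simp [j]⟩) hab
  let B : (Fin 3 → K) →ₗ[F] (Fin 3 ⊕ Fin 3 → K) :=
    { toFun := fun x => Sum.elim x fun i => C.bar (x i)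
      map_add' := fun x y => by funext i; rcases i with i | i <;> simp
      map_smul' := fun c x => by
        funext i
        rcases i with i | i <;> simp [Algebra.smul_def, RingHom.algebraMap_toAlgebra, hjb] }
  let T : (J₆ → F) →ₗ[F] Matrix (Fin 4) (Fin 4) K := (wedge.restrictScalars F).comp (B.comp L)
  have hT : Function.Injective T := fun u v h => hLb.1 (funext fun i => congrFun (wedge_injective h) (.inl i))
  have hTQ : ∀ v, j (Cfsg.quadFormMinus 2 F a b v) = pf (T v) := fun v => by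
    show algebraMap F K _ = pf (wedge (B (L v)))
    rw [hLQ, ← pf_wedge]
    simp [B, Cfsg.quadFormPlus, UCtx.form]
  have hreal : ∀ v, dual (T v) = (T v).map C.bar := fun v => by
    show dual (wedge (B (L v))) = (wedge (B (L v))).map C.bar
    rw [dual_wedge]
    ext i k
    fin_cases i <;> fin_cases k <;> simp [wedge, upper, B, C.bar_bar]
  have hU : ∀ g : Cfsg.SU 4 K q, g.1.1ᵀ * g.1.1.map C.bar = 1 := fun g => by
    ext i k
    have h := C.form_su g (Pi.single i 1) (Pi.single k 1)
    simp [UCtx.form, Matrix.col, Pi.single_apply, apply_ite C.bar] at h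
    rw [Matrix.mul_apply]
    simpa [Matrix.one_apply, eq_comm] using h
  let ρ : ↥(Cfsg.SU 4 K q) →* Module.End F (Matrix (Fin 4) (Fin 4) K) :=
    { toFun := fun g => (act g.1).restrictScalars F
      map_one' := LinearMap.ext fun X => by
        show act (1 : Matrix.SpecialLinearGroup (Fin 4) K) X = X
        rw [map_one]; rfl
      map_mul' := fun g h => LinearMap.ext fun X => by
        show act (g.1 * h.1) X = act g.1 (act h.1 X)
        rw [map_mul]; rfl }
  obtain ⟨φ, hφ⟩ := hom_of_embed (Cfsg.quadFormMinus 2 F a b) T hT ρ (fun g x => by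
    set G : Matrix (Fin 4) (Fin 4) K := g.1.1 with hG
    set w := B (L x) with hw
    obtain ⟨v, hv⟩ := wedge_range (G * upper w * Gᵀ)
    have hv' : wedge v = G * T x * Gᵀ := hv.trans (by
      show _ = G * (upper w - (upper w)ᵀ) * Gᵀ
      simp only [Matrix.transpose_mul, Matrix.transpose_transpose, Matrix.mul_sub, Matrix.sub_mul, Matrix.mul_assoc])
    have hd : Gᵀ * dual (wedge v) * G = dual (T x) := by
      rw [hv']
      show Gᵀ * dual (G * wedge w * Gᵀ) * G = _
      rw [dual_conj, hG, g.1.2, one_smul]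
      rfl
    have h1 : G.map C.bar * Gᵀ = 1 := mul_eq_one_comm.1 (hU g)
    have h2 : G * (G.map C.bar)ᵀ = 1 := by
      simpa using congrArg Matrix.transpose h1
    have hr : wedge (v ∘ Sum.swap) = wedge (fun i => C.bar (v i)) := by
      rw [← dual_wedge, show (wedge fun i => C.bar (v i)) = (wedge v).map C.bar by
        ext i k; fin_cases i <;> fin_cases k <;> simp [wedge, upper]]
      calc dual (wedge v) = G.map C.bar * Gᵀ * dual (wedge v) * (G * (G.map C.bar)ᵀ) := by
            rw [h1, h2, Matrix.one_mul, Matrix.mul_one]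
        _ = G.map C.bar * (Gᵀ * dual (wedge v) * G) * (G.map C.bar)ᵀ := by simp only [Matrix.mul_assoc]
        _ = (wedge v).map C.bar := by
            rw [hd, hreal, hv', Matrix.map_mul, Matrix.map_mul, Matrix.transpose_map]
    obtain ⟨y, hy⟩ := hLb.2 fun i => v (.inl i)
    refine ⟨y, ?_⟩
    show wedge (B (L y)) = act g.1 (T x)
    rw [hy]
    refine (congrArg wedge ?_).trans hv'
    funext i
    rcases i with i | i
    · rfl
    · exact (congrFun (wedge_injective hr) (.inl i)).symm) fun g x y h => by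
    refine j.injective ?_
    rw [hTQ, hTQ, h]
    show pf (g.1.1 * wedge (B (L x)) * g.1.1ᵀ) = pf (T x)
    rw [pf_conj, g.1.2, one_mul]
    rfl
  have hφ1 : ∀ g : Cfsg.SU 4 K q, φ g = 1 ↔ ∃ c : K, c * c = 1 ∧ g.1.1 = Matrix.scalar (Fin 4) c := fun g => by
    rw [apply_eq_one_iff T hT ρ hφ]
    refine ⟨fun h => scalar_of_fix g.1 fun w => ?_, fun ⟨c, hc, hg⟩ x => ?_⟩
    · obtain ⟨δ, hδ⟩ := C.exists_not_fixed
      have hd : δ - C.bar δ ≠ 0 := sub_ne_zero.2 hδ.symm
      let t : Fin 3 → K := fun i => (w (.inl i) - C.bar (w (.inr i))) / (δ - C.bar δ)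
      let u : Fin 3 → K := fun i => w (.inl i) - δ * t i
      have hw : wedge w = wedge (B u) + δ • wedge (B t) := by
        rw [← map_smul, ← map_add]
        refine congrArg wedge (funext fun i => ?_)
        rcases i with i | i
        · simp [B, u]
        · simp only [B, u, t, LinearMap.coe_mk, AddHom.coe_mk, Pi.add_apply, Pi.smul_apply, Sum.elim_inr, map_sub,
            map_div₀, map_mul, C.bar_bar, smul_eq_mul]
          have hd' : C.bar δ - δ ≠ 0 := sub_ne_zero.2 hδ
          field_simp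
          ring
      obtain ⟨x₁, hx₁⟩ := hLb.2 u
      obtain ⟨x₂, hx₂⟩ := hLb.2 t
      have e₁ : g.1.1 * wedge (B u) * g.1.1ᵀ = wedge (B u) := hx₁ ▸ h x₁
      have e₂ : g.1.1 * wedge (B t) * g.1.1ᵀ = wedge (B t) := hx₂ ▸ h x₂
      rw [hw, Matrix.mul_add, Matrix.add_mul, Matrix.mul_smul, Matrix.smul_mul, e₁, e₂]
    · show g.1.1 * T x * g.1.1ᵀ = T x
      rw [hg]
      ext i k
      simp
      linear_combination (T x i k) * hc
  have hperf : commutator ↥(Cfsg.SU 4 K q) = ⊤ := by
    rw [eq_top_iff, ← CfsgLib.Perm.Trans.Unit.su_closure hK 4 (by omega) (by omega), Subgroup.closure_le]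
    rintro A ⟨v, c, hv0, hA⟩
    rw [commutator_eq_closure]
    exact Subgroup.subset_closure (su_transvection_mem C (by omega) A v c hv0 hA)
  refine pomega_equiv φ (fun g hg => ?_) (le_omega φ fun ψ => hom_trivial_of_perfect hperf ψ) ?_
    (center_quotient_bot hperf (psu_isSimple hK (by omega) (by omega)))
  · obtain ⟨c, -, hc⟩ := (hφ1 g).1 hg
    refine Subgroup.mem_center_iff.2 fun s => Subtype.ext (Subtype.ext ?_)
    show s.1.1 * g.1.1 = g.1.1 * s.1.1
    rw [hc, (Matrix.scalar_commute _ (fun _ => Commute.all _ _) s.1.1).eq]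
  have hk : Nat.card φ.ker = Nat.card (SqClass F) := by
    rw [card_sqClass_mul]
    refine (Nat.card_eq_of_bijective (fun u : (powMonoidHom 2 : Fˣ →* Fˣ).ker =>
      (⟨⟨⟨Matrix.scalar (Fin 4) (j ((u : Fˣ) : F)), ?_⟩, ?_⟩, ?_⟩ : φ.ker)) ⟨?_, ?_⟩).symm
    · rcases (mem_sq_ker (u : Fˣ)).1 u.2 with h | h <;> rw [h] <;> simp <;> norm_num
    · intro x y
      show Cfsg.hermForm 4 K q (Matrix.scalar (Fin 4) (j ((u : Fˣ) : F)) *ᵥ x)
        (Matrix.scalar (Fin 4) (j ((u : Fˣ) : F)) *ᵥ y) = _
      unfold Cfsg.hermForm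
      rw [C.hermForm_eq, C.hermForm_eq]
      have hm : ∀ z : Fin 4 → K, Matrix.scalar (Fin 4) (j ((u : Fˣ) : F)) *ᵥ z = j ((u : Fˣ) : F) • z := fun z => by
        funext i; simp [Matrix.mulVec_diagonal]
      rw [hm, hm, C.form_smul_left, C.form_smul_right, hjb]
      rcases (mem_sq_ker (u : Fˣ)).1 u.2 with h | h <;> rw [h] <;> simp
    · refine (hφ1 _).2 ⟨_, ?_, rfl⟩
      rcases (mem_sq_ker (u : Fˣ)).1 u.2 with h | h <;> rw [h] <;> simp
    · intro u v h
      have := congrFun (congrFun (congrArg (fun z : φ.ker => z.1.1.1) h) 0) 0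
      simp at this
      exact Subtype.ext (Units.ext (j.injective this))
    · rintro ⟨g, hg⟩
      obtain ⟨c, hc, hgc⟩ := (hφ1 g).1 hg
      obtain ⟨c', hc', rfl⟩ : ∃ c' : F, c' * c' = 1 ∧ j c' = c := by
        rcases mul_self_eq_one_iff.1 hc with h | h
        · exact ⟨1, by simp, by simp [h]⟩
        · exact ⟨-1, by simp, by simp [h]⟩
      exact ⟨⟨Units.mkOfMulEqOne c' c' hc', (mem_sq_ker _).2 (mul_self_eq_one_iff.1 hc')⟩,
        Subtype.ext (Subtype.ext (Subtype.ext hgc.symm))⟩
  rw [omega_index_eq (quadFormMinus_nd a b hab) (by simp) (Or.inr (by simp)), hk,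
    CfsgLib.Classical.card_iso_minus hab 2, hF]
  refine Nat.eq_of_mul_eq_mul_left (show 0 < q + 1 by omega) ?_
  rw [← mul_assoc, CfsgLib.Classical.card_su_mul C hK (n := 4) (by omega), CfsgLib.Classical.card_gu_formula C hK 4]
  simp only [Finset.prod_range_succ, Finset.prod_range_zero]
  norm_num [Nat.even_iff]
  ring

end CfsgLib.Classical.ExcIsoUnitary
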