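import Cfsg.Agent.Lib.Classical.SylowTwoElemAb
import Cfsg.Prelude.Def_G2
import Mathlib.GroupTheory.Nilpotent
import Mathlib.LinearAlgebra.GeneralLinearGroup.AlgEquiv

/-!
# A quaternion subalgebra of Zorn's algebra and Sylow two-subgroups of `G₂` in odd characteristic

The split octonions are written as a double of the two-by-two matrices. The automorphisms commuting
with the doubling involution come from pairs of invertible matrices of equal determinant.
-/

set_option autoImplicit false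
set_option linter.unusedSectionVars false

namespace CfsgLib.Classical.G2Quat

open scoped commutatorElement
open Matrix CfsgLib.Classical.SylowTwoElemAb

variable {F : Type*} [Field F]

/-- Pairs of two-by-two matrices. -/
abbrev DM (F : Type*) : Type _ := Matrix (Fin 2) (Fin 2) F × Matrix (Fin 2) (Fin 2) F

/-- The coordinates of the double. -/
def L : (Fin 8 → F) ≃ₗ[F] DM F where
  toFun x := (!![x 0, x 4; x 1, x 7], !![x 2, x 3; x 6, -(x 5)])
  invFun p := ![p.1 0 0, p.1 1 0, p.2 0 0, p.2 0 1, p.1 0 1, -(p.2 1 1), p.2 1 0, p.1 1 1]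
  left_inv x := by funext i; fin_cases i <;> simp
  right_inv p := by
    refine Prod.ext ?_ ?_ <;> ext i j <;> fin_cases i <;> fin_cases j <;> simp
  map_add' x y := by
    refine Prod.ext ?_ ?_ <;> ext i j <;> fin_cases i <;> fin_cases j <;> simp <;> ring
  map_smul' c x := by
    refine Prod.ext ?_ ?_ <;> ext i j <;> fin_cases i <;> fin_cases j <;> simp

/-- The product of the double. -/
def pm (p r : DM F) : DM F :=
  (r.1 * p.1 - p.2 * r.2.adjugate, p.1 * r.2 + r.1.adjugate * p.2)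

theorem L_mul (x y : Fin 8 → F) : L (Cfsg.Lie.zornMul x y) = pm (L x) (L y) := by
  refine Prod.ext ?_ ?_ <;> ext i j <;> fin_cases i <;> fin_cases j <;>
    simp [L, pm, Cfsg.Lie.zornMul, Cfsg.Lie.dot3, Cfsg.Lie.cross3, Matrix.mul_apply, Fin.sum_univ_two,
      Matrix.adjugate_fin_two] <;> ring

theorem mem_G2 {g : GL (Fin 8) F} :
    g ∈ Cfsg.Lie.G2 F ↔ ∀ x y, g.1 *ᵥ Cfsg.Lie.zornMul x y = Cfsg.Lie.zornMul (g.1 *ᵥ x) (g.1 *ᵥ y) :=
  Iff.rfl

/-- Pairs of invertible matrices with equal determinants. -/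
def Pairs (F : Type*) [Field F] : Subgroup (GL (Fin 2) F × GL (Fin 2) F) :=
  MonoidHom.eqLocus (Matrix.GeneralLinearGroup.det.comp (MonoidHom.fst _ _))
    (Matrix.GeneralLinearGroup.det.comp (MonoidHom.snd _ _))

theorem mem_Pairs {g h : GL (Fin 2) F} :
    (g, h) ∈ Pairs F ↔ Matrix.GeneralLinearGroup.det g = Matrix.GeneralLinearGroup.det h := Iff.rfl

/-- The action of a pair on the double. -/
def actL (p : GL (Fin 2) F × GL (Fin 2) F) : DM F →ₗ[F] DM F where
  toFun q := (p.1.1 * q.1 * (p.1⁻¹).1, p.1.1 * q.2 * (p.2⁻¹).1)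
  map_add' q r := by simp [Matrix.mul_add, Matrix.add_mul]
  map_smul' c q := by simp

theorem actL_one : actL (1 : GL (Fin 2) F × GL (Fin 2) F) = LinearMap.id := by
  refine LinearMap.ext fun q => Prod.ext ?_ ?_ <;> simp [actL]

theorem actL_mul (p r : GL (Fin 2) F × GL (Fin 2) F) : actL (p * r) = (actL p).comp (actL r) := by
  refine LinearMap.ext fun q => Prod.ext ?_ ?_ <;> simp [actL, Matrix.mul_assoc]

theorem adjugate_eq (g : GL (Fin 2) F) : g.1.adjugate = g.1.det • (g⁻¹).1 := by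
  have h := congrArg ((g⁻¹).1 * ·) (Matrix.mul_adjugate g.1)
  simp only [← Matrix.mul_assoc, ← Units.val_mul, inv_mul_cancel, Units.val_one, Matrix.one_mul,
    Matrix.mul_smul, Matrix.mul_one] at h
  exact h

theorem actL_pm (p : Pairs F) (q r : DM F) : actL p.1 (pm q r) = pm (actL p.1 q) (actL p.1 r) := by
  obtain ⟨⟨g, h⟩, hgh⟩ := p
  have hd : g.1.det = h.1.det := congrArg Units.val (mem_Pairs.1 hgh)
  have hd0 : h.1.det ≠ 0 := ((Matrix.isUnit_iff_isUnit_det _).1 h.isUnit).ne_zero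
  have hi : ∀ k : GL (Fin 2) F, (k⁻¹).1.det = k.1.det⁻¹ := fun k => by
    refine eq_inv_of_mul_eq_one_left ?_
    rw [← Matrix.det_mul, ← Units.val_mul, inv_mul_cancel, Units.val_one, Matrix.det_one]
  have hc : ∀ (k : GL (Fin 2) F) (X : Matrix (Fin 2) (Fin 2) F), (k⁻¹).1 * (k.1 * X) = X := fun k X => by
    rw [← Matrix.mul_assoc, ← Units.val_mul, inv_mul_cancel, Units.val_one, Matrix.one_mul]
  refine Prod.ext ?_ ?_
  · show g.1 * (r.1 * q.1 - q.2 * r.2.adjugate) * (g⁻¹).1 = _ - _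
    simp only [actL, LinearMap.coe_mk, AddHom.coe_mk, Matrix.adjugate_mul_distrib, adjugate_eq, inv_inv,
      hi, hd, Matrix.mul_sub, Matrix.sub_mul, Matrix.smul_mul, Matrix.mul_smul, smul_smul, Matrix.mul_assoc,
      hc, inv_mul_cancel₀ hd0, mul_inv_cancel₀ hd0, one_smul]
  · show g.1 * (q.1 * r.2 + r.1.adjugate * q.2) * (h⁻¹).1 = _ + _
    simp only [actL, LinearMap.coe_mk, AddHom.coe_mk, Matrix.adjugate_mul_distrib, adjugate_eq, inv_inv,
      hi, hd, Matrix.mul_add, Matrix.add_mul, Matrix.smul_mul, Matrix.mul_smul, smul_smul, Matrix.mul_assoc,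
      hc, inv_mul_cancel₀ hd0, mul_inv_cancel₀ hd0, one_smul]

/-- The matrix of a pair. -/
def phiMat : Pairs F →* Matrix (Fin 8) (Fin 8) F where
  toFun p := LinearMap.toMatrix' (L.symm.toLinearMap ∘ₗ actL p.1 ∘ₗ L.toLinearMap)
  map_one' := by
    rw [OneMemClass.coe_one, actL_one]
    simp
  map_mul' p r := by
    rw [← LinearMap.toMatrix'_comp]
    congr 1
    refine LinearMap.ext fun x => ?_
    simp [actL_mul]

theorem phiMat_mulVec (p : Pairs F) (x : Fin 8 → F) : phiMat p *ᵥ x = L.symm (actL p.1 (L x)) :=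
  LinearMap.toMatrix'_mulVec _ _

/-- The automorphism of a pair. -/
def Phi : Pairs F →* Cfsg.Lie.G2 F :=
  (MonoidHom.toHomUnits (phiMat (F := F))).codRestrict _ fun p => mem_G2.2 fun x y => by
    show phiMat p *ᵥ _ = Cfsg.Lie.zornMul (phiMat p *ᵥ x) (phiMat p *ᵥ y)
    refine L.injective ?_
    simp only [phiMat_mulVec, L_mul, LinearEquiv.apply_symm_apply, actL_pm]

theorem Phi_mulVec (p : Pairs F) (x : Fin 8 → F) : L ((Phi p).1.1 *ᵥ x) = actL p.1 (L x) := by
  show L (phiMat p *ᵥ x) = _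
  rw [phiMat_mulVec, LinearEquiv.apply_symm_apply]

theorem scalar_eq (c : F) : c • (1 : Matrix (Fin 2) (Fin 2) F) = !![c, 0; 0, c] := by
  ext i k; fin_cases i <;> fin_cases k <;> simp

theorem scalar_of_commute {g : GL (Fin 2) F} (hg : ∀ M : Matrix (Fin 2) (Fin 2) F, g.1 * M = M * g.1) :
    g.1 = g.1 0 0 • (1 : Matrix (Fin 2) (Fin 2) F) := by
  have e1 := congrFun (congrFun (hg !![1, 0; 0, 0]) 0) 1
  have e2 := congrFun (congrFun (hg !![1, 0; 0, 0]) 1) 0
  have e3 := congrFun (congrFun (hg !![0, 1; 0, 0]) 0) 1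
  simp [Matrix.mul_apply, Fin.sum_univ_two] at e1 e2 e3
  ext i j
  fin_cases i <;> fin_cases j <;> simp [← e1, e2, ← e3]

theorem mem_ker_Phi {p : Pairs F} (hp : Phi p = 1) : p.1.1 = p.1.2 ∧ ∃ c : F, p.1.1.1 = c • 1 := by
  have h : ∀ q : DM F, actL p.1 q = q := fun q => by
    have := Phi_mulVec p (L.symm q)
    rw [hp, OneMemClass.coe_one, Units.val_one, Matrix.one_mulVec, LinearEquiv.apply_symm_apply] at this
    exact this.symm
  have h1 : ∀ M, p.1.1.1 * M = M * p.1.1.1 := fun M => by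
    have := congrArg (· * p.1.1.1) (congrArg Prod.fst (h (M, 0)))
    simp only [actL, LinearMap.coe_mk, AddHom.coe_mk, Matrix.mul_assoc, ← Units.val_mul, inv_mul_cancel,
      Units.val_one, Matrix.mul_one] at this
    exact this
  refine ⟨Units.ext ?_, _, scalar_of_commute h1⟩
  have := congrArg (· * p.1.2.1) (congrArg Prod.snd (h (0, 1)))
  simp only [actL, LinearMap.coe_mk, AddHom.coe_mk, Matrix.mul_assoc, Units.inv_mul,
    Matrix.mul_one, Matrix.one_mul] at this
  exact this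

/-- The doubling involution as a pair. -/
def negPair : Pairs F := ⟨(1, -1), mem_Pairs.2 (Units.ext (by simp [Matrix.det_neg]))⟩

theorem actL_negPair (q : DM F) : actL (negPair (F := F)).1 q = (q.1, -q.2) := by
  simp [actL, negPair]

theorem scalar_or_eq (h2 : (2 : F) ≠ 0) (q : DM F) (h : (q.1, -q.2) = q) : q.2 = 0 := by
  have h' : -q.2 = q.2 := congrArg Prod.snd h
  ext i j
  have := congrFun (congrFun h' i) j
  simp only [Matrix.neg_apply] at this
  exact (mul_eq_zero.1 (show (2 : F) * q.2 i j = 0 by linear_combination -this)).resolve_left h2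

/-- The centralizer of the doubling involution consists of the pairs. -/
theorem mem_range_of_commute (h2 : (2 : F) ≠ 0) {φ : Cfsg.Lie.G2 F} (hφ : Commute φ (Phi negPair)) :
    φ ∈ (Phi (F := F)).range := by
  -- the conjugated linear map
  have key : ∀ ψ : Cfsg.Lie.G2 F, ∀ q r : DM F,
      L (ψ.1.1 *ᵥ L.symm (pm q r)) = pm (L (ψ.1.1 *ᵥ L.symm q)) (L (ψ.1.1 *ᵥ L.symm r)) := by
    intro ψ q r
    rw [← L_mul, ← mem_G2.1 ψ.2]
    congr 2
    refine L.injective ?_
    rw [LinearEquiv.apply_symm_apply, L_mul, LinearEquiv.apply_symm_apply, LinearEquiv.apply_symm_apply]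
  let A : DM F →ₗ[F] DM F := L.toLinearMap ∘ₗ Matrix.mulVecLin φ.1.1 ∘ₗ L.symm.toLinearMap
  have hA : ∀ q r, A (pm q r) = pm (A q) (A r) := key φ
  have hAinj : Function.Injective A := fun q r h => L.symm.injective
    (Matrix.mulVec_injective_iff_isUnit.2 φ.1.isUnit (L.injective h))
  have hN : ∀ q : DM F, A (q.1, -q.2) = ((A q).1, -(A q).2) := by
    intro q
    have h := congrArg (fun ψ : Cfsg.Lie.G2 F => L (ψ.1.1 *ᵥ L.symm q)) hφ.eq
    simp only [Subgroup.coe_mul, Units.val_mul, ← Matrix.mulVec_mulVec] at h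
    have e : (Phi (negPair (F := F))).1.1 *ᵥ L.symm q = L.symm (q.1, -q.2) := by
      refine L.injective ?_
      rw [Phi_mulVec, LinearEquiv.apply_symm_apply, LinearEquiv.apply_symm_apply, actL_negPair]
    rw [e, Phi_mulVec, actL_negPair] at h
    exact h
  -- the restriction to the matrices
  have hfst : ∀ M, (A (M, 0)).2 = 0 := fun M => scalar_or_eq h2 _ (by
    rw [← hN]; simp)
  let σ : Matrix (Fin 2) (Fin 2) F →ₗ[F] Matrix (Fin 2) (Fin 2) F :=
    LinearMap.fst F _ _ ∘ₗ A ∘ₗ LinearMap.inl F _ _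
  have hσA : ∀ M, A (M, 0) = (σ M, 0) := fun M => Prod.ext rfl (hfst M)
  have hσm : ∀ M N, σ (M * N) = σ M * σ N := by
    intro M N
    have h := hA (N, 0) (M, 0)
    have e : ∀ X Y : Matrix (Fin 2) (Fin 2) F, pm ((Y, 0) : DM F) (X, 0) = (X * Y, 0) := fun X Y => by
      simp [pm]
    rw [e, hσA, hσA, hσA, e] at h
    exact congrArg Prod.fst h
  have hσi : Function.Injective σ := fun M N h => by
    have : A (M, 0) = A (N, 0) := by rw [hσA, hσA, h]
    exact congrArg Prod.fst (hAinj this)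
  have hσs : Function.Surjective σ := LinearMap.injective_iff_surjective.1 hσi
  have hσ1 : σ 1 = 1 := by
    obtain ⟨M, hM⟩ := hσs 1
    have := hσm 1 M
    rwa [Matrix.one_mul, hM, Matrix.mul_one, eq_comm] at this
  let σe : Matrix (Fin 2) (Fin 2) F ≃ₐ[F] Matrix (Fin 2) (Fin 2) F :=
    AlgEquiv.ofLinearEquiv (LinearEquiv.ofBijective σ ⟨hσi, hσs⟩) hσ1 hσm
  obtain ⟨T, hT⟩ := ((Matrix.toLinAlgEquiv' (n := Fin 2) (R := F)).symm.trans
    (σe.trans Matrix.toLinAlgEquiv')).eq_linearEquivConjAlgEquiv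
  let g : GL (Fin 2) F := ⟨LinearMap.toMatrix' T.toLinearMap, LinearMap.toMatrix' T.symm.toLinearMap,
    by rw [← LinearMap.toMatrix'_comp, LinearEquiv.comp_symm, LinearMap.toMatrix'_id],
    by rw [← LinearMap.toMatrix'_comp, LinearEquiv.symm_comp, LinearMap.toMatrix'_id]⟩
  have hg : ∀ M, σ M = g.1 * M * (g⁻¹).1 := by
    intro M
    have h := DFunLike.congr_fun hT (Matrix.toLinAlgEquiv' M)
    simp only [AlgEquiv.trans_apply, AlgEquiv.symm_apply_apply, LinearEquiv.conjAlgEquiv_apply] at h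
    have h' := congrArg LinearMap.toMatrix' h
    rw [LinearMap.toMatrix'_comp, LinearMap.toMatrix'_comp] at h'
    have e : ∀ X : Matrix (Fin 2) (Fin 2) F, LinearMap.toMatrix' (Matrix.toLinAlgEquiv' X) = X := fun X =>
      LinearMap.toMatrix'_toLin' X
    rw [e, e, ← Matrix.mul_assoc] at h'
    exact h'
  -- removing the conjugation
  let p0 : Pairs F := ⟨(g, g), rfl⟩
  set ψ := (Phi p0)⁻¹ * φ with hψ
  let B : DM F →ₗ[F] DM F := L.toLinearMap ∘ₗ Matrix.mulVecLin ψ.1.1 ∘ₗ L.symm.toLinearMap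
  have hB : ∀ q r, B (pm q r) = pm (B q) (B r) := key ψ
  have hBA : ∀ q, B q = actL (p0⁻¹).1 (A q) := by
    intro q
    show L (ψ.1.1 *ᵥ L.symm q) = _
    rw [hψ, ← map_inv, Subgroup.coe_mul, Units.val_mul, ← Matrix.mulVec_mulVec, Phi_mulVec]
    rfl
  have hB0 : ∀ M, B (M, 0) = (M, 0) := by
    intro M
    rw [hBA, hσA, hg]
    refine Prod.ext ?_ ?_
    · show (g⁻¹).1 * (g.1 * M * (g⁻¹).1) * ((g⁻¹)⁻¹).1 = M
      rw [inv_inv, Matrix.mul_assoc, Matrix.mul_assoc, Matrix.mul_assoc, Units.inv_mul, Matrix.mul_one,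
        ← Matrix.mul_assoc, Units.inv_mul, Matrix.one_mul]
    · simp [actL]
  have hB1 : (B ((0, 1) : DM F)).1 = 0 := by
    have hA1 : (A ((0, 1) : DM F)).1 = 0 := by
      have h := congrArg Prod.fst (hN (0, 1))
      rw [show (((0, 1) : DM F).1, -((0, 1) : DM F).2) = -((0, 1) : DM F) from Prod.ext (by simp) rfl, map_neg] at h
      simp only [Prod.fst_neg] at h
      ext i j
      have := congrFun (congrFun h i) j
      simp only [Matrix.neg_apply] at this
      exact (mul_eq_zero.1 (show (2 : F) * (A ((0, 1) : DM F)).1 i j = 0 by linear_combination -this)).resolve_left h2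
    rw [hBA]
    simp [actL, hA1]
  set P := (B ((0, 1) : DM F)).2 with hP
  have hB01 : B ((0, 1) : DM F) = (0, P) := Prod.ext hB1 rfl
  have hsq := hB ((0, 1) : DM F) ((0, 1) : DM F)
  rw [show pm ((0, 1) : DM F) ((0, 1) : DM F) = (-1, 0) by simp [pm], hB0, hB01] at hsq
  have hPd : P.det = 1 := by
    have h := congrFun (congrFun (congrArg Prod.fst hsq) 0) 0
    simp [pm, Matrix.mul_adjugate] at h
    exact h.symm
  let Pu : GL (Fin 2) F := Matrix.GeneralLinearGroup.mkOfDetNeZero P (by rw [hPd]; exact one_ne_zero)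
  let p1 : Pairs F := ⟨(1, Pu⁻¹), mem_Pairs.2 (by
    rw [map_one, map_inv, eq_inv_iff_mul_eq_one, one_mul]
    exact Units.ext hPd)⟩
  refine ⟨p0 * p1, ?_⟩
  have e : ψ = Phi p1 := by
    refine Subtype.ext (Units.ext (Matrix.ext_iff_mulVec.2 fun x => L.injective ?_))
    rw [Phi_mulVec, show L (ψ.1.1 *ᵥ x) = B (L x) by simp [B]]
    obtain ⟨M, Y⟩ := L x
    have e1 : ((M, Y) : DM F) = (M, 0) + pm ((Y, 0) : DM F) ((0, 1) : DM F) := by simp [pm]
    conv_lhs => rw [e1, map_add, hB0, hB, hB0, hB01]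
    simp [pm, actL, p1, Pu, Matrix.GeneralLinearGroup.mkOfDetNeZero]
  rw [map_mul, ← e, hψ, mul_inv_cancel_left]

/-- Diagonal matrices. -/
def dd : Fˣ × Fˣ →* GL (Fin 2) F where
  toFun z := ⟨!![(z.1 : F), 0; 0, (z.2 : F)], !![((z.1⁻¹ : Fˣ) : F), 0; 0, ((z.2⁻¹ : Fˣ) : F)],
    by ext i j; fin_cases i <;> fin_cases j <;> simp [Matrix.mul_apply, Fin.sum_univ_two],
    by ext i j; fin_cases i <;> fin_cases j <;> simp [Matrix.mul_apply, Fin.sum_univ_two]⟩
  map_one' := by ext i j; fin_cases i <;> fin_cases j <;> simp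
  map_mul' x y := by ext i j; fin_cases i <;> fin_cases j <;> simp [Matrix.mul_apply, Fin.sum_univ_two]

/-- A monomial element of order four. -/
def jj : SpecialLinearGroup (Fin 2) F := ⟨!![0, 1; -1, 0], by simp [Matrix.det_fin_two]⟩

/-- A diagonal element of determinant one. -/
def vd (w : Fˣ) : SpecialLinearGroup (Fin 2) F :=
  ⟨!![((w⁻¹ : Fˣ) : F), 0; 0, (w : F)], by simp [Matrix.det_fin_two]⟩

section Main

variable [Fintype F]

theorem scalar_of_commute_pair {g s t : Matrix (Fin 2) (Fin 2) F} (hs : g * s = s * g) (ht : g * t = t * g)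
    (hst : s * t ≠ t * s) : g 0 1 = 0 ∧ g 1 0 = 0 ∧ g 0 0 = g 1 1 := by
  by_contra hne
  apply hst
  have a1 := congrFun (congrFun hs 0) 0
  have a2 := congrFun (congrFun hs 0) 1
  have a3 := congrFun (congrFun hs 1) 0
  have b1 := congrFun (congrFun ht 0) 0
  have b2 := congrFun (congrFun ht 0) 1
  have b3 := congrFun (congrFun ht 1) 0
  simp [Matrix.mul_apply, Fin.sum_univ_two] at a1 a2 a3 b1 b2 b3
  have m1 : s 0 1 * t 1 0 = t 0 1 * s 1 0 ∧ s 0 1 * (t 0 0 - t 1 1) = t 0 1 * (s 0 0 - s 1 1) ∧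
      s 1 0 * (t 0 0 - t 1 1) = t 1 0 * (s 0 0 - s 1 1) := by
    by_cases h1 : g 0 1 = 0
    · by_cases h2 : g 1 0 = 0
      · have h3 : g 0 0 - g 1 1 ≠ 0 := fun h => hne ⟨h1, h2, sub_eq_zero.1 h⟩
        simp only [h1, h2, zero_mul, mul_zero, add_zero, zero_add] at a2 a3 b2 b3
        refine ⟨mul_left_cancel₀ h3 ?_, mul_left_cancel₀ h3 ?_, mul_left_cancel₀ h3 ?_⟩
        · linear_combination t 1 0 * a2 - s 1 0 * b2
        · linear_combination (t 0 0 - t 1 1) * a2 - (s 0 0 - s 1 1) * b2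
        · linear_combination -(t 0 0 - t 1 1) * a3 + (s 0 0 - s 1 1) * b3
      · simp only [h1, zero_mul, mul_zero, add_zero, zero_add] at a1 b1
        refine ⟨mul_left_cancel₀ h2 ?_, mul_left_cancel₀ h2 ?_, mul_left_cancel₀ h2 ?_⟩
        · linear_combination -(t 1 0) * a1 + s 1 0 * b1
        · linear_combination -(t 0 0 - t 1 1) * a1 + (s 0 0 - s 1 1) * b1
        · linear_combination s 1 0 * b3 - t 1 0 * a3
    · have n2 : s 0 1 * (t 0 0 - t 1 1) = t 0 1 * (s 0 0 - s 1 1) := by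
        refine mul_left_cancel₀ h1 ?_
        linear_combination -(s 0 1) * b2 + t 0 1 * a2
      refine ⟨mul_left_cancel₀ h1 ?_, n2, mul_left_cancel₀ h1 ?_⟩
      · linear_combination s 0 1 * b1 - t 0 1 * a1
      · linear_combination (t 0 0 - t 1 1) * a1 - (s 0 0 - s 1 1) * b1 + g 1 0 * n2
  obtain ⟨n1, n2, n3⟩ := m1
  ext i j
  fin_cases i <;> fin_cases j <;> simp [Matrix.mul_apply, Fin.sum_univ_two]
  · linear_combination n1
  · linear_combination -n2
  · linear_combination n3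
  · linear_combination -n1

theorem sylow_g2 (hF : Odd (Fintype.card F)) (P : Sylow 2 (Cfsg.Lie.G2 F)) :
    ∀ x : (P : Subgroup (Cfsg.Lie.G2 F)), x ^ 2 ∈ commutator (P : Subgroup (Cfsg.Lie.G2 F)) := by
  classical
  haveI : Fact (Nat.Prime 2) := ⟨Nat.prime_two⟩
  have h2 : (2 : F) ≠ 0 := CfsgLib.Classical.two_ne_zero_of_odd_card hF
  have h1 : 1 < Fintype.card F := Fintype.one_lt_card
  set a := padicValNat 2 (Fintype.card F - 1) with ha
  have ha1 : 1 ≤ a := by
    obtain ⟨t, ht⟩ := hF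
    rw [ha, show Fintype.card F - 1 = 2 * t by omega, padicValNat.mul (by norm_num) (by omega), padicValNat_self]
    omega
  obtain ⟨w, hw⟩ := CfsgLib.Invol.exists_unit_orderOf (K := F) (d := 2 ^ a) (by
    rw [Nat.card_eq_fintype_card]; exact pow_padicValNat_dvd)
  -- a diagonal two-group with a monomial element
  have hδd : ∀ z, Matrix.GeneralLinearGroup.det ((dd (F := F)) z) = z.1 * z.2 := fun z => Units.ext (by
    show (!![(z.1 : F), 0; 0, (z.2 : F)] : Matrix (Fin 2) (Fin 2) F).det = _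
    simp [Matrix.det_fin_two])
  let J : GL (Fin 2) F := SpecialLinearGroup.toGL (jj (F := F))
  have hJ : ∀ x y, J * (dd (F := F)) (x, y) = (dd (F := F)) (y, x) * J := fun x y => Units.ext (by
    show (!![0, 1; -1, 0] : Matrix (Fin 2) (Fin 2) F) * !![(x : F), 0; 0, (y : F)] =
      !![(y : F), 0; 0, (x : F)] * !![0, 1; -1, 0]
    ext i k; fin_cases i <;> fin_cases k <;> simp [Matrix.mul_apply, Fin.sum_univ_two])
  set D := ((Subgroup.zpowers w).prod (Subgroup.zpowers w)).map (dd (F := F)) with hD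
  have hDp : IsPGroup 2 D := by
    refine IsPGroup.map (IsPGroup.of_card (n := a + a) ?_) (dd (F := F))
    rw [Nat.card_congr (Subgroup.prodEquiv _ _).toEquiv, Nat.card_prod, Nat.card_zpowers, hw, pow_add]
  have hJn : Subgroup.zpowers J ≤ Subgroup.normalizer (D : Set (GL (Fin 2) F)) := by
    rw [Subgroup.zpowers_le, Subgroup.mem_normalizer_iff]
    intro x
    constructor
    · rintro ⟨⟨y1, y2⟩, ⟨hy1, hy2⟩, rfl⟩
      exact ⟨(y2, y1), ⟨hy2, hy1⟩, by rw [hJ, mul_inv_cancel_right]⟩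
    · rintro ⟨⟨y1, y2⟩, ⟨hy1, hy2⟩, hy⟩
      refine ⟨(y2, y1), ⟨hy2, hy1⟩, ?_⟩
      have h3 := hJ y2 y1
      rw [hy, inv_mul_cancel_right] at h3
      exact mul_left_cancel h3
  have hJp : IsPGroup 2 (Subgroup.zpowers J) := by
    have h4 : J ^ 2 ^ 2 = 1 := Units.ext (by
      show ((!![0, 1; -1, 0] : Matrix (Fin 2) (Fin 2) F)) ^ (2 ^ 2) = 1
      simp [pow_succ, Matrix.mul_fin_two, Matrix.one_fin_two])
    obtain ⟨i, -, hi⟩ := (Nat.dvd_prime_pow Nat.prime_two).1 (orderOf_dvd_of_pow_eq_one h4)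
    exact IsPGroup.of_card (n := i) (by rw [Nat.card_zpowers, hi])
  obtain ⟨Q, hQ⟩ := (hJp.to_sup_of_normal_right' hDp hJn).exists_le_sylow
  have hJQ : J ∈ (Q : Subgroup (GL (Fin 2) F)) := hQ (Subgroup.mem_sup_left (Subgroup.mem_zpowers _))
  set u := (dd (F := F)) (1, w) with hu
  have huQ : u ∈ (Q : Subgroup (GL (Fin 2) F)) :=
    hQ (Subgroup.mem_sup_right ⟨(1, w), ⟨one_mem _, Subgroup.mem_zpowers _⟩, rfl⟩)
  have hdetu : Matrix.GeneralLinearGroup.det u = w := by rw [hu, hδd, one_mul]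
  set dt := Matrix.GeneralLinearGroup.det (n := Fin 2) (R := F) with hdt
  -- determinants on `Q`
  have hQd : (Q : Subgroup (GL (Fin 2) F)).map dt = Subgroup.zpowers w := by
    let W : Sylow 2 Fˣ := Sylow.ofCard (Subgroup.zpowers w) (by
      rw [Nat.card_zpowers, hw, Nat.factorization_def _ Nat.prime_two, Nat.card_eq_fintype_card,
        Fintype.card_units])
    refine W.is_maximal' (Q.isPGroup'.map dt) ?_
    rw [Sylow.coe_ofCard, Subgroup.zpowers_le]
    exact ⟨u, huQ, hdetu⟩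
  set R := (Q : Subgroup (GL (Fin 2) F)).comap SpecialLinearGroup.toGL with hR
  have htoinj : Function.Injective (SpecialLinearGroup.toGL (n := Fin 2) (R := F)) := fun x y h =>
    Subtype.ext (congrArg Units.val h)
  have hdec : ∀ x ∈ (Q : Subgroup (GL (Fin 2) F)), ∀ i : ℤ, dt x = w ^ i →
      ∃ s ∈ R, x = SpecialLinearGroup.toGL s * u ^ i := by
    intro x hx i hi
    have hd1 : (x * (u ^ i)⁻¹).1.det = 1 := by
      have : dt (x * (u ^ i)⁻¹) = 1 := by rw [map_mul, map_inv, map_zpow, hdetu, hi, mul_inv_cancel]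
      exact congrArg Units.val this
    refine ⟨⟨_, hd1⟩, ?_, ?_⟩
    · show SpecialLinearGroup.toGL ⟨_, hd1⟩ ∈ (Q : Subgroup (GL (Fin 2) F))
      rw [show SpecialLinearGroup.toGL ⟨_, hd1⟩ = x * (u ^ i)⁻¹ from Units.ext rfl]
      exact mul_mem hx (inv_mem (zpow_mem huQ i))
    · rw [show SpecialLinearGroup.toGL ⟨_, hd1⟩ = x * (u ^ i)⁻¹ from Units.ext rfl, inv_mul_cancel_right]
  set vB := padicValNat 2 (Fintype.card F + 1) with hvB
  have hQc : Nat.card Q = 2 ^ (2 * a + vB) := by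
    rw [Q.card_eq_multiplicity, Nat.factorization_def _ Nat.prime_two, val_GL_two hF]
  have hRp : IsPGroup 2 R := Q.isPGroup'.comap_of_injective _ htoinj
  obtain ⟨S, hS⟩ := hRp.exists_le_sylow
  have hSc : Nat.card S = 2 ^ (a + vB) := by
    rw [S.card_eq_multiplicity, Nat.factorization_def _ Nat.prime_two, val_SL_two hF]
  have hu2 : orderOf u = 2 ^ a := by
    rw [hu, orderOf_injective (dd (F := F)) (fun x y h => by
      have h' := congrArg Units.val h
      refine Prod.ext (Units.ext ?_) (Units.ext ?_)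
      · simpa [dd] using congrFun (congrFun h' 0) 0
      · simpa [dd] using congrFun (congrFun h' 1) 1) (1, w), Prod.orderOf_mk, orderOf_one, hw, Nat.lcm_one_left]
  have hRS : R = S := by
    refine Subgroup.eq_of_le_of_card_ge hS ?_
    have hle : Nat.card Q ≤ Nat.card R * 2 ^ a := by
      rw [← hu2, ← Nat.card_zpowers, ← Nat.card_prod]
      refine Nat.card_le_card_of_surjective (fun z : R × Subgroup.zpowers u =>
        (⟨SpecialLinearGroup.toGL z.1.1 * z.2.1, mul_mem z.1.2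
          (Subgroup.zpowers_le.2 huQ z.2.2)⟩ : (Q : Subgroup (GL (Fin 2) F)))) ?_
      rintro ⟨x, hx⟩
      obtain ⟨i, hi⟩ := Subgroup.mem_zpowers_iff.1 (hQd ▸ ⟨x, hx, rfl⟩ : dt x ∈ Subgroup.zpowers w)
      obtain ⟨s, hs, rfl⟩ := hdec x hx i hi.symm
      exact ⟨⟨⟨s, hs⟩, ⟨_, zpow_mem (Subgroup.mem_zpowers _) i⟩⟩, rfl⟩
    rw [hQc, show 2 * a + vB = (a + vB) + a by ring, pow_add, ← hSc] at hle
    exact Nat.le_of_mul_le_mul_right hle (pow_pos (by norm_num) a)
  have hRE : ElemAb R := hRS ▸ elemAb_sylow_SL_two hF S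
  have hRc : Nat.card R = 2 ^ (a + vB) := by rw [hRS]; exact hSc
  -- `R` is not abelian
  obtain ⟨s1, hs1, t1, ht1, hst⟩ : ∃ s ∈ R, ∃ t ∈ R, s.1 * t.1 ≠ t.1 * s.1 := by
    obtain ⟨k, hk, ⟨e⟩⟩ := CfsgLib.Classical.sylow_two_quaternion hF S
    refine ⟨_, hRS.ge (e.symm (QuaternionGroup.a 1)).2, _, hRS.ge (e.symm (QuaternionGroup.xa 0)).2, fun h => ?_⟩
    have h' : e.symm (QuaternionGroup.a 1 * QuaternionGroup.xa 0) =
        e.symm (QuaternionGroup.xa 0 * QuaternionGroup.a 1) := by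
      rw [map_mul, map_mul]; exact Subtype.ext (Subtype.ext h)
    have h4 := e.symm.injective h'
    rw [QuaternionGroup.a_mul_xa, QuaternionGroup.xa_mul_a] at h4
    have h5 : ((2 : ℕ) : ZMod (2 * 2 ^ k)) = 0 := by
      have h6 := QuaternionGroup.xa.inj h4
      push_cast
      linear_combination -h6
    rw [ZMod.natCast_eq_zero_iff] at h5
    have := Nat.le_of_dvd (by norm_num) h5
    have : 2 ≤ 2 ^ k := Nat.le_self_pow (by omega) 2
    omega
  -- the candidate
  let K0 : Subgroup (Pairs F) := ((Q : Subgroup (GL (Fin 2) F)).prod Q).subgroupOf (Pairs F)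
  set P0 := K0.map Phi with hP0
  let iL : SpecialLinearGroup (Fin 2) F →* Pairs F :=
    ((MonoidHom.inl _ _).comp SpecialLinearGroup.toGL).codRestrict _ fun s => mem_Pairs.2 (by
      show dt (SpecialLinearGroup.toGL s) = dt 1
      rw [map_one]; exact Units.ext s.2)
  let iR : SpecialLinearGroup (Fin 2) F →* Pairs F :=
    ((MonoidHom.inr _ _).comp SpecialLinearGroup.toGL).codRestrict _ fun s => mem_Pairs.2 (by
      show dt 1 = dt (SpecialLinearGroup.toGL s)
      rw [map_one]; exact (Units.ext s.2).symm)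
  have hiL : ∀ s ∈ R, Phi (iL s) ∈ P0 := fun s hs => ⟨iL s, ⟨hs, one_mem _⟩, rfl⟩
  have hiR : ∀ s ∈ R, Phi (iR s) ∈ P0 := fun s hs => ⟨iR s, ⟨one_mem _, hs⟩, rfl⟩
  have hgL : ∀ s ∈ R, Phi (iL s) ∈ good P0 := fun s hs =>
    map_le_good (Phi.comp iL) hRE (by rintro _ ⟨r, hr, rfl⟩; exact hiL r hr) ⟨s, hs, rfl⟩
  have hgR : ∀ s ∈ R, Phi (iR s) ∈ good P0 := fun s hs =>
    map_le_good (Phi.comp iR) hRE (by rintro _ ⟨r, hr, rfl⟩; exact hiR r hr) ⟨s, hs, rfl⟩
  let uu : Pairs F := ⟨(u, u), rfl⟩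
  have huu : Phi uu ∈ P0 := ⟨uu, ⟨huQ, huQ⟩, rfl⟩
  have hjR : (jj (F := F)) ∈ R := hJQ
  have hvv : SpecialLinearGroup.toGL (vd w) = (dd (F := F)) (w⁻¹, w) := Units.ext rfl
  have hcomL : ⁅Phi (iL (jj (F := F))), Phi uu⁆ = (Phi (iL (vd w)))⁻¹ := by
    rw [← map_inv Phi, commutatorElement_def, ← map_inv Phi, ← map_inv Phi, ← map_mul, ← map_mul, ← map_mul]
    refine congrArg Phi (Subtype.ext (Prod.ext ?_ ?_))
    · show J * u * J⁻¹ * u⁻¹ = (SpecialLinearGroup.toGL (vd w))⁻¹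
      rw [hu, hJ, mul_inv_cancel_right, hvv, ← map_inv (dd (F := F)), ← map_inv (dd (F := F)), ← map_mul (dd (F := F))]
      congr 1
      simp
    · show (1 : GL (Fin 2) F) * u * 1⁻¹ * u⁻¹ = 1⁻¹
      simp
  have hcomR : ⁅Phi (iR (jj (F := F))), Phi uu⁆ = (Phi (iR (vd w)))⁻¹ := by
    rw [← map_inv Phi, commutatorElement_def, ← map_inv Phi, ← map_inv Phi, ← map_mul, ← map_mul, ← map_mul]
    refine congrArg Phi (Subtype.ext (Prod.ext ?_ ?_))
    · show (1 : GL (Fin 2) F) * u * 1⁻¹ * u⁻¹ = 1⁻¹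
      simp
    · show J * u * J⁻¹ * u⁻¹ = (SpecialLinearGroup.toGL (vd w))⁻¹
      rw [hu, hJ, mul_inv_cancel_right, hvv, ← map_inv (dd (F := F)), ← map_inv (dd (F := F)), ← map_mul (dd (F := F))]
      congr 1
      simp
  have huug : Phi uu ∈ good P0 := by
    refine mem_good.2 ⟨huu, ?_⟩
    let cc : Pairs F := ⟨((dd (F := F)) (w, w), (dd (F := F)) (w, w)), rfl⟩
    have hcc : Phi cc = 1 := by
      refine Subtype.ext (Units.ext (Matrix.ext_iff_mulVec.2 fun x => L.injective ?_))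
      rw [Phi_mulVec, OneMemClass.coe_one, Units.val_one, Matrix.one_mulVec]
      obtain ⟨M, Y⟩ := L x
      have hM : ∀ M : Matrix (Fin 2) (Fin 2) F, ((dd (F := F)) (w, w)).1 * M * (((dd (F := F)) (w, w))⁻¹).1 = M := fun M => by
        show !![(w : F), 0; 0, (w : F)] * M * !![((w⁻¹ : Fˣ) : F), 0; 0, ((w⁻¹ : Fˣ) : F)] = M
        rw [← scalar_eq, ← scalar_eq]
        simp [smul_smul]
      exact Prod.ext (hM M) (hM Y)
    have e : Phi uu ^ 2 = Phi cc * (Phi (iL (vd w)) * Phi (iR (vd w))) := by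
      rw [pow_two, ← map_mul, ← map_mul, ← map_mul]
      refine congrArg Phi (Subtype.ext ?_)
      show (u, u) * (u, u) = ((dd (F := F)) (w, w), (dd (F := F)) (w, w)) * ((SpecialLinearGroup.toGL (vd w), 1) * (1, SpecialLinearGroup.toGL (vd w)))
      rw [hvv, hu]
      simp only [Prod.mk_mul_mk, ← map_mul, mul_one, one_mul, mul_inv_cancel]
    rw [e, hcc, one_mul]
    refine mul_mem ?_ ?_
    · rw [← inv_mem_iff, ← hcomL]
      exact Subgroup.commutator_mem_commutator (hiL (jj (F := F)) hjR) huu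
    · rw [← inv_mem_iff, ← hcomR]
      exact Subgroup.commutator_mem_commutator (hiR (jj (F := F)) hjR) huu
  have hE : ElemAb P0 := by
    rintro _ ⟨⟨⟨g, h⟩, hgh⟩, ⟨hg, hh⟩, rfl⟩
    obtain ⟨i, hi⟩ := Subgroup.mem_zpowers_iff.1 (hQd ▸ ⟨g, hg, rfl⟩ : dt g ∈ Subgroup.zpowers w)
    obtain ⟨s, hs, hgs⟩ := hdec g hg i hi.symm
    obtain ⟨t, ht, hht⟩ := hdec h hh i ((mem_Pairs.1 hgh).symm.trans hi.symm)
    have e : (⟨(g, h), hgh⟩ : Pairs F) = iL s * iR t * uu ^ i := by
      refine Subtype.ext ?_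
      show (g, h) = (SpecialLinearGroup.toGL s, 1) * (1, SpecialLinearGroup.toGL t) * ((uu ^ i : Pairs F) : GL (Fin 2) F × GL (Fin 2) F)
      rw [SubgroupClass.coe_zpow]
      simp [uu, hgs, hht]
    rw [e, map_mul, map_mul, map_zpow]
    exact mul_mem (mul_mem (hgL s hs) (hgR t ht)) (zpow_mem huug i)
  -- the order of the candidate inside the range
  have hPc : Nat.card (Pairs F) = Nat.card (GL (Fin 2) F) * Nat.card (SpecialLinearGroup (Fin 2) F) := by
    rw [← Nat.card_prod]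
    refine (Nat.card_congr (Equiv.ofBijective (fun z : GL (Fin 2) F × SpecialLinearGroup (Fin 2) F =>
      (⟨(z.1, z.1 * SpecialLinearGroup.toGL z.2), mem_Pairs.2 (by
        rw [map_mul, show Matrix.GeneralLinearGroup.det (SpecialLinearGroup.toGL z.2) = 1 from Units.ext z.2.2,
          mul_one])⟩ : Pairs F)) ⟨fun x y h => ?_, fun p => ?_⟩)).symm
    · have h3 : x.1 = y.1 := congrArg (fun p : Pairs F => p.1.1) h
      have h4 : x.1 * SpecialLinearGroup.toGL x.2 = y.1 * SpecialLinearGroup.toGL y.2 :=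
        congrArg (fun p : Pairs F => p.1.2) h
      rw [h3] at h4
      exact Prod.ext h3 (htoinj (mul_left_cancel h4))
    · obtain ⟨⟨g, h⟩, hgh⟩ := p
      have hd : (g⁻¹ * h).1.det = 1 := congrArg Units.val
        (show dt (g⁻¹ * h) = 1 by rw [map_mul, map_inv, ← mem_Pairs.1 hgh, inv_mul_cancel])
      refine ⟨(g, ⟨_, hd⟩), Subtype.ext (Prod.ext rfl ?_)⟩
      show g * SpecialLinearGroup.toGL ⟨_, hd⟩ = h
      rw [show SpecialLinearGroup.toGL ⟨_, hd⟩ = g⁻¹ * h from Units.ext rfl, mul_inv_cancel_left]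
  have hK0 : 2 ^ (2 * a + vB + (a + vB)) ≤ Nat.card K0 := by
    rw [pow_add, ← hQc, ← hRc, ← Nat.card_prod]
    refine Nat.card_le_card_of_injective (fun z : ↥(Q : Subgroup (GL (Fin 2) F)) × ↥R =>
      (⟨⟨(z.1.1, z.1.1 * SpecialLinearGroup.toGL z.2.1), mem_Pairs.2 (by
        rw [map_mul, show Matrix.GeneralLinearGroup.det (SpecialLinearGroup.toGL z.2.1) = 1 from Units.ext z.2.1.2,
          mul_one])⟩, ⟨z.1.2, mul_mem z.1.2 z.2.2⟩⟩ : K0)) fun x y h => ?_
    have h3 : x.1.1 = y.1.1 := congrArg (fun p : K0 => p.1.1.1) h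
    have h4 : x.1.1 * SpecialLinearGroup.toGL x.2.1 = y.1.1 * SpecialLinearGroup.toGL y.2.1 :=
      congrArg (fun p : K0 => p.1.1.2) h
    rw [h3] at h4
    exact Prod.ext (Subtype.ext h3) (Subtype.ext (htoinj (mul_left_cancel h4)))
  have hK0p : IsPGroup 2 K0 := by
    refine IsPGroup.comap_of_injective (?_ : IsPGroup 2 ((Q : Subgroup (GL (Fin 2) F)).prod (Q : Subgroup (GL (Fin 2) F)))) _
      (Subgroup.subtype_injective _)
    obtain ⟨n, hn⟩ := IsPGroup.iff_card.1 Q.isPGroup'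
    exact IsPGroup.of_card (n := n + n)
      (by rw [Nat.card_congr (Subgroup.prodEquiv _ _).toEquiv, Nat.card_prod, hn, pow_add])
  have hP0p : IsPGroup 2 P0 := hK0p.map Phi
  have hker : Nat.card (Phi (F := F)).ker = Fintype.card F - 1 := by
    rw [← Fintype.card_units, ← Nat.card_eq_fintype_card]
    let cs : Fˣ →* GL (Fin 2) F := (dd (F := F)).comp ((MonoidHom.id Fˣ).prod (MonoidHom.id Fˣ))
    refine (Nat.card_congr (Equiv.ofBijective (fun c : Fˣ =>
      (⟨⟨(cs c, cs c), rfl⟩, ?_⟩ : (Phi (F := F)).ker)) ⟨fun x y h => ?_, fun p => ?_⟩)).symm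
    · refine Subtype.ext (Units.ext (Matrix.ext_iff_mulVec.2 fun x => L.injective ?_))
      rw [Phi_mulVec, OneMemClass.coe_one, Units.val_one, Matrix.one_mulVec]
      obtain ⟨M, Y⟩ := L x
      have hM : ∀ M : Matrix (Fin 2) (Fin 2) F, (cs c).1 * M * ((cs c)⁻¹).1 = M := fun M => by
        show !![(c : F), 0; 0, (c : F)] * M * !![((c⁻¹ : Fˣ) : F), 0; 0, ((c⁻¹ : Fˣ) : F)] = M
        rw [← scalar_eq, ← scalar_eq]
        simp [smul_smul]
      exact Prod.ext (hM M) (hM Y)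
    · refine Units.ext ?_
      simpa [cs, dd] using congrArg (fun p : (Phi (F := F)).ker => p.1.1.1.1 0 0) h
    · obtain ⟨⟨⟨g, h⟩, hgh⟩, hp⟩ := p
      obtain ⟨e1, c, hc⟩ := mem_ker_Phi (MonoidHom.mem_ker.1 hp)
      have hc0 : c ≠ 0 := fun h0 => by
        have := ((Matrix.isUnit_iff_isUnit_det _).1 g.isUnit).ne_zero
        rw [show g.1 = c • 1 from hc, h0, zero_smul, Matrix.det_zero] at this
        exact this rfl
      have e2 : cs (Units.mk0 c hc0) = g := Units.ext (by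
        show !![c, 0; 0, c] = g.1
        rw [show g.1 = c • 1 from hc]
        ext i k; fin_cases i <;> fin_cases k <;> simp)
      exact ⟨Units.mk0 c hc0, Subtype.ext (Subtype.ext (Prod.ext e2 (e2.trans e1)))⟩
  have hrange : padicValNat 2 (Nat.card (Phi (F := F)).range) = 2 * (a + vB) := by
    have h := congrArg (padicValNat 2) (Phi (F := F)).ker.card_mul_index
    rw [Subgroup.index_ker, padicValNat.mul Nat.card_pos.ne' Nat.card_pos.ne', hker, hPc,
      padicValNat.mul Nat.card_pos.ne' Nat.card_pos.ne', val_GL_two hF, val_SL_two hF] at h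
    omega
  have hP0le : P0 ≤ (Phi (F := F)).range := Subgroup.map_le_range _ _
  have hP0c : Nat.card P0 = 2 ^ (2 * (a + vB)) := by
    obtain ⟨n, hn⟩ := IsPGroup.iff_card.1 hP0p
    have hle : n ≤ 2 * (a + vB) := hrange ▸ (padicValNat_dvd_iff_le Nat.card_pos.ne').1
      (hn ▸ Subgroup.card_dvd_of_le hP0le)
    have h := ((Phi (F := F)).ker.subgroupOf K0).card_mul_index
    have e1 : (Phi (F := F)).ker.subgroupOf K0 = (Phi.comp K0.subtype).ker := rfl
    rw [e1, Subgroup.index_ker, MonoidHom.range_comp, Subgroup.range_subtype, ← hP0, hn] at h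
    obtain ⟨k, hk⟩ := IsPGroup.iff_card.1 (hK0p.to_subgroup (Phi.comp K0.subtype).ker)
    have hka : k ≤ a := by
      have : Nat.card (Phi.comp K0.subtype).ker ∣ Nat.card (Phi (F := F)).ker := by
        rw [← e1]
        exact Subgroup.card_comap_dvd_of_injective _ _ (Subgroup.subtype_injective _)
      rw [hk, hker] at this
      exact (padicValNat_dvd_iff_le (by omega)).1 this
    rw [hk, ← pow_add] at h
    rw [← h, Nat.pow_le_pow_iff_right (by norm_num)] at hK0
    rw [hn]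
    congr 1
    omega
  -- the involution
  set z := Phi (negPair (F := F)) with hz
  have hm1 : (-1 : SpecialLinearGroup (Fin 2) F) ∈ R := by
    have hjj : (jj (F := F)) * (jj (F := F)) = -1 := Subtype.ext (by
      show (!![0, 1; -1, 0] : Matrix (Fin 2) (Fin 2) F) * !![0, 1; -1, 0] = -1
      ext i k; fin_cases i <;> fin_cases k <;> simp [Matrix.mul_apply, Fin.sum_univ_two])
    exact hjj ▸ mul_mem hjR hjR
  have hzP : z ∈ P0 := by
    have e : iR (-1) = negPair := Subtype.ext (Prod.ext rfl (Units.ext rfl))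
    have h := hiR _ hm1
    rwa [e] at h
  have hzc : ∀ x ∈ P0, Commute z x := by
    rintro _ ⟨⟨⟨g, h⟩, hgh⟩, -, rfl⟩
    refine Commute.map ?_ Phi
    refine Subtype.ext ?_
    show ((1 : GL (Fin 2) F), (-1 : GL (Fin 2) F)) * (g, h) = (g, h) * (1, -1)
    simp
  have hcentre : ∀ x ∈ P0, (∀ y ∈ P0, Commute x y) → x = 1 ∨ x = z := by
    rintro _ ⟨⟨⟨g, h⟩, hgh⟩, -, rfl⟩ hx
    have key : ∀ s ∈ R, g.1 * s.1 = s.1 * g.1 ∧ h.1 * s.1 = s.1 * h.1 := by
      intro s hs
      have h3 : ∀ q : Pairs F, q ∈ K0 → Phi (⁅(⟨(g, h), hgh⟩ : Pairs F), q⁆) = 1 := fun q hq => by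
        rw [map_commutatorElement, commutatorElement_eq_one_iff_commute]
        exact hx _ ⟨q, hq, rfl⟩
      obtain ⟨e1, -⟩ := mem_ker_Phi (h3 (iL s) ⟨hs, one_mem _⟩)
      obtain ⟨e2, -⟩ := mem_ker_Phi (h3 (iR s) ⟨one_mem _, hs⟩)
      change ⁅g, SpecialLinearGroup.toGL s⁆ = ⁅h, (1 : GL (Fin 2) F)⁆ at e1
      change ⁅g, (1 : GL (Fin 2) F)⁆ = ⁅h, SpecialLinearGroup.toGL s⁆ at e2
      rw [commutatorElement_one_right, commutatorElement_eq_one_iff_commute] at e1
      rw [commutatorElement_one_right, eq_comm, commutatorElement_eq_one_iff_commute] at e2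
      exact ⟨congrArg Units.val e1.eq, congrArg Units.val e2.eq⟩
    obtain ⟨gs, hs⟩ := key s1 hs1
    obtain ⟨gt, ht⟩ := key t1 ht1
    obtain ⟨g01, g10, g00⟩ := scalar_of_commute_pair gs gt hst
    obtain ⟨h01, h10, h00⟩ := scalar_of_commute_pair hs ht hst
    have hdd : g.1.det = h.1.det := congrArg Units.val (mem_Pairs.1 hgh)
    rw [Matrix.det_fin_two, Matrix.det_fin_two, g01, h01, ← g00, ← h00] at hdd
    have hG : g.1 = g.1 0 0 • (1 : Matrix (Fin 2) (Fin 2) F) := by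
      rw [scalar_eq]
      conv_lhs => rw [Matrix.eta_fin_two g.1, g01, g10, ← g00]
    have hH : h.1 = h.1 0 0 • (1 : Matrix (Fin 2) (Fin 2) F) := by
      rw [scalar_eq]
      conv_lhs => rw [Matrix.eta_fin_two h.1, h01, h10, ← h00]
    have hval : h.1 = g.1 ∨ h.1 = -g.1 := by
      rcases mul_self_eq_mul_self_iff.1 (show h.1 0 0 * h.1 0 0 = g.1 0 0 * g.1 0 0 by linear_combination -hdd)
        with hh | hh
      · left; rw [hH, hh, ← hG]
      · right; rw [hH, hh, neg_smul, ← hG]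
    have hgs : ∀ M : Matrix (Fin 2) (Fin 2) F, g.1 * M * (g⁻¹).1 = M := fun M => by
      have : g.1 * M = M * g.1 := by
        rw [hG, Matrix.smul_mul, Matrix.mul_smul, Matrix.one_mul, Matrix.mul_one]
      rw [this, Matrix.mul_assoc, ← Units.val_mul, mul_inv_cancel, Units.val_one, Matrix.mul_one]
    rcases hval with hh | hh
    · left
      refine Subtype.ext (Units.ext (Matrix.ext_iff_mulVec.2 fun x => L.injective ?_))
      rw [Phi_mulVec, OneMemClass.coe_one, Units.val_one, Matrix.one_mulVec]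
      have hh' : h = g := Units.ext hh
      subst hh'
      exact Prod.ext (hgs _) (hgs _)
    · right
      refine Subtype.ext (Units.ext (Matrix.ext_iff_mulVec.2 fun x => L.injective ?_))
      rw [Phi_mulVec, hz, Phi_mulVec, actL_negPair]
      have hh' : h = -g := Units.ext hh
      subst hh'
      refine Prod.ext (hgs _) ?_
      show g.1 * (L x).2 * ((-g)⁻¹).1 = -(L x).2
      rw [inv_neg, Units.val_neg, Matrix.mul_neg, hgs]
  have hz1 : z ≠ 1 := fun h => by
    have h' := (mem_ker_Phi h).1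
    have h3 := congrArg (fun k : GL (Fin 2) F => k.1 0 0) h'
    simp [negPair] at h3
    exact h2 (by linear_combination h3)
  -- it is a Sylow subgroup
  obtain ⟨P1, hP1⟩ := hP0p.exists_le_sylow
  have hP1eq : (P1 : Subgroup (Cfsg.Lie.G2 F)) ≤ P0 := by
    haveI := P1.isPGroup'.isNilpotent
    set H := P0.subgroupOf (P1 : Subgroup (Cfsg.Lie.G2 F)) with hH
    by_contra hne
    have hHne : H ≠ ⊤ := fun h => hne (Subgroup.subgroupOf_eq_top.1 h)
    obtain ⟨k, hkN, hkH⟩ := SetLike.exists_of_lt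
      (normalizerCondition_of_isNilpotent H (lt_of_le_of_ne le_top hHne))
    have hkmem : ∀ x : (P1 : Subgroup (Cfsg.Lie.G2 F)), x ∈ H ↔ k * x * k⁻¹ ∈ H :=
      Subgroup.mem_normalizer_iff.1 hkN
    have hconj : ∀ x : Cfsg.Lie.G2 F, x ∈ P0 → k.1 * x * k.1⁻¹ ∈ P0 ∧ k.1⁻¹ * x * k.1 ∈ P0 := by
      intro x hx
      refine ⟨Subgroup.mem_subgroupOf.1 ((hkmem ⟨x, hP1 hx⟩).1 hx), ?_⟩
      have := (hkmem (k⁻¹ * ⟨x, hP1 hx⟩ * k)).2 (by
        rw [show k * (k⁻¹ * ⟨x, hP1 hx⟩ * k) * k⁻¹ = ⟨x, hP1 hx⟩ by group]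
        exact hx)
      exact this
    have hkz : Commute k.1 z := by
      have hc : ∀ y ∈ P0, Commute (k.1 * z * k.1⁻¹) y := fun y hy => by
        have h := (hzc _ (hconj y hy).2).map (MulAut.conj k.1).toMonoidHom
        simpa [mul_assoc] using h
      rcases hcentre _ (hconj z hzP).1 hc with h | h
      · exact absurd (conj_eq_one_iff.1 h) hz1
      · exact mul_inv_eq_iff_eq_mul.1 h
    have hkr := mem_range_of_commute h2 hkz
    apply hkH
    have hle : P0 ≤ (P1 : Subgroup (Cfsg.Lie.G2 F)) ⊓ (Phi (F := F)).range := le_inf hP1 hP0le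
    have hcle : Nat.card ↥((P1 : Subgroup (Cfsg.Lie.G2 F)) ⊓ (Phi (F := F)).range) ≤ Nat.card P0 := by
      obtain ⟨n, hn⟩ := IsPGroup.iff_card.1 (P1.isPGroup'.to_le
        (inf_le_left : (P1 : Subgroup (Cfsg.Lie.G2 F)) ⊓ (Phi (F := F)).range ≤ _))
      rw [hn, hP0c]
      exact Nat.pow_le_pow_right (by norm_num) (hrange ▸ (padicValNat_dvd_iff_le Nat.card_pos.ne').1
        (hn ▸ Subgroup.card_dvd_of_le inf_le_right))
    have heq := Subgroup.eq_of_le_of_card_ge hle hcle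
    rw [hH, Subgroup.mem_subgroupOf, heq]
    exact ⟨k.2, hkr⟩
  refine sylow_of_elemAb P0 ?_ hE P
  rw [le_antisymm hP1 hP1eq, P1.card_eq_multiplicity, Nat.factorization_def _ Nat.prime_two]

end Main

end CfsgLib.Classical.G2Quat
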