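import Cfsg.Prelude.Def_ClassicalGeometry

/-!
# Stabilisers of coordinate subspaces in `GL_n`
-/

set_option autoImplicit false

namespace CfsgLib.GLStab

open Matrix

variable {F : Type*} [Field F] {n : ℕ}

/-- the coordinate subspace -/
def coord (F : Type*) [Field F] (n k : ℕ) : Submodule F (Fin n → F) where
  carrier := {v | ∀ i : Fin n, k ≤ (i : ℕ) → v i = 0}
  add_mem' hv hw i hi := by rw [Pi.add_apply, hv i hi, hw i hi, add_zero]
  zero_mem' i _ := rfl
  smul_mem' c v hv i hi := by rw [Pi.smul_apply, hv i hi, smul_zero]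

/-- its stabiliser -/
abbrev stab (F : Type*) [Field F] (n k : ℕ) : Subgroup (GL (Fin n) F) :=
  Cfsg.stabilizing (Cfsg.glToMat (Fin n) F) {v : Fin n → F | ∀ i : Fin n, k ≤ (i : ℕ) → v i = 0}

theorem mem_iff_entries [Finite F] {k : ℕ} {g : GL (Fin n) F} :
    g ∈ stab F n k ↔ ∀ i j : Fin n, k ≤ (i : ℕ) → (j : ℕ) < k → (g : Matrix (Fin n) (Fin n) F) i j = 0 := by
  constructor
  · intro h i j hi hj
    have h1 := (h (Pi.single j 1)).1 (fun l hl => Pi.single_eq_of_ne (fun e => by rw [e] at hl; omega) 1)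
    simpa [Matrix.mulVec_single_one] using h1 i hi
  · intro h
    have hfw : ∀ v ∈ coord F n k, (g : Matrix (Fin n) (Fin n) F) *ᵥ v ∈ coord F n k := fun v hv i hi => by
      rw [Matrix.mulVec, dotProduct]
      refine Finset.sum_eq_zero fun j _ => ?_
      rcases Nat.lt_or_ge (j : ℕ) k with hj | hj
      · rw [h i j hi hj, zero_mul]
      · rw [hv j hj, mul_zero]
    intro v
    refine ⟨hfw v, fun hv => ?_⟩
    obtain ⟨⟨w, hw⟩, he⟩ := (Finite.injective_iff_surjective
      (f := fun w : coord F n k => (⟨_, hfw w.1 w.2⟩ : coord F n k))).1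
      (fun a b e => Subtype.ext (Matrix.mulVec_injective_iff_isUnit.2 g.isUnit (congrArg Subtype.val e))) ⟨_, hv⟩
    exact Matrix.mulVec_injective_iff_isUnit.2 g.isUnit (congrArg Subtype.val he) ▸ hw

theorem card_stab [Fintype F] (k m : ℕ) :
    Nat.card (stab F (k + m) k) = Fintype.card F ^ (k * m) *
      (∏ i : Fin k, (Fintype.card F ^ k - Fintype.card F ^ (i : ℕ))) *
      ∏ i : Fin m, (Fintype.card F ^ m - Fintype.card F ^ (i : ℕ)) := by
  classical
  let ε : Fin k ⊕ Fin m ≃ Fin (k + m) := finSumFinEquiv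
  let toM : GL (Fin (k + m)) F → Matrix (Fin k ⊕ Fin m) (Fin k ⊕ Fin m) F := fun g =>
    (g : Matrix (Fin (k + m)) (Fin (k + m)) F).submatrix ε ε
  have hz : ∀ g : stab F (k + m) k, (toM g.1).toBlocks₂₁ = 0 := fun g => Matrix.ext fun i j =>
    mem_iff_entries.1 g.2 _ _ (by simp [ε]) (by simp [ε])
  have hu : ∀ g : stab F (k + m) k,
      IsUnit (toM g.1).toBlocks₁₁ ∧ IsUnit (toM g.1).toBlocks₂₂ := fun g => by
    have h1 : (toM g.1).det ≠ 0 := by
      simp only [toM, Matrix.det_submatrix_equiv_self]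
      exact ((Matrix.isUnit_iff_isUnit_det _).1 g.1.isUnit).ne_zero
    rw [← Matrix.fromBlocks_toBlocks (toM g.1), hz g, Matrix.det_fromBlocks_zero₂₁] at h1
    exact ⟨(Matrix.isUnit_iff_isUnit_det _).2 (isUnit_iff_ne_zero.2 (left_ne_zero_of_mul h1)),
      (Matrix.isUnit_iff_isUnit_det _).2 (isUnit_iff_ne_zero.2 (right_ne_zero_of_mul h1))⟩
  let bl : GL (Fin k) F × GL (Fin m) F × Matrix (Fin k) (Fin m) F → Matrix (Fin (k + m)) (Fin (k + m)) F := fun x =>
    (Matrix.fromBlocks (x.1 : Matrix (Fin k) (Fin k) F) x.2.2 0 (x.2.1 : Matrix (Fin m) (Fin m) F)).submatrix ε.symm ε.symm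
  have hdet : ∀ x, (bl x).det ≠ 0 := fun x => by
    simp only [bl, Matrix.det_submatrix_equiv_self, Matrix.det_fromBlocks_zero₂₁]
    exact mul_ne_zero ((Matrix.isUnit_iff_isUnit_det _).1 x.1.isUnit).ne_zero ((Matrix.isUnit_iff_isUnit_det _).1 x.2.1.isUnit).ne_zero
  have hmem : ∀ x, Matrix.GeneralLinearGroup.mkOfDetNeZero (bl x) (hdet x) ∈ stab F (k + m) k := fun x =>
    mem_iff_entries.2 fun i j hi hj => by
      show bl x i j = 0
      obtain ⟨i', rfl⟩ := ε.surjective i
      obtain ⟨j', rfl⟩ := ε.surjective j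
      rcases i' with i' | i' <;> rcases j' with j' | j' <;> simp [ε] at hi hj
      · omega
      · simp [bl]
  let E : stab F (k + m) k ≃ GL (Fin k) F × GL (Fin m) F × Matrix (Fin k) (Fin m) F :=
    { toFun := fun g => ((hu g).1.unit, (hu g).2.unit, (toM g.1).toBlocks₁₂)
      invFun := fun x => ⟨_, hmem x⟩
      left_inv := fun g => by
        refine Subtype.ext (Units.ext ?_)
        show bl _ = _
        simp only [bl, IsUnit.unit_spec]
        rw [← hz g, Matrix.fromBlocks_toBlocks]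
        simp [toM]
      right_inv := fun x => by
        have h1 : toM (Matrix.GeneralLinearGroup.mkOfDetNeZero (bl x) (hdet x)) =
            Matrix.fromBlocks (x.1 : Matrix (Fin k) (Fin k) F) x.2.2 0 (x.2.1 : Matrix (Fin m) (Fin m) F) := by
          show (bl x).submatrix ε ε = _
          simp [bl]
        refine Prod.ext (Units.ext ?_) (Prod.ext (Units.ext ?_) ?_) <;>
          simp only [IsUnit.unit_spec, h1, Matrix.toBlocks_fromBlocks₁₁, Matrix.toBlocks_fromBlocks₂₂,
            Matrix.toBlocks_fromBlocks₁₂] }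
  have hM : Nat.card (Matrix (Fin k) (Fin m) F) = Fintype.card F ^ (k * m) := by
    rw [Matrix, Nat.card_fun, Nat.card_fun]
    simp [← pow_mul, mul_comm]
  rw [Nat.card_congr E, Nat.card_prod, Nat.card_prod, Matrix.card_GL_field, Matrix.card_GL_field, hM]
  ring

/-- elementary transvections in the stabiliser -/
theorem transvection_mem [Finite F] {k : ℕ} {i j : Fin n} (hij : i ≠ j) (c : F) (h : ¬ (k ≤ (i : ℕ) ∧ (j : ℕ) < k))
    {g : GL (Fin n) F} (hg : (g : Matrix (Fin n) (Fin n) F) = Matrix.transvection i j c) : g ∈ stab F n k := by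
  refine mem_iff_entries.2 fun a b ha hb => ?_
  rw [hg, Matrix.transvection, Matrix.add_apply, Matrix.one_apply_ne (fun e => by rw [e] at ha; omega)]
  rw [Matrix.single_apply, if_neg (fun e : i = a ∧ j = b => h ⟨e.1 ▸ ha, e.2 ▸ hb⟩), add_zero]

/-- rank one perturbations of the identity -/
theorem exists_rankOne (v φ : Fin n → F) (h : 1 + φ ⬝ᵥ v ≠ 0) :
    ∃ g : GL (Fin n) F, ∀ x, (g : Matrix (Fin n) (Fin n) F) *ᵥ x = x + (φ ⬝ᵥ x) • v := by
  have hd : (1 + Matrix.replicateCol (Fin 1) v * Matrix.replicateRow (Fin 1) φ).det ≠ 0 := by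
    rw [Matrix.det_one_add_mul_comm, Matrix.det_fin_one]
    simpa [Matrix.mul_apply, dotProduct] using h
  refine ⟨Matrix.GeneralLinearGroup.mkOfDetNeZero _ hd, fun x => funext fun i => ?_⟩
  show ((1 + Matrix.replicateCol (Fin 1) v * Matrix.replicateRow (Fin 1) φ) *ᵥ x) i = _
  simp [Matrix.add_mulVec, Matrix.mulVec, dotProduct, Matrix.mul_apply, Finset.mul_sum, Finset.sum_mul, mul_assoc,
    Pi.add_apply, mul_comm, mul_left_comm, add_mul, mul_add, Finset.sum_add_distrib, Matrix.one_apply]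

theorem stab_isCoatom [Finite F] {k : ℕ} (hk0 : 0 < k) (hkn : k < n) : IsCoatom (stab F n k) := by
  classical
  have hne : stab F n k ≠ ⊤ := fun h => by
    have := mem_iff_entries.1 ((h ▸ Subgroup.mem_top _ :
      Matrix.GeneralLinearGroup.mkOfDetNeZero (Matrix.transvection (⟨k, hkn⟩ : Fin n) ⟨0, by omega⟩ (1 : F))
        (by rw [Matrix.det_transvection_of_ne _ _ (by simp [Fin.ext_iff]; omega)]; exact one_ne_zero) ∈ stab F n k))
      ⟨k, hkn⟩ ⟨0, by omega⟩ le_rfl hk0
    change (Matrix.transvection (⟨k, hkn⟩ : Fin n) ⟨0, by omega⟩ (1 : F)) _ _ = 0 at this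
    rw [Matrix.transvection, Matrix.add_apply, Matrix.one_apply_ne (by simp [Fin.ext_iff]; omega), zero_add,
      Matrix.single_apply_same] at this
    exact one_ne_zero this
  refine ⟨hne, fun H hH => ?_⟩
  obtain ⟨g, hgH, hgP⟩ := SetLike.exists_of_lt hH
  obtain ⟨i₀, j₀, hi₀, hj₀, hne₀⟩ : ∃ i j : Fin n, k ≤ (i : ℕ) ∧ (j : ℕ) < k ∧ (g : Matrix (Fin n) (Fin n) F) i j ≠ 0 := by
    by_contra h
    push Not at h
    exact hgP (mem_iff_entries.2 fun i j hi hj => h i j hi hj)
  obtain ⟨v₀, hv₀⟩ : ∃ v₀, v₀ = (g : Matrix (Fin n) (Fin n) F) *ᵥ Pi.single j₀ 1 := ⟨_, rfl⟩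
  have hv₀W : ¬ ∀ i : Fin n, k ≤ (i : ℕ) → v₀ i = 0 := fun h => hne₀ (by
    simpa [hv₀, Matrix.mulVec_single_one] using h i₀ hi₀)
  -- every transvection with centre `v₀`
  have hv₀T : ∀ (φ : Fin n → F), φ ⬝ᵥ v₀ = 0 → ∀ t : GL (Fin n) F,
      (∀ x, (t : Matrix (Fin n) (Fin n) F) *ᵥ x = x + (φ ⬝ᵥ x) • v₀) → t ∈ H := by
    intro φ _ t ht
    have hmem : g⁻¹ * t * g ∈ stab F n k := by
      refine mem_iff_entries.2 fun a b ha hb => ?_
      have h1 : ((g⁻¹ * t * g : GL (Fin n) F) : Matrix (Fin n) (Fin n) F) *ᵥ Pi.single b 1 =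
          Pi.single b 1 + (φ ⬝ᵥ ((g : Matrix (Fin n) (Fin n) F) *ᵥ Pi.single b 1)) • Pi.single j₀ 1 := by
        rw [Units.val_mul, Units.val_mul, ← Matrix.mulVec_mulVec, ← Matrix.mulVec_mulVec, ht, Matrix.mulVec_add,
          Matrix.mulVec_smul, hv₀, Matrix.mulVec_mulVec, Matrix.mulVec_mulVec, ← Units.val_mul, inv_mul_cancel,
          Units.val_one, Matrix.one_mulVec, Matrix.one_mulVec]
      have h2 := congrFun h1 a
      rw [Matrix.mulVec_single_one] at h2
      rw [show ((g⁻¹ * t * g : GL (Fin n) F) : Matrix (Fin n) (Fin n) F) a b = _ from h2]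
      simp [Pi.single_eq_of_ne (show a ≠ b from fun e => by rw [e] at ha; omega),
        Pi.single_eq_of_ne (show a ≠ j₀ from fun e => by rw [e] at ha; omega)]
    have h3 := mul_mem (mul_mem hgH (hH.le hmem)) (inv_mem hgH)
    rwa [show g * (g⁻¹ * t * g) * g⁻¹ = t by group] at h3
  -- transitivity outside the subspace
  have htrans : ∀ v : Fin n → F, ¬ (∀ i : Fin n, k ≤ (i : ℕ) → v i = 0) →
      ∃ p ∈ stab F n k, (p : Matrix (Fin n) (Fin n) F) *ᵥ v₀ = v := by
    intro v hv
    obtain ⟨φ, hφW, hφ0, hφv⟩ : ∃ φ : Fin n → F, (∀ i : Fin n, (i : ℕ) < k → φ i = 0) ∧ φ ⬝ᵥ v₀ = 1 ∧ φ ⬝ᵥ v ≠ 0 := by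
      push Not at hv₀W hv
      obtain ⟨a, ha, ha0⟩ := hv₀W
      obtain ⟨b, hb, hb0⟩ := hv
      have hs : ∀ c : Fin n, k ≤ (c : ℕ) → ∀ (r : F) (i : Fin n), (i : ℕ) < k → (Pi.single c r : Fin n → F) i = 0 :=
        fun c hc r i hi => by
          rw [Pi.single_eq_of_ne]
          intro e; rw [e] at hi; omega
      by_cases hva : v a = 0
      · by_cases hvb : v₀ b = 0
        · exact ⟨Pi.single a (v₀ a)⁻¹ + Pi.single b 1, fun i hi => by rw [Pi.add_apply, hs a ha _ i hi, hs b hb _ i hi, add_zero],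
            by simp [add_dotProduct, hvb, ha0], by simp [add_dotProduct, hva, hb0]⟩
        · exact ⟨Pi.single b (v₀ b)⁻¹, hs b hb _, by simp [hvb], by simp [hvb, hb0]⟩
      · exact ⟨Pi.single a (v₀ a)⁻¹, hs a ha _, by simp [ha0], by simp [ha0, hva]⟩
    obtain ⟨p, hp⟩ := exists_rankOne (v - v₀) φ (by rw [dotProduct_sub, hφ0]; simpa using hφv)
    refine ⟨p, mem_iff_entries.2 fun a b ha hb => ?_, by rw [hp, hφ0, one_smul, add_sub_cancel]⟩
    have h1 := congrFun (hp (Pi.single b 1)) a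
    rw [dotProduct_single, mul_one, hφW b hb, zero_smul, add_zero, Matrix.mulVec_single_one] at h1
    rw [show (p : Matrix (Fin n) (Fin n) F) a b = _ from h1]
    exact Pi.single_eq_of_ne (fun e => by rw [e] at ha; omega) 1
  have hT : ∀ (t : GL (Fin n) F) (i j : Fin n) (c : F), i ≠ j →
      (t : Matrix (Fin n) (Fin n) F) = Matrix.transvection i j c → t ∈ H := by
    intro t i j c hij ht
    by_cases hcase : k ≤ (i : ℕ) ∧ (j : ℕ) < k
    swap
    · exact hH.le (transvection_mem hij c hcase ht)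
    obtain ⟨p, hpP, hp⟩ := htrans (Pi.single i 1) fun h => by simpa using h i hcase.1
    have htv : ∀ x, (t : Matrix (Fin n) (Fin n) F) *ᵥ x = x + (c * x j) • Pi.single i 1 := fun x => by
      rw [ht, Matrix.transvection, Matrix.add_mulVec, Matrix.one_mulVec, Matrix.single_mulVec]
      congr 1
      funext l
      simp [Function.update_apply, Pi.single_apply]
    obtain ⟨φ, hφ⟩ : ∃ φ, φ = c • ((p : Matrix (Fin n) (Fin n) F) j) := ⟨_, rfl⟩
    have h1 : p⁻¹ * t * p ∈ H := by
      refine hv₀T φ ?_ _ fun x => ?_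
      · rw [hφ, smul_dotProduct, show (p : Matrix (Fin n) (Fin n) F) j ⬝ᵥ v₀ = ((p : Matrix (Fin n) (Fin n) F) *ᵥ v₀) j from rfl,
          hp, Pi.single_eq_of_ne hij.symm, smul_zero]
      · rw [Units.val_mul, Units.val_mul, ← Matrix.mulVec_mulVec, ← Matrix.mulVec_mulVec, htv, Matrix.mulVec_add,
          Matrix.mulVec_smul, ← hp, Matrix.mulVec_mulVec, Matrix.mulVec_mulVec, ← Units.val_mul, inv_mul_cancel,
          Units.val_one, Matrix.one_mulVec, Matrix.one_mulVec, hφ, smul_dotProduct]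
        rfl
    have h2 := mul_mem (mul_mem (hH.le hpP) h1) (inv_mem (hH.le hpP))
    rwa [show p * (p⁻¹ * t * p) * p⁻¹ = t by group] at h2
  refine eq_top_iff.2 fun x _ => ?_
  obtain ⟨L, L', D, hD⟩ := Matrix.Pivot.exists_list_transvec_mul_diagonal_mul_list_transvec (x : Matrix (Fin n) (Fin n) F)
  have hlist : ∀ L : List (Matrix.TransvectionStruct (Fin n) F),
      ∃ y ∈ H, (y : Matrix (Fin n) (Fin n) F) = (L.map Matrix.TransvectionStruct.toMatrix).prod := by
    intro L
    induction L with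
    | nil => exact ⟨1, one_mem _, by simp⟩
    | cons t L ih =>
      obtain ⟨y, hy, hye⟩ := ih
      refine ⟨Matrix.GeneralLinearGroup.mkOfDetNeZero t.toMatrix (by rw [Matrix.TransvectionStruct.det]; exact one_ne_zero) * y,
        mul_mem (hT _ t.i t.j t.c t.hij rfl) hy, ?_⟩
      rw [List.map_cons, List.prod_cons, Units.val_mul, hye]
      rfl
  obtain ⟨y, hy, hye⟩ := hlist L
  obtain ⟨z, hz, hze⟩ := hlist L'
  have hd : y⁻¹ * x * z⁻¹ ∈ stab F n k := mem_iff_entries.2 fun a b ha hb => by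
    have e : ((y⁻¹ * x * z⁻¹ : GL (Fin n) F) : Matrix (Fin n) (Fin n) F) = Matrix.diagonal D := by
      rw [Units.val_mul, Units.val_mul, hD, ← hye, ← hze, ← mul_assoc, ← mul_assoc, ← Units.val_mul, inv_mul_cancel,
        Units.val_one, one_mul, mul_assoc, ← Units.val_mul, mul_inv_cancel, Units.val_one, mul_one]
    rw [e, Matrix.diagonal_apply_ne _ (fun e' => by rw [e'] at ha; omega)]
  have h2 := mul_mem (mul_mem hy (hH.le hd)) hz
  rwa [show y * (y⁻¹ * x * z⁻¹) * z = x by group] at h2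

/-- an invariant subspace of the stabiliser is contained in the coordinate subspace or is everything -/
theorem invariant_le [Finite F] {k : ℕ} (hk0 : 0 < k) (U : Submodule F (Fin n → F))
    (hU : ∀ g ∈ stab F n k, ∀ v ∈ U, (g : Matrix (Fin n) (Fin n) F) *ᵥ v ∈ U) :
    U = ⊤ ∨ U ≤ coord F n k := by
  classical
  by_contra h
  push Not at h
  obtain ⟨hne, hle⟩ := h
  obtain ⟨v, hv, hvW⟩ := SetLike.not_le_iff_exists.1 hle
  obtain ⟨j, hj, hvj⟩ : ∃ j : Fin n, k ≤ (j : ℕ) ∧ v j ≠ 0 := by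
    by_contra h'
    push Not at h'
    exact hvW h'
  have he : ∀ i, i ≠ j → Pi.single i (1 : F) ∈ U := fun i hij => by
    obtain ⟨g, hg⟩ : ∃ g : GL (Fin n) F, (g : Matrix (Fin n) (Fin n) F) = Matrix.transvection i j (v j)⁻¹ :=
      ⟨Matrix.GeneralLinearGroup.mkOfDetNeZero (Matrix.transvection i j (v j)⁻¹)
        (by rw [Matrix.det_transvection_of_ne _ _ hij]; exact one_ne_zero), rfl⟩
    have h1 := U.sub_mem (hU g (transvection_mem hij _ (fun h' => by omega) hg) v hv) hv
    rw [hg, Matrix.transvection, Matrix.add_mulVec, Matrix.one_mulVec, add_sub_cancel_left, Matrix.single_mulVec] at h1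
    convert h1 using 1
    funext l
    simp [Function.update_apply, Pi.single_apply, inv_mul_cancel₀ hvj]
  refine hne (eq_top_iff.2 fun w _ => ?_)
  have hj' : Pi.single j (1 : F) ∈ U := by
    have h1 : v - ∑ i ∈ Finset.univ.erase j, v i • Pi.single i (1 : F) ∈ U :=
      U.sub_mem hv (sum_mem fun i hi => U.smul_mem _ (he i (Finset.ne_of_mem_erase hi)))
    have h2 : v - ∑ i ∈ Finset.univ.erase j, v i • Pi.single i (1 : F) = v j • Pi.single j 1 := by
      rw [sub_eq_iff_eq_add, Finset.add_sum_erase _ (fun i => v i • Pi.single i (1 : F)) (Finset.mem_univ j)]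
      exact pi_eq_sum_univ' v
    rw [h2] at h1
    exact (U.smul_mem_iff hvj).1 h1
  rw [pi_eq_sum_univ' w]
  exact sum_mem fun i _ => U.smul_mem _ (if h' : i = j then h' ▸ hj' else he i h')

theorem finrank_coord {k : ℕ} (hk : k ≤ n) : Module.finrank F (coord F n k) = k := by
  let e : coord F n k ≃ₗ[F] (Fin k → F) :=
    { toFun := fun v i => v.1 (Fin.castLE hk i)
      map_add' := fun _ _ => rfl
      map_smul' := fun _ _ => rfl
      invFun := fun w => ⟨fun i => if h : (i : ℕ) < k then w ⟨i, h⟩ else 0, fun i hi => dif_neg (by omega)⟩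
      left_inv := fun v => Subtype.ext (funext fun i => by
        show (if h : (i : ℕ) < k then _ else 0) = _
        split_ifs with h
        · rfl
        · exact (v.2 i (by omega)).symm)
      right_inv := fun w => funext fun i => by simp [i.2] }
  rw [e.finrank_eq, Module.finrank_fin_fun]

theorem proper_sub_not_invariant [Finite F] {k : ℕ} (hk : k ≤ n) (U : Submodule F (Fin n → F)) (hle : U ≤ coord F n k)
    (h0 : 0 < Module.finrank F U) (hlt : Module.finrank F U < k)
    (hU : ∀ g ∈ stab F n k, ∀ v ∈ U, (g : Matrix (Fin n) (Fin n) F) *ᵥ v ∈ U) : False := by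
  classical
  obtain ⟨v, hv, hv0⟩ := Submodule.exists_mem_ne_zero_of_ne_bot (p := U) fun h => by
    rw [h, finrank_bot] at h0; omega
  obtain ⟨j, hvj⟩ := Function.ne_iff.1 hv0
  have hj : (j : ℕ) < k := by
    by_contra h
    exact hvj (hle hv j (by omega))
  have he : ∀ i, i ≠ j → (i : ℕ) < k → Pi.single i (1 : F) ∈ U := fun i hij hi => by
    obtain ⟨g, hg⟩ : ∃ g : GL (Fin n) F, (g : Matrix (Fin n) (Fin n) F) = Matrix.transvection i j (v j)⁻¹ :=
      ⟨Matrix.GeneralLinearGroup.mkOfDetNeZero (Matrix.transvection i j (v j)⁻¹)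
        (by rw [Matrix.det_transvection_of_ne _ _ hij]; exact one_ne_zero), rfl⟩
    have h1 := U.sub_mem (hU g (transvection_mem hij _ (fun h' => by omega) hg) v hv) hv
    rw [hg, Matrix.transvection, Matrix.add_mulVec, Matrix.one_mulVec, add_sub_cancel_left, Matrix.single_mulVec] at h1
    convert h1 using 1
    funext l
    simp [Function.update_apply, Pi.single_apply, inv_mul_cancel₀ hvj]
  have hle' : coord F n k ≤ U := by
    have hj' : Pi.single j (1 : F) ∈ U := by
      have h1 : v - ∑ i ∈ Finset.univ.erase j, v i • Pi.single i (1 : F) ∈ U :=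
        U.sub_mem hv (sum_mem fun i hi => by
          by_cases hi' : (i : ℕ) < k
          · exact U.smul_mem _ (he i (Finset.ne_of_mem_erase hi) hi')
          · rw [hle hv i (by omega), zero_smul]; exact U.zero_mem)
      have h2 : v - ∑ i ∈ Finset.univ.erase j, v i • Pi.single i (1 : F) = v j • Pi.single j 1 := by
        rw [sub_eq_iff_eq_add, Finset.add_sum_erase _ (fun i => v i • Pi.single i (1 : F)) (Finset.mem_univ j)]
        exact pi_eq_sum_univ' v
      rw [h2] at h1
      exact (U.smul_mem_iff hvj).1 h1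
    intro w hw
    rw [pi_eq_sum_univ' w]
    refine sum_mem fun i _ => ?_
    by_cases hi : (i : ℕ) < k
    · exact U.smul_mem _ (if h' : i = j then h' ▸ hj' else he i h' hi)
    · rw [hw i (by omega), zero_smul]; exact U.zero_mem
  have := Submodule.finrank_mono hle'
  rw [finrank_coord hk] at this
  omega

/-- the dual: transpose inverse and reversal of the coordinates -/
theorem stab_equiv [Finite F] {k : ℕ} (hk : k ≤ n) : Nonempty (stab F n k ≃* stab F n (n - k)) := by
  classical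
  obtain ⟨R, hR⟩ : ∃ R : GL (Fin n) F →* GL (Fin n) F,
      ∀ g, ((R g : GL (Fin n) F) : Matrix (Fin n) (Fin n) F) =
        ((g⁻¹ : GL (Fin n) F) : Matrix (Fin n) (Fin n) F).transpose.submatrix Fin.rev Fin.rev :=
    ⟨MonoidHom.mk' (fun g =>
      ⟨((g⁻¹ : GL (Fin n) F) : Matrix (Fin n) (Fin n) F).transpose.submatrix Fin.rev Fin.rev,
        (g : Matrix (Fin n) (Fin n) F).transpose.submatrix Fin.rev Fin.rev,
        by rw [← Matrix.submatrix_mul _ _ _ _ _ Fin.rev_bijective, ← Matrix.transpose_mul, ← Units.val_mul, mul_inv_cancel,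
          Units.val_one, Matrix.transpose_one, Matrix.submatrix_one _ Fin.rev_injective],
        by rw [← Matrix.submatrix_mul _ _ _ _ _ Fin.rev_bijective, ← Matrix.transpose_mul, ← Units.val_mul, inv_mul_cancel,
          Units.val_one, Matrix.transpose_one, Matrix.submatrix_one _ Fin.rev_injective]⟩)
      (fun a b => Units.ext (by
        show (((a * b)⁻¹ : GL (Fin n) F) : Matrix (Fin n) (Fin n) F).transpose.submatrix Fin.rev Fin.rev =
          ((a⁻¹ : GL (Fin n) F) : Matrix (Fin n) (Fin n) F).transpose.submatrix Fin.rev Fin.rev *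
          ((b⁻¹ : GL (Fin n) F) : Matrix (Fin n) (Fin n) F).transpose.submatrix Fin.rev Fin.rev
        rw [← Matrix.submatrix_mul _ _ _ _ _ Fin.rev_bijective, ← Matrix.transpose_mul, ← Units.val_mul,
          ← _root_.mul_inv_rev])), fun g => rfl⟩
  have hinj : Function.Injective R := fun a b h => by
    refine inv_inj.1 (Units.ext (Matrix.ext fun i j => ?_))
    have h1 := congrFun (congrFun (congrArg (fun u : GL (Fin n) F => (u : Matrix (Fin n) (Fin n) F)) h) j.rev) i.rev
    rw [hR, hR] at h1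
    simpa using h1
  refine ⟨(Subgroup.equivMapOfInjective _ R hinj).trans (MulEquiv.subgroupCongr ?_)⟩
  refine le_antisymm ?_ fun h hh => ?_
  · rintro _ ⟨g, hg, rfl⟩
    refine mem_iff_entries.2 fun i j hi hj => ?_
    rw [hR]
    simp only [Matrix.submatrix_apply, Matrix.transpose_apply]
    exact mem_iff_entries.1 (inv_mem hg) _ _ (by rw [Fin.val_rev]; omega) (by rw [Fin.val_rev]; omega)
  · obtain ⟨g, rfl⟩ := (Finite.injective_iff_surjective.1 hinj) h
    refine ⟨g, ?_, rfl⟩
    have h2 : g⁻¹ ∈ stab F n k := mem_iff_entries.2 fun i j hi hj => by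
      have h1 := mem_iff_entries.1 hh j.rev i.rev (by rw [Fin.val_rev]; omega) (by rw [Fin.val_rev]; omega)
      rw [hR] at h1
      simpa using h1
    simpa using inv_mem h2

end CfsgLib.GLStab
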