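import Cfsg.Agent.Lib.Classical.HermFrames
import Cfsg.Agent.Lib.Classical.HermOrder
import Cfsg.Agent.Lib.SU.Maps
import Cfsg.Prelude.Def_ClassicalGeometry

/-!
# Totally isotropic subspaces of unitary spaces
-/

set_option autoImplicit false

namespace CfsgLib.Classical.HermIsoCount

open Module Matrix CfsgLib.SU CfsgLib.Classical.HermFrames

variable {F : Type*} [Field F] [Fintype F] {q : ℕ} (C : UCtx F q)

/-- Ordered isotropic frames. -/
def Frame (k n : ℕ) : Type _ :=
  {t : Fin k → (Fin n → F) // LinearIndependent F t ∧ ∀ i j, C.form (t i) (t j) = 0}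

noncomputable instance (k n : ℕ) : Finite (Frame C k n) := Subtype.finite

/-- number of non-zero isotropic vectors -/
noncomputable def isoCount (r : ℕ) : ℕ := Nat.card {w : Fin r → F // w ≠ 0 ∧ C.form w w = 0}

include C in
theorem card_extend {k r : ℕ} {n : ℕ} (hn : n = 2 * k + r) (t : Frame C k n) :
    Nat.card {x : Fin n → F // x ∉ Submodule.span F (Set.range t.1) ∧ (∀ i, C.form x (t.1 i) = 0) ∧ C.form x x = 0} =
      Fintype.card F ^ k * isoCount C r := by
  classical
  obtain ⟨z, hz⟩ := CfsgLib.Classical.HermWitt.exists_norm (σ := (C.bar : F →+* F))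
    (bar_ne_id C) C.bar_bar (c := -1) (by simp)
  have hz' : C.bar z * z = -1 := hz
  let e : (Fin k × Fin 2) ⊕ Fin r ≃ Fin n := Fintype.equivFinOfCardEq (by simp; omega)
  let mk : (Fin k × Fin 2 → F) → (Fin r → F) → Fin n → F := fun a w l => Sum.elim a w (e.symm l)
  have hform : ∀ x y : Fin n → F, C.form x y =
      (∑ i : Fin k, (x (e (.inl (i, 0))) * C.bar (y (e (.inl (i, 0)))) + x (e (.inl (i, 1))) * C.bar (y (e (.inl (i, 1)))))) +
        ∑ l : Fin r, x (e (.inr l)) * C.bar (y (e (.inr l))) := fun x y => by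
    rw [UCtx.form, ← e.sum_comp, Fintype.sum_sum_type, Fintype.sum_prod_type]
    simp only [Fin.sum_univ_two]
  let s : Fin k → Fin n → F := fun i => mk (fun p => if p.1 = i then (if p.2 = 0 then 1 else z) else 0) 0
  have hs0 : ∀ i j, s i (e (.inl (j, 0))) = if j = i then 1 else 0 := fun i j => by simp [s, mk]
  have hs1 : ∀ i j, s i (e (.inl (j, 1))) = if j = i then z else 0 := fun i j => by simp [s, mk]
  have hsr : ∀ i l, s i (e (.inr l)) = 0 := fun i l => by simp [s, mk]
  have hxs : ∀ x i, C.form x (s i) = x (e (.inl (i, 0))) + x (e (.inl (i, 1))) * C.bar z := fun x i => by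
    simp [hform, hs0, hs1, hsr, apply_ite C.bar, Finset.sum_add_distrib]
  have hss : ∀ i j, C.form (s i) (s j) = 0 := fun i j => by
    rw [hxs, hs0, hs1]
    by_cases h : j = i
    · simp only [h, if_true]; linear_combination hz'
    · simp [h]
  have hcomb : ∀ (c : Fin k → F) j, (∑ i, c i • s i) (e (.inl (j, 0))) = c j ∧
      (∑ i, c i • s i) (e (.inl (j, 1))) = c j * z := fun c j => by
    simp [Finset.sum_apply, hs0, hs1]
  have hsli : LinearIndependent F s := Fintype.linearIndependent_iff.2 fun c hc j => by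
    rw [← (hcomb c j).1, hc]; rfl
  obtain ⟨g, hg⟩ := exists_move_tuple C t.2.1 hsli fun i j => (t.2.2 i j).trans (hss i j).symm
  -- transport to the standard frame
  let L : (Fin n → F) →ₗ[F] (Fin n → F) := g.1.1.mulVecLin
  have hLi : Function.Injective L := Matrix.mulVec_injective_iff_isUnit.2 g.1.isUnit
  let Le := LinearEquiv.ofBijective L ⟨hLi, Finite.injective_iff_surjective.1 hLi⟩
  have hLf : ∀ x y, C.form (Le x) (Le y) = C.form x y := fun x y => (gu_mem_iff C).1 g.2 x y
  have hLt : ∀ i, Le (t.1 i) = s i := hg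
  have hspan : ∀ x, Le x ∈ Submodule.span F (Set.range s) ↔ x ∈ Submodule.span F (Set.range t.1) := fun x => by
    rw [show s = (Le : (Fin n → F) →ₗ[F] (Fin n → F)) ∘ t.1 from funext fun i => (hLt i).symm, Set.range_comp,
      Submodule.span_image]
    rw [Submodule.mem_map_equiv, Le.symm_apply_apply]
  let S := {y : Fin n → F // y ∉ Submodule.span F (Set.range s) ∧ (∀ i, C.form y (s i) = 0) ∧ C.form y y = 0}
  let es : {x : Fin n → F // x ∉ Submodule.span F (Set.range t.1) ∧ (∀ i, C.form x (t.1 i) = 0) ∧ C.form x x = 0} ≃ S :=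
    Le.toEquiv.subtypeEquiv fun x => by
      show _ ↔ Le x ∉ _ ∧ (∀ i, C.form (Le x) (s i) = 0) ∧ C.form (Le x) (Le x) = 0
      simp only [← hLt, hLf]
      rw [hspan]
  rw [Nat.card_congr es]
  have hS : Nat.card S = Nat.card ((Fin k → F) × {w : Fin r → F // w ≠ 0 ∧ C.form w w = 0}) := by
    have key : ∀ y : Fin n → F, (∀ i, C.form y (s i) = 0) →
        C.form y y = C.form (fun l => y (e (.inr l))) (fun l => y (e (.inr l))) ∧
        (y ∈ Submodule.span F (Set.range s) ↔ (fun l => y (e (.inr l))) = 0) := by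
      intro y hy
      have h0 : ∀ i, y (e (.inl (i, 0))) = -(y (e (.inl (i, 1))) * C.bar z) := fun i => by
        have := hy i; rw [hxs] at this; linear_combination this
      refine ⟨?_, ?_⟩
      · rw [hform, Finset.sum_eq_zero, zero_add]
        · rfl
        · intro i _
          rw [h0, map_neg, map_mul, C.bar_bar]
          linear_combination (y (e (.inl (i, 1))) * C.bar (y (e (.inl (i, 1))))) * hz'
      · rw [Submodule.mem_span_range_iff_exists_fun]
        constructor
        · rintro ⟨c, rfl⟩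
          funext l
          simp [Finset.sum_apply, hsr]
        · intro h
          refine ⟨fun i => y (e (.inl (i, 0))), funext fun l => ?_⟩
          obtain ⟨l, rfl⟩ := e.surjective l
          rcases l with ⟨i, p⟩ | l
          · fin_cases p
            · exact (hcomb _ i).1
            · refine (hcomb (fun i => y (e (.inl (i, 0)))) i).2.trans ?_
              show _ = y (e (.inl (i, 1)))
              rw [h0]
              linear_combination -(y (e (.inl (i, 1)))) * hz'
          · rw [congrFun h l]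
            simp [Finset.sum_apply, hsr]
    exact Nat.card_congr
      { toFun := fun y => (fun i => y.1 (e (.inl (i, 1))), ⟨fun l => y.1 (e (.inr l)),
          fun h => y.2.1 ((key y.1 y.2.2.1).2.2 h), (key y.1 y.2.2.1).1.symm.trans y.2.2.2⟩)
        invFun := fun p => ⟨mk (fun x => if x.2 = 0 then -(p.1 x.1 * C.bar z) else p.1 x.1) p.2.1, by
          have hy : ∀ i, C.form (mk (fun x => if x.2 = 0 then -(p.1 x.1 * C.bar z) else p.1 x.1) p.2.1) (s i) = 0 := fun i => by
            rw [hxs]; simp [mk]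
          obtain ⟨k1, k2⟩ := key _ hy
          refine ⟨fun h => p.2.2.1 ?_, hy, k1.trans ?_⟩
          · have := k2.1 h
            simpa [mk] using this
          · simpa [mk] using p.2.2.2⟩
        left_inv := fun y => Subtype.ext (funext fun l => by
          obtain ⟨l, rfl⟩ := e.surjective l
          rcases l with ⟨i, p⟩ | l
          · fin_cases p
            · have := y.2.2.1 i
              rw [hxs] at this
              simp [mk]
              linear_combination -this
            · simp [mk]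
          · simp [mk])
        right_inv := fun p => Prod.ext (funext fun i => by simp [mk]) (Subtype.ext (funext fun l => by simp [mk])) }
  rw [hS, Nat.card_prod, Nat.card_fun, isoCount]
  simp [Nat.card_eq_fintype_card]

theorem card_frame_succ {k r n : ℕ} (hn : n = 2 * k + r) :
    Nat.card (Frame C (k + 1) n) = Nat.card (Frame C k n) * (Fintype.card F ^ k * isoCount C r) := by
  classical
  let e : Frame C (k + 1) n ≃ Σ t : Frame C k n,
      {x : Fin n → F // x ∉ Submodule.span F (Set.range t.1) ∧ (∀ i, C.form x (t.1 i) = 0) ∧ C.form x x = 0} :=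
    { toFun := fun s => ⟨⟨Fin.tail s.1, (linearIndependent_fin_cons.1 (by rw [Fin.cons_self_tail]; exact s.2.1)).1,
          fun i j => s.2.2 _ _⟩,
        s.1 0, (linearIndependent_fin_cons.1 (by rw [Fin.cons_self_tail]; exact s.2.1)).2,
          fun i => s.2.2 _ _, s.2.2 _ _⟩
      invFun := fun x => ⟨Fin.cons x.2.1 x.1.1, linearIndependent_fin_cons.2 ⟨x.1.2.1, x.2.2.1⟩, fun i j => by
        induction i using Fin.cases <;> induction j using Fin.cases <;> simp only [Fin.cons_zero, Fin.cons_succ]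
        · exact x.2.2.2.2
        · exact x.2.2.2.1 _
        · exact C.form_swap_zero (x.2.2.2.1 _)
        · exact x.1.2.2 _ _⟩
      left_inv := fun s => Subtype.ext (Fin.cons_self_tail s.1)
      right_inv := by rintro ⟨⟨t, ht⟩, ⟨x, hx⟩⟩; rfl }
  haveI : Fintype (Frame C k n) := Fintype.ofFinite _
  rw [Nat.card_congr e, Nat.card_sigma, Finset.sum_congr rfl fun t _ => card_extend C hn t,
    Finset.sum_const, Finset.card_univ, smul_eq_mul, ← Nat.card_eq_fintype_card]

theorem card_frame_zero (n : ℕ) : Nat.card (Frame C 0 n) = 1 :=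
  Nat.card_eq_one_iff_unique.2 ⟨⟨fun a b => Subtype.ext (funext fun i => i.elim0)⟩,
    ⟨⟨Fin.elim0, linearIndependent_empty_type, fun i => i.elim0⟩⟩⟩

theorem isoCount_eq (hF : Fintype.card F = q ^ 2) (r : ℕ) :
    (isoCount C (r + 1) : ℤ) = (q : ℤ) ^ (2 * r + 1) + (-1) ^ (r + 1) * ((q : ℤ) ^ (r + 1) - (q : ℤ) ^ r) - 1 := by
  classical
  rw [← (hcount_closed C hF r).1]
  have h : hcount C (r + 1) 0 = isoCount C (r + 1) + 1 := by
    have e := Nat.card_congr (Equiv.sumCompl fun v : {v : Fin (r + 1) → F // C.form v v = 0} => v.1 ≠ 0)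
    rw [Nat.card_sum] at e
    rw [hcount, ← e]
    congr 1
    · exact Nat.card_congr ((Equiv.subtypeSubtypeEquivSubtypeInter (fun v : Fin (r + 1) → F => C.form v v = 0) (fun v => v ≠ 0)).trans
        (Equiv.subtypeEquivRight fun v => and_comm))
    · haveI : Unique {v : {v : Fin (r + 1) → F // C.form v v = 0} // ¬ v.1 ≠ 0} :=
        ⟨⟨⟨⟨0, C.form_zero_left _⟩, not_not.2 rfl⟩⟩, fun v => Subtype.ext (Subtype.ext (not_not.1 v.2))⟩
      exact Nat.card_unique
  rw [h]; push_cast; ring

/-- integer form of the order -/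
def guOrd (q : ℤ) (n : ℕ) : ℤ := q ^ (n * (n - 1) / 2) * ∏ i ∈ Finset.range n, (q ^ (i + 1) - (-1) ^ (i + 1))

theorem guOrd_cast (hq : 1 ≤ q) (n : ℕ) :
    ((q ^ (n * (n - 1) / 2) * ∏ i ∈ Finset.range n, (if Even i then q ^ (i + 1) + 1 else q ^ (i + 1) - 1) : ℕ) : ℤ) =
      guOrd q n := by
  rw [guOrd]
  push_cast
  congr 1
  refine Finset.prod_congr rfl fun i _ => ?_
  rcases Nat.even_or_odd i with he | ho
  · rw [if_pos he, Odd.neg_one_pow he.add_one]; ring
  · rw [if_neg (Nat.not_even_iff_odd.2 ho), Even.neg_one_pow ho.add_one, Nat.cast_sub (Nat.one_le_pow _ _ hq)]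
    push_cast; ring

theorem guOrd_succ_succ (hF : Fintype.card F = q ^ 2) (r : ℕ) :
    guOrd q (r + 2) = (q : ℤ) ^ (2 * r + 1) * isoCount C (r + 2) * guOrd q r := by
  rw [isoCount_eq C hF (r + 1), guOrd, guOrd, Finset.prod_range_succ, Finset.prod_range_succ,
    show (r + 2) * (r + 2 - 1) / 2 = r * (r - 1) / 2 + (2 * r + 1) by
      rw [show (r + 2) * (r + 2 - 1) = r * (r - 1) + (2 * r + 1) * 2 by
        rcases r with _ | r
        · rfl
        · rw [show r + 1 + 2 - 1 = r + 2 by omega, show r + 1 - 1 = r by omega]; ring, Nat.add_mul_div_right _ _ two_pos], pow_add]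
  rcases neg_one_pow_eq_or ℤ r with h | h <;>
  · simp only [pow_succ, h]
    ring

theorem frame_mul (hF : Fintype.card F = q ^ 2) : ∀ k r n : ℕ, n = 2 * k + r →
    (Nat.card (Frame C k n) : ℤ) * (q : ℤ) ^ (k * (2 * n - 3 * k)) * guOrd q r = guOrd q n
  | 0, r, n, hn => by
    subst hn
    simp [card_frame_zero C]
  | k + 1, r, n, hn => by
    have ih := frame_mul hF k (r + 2) n (by omega)
    rw [card_frame_succ C (r := r + 2) (by omega), hF]
    rw [guOrd_succ_succ C hF r] at ih
    have he : k * (2 * n - 3 * k) + (2 * r + 1) = 2 * k + (k + 1) * (2 * n - 3 * (k + 1)) := by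
      rw [show 2 * n - 3 * k = k + 2 * r + 4 by omega, show 2 * n - 3 * (k + 1) = k + 2 * r + 1 by omega]
      ring
    push_cast
    rw [← ih, ← pow_mul]
    have : (q : ℤ) ^ (k * (2 * n - 3 * k)) * (q : ℤ) ^ (2 * r + 1) =
        (q : ℤ) ^ (2 * k) * (q : ℤ) ^ ((k + 1) * (2 * n - 3 * (k + 1))) := by
      rw [← pow_add, ← pow_add, he]
    linear_combination -((Nat.card (Frame C k n) : ℤ) * isoCount C (r + 2) * guOrd q r) * this

/-- frames inside a totally isotropic subspace -/
theorem card_inside {k n : ℕ} {W : Submodule F (Fin n → F)} (hWk : finrank F W = k)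
    (hW : ∀ u ∈ W, ∀ v ∈ W, C.form u v = 0) :
    Nat.card {t : Frame C k n // ∀ i, t.1 i ∈ W} =
      ∏ i : Fin k, (Fintype.card F ^ k - Fintype.card F ^ (i : ℕ)) := by
  classical
  have e : {t : Frame C k n // ∀ i, t.1 i ∈ W} ≃ {s : Fin k → W // LinearIndependent F s} :=
    { toFun := fun t => ⟨fun i => ⟨t.1.1 i, t.2 i⟩, LinearIndependent.of_comp W.subtype t.1.2.1⟩
      invFun := fun s => ⟨⟨fun i => (s.1 i : Fin n → F), s.2.map' W.subtype (Submodule.ker_subtype W),
        fun i j => hW _ (s.1 i).2 _ (s.1 j).2⟩, fun i => (s.1 i).2⟩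
      left_inv := fun t => rfl
      right_inv := fun s => rfl }
  rw [Nat.card_congr e, card_linearIndependent (le_of_eq hWk.symm)]
  simp [hWk]

theorem card_subspaces (k n : ℕ) :
    Nat.card {W : Submodule F (Fin n → F) // finrank F W = k ∧ ∀ u ∈ W, ∀ v ∈ W, C.form u v = 0} *
      (∏ i : Fin k, (Fintype.card F ^ k - Fintype.card F ^ (i : ℕ))) = Nat.card (Frame C k n) := by
  classical
  let sp : Frame C k n → {W : Submodule F (Fin n → F) // finrank F W = k ∧ ∀ u ∈ W, ∀ v ∈ W, C.form u v = 0} := fun t =>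
    ⟨Submodule.span F (Set.range t.1), by rw [finrank_span_eq_card t.2.1, Fintype.card_fin], fun u hu v hv => by
      obtain ⟨c, rfl⟩ := (Submodule.mem_span_range_iff_exists_fun F).1 hu
      obtain ⟨d, rfl⟩ := (Submodule.mem_span_range_iff_exists_fun F).1 hv
      rw [C.form_sum_left, Finset.sum_eq_zero]
      intro i _
      rw [C.form_smul_left, ← C.bar_form, C.form_sum_left, Finset.sum_eq_zero, map_zero, mul_zero]
      intro j _
      rw [C.form_smul_left, t.2.2, mul_zero]⟩
  have hfib : ∀ W, Nat.card {t : Frame C k n // sp t = W} = ∏ i : Fin k, (Fintype.card F ^ k - Fintype.card F ^ (i : ℕ)) := by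
    intro W
    rw [← card_inside C W.2.1 W.2.2]
    refine Nat.card_congr (Equiv.subtypeEquivRight fun t => ?_)
    refine ⟨fun h i => h ▸ Submodule.subset_span ⟨i, rfl⟩, fun h => Subtype.ext ?_⟩
    exact Submodule.eq_of_le_of_finrank_le (Submodule.span_le.2 (by rintro _ ⟨i, rfl⟩; exact h i))
      (by rw [W.2.1, finrank_span_eq_card t.2.1, Fintype.card_fin])
  haveI : Fintype {W : Submodule F (Fin n → F) // finrank F W = k ∧ ∀ u ∈ W, ∀ v ∈ W, C.form u v = 0} := by
    haveI : Finite (Submodule F (Fin n → F)) := Finite.of_injective (fun W : Submodule F (Fin n → F) => (W : Set (Fin n → F))) SetLike.coe_injective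
    exact Fintype.ofFinite _
  rw [← Nat.card_congr (Equiv.sigmaFiberEquiv sp), Nat.card_sigma, Finset.sum_congr rfl fun W _ => hfib W,
    Finset.sum_const, Finset.card_univ, smul_eq_mul]
  simp only [Nat.card_eq_fintype_card]

instance {k n : ℕ} : MulAction ↥(Cfsg.GU n F q) (Frame C k n) where
  smul A t := ⟨fun i => A.1.1 *ᵥ t.1 i,
    t.2.1.map' (Matrix.toLin' A.1.1) (LinearMap.ker_eq_bot_of_injective (Matrix.mulVec_injective_iff_isUnit.2 A.1.isUnit)),
    fun i j => ((gu_mem_iff C).1 A.2 _ _).trans (t.2.2 i j)⟩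
  one_smul t := Subtype.ext (funext fun i => Matrix.one_mulVec (t.1 i))
  mul_smul A B t := Subtype.ext (funext fun i => (Matrix.mulVec_mulVec (t.1 i) A.1.1 B.1.1).symm)

instance {k n : ℕ} : MulAction.IsPretransitive ↥(Cfsg.GU n F q) (Frame C k n) := ⟨fun t t' => by
  obtain ⟨A, hA⟩ := exists_move_tuple C t.2.1 t'.2.1 fun i j => (t.2.2 i j).trans (t'.2.2 i j).symm
  exact ⟨A, Subtype.ext (funext hA)⟩⟩

theorem card_stab_gu {k n : ℕ} (W : Submodule F (Fin n → F)) (hWk : finrank F W = k)
    (hW : ∀ u ∈ W, ∀ v ∈ W, C.form u v = 0) :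
    Nat.card {g : ↥(Cfsg.GU n F q) // ∀ v ∈ W, g.1.1 *ᵥ v ∈ W} * Nat.card (Frame C k n) =
      (∏ i : Fin k, (Fintype.card F ^ k - Fintype.card F ^ (i : ℕ))) * Nat.card ↥(Cfsg.GU n F q) := by
  classical
  let b := Module.finBasisOfFinrankEq F W hWk
  let t0 : Frame C k n := ⟨fun i => (b i : Fin n → F),
    b.linearIndependent.map' W.subtype (Submodule.ker_subtype W), fun i j => hW _ (b i).2 _ (b j).2⟩
  let G := ↥(Cfsg.GU n F q)
  have hH : ∀ g : G, (∀ v ∈ W, g.1.1 *ᵥ v ∈ W) ↔ ∀ i, (g • t0).1 i ∈ W := fun g => by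
    refine ⟨fun h i => h _ (b i).2, fun h v hv => ?_⟩
    have hle : W ≤ W.comap g.1.1.mulVecLin := by
      intro x hx
      have h' := Submodule.apply_mem_span_image_of_mem_span W.subtype (b.mem_span (⟨x, hx⟩ : W))
      refine (Submodule.span_le.2 ?_) h'
      rintro _ ⟨_, ⟨i, rfl⟩, rfl⟩
      exact h i
    exact hle hv
  have hfib : ∀ t : Frame C k n, Nat.card {A : G // A • t0 = t} = Nat.card (MulAction.stabilizer G t0) := by
    intro t
    obtain ⟨c, rfl⟩ := MulAction.exists_smul_eq G t0 t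
    exact Nat.card_congr
      { toFun := fun A => ⟨c⁻¹ * A.1, MulAction.mem_stabilizer_iff.2 (by rw [mul_smul, A.2, inv_smul_smul])⟩
        invFun := fun B => ⟨c * B.1, by rw [mul_smul, MulAction.mem_stabilizer_iff.1 B.2]⟩
        left_inv := fun A => Subtype.ext (mul_inv_cancel_left c A.1)
        right_inv := fun B => Subtype.ext (inv_mul_cancel_left c B.1) }
  haveI : Fintype (Frame C k n) := Fintype.ofFinite _
  have hG : Nat.card G = Nat.card (Frame C k n) * Nat.card (MulAction.stabilizer G t0) := by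
    rw [← Nat.card_congr (Equiv.sigmaFiberEquiv fun A : G => A • t0), Nat.card_sigma,
      Finset.sum_congr rfl fun t _ => hfib t, Finset.sum_const, Finset.card_univ, smul_eq_mul,
      ← Nat.card_eq_fintype_card]
  have hS : Nat.card {g : G // ∀ v ∈ W, g.1.1 *ᵥ v ∈ W} =
      Nat.card {t : Frame C k n // ∀ i, t.1 i ∈ W} * Nat.card (MulAction.stabilizer G t0) := by
    let e : {g : G // ∀ v ∈ W, g.1.1 *ᵥ v ∈ W} ≃ Σ t : {t : Frame C k n // ∀ i, t.1 i ∈ W}, {A : G // A • t0 = t.1} :=
      { toFun := fun A => ⟨⟨A.1 • t0, (hH A.1).1 A.2⟩, A.1, rfl⟩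
        invFun := fun x => ⟨x.2.1, (hH _).2 (by rw [x.2.2]; exact x.1.2)⟩
        left_inv := fun A => rfl
        right_inv := by rintro ⟨⟨t, ht⟩, A, rfl : A • t0 = t⟩; rfl }
    rw [Nat.card_congr e, Nat.card_sigma, Finset.sum_congr rfl fun (t : {t : Frame C k n // ∀ i, t.1 i ∈ W}) _ => hfib t.1,
      Finset.sum_const, Finset.card_univ, smul_eq_mul, ← Nat.card_eq_fintype_card]
  rw [hS, card_inside C hWk hW, show Nat.card ↥(Cfsg.GU n F q) = _ from hG]
  ring

/-- every determinant occurs in the stabiliser -/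
theorem exists_det_stab {n : ℕ} (hn : 1 ≤ n) (W : Submodule F (Fin n → F))
    (hW : ∀ u ∈ W, ∀ v ∈ W, C.form u v = 0) (d : C.unitOne) :
    ∃ g : ↥(Cfsg.GU n F q), (∀ v ∈ W, g.1.1 *ᵥ v ∈ W) ∧ C.detHom g = d := by
  classical
  by_cases hW0 : W = ⊥
  · obtain ⟨g, hg⟩ := C.detHom_surjective (n := n) (by omega) d
    refine ⟨g, fun v hv => ?_, hg⟩
    rw [hW0, Submodule.mem_bot] at hv
    simp [hv]
  obtain ⟨e, heW, he0⟩ := Submodule.exists_mem_ne_zero_of_ne_bot hW0
  obtain ⟨y, hy⟩ := C.exists_form_eq_one he0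
  have hy' : C.form e y = 1 := by rw [← C.bar_form, hy, map_one]
  obtain ⟨κ, hff, hef⟩ := C.exists_partner (hW e heW e heW) hy'
  set f := y + κ • e
  have hfe : C.form f e = 1 := by rw [← C.bar_form, hef, map_one]
  obtain ⟨l, hl0, hl⟩ : ∃ l : F, l ≠ 0 ∧ l = ((d : Fˣ) : F) * C.bar l := by
    by_cases h : ∃ y : F, y + ((d : Fˣ) : F) * C.bar y ≠ 0
    · obtain ⟨y, hy⟩ := h
      refine ⟨_, hy, ?_⟩
      rw [map_add, map_mul, C.bar_bar]
      linear_combination -y * C.mem_unitOne.1 d.2
    · push Not at h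
      obtain ⟨y, hy⟩ := C.exists_not_fixed
      have h1 : ((d : Fˣ) : F) = -1 := by have h' := h 1; rw [map_one, mul_one] at h'; linear_combination h'
      have h2 := h y
      rw [h1] at h2
      exact absurd (by linear_combination -h2) hy
  set b : F := (C.bar l)⁻¹ - 1 with hb
  set M := C.rmap f e b * C.rmap e f (l - 1) with hM
  have hbl : C.bar l ≠ 0 := by simpa using hl0
  have hdet : M.det = ((d : Fˣ) : F) := by
    rw [hM, Matrix.det_mul, C.det_rmap, C.det_rmap, hef, hfe, hb]
    field_simp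
    linear_combination hl
  have hee := hW e heW e heW
  have hMv : ∀ x, M *ᵥ x = x + ((l - 1) * C.form x f) • e + (b * C.form x e) • f := fun x => by
    rw [hM, ← Matrix.mulVec_mulVec, C.rmap_mulVec, C.rmap_mulVec, C.form_add_left, C.form_smul_left, hee,
      mul_zero, add_zero]
  have hmem : Matrix.GeneralLinearGroup.mkOfDetNeZero M (by rw [hdet]; exact (d : Fˣ).ne_zero) ∈ Cfsg.GU n F q := by
    refine C.mem_gu_iff.2 fun u v => ?_
    show C.form (M *ᵥ u) (M *ᵥ v) = _
    rw [hMv, hMv]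
    simp only [C.form_add_left, C.form_add_right, C.form_smul_left, C.form_smul_right, hee, hff, hef, hfe,
      map_mul, C.bar_form]
    have h1 : l * C.bar b + (l - 1) = 0 := by
      rw [hb, map_sub, map_inv₀, C.bar_bar, map_one]; field_simp; ring
    have h2 : C.bar l * b + (C.bar l - 1) = 0 := by
      rw [hb]; field_simp; ring
    rw [map_sub, map_one]
    linear_combination (C.form u f * C.form e v) * h1 + (C.form u e * C.form f v) * h2
  refine ⟨⟨_, hmem⟩, fun v hv => ?_, Subtype.ext (Units.ext hdet)⟩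
  show M *ᵥ v ∈ W
  rw [hMv, hW v hv e heW, mul_zero, zero_smul, add_zero]
  exact W.add_mem hv (W.smul_mem _ heW)

/-- the stabiliser in the special unitary group -/
theorem card_stab_su (hF : Fintype.card F = q ^ 2) {n : ℕ} (hn : 1 ≤ n) (W : Submodule F (Fin n → F))
    (hW : ∀ u ∈ W, ∀ v ∈ W, C.form u v = 0) :
    (q + 1) * Nat.card ↥((Cfsg.stabilizing (Cfsg.slToMat n F) (W : Set (Fin n → F))).subgroupOf (Cfsg.SU n F q)) =
      Nat.card {g : ↥(Cfsg.GU n F q) // ∀ v ∈ W, g.1.1 *ᵥ v ∈ W} := by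
  classical
  let H : Subgroup ↥(Cfsg.GU n F q) :=
    { carrier := {g | ∀ v ∈ W, g.1.1 *ᵥ v ∈ W}
      one_mem' := fun v hv => by simpa using hv
      mul_mem' := fun {a b} ha hb v hv => by
        show (a.1.1 * b.1.1) *ᵥ v ∈ W
        rw [← Matrix.mulVec_mulVec]
        exact ha _ (hb v hv)
      inv_mem' := fun {a} ha v hv => by
        obtain ⟨w, hw, rfl⟩ := (((Set.toFinite (W : Set (Fin n → F))).injOn_iff_bijOn_of_mapsTo ha).1
          (Matrix.mulVec_injective_iff_isUnit.2 a.1.isUnit).injOn).surjOn hv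
        show (a.1⁻¹).1 *ᵥ (a.1.1 *ᵥ w) ∈ W
        rwa [Matrix.mulVec_mulVec, Units.inv_mul, Matrix.one_mulVec] }
  let φ := (C.detHom (n := n)).comp H.subtype
  have h1 := Subgroup.card_mul_index φ.ker
  rw [Subgroup.index_ker, MonoidHom.range_eq_top.2 (fun d => by
    obtain ⟨g, hg, hd⟩ := exists_det_stab C hn W hW d
    exact ⟨⟨g, hg⟩, hd⟩), Subgroup.card_top, C.card_unitOne hF] at h1
  refine Eq.trans ?_ h1
  rw [mul_comm]
  congr 1
  refine Nat.card_congr
    { toFun := fun A => ⟨⟨ofSU A.1, fun v hv => (A.2 v).1 hv⟩, Subtype.ext (Units.ext A.1.1.2)⟩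
      invFun := fun g => ⟨⟨⟨g.1.1.1.1, congrArg (fun x : C.unitOne => ((x : Fˣ) : F)) g.2⟩, fun u v => g.1.1.2 u v⟩, fun v =>
        ⟨g.1.2 v, fun hv => by
          have h := H.inv_mem g.1.2 _ hv
          change (g.1.1.1⁻¹).1 *ᵥ (g.1.1.1.1 *ᵥ v) ∈ W at h
          rwa [Matrix.mulVec_mulVec, Units.inv_mul, Matrix.one_mulVec] at h⟩⟩
      left_inv := fun A => rfl
      right_inv := fun g => Subtype.ext (Subtype.ext (Subtype.ext (Units.ext rfl))) }

end CfsgLib.Classical.HermIsoCount
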