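import Cfsg.Agent.Lib.Classical.HermFrames

/-!
# Stabilisers of nondegenerate subspaces in unitary groups
-/

set_option autoImplicit false

namespace CfsgLib.Classical.HermStab

open Matrix Module CfsgLib.SU CfsgLib.Classical.HermWitt CfsgLib.Classical.HermFrames

variable {F : Type*} [Field F] [Fintype F] {q : ℕ} (C : UCtx F q) {k m : ℕ}

/-- Left coordinates. -/
def lc (x : Fin (k + m) → F) : Fin k → F := fun i => x (Fin.castAdd m i)

/-- Right coordinates. -/
def rc (x : Fin (k + m) → F) : Fin m → F := fun i => x (Fin.natAdd k i)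

omit [Fintype F] in
theorem form_split (x y : Fin (k + m) → F) :
    C.form x y = C.form (lc x) (lc y) + C.form (rc x) (rc y) := Fin.sum_univ_add _

/-- A block diagonal matrix. -/
def blockMat (A : Matrix (Fin k) (Fin k) F) (B : Matrix (Fin m) (Fin m) F) : Matrix (Fin (k + m)) (Fin (k + m)) F :=
  (Matrix.fromBlocks A 0 0 B).reindexAlgEquiv F F finSumFinEquiv

omit [Fintype F] in
theorem blockMat_mulVec (A : Matrix (Fin k) (Fin k) F) (B : Matrix (Fin m) (Fin m) F) (x : Fin (k + m) → F) :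
    lc (blockMat A B *ᵥ x) = A *ᵥ lc x ∧ rc (blockMat A B *ᵥ x) = B *ᵥ rc x := by
  constructor <;> funext i <;>
    simp [lc, rc, blockMat, Matrix.reindexAlgEquiv_apply, Matrix.submatrix_mulVec_equiv, Matrix.fromBlocks_mulVec,
      Function.comp_def] <;> rfl

/-- The subspace of the first coordinates. -/
def stdSub (k m : ℕ) (F : Type*) [Field F] : Submodule F (Fin (k + m) → F) where
  carrier := {x | rc x = 0}
  add_mem' {a b} ha hb := by
    funext i
    show a (Fin.natAdd k i) + b (Fin.natAdd k i) = 0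
    rw [show a (Fin.natAdd k i) = 0 from congrFun ha i, show b (Fin.natAdd k i) = 0 from congrFun hb i, add_zero]
  zero_mem' := rfl
  smul_mem' c a ha := by
    funext i
    show c * a (Fin.natAdd k i) = 0
    rw [show a (Fin.natAdd k i) = 0 from congrFun ha i, mul_zero]

omit [Fintype F] in
theorem lc_append (u : Fin k → F) (v : Fin m → F) : lc (Fin.append u v) = u := funext fun i => Fin.append_left u v i

omit [Fintype F] in
theorem rc_append (u : Fin k → F) (v : Fin m → F) : rc (Fin.append u v) = v := funext fun i => Fin.append_right u v i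

/-- The embedding of the product. -/
def blockGU : ↥(Cfsg.GU k F q) × ↥(Cfsg.GU m F q) →* GL (Fin (k + m)) F :=
  Units.map ((Matrix.reindexAlgEquiv F F finSumFinEquiv).toAlgHom.toMonoidHom.comp
    ({ toFun := fun p => Matrix.fromBlocks p.1 0 0 p.2
       map_one' := Matrix.fromBlocks_one
       map_mul' := fun a b => by simp [Matrix.fromBlocks_multiply] } :
      Matrix (Fin k) (Fin k) F × Matrix (Fin m) (Fin m) F →* Matrix (Fin k ⊕ Fin m) (Fin k ⊕ Fin m) F))
    |>.comp (MulEquiv.prodUnits.symm.toMonoidHom.comp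
      ((Cfsg.GU k F q).subtype.prodMap (Cfsg.GU m F q).subtype))

omit [Fintype F] in
theorem blockGU_val (p : ↥(Cfsg.GU k F q) × ↥(Cfsg.GU m F q)) :
    ((blockGU p : GL (Fin (k + m)) F) : Matrix _ _ F) = blockMat p.1.1.1 p.2.1.1 := rfl

include C in
theorem blockGU_mem (p : ↥(Cfsg.GU k F q) × ↥(Cfsg.GU m F q)) :
    blockGU p ∈ Cfsg.GU (k + m) F q ⊓ Cfsg.stabilizing (Cfsg.glToMat (Fin (k + m)) F) (stdSub k m F : Set _) := by
  have hmem : ∀ p' : ↥(Cfsg.GU k F q) × ↥(Cfsg.GU m F q), ∀ x, x ∈ stdSub k m F →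
      blockMat p'.1.1.1 p'.2.1.1 *ᵥ x ∈ stdSub k m F := fun p' x hx => by
    show rc _ = 0
    rw [(blockMat_mulVec _ _ x).2, show rc x = 0 from hx, Matrix.mulVec_zero]
  refine ⟨(gu_mem_iff C).2 fun u v => ?_, fun v => ⟨hmem p v, fun h => ?_⟩⟩
  · rw [blockGU_val, form_split, (blockMat_mulVec _ _ u).1, (blockMat_mulVec _ _ v).1,
      (blockMat_mulVec _ _ u).2, (blockMat_mulVec _ _ v).2, (gu_mem_iff C).1 p.1.2, (gu_mem_iff C).1 p.2.2,
      ← form_split]
  · have h1 := hmem p⁻¹ _ h
    rw [← blockGU_val] at h1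
    have h2 : ((blockGU p : GL (Fin (k + m)) F)⁻¹ : GL (Fin (k + m)) F).1 *ᵥ
        ((blockGU p : GL (Fin (k + m)) F).1 *ᵥ v) = v := by
      rw [Matrix.mulVec_mulVec, Units.inv_mul, Matrix.one_mulVec]
    rw [map_inv] at h1
    exact h2 ▸ h1

include C in
theorem exists_block {g : GL (Fin (k + m)) F} (hg : g ∈ Cfsg.GU (k + m) F q)
    (hs : g ∈ Cfsg.stabilizing (Cfsg.glToMat (Fin (k + m)) F) (stdSub k m F : Set _)) :
    ∃ p : ↥(Cfsg.GU k F q) × ↥(Cfsg.GU m F q), blockGU p = g := by
  classical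
  have hu := (gu_mem_iff C).1 hg
  -- the matrix on the direct sum
  set N := (Matrix.reindexAlgEquiv F F finSumFinEquiv).symm g.1 with hN
  have hgN : g.1 = Matrix.reindexAlgEquiv F F finSumFinEquiv N := by simp [hN]
  have hform : ∀ (x : Fin (k + m) → F), rc x = 0 → ∀ y : Fin (k + m) → F, lc y = 0 → C.form x y = 0 := by
    intro x hx y hy
    rw [form_split, hx, hy, C.form_zero_left, C.form_zero_right, add_zero]
  have h21 : N.toBlocks₂₁ = 0 := by
    ext i j
    have hj : (Pi.single (Fin.castAdd m j) 1 : Fin (k + m) → F) ∈ stdSub k m F := funext fun l => by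
      simp [rc, Pi.single_apply, Fin.ext_iff]
      omega
    have := congrFun ((hs _).1 hj : rc _ = 0) i
    simpa [rc, hN, Matrix.toBlocks₂₁, Matrix.reindexAlgEquiv_apply] using this
  have h12 : N.toBlocks₁₂ = 0 := by
    ext i j
    -- the image of a vector orthogonal to the subspace stays orthogonal
    have hi : (Pi.single (Fin.castAdd m i) 1 : Fin (k + m) → F) ∈ stdSub k m F := funext fun l => by
      simp [rc, Pi.single_apply, Fin.ext_iff]
      omega
    have hpre : rc ((g⁻¹ : GL (Fin (k + m)) F).1 *ᵥ Pi.single (Fin.castAdd m i) 1) = 0 :=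
      ((inv_mem hs) _).1 hi
    have h := hu ((g⁻¹ : GL (Fin (k + m)) F).1 *ᵥ Pi.single (Fin.castAdd m i) 1) (Pi.single (Fin.natAdd k j) 1)
    rw [hform _ hpre _ (funext fun l => by simp [lc, Pi.single_apply, Fin.ext_iff]; omega),
      Matrix.mulVec_mulVec, Units.mul_inv, Matrix.one_mulVec] at h
    simpa [UCtx.form, Pi.single_apply, hN, Matrix.toBlocks₁₂, Matrix.reindexAlgEquiv_apply] using h
  have hdiag : N = Matrix.fromBlocks N.toBlocks₁₁ 0 0 N.toBlocks₂₂ := by
    conv_lhs => rw [← Matrix.fromBlocks_toBlocks N, h12, h21]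
  have hdet : N.toBlocks₁₁.det * N.toBlocks₂₂.det ≠ 0 := by
    rw [← Matrix.det_fromBlocks_zero₁₂ _ (0 : Matrix (Fin m) (Fin k) F), ← hdiag, hN, Matrix.reindexAlgEquiv_symm,
      Matrix.reindexAlgEquiv_apply, Matrix.det_reindex_self]
    exact ((Matrix.isUnit_iff_isUnit_det _).1 g.isUnit).ne_zero
  have hg1 : g.1 = blockMat N.toBlocks₁₁ N.toBlocks₂₂ := by rw [hgN, blockMat, ← hdiag]
  let A := Matrix.GeneralLinearGroup.mkOfDetNeZero _ (left_ne_zero_of_mul hdet)
  let B := Matrix.GeneralLinearGroup.mkOfDetNeZero _ (right_ne_zero_of_mul hdet)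
  refine ⟨(⟨A, (gu_mem_iff C).2 fun u v => ?_⟩, ⟨B, (gu_mem_iff C).2 fun u v => ?_⟩), Units.ext hg1.symm⟩
  · have h := hu (Fin.append u 0) (Fin.append v 0)
    rw [hg1, form_split, (blockMat_mulVec _ _ _).1, (blockMat_mulVec _ _ _).1, (blockMat_mulVec _ _ _).2,
      (blockMat_mulVec _ _ _).2, form_split C (Fin.append u 0)] at h
    simpa [lc_append, rc_append, A, C.form_zero_left] using h
  · have h := hu (Fin.append 0 u) (Fin.append 0 v)
    rw [hg1, form_split, (blockMat_mulVec _ _ _).1, (blockMat_mulVec _ _ _).1, (blockMat_mulVec _ _ _).2,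
      (blockMat_mulVec _ _ _).2, form_split C (Fin.append 0 u)] at h
    simpa [lc_append, rc_append, B, C.form_zero_left] using h

include C in
theorem stab_equiv (W : Submodule F (Fin (k + m) → F)) (hWk : finrank F W = k)
    (hW : ∀ u ∈ W, (∀ v ∈ W, C.form u v = 0) → u = 0) :
    Nonempty (↥((Cfsg.stabilizing (Cfsg.glToMat (Fin (k + m)) F) (W : Set (Fin (k + m) → F))).subgroupOf
      (Cfsg.GU (k + m) F q)) ≃* ↥(Cfsg.GU k F q) × ↥(Cfsg.GU m F q)) := by
  classical
  -- an orthonormal basis of W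
  let BW : W →ₛₗ[(C.bar : F →+* F)] W →ₗ[F] F :=
    LinearMap.mk₂'ₛₗ (C.bar : F →+* F) (RingHom.id F) (fun u v => C.form (v : Fin (k + m) → F) (u : Fin (k + m) → F))
      (fun a b c => C.form_add_right _ _ _) (fun r a b => C.form_smul_right r _ _)
      (fun a b c => C.form_add_left _ _ _) (fun r a b => C.form_smul_left r _ _)
  have hBW : BW.Nondegenerate :=
    ⟨fun u h => Subtype.ext (hW u u.2 fun v hv => C.form_swap_zero (h ⟨v, hv⟩)),
      fun v h => Subtype.ext (hW v v.2 fun u hu => h ⟨u, hu⟩)⟩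
  obtain ⟨v, hv⟩ := exists_orth (B := BW) (bar_ne_id C) C.bar_bar ⟨fun a b => C.bar_form _ _⟩ hBW k hWk.ge
  let t : Fin k → Fin (k + m) → F := fun i => Pi.single (Fin.castAdd m i) 1
  have hti : ∀ i j, C.form (t i) (t j) = if i = j then 1 else 0 := fun i j => by
    simp [t, UCtx.form, Pi.single_apply, apply_ite C.bar, Fin.castAdd_injective _ _ |>.eq_iff, eq_comm]
  have hvi : ∀ i j, C.form (v i : Fin (k + m) → F) (v j) = if i = j then 1 else 0 := fun i j =>
    (hv j i).trans (by simp [eq_comm])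
  have hswap : ∀ (w : Fin k → Fin (k + m) → F), (∀ i j, C.form (w i) (w j) = if i = j then 1 else 0) →
      ∀ i j, hB C (k + m) (w i) (w j) = if i = j then 1 else 0 := fun w hw i j =>
    (hw j i).trans (by simp [eq_comm])
  have hlit := linearIndependent_of_orth (hswap t hti)
  have hliv := linearIndependent_of_orth (hswap (fun i => (v i : Fin (k + m) → F)) hvi)
  obtain ⟨g, hgt⟩ := exists_move_tuple C hlit hliv fun i j => by rw [hti, hvi]
  have hWspan : Submodule.span F (Set.range fun i => (v i : Fin (k + m) → F)) = W :=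
    Submodule.eq_of_le_of_finrank_le (Submodule.span_le.2 (by rintro _ ⟨i, rfl⟩; exact (v i).2))
      (by rw [finrank_span_eq_card hliv, hWk, Fintype.card_fin])
  have hUspan : Submodule.span F (Set.range t) = stdSub k m F := by
    refine le_antisymm (Submodule.span_le.2 ?_) fun x hx => ?_
    · rintro _ ⟨i, rfl⟩
      exact funext fun l => by simp [t, rc, Pi.single_apply, Fin.ext_iff]; omega
    · have : x = ∑ i, x (Fin.castAdd m i) • t i := funext fun l => by
        induction l using Fin.addCases with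
        | left l => simp [t, Pi.single_apply, Fin.castAdd_injective _ _ |>.eq_iff]
        | right l =>
          have := congrFun (show rc x = 0 from hx) l
          simp [t, Pi.single_apply, Fin.ext_iff, rc] at this ⊢
          rw [this, Finset.sum_eq_zero]
          intro i _
          rw [if_neg (by omega)]
      rw [this]
      exact Submodule.sum_mem _ fun i _ => Submodule.smul_mem _ _ (Submodule.subset_span ⟨i, rfl⟩)
  have hmap : ∀ x, x ∈ stdSub k m F ↔ g.1.1 *ᵥ x ∈ W := by
    intro x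
    rw [← hWspan, ← hUspan]
    have : (fun i => (v i : Fin (k + m) → F)) = g.1.1.mulVecLin ∘ t := funext fun i => (hgt i).symm
    rw [this, Set.range_comp, Submodule.span_image, Submodule.mem_map]
    refine ⟨fun h => ⟨x, h, rfl⟩, fun ⟨y, hy, he⟩ => ?_⟩
    have : y = x := by
      have h1 := congrArg ((g.1⁻¹).1 *ᵥ ·) he
      simpa [Matrix.mulVec_mulVec] using h1
    exact this ▸ hy
  let φ : ↥(Cfsg.GU k F q) × ↥(Cfsg.GU m F q) →* ↥(Cfsg.GU (k + m) F q) :=
    (MulAut.conj g).toMonoidHom.comp (blockGU.codRestrict _ fun p => (blockGU_mem C p).1)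
  have hφ : ∀ p, φ p ∈ ((Cfsg.stabilizing (Cfsg.glToMat (Fin (k + m)) F) (W : Set (Fin (k + m) → F))).subgroupOf
      (Cfsg.GU (k + m) F q)) := by
    intro p
    rw [Subgroup.mem_subgroupOf]
    intro x
    have h1 := (hmap ((g.1⁻¹).1 *ᵥ x))
    rw [Matrix.mulVec_mulVec, Units.mul_inv, Matrix.one_mulVec] at h1
    show x ∈ W ↔ (g.1.1 * (blockGU p).1 * (g.1⁻¹).1) *ᵥ x ∈ W
    rw [← Matrix.mulVec_mulVec, ← Matrix.mulVec_mulVec, ← hmap, ← h1]
    exact (blockGU_mem C p).2 _
  refine ⟨(MulEquiv.ofBijective (φ.codRestrict _ hφ) ⟨?_, ?_⟩).symm⟩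
  · intro a b h
    have h1 := congrArg Subtype.val h
    have h2 : blockMat a.1.1.1 a.2.1.1 = blockMat b.1.1.1 b.2.1.1 :=
      congrArg (fun x : ↥(Cfsg.GU (k + m) F q) => x.1.1) ((MulAut.conj g).injective h1)
    obtain ⟨e1, -, -, e2⟩ := Matrix.fromBlocks_inj.1 ((Matrix.reindexAlgEquiv F F finSumFinEquiv).injective h2)
    exact Prod.ext (Subtype.ext (Units.ext e1)) (Subtype.ext (Units.ext e2))
  · rintro ⟨y, hy⟩
    rw [Subgroup.mem_subgroupOf] at hy
    have hmem : ((MulAut.conj g).symm y).1 ∈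
        Cfsg.stabilizing (Cfsg.glToMat (Fin (k + m)) F) (stdSub k m F : Set _) := by
      intro x
      show x ∈ stdSub k m F ↔ ((g.1⁻¹).1 * y.1.1 * g.1.1) *ᵥ x ∈ stdSub k m F
      rw [hmap, hmap, ← Matrix.mulVec_mulVec, ← Matrix.mulVec_mulVec, Matrix.mulVec_mulVec _ g.1.1 (g.1⁻¹).1,
        Units.mul_inv, Matrix.one_mulVec]
      exact hy _
    obtain ⟨p, hp⟩ := exists_block C ((MulAut.conj g).symm y).2 hmem
    refine ⟨p, Subtype.ext ?_⟩
    show MulAut.conj g _ = y
    refine (congrArg (MulAut.conj g) ?_).trans (MulEquiv.apply_symm_apply _ _)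
    exact Subtype.ext hp

/-- Central unitary matrices are scalar. -/
theorem scalar_of_center {n : ℕ} (hn : 2 ≤ n) (hF : Fintype.card F = q ^ 2) {g : ↥(Cfsg.GU n F q)}
    (hg : g ∈ Subgroup.center _) : ∃ c : C.unitOne, g = C.gscal c := by
  classical
  obtain ⟨l, hl, hl1⟩ : ∃ l : F, l * C.bar l = 1 ∧ l ≠ 1 := by
    obtain ⟨y, hy⟩ := C.exists_not_fixed
    have hy0 : y ≠ 0 := fun h => hy (by rw [h, map_zero])
    refine ⟨y / C.bar y, ?_, fun h => hy ((div_eq_one_iff_eq (by simpa)).1 h).symm⟩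
    rw [map_div₀, C.bar_bar, div_mul_div_comm, mul_comm, div_self (mul_ne_zero (by simpa) hy0)]
  have hcomm : ∀ (M : Matrix (Fin n) (Fin n) F) (hM : M.det ≠ 0), (∀ u v, C.form (M *ᵥ u) (M *ᵥ v) = C.form u v) →
      M * g.1.1 = g.1.1 * M := fun M hM h =>
    congrArg (fun x : ↥(Cfsg.GU n F q) => x.1.1)
      (Subgroup.mem_center_iff.1 hg ⟨Matrix.GeneralLinearGroup.mkOfDetNeZero M hM, (gu_mem_iff C).2 h⟩)
  have hoff : ∀ i j, i ≠ j → g.1.1 i j = 0 := fun i j hij => by
    have h := congrFun (congrFun (hcomm (Matrix.diagonal (Function.update 1 i l))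
      (by
        rw [Matrix.det_diagonal, Finset.prod_ne_zero_iff]
        intro x _
        rcases eq_or_ne x i with rfl | hx
        · simpa using fun h0 : l = 0 => by simp [h0] at hl
        · simp [hx])
      (fun u v => by
        refine Finset.sum_congr rfl fun x _ => ?_
        rcases eq_or_ne x i with rfl | hx
        · simp only [Matrix.mulVec_diagonal, Function.update_self, map_mul]
          linear_combination (u x * C.bar (v x)) * hl
        · simp [Matrix.mulVec_diagonal, hx])) i) j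
    rw [Matrix.diagonal_mul, Matrix.mul_diagonal, Function.update_self, Function.update_of_ne hij.symm,
      Pi.one_apply, mul_one] at h
    by_contra h0
    exact hl1 (mul_right_cancel₀ h0 (h.trans (one_mul _).symm))
  have hdiag : ∀ i j, g.1.1 i i = g.1.1 j j := fun i j => by
    have h := congrFun (congrFun (hcomm ((Equiv.swap i j).permMatrix F)
      (by rw [Matrix.det_permutation]; rcases Int.units_eq_one_or (Equiv.Perm.sign (Equiv.swap i j)) with h | h <;> simp [h])
      (fun u v => by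
        rw [Matrix.permMatrix_mulVec, Matrix.permMatrix_mulVec]
        exact Equiv.sum_comp (Equiv.swap i j) (fun x => u x * C.bar (v x)))) i) j
    rw [Equiv.Perm.permMatrix, PEquiv.toMatrix_toPEquiv_mul, PEquiv.mul_toMatrix_toPEquiv] at h
    simpa using h.symm
  set c : F := g.1.1 ⟨0, by omega⟩ ⟨0, by omega⟩
  have hgc : g.1.1 = c • (1 : Matrix (Fin n) (Fin n) F) := Matrix.ext fun i j => by
    rcases eq_or_ne i j with rfl | hij
    · simp [c, hdiag i ⟨0, by omega⟩]
    · simp [hoff i j hij, hij]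
  let e0 : Fin n → F := Pi.single ⟨0, by omega⟩ 1
  have h1 := (gu_mem_iff C).1 g.2 e0 e0
  rw [hgc, Matrix.smul_mulVec, Matrix.one_mulVec, C.form_smul_left, C.form_smul_right] at h1
  simp [e0, UCtx.form, Pi.single_apply, apply_ite C.bar] at h1
  have hc0 : c ≠ 0 := fun h => by simp [h] at h1
  exact ⟨⟨Units.mk0 c hc0, C.mem_unitOne.2 h1⟩, Subtype.ext (Units.ext (by rw [C.gscal_val, hgc]; rfl))⟩

end CfsgLib.Classical.HermStab
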