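import Cfsg.Agent.Lib.Classical.HermStab
import Cfsg.Agent.Lib.GLClass.Unipotent

/-!
# Cyclic tori and regular unipotent elements in special unitary groups
-/

set_option autoImplicit false

namespace CfsgLib.Classical.HermTori

open Matrix Module CfsgLib.SU CfsgLib.Classical.HermWitt CfsgLib.Classical.HermFrames

/-- the sum `1 + q² + ... + q^(2(b-1))` -/
def G (q b : ℕ) : ℕ := ∑ j ∈ Finset.range b, (q ^ 2) ^ j

/-- the order of the big cyclic torus of `SU_m` -/
def K (q m : ℕ) : ℕ := if Even m then (q - 1) * G q (m / 2) else 1 + (q - 1) * q * G q (m / 2)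

theorem K_even (q b : ℕ) : K q (2 * b) = (q - 1) * G q b := by
  rw [K, if_pos (even_two_mul b), Nat.mul_div_cancel_left _ two_pos]

theorem K_odd (q b : ℕ) : K q (2 * b + 1) = 1 + (q - 1) * q * G q b := by
  rw [K, if_neg (by simp [Nat.even_add_one]), show (2 * b + 1) / 2 = b by omega]

theorem G_mul (w b : ℕ) : G (w + 1) b * (w * (w + 2)) + 1 = (w + 1) ^ (2 * b) := by
  have h := geom_sum_mul_add (w * (w + 2)) b
  rw [G, show (w + 1) ^ 2 = w * (w + 2) + 1 by ring, h, ← show (w + 1) ^ 2 = w * (w + 2) + 1 by ring, ← pow_mul]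

theorem K_even_mul (w b : ℕ) : K (w + 1) (2 * b) * (w + 2) + 1 = (w + 1) ^ (2 * b) := by
  rw [K_even, ← G_mul, Nat.add_sub_cancel]
  ring

theorem K_odd_mul (w b : ℕ) : K (w + 1) (2 * b + 1) * (w + 2) = (w + 1) ^ (2 * b + 1) + 1 := by
  rw [K_odd, pow_succ, ← G_mul, Nat.add_sub_cancel]
  ring

theorem G_odd (w b : ℕ) :
    G (w + 1) (2 * b + 1) = K (w + 1) (2 * b + 1) * (1 + (w + 1) * (w + 2) * G (w + 1) b) := by
  rcases Nat.eq_zero_or_pos w with rfl | hw
  · simp [G, K_odd]; ring
  · refine Nat.eq_of_mul_eq_mul_right (show 0 < w * (w + 2) by positivity) (Nat.add_right_cancel (m := 1) ?_)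
    have h := G_mul w b
    rw [G_mul, K_odd, Nat.add_sub_cancel, show 2 * (2 * b + 1) = 2 * b + 2 * b + 2 by ring, pow_add, pow_add, ← h]
    ring

theorem dvd_K {w m d : ℕ} (hd : d ∣ w + 2) (hdm : d ∣ m) : d ∣ K (w + 1) m := by
  have hq : ((w : ZMod d) + 2) = 0 := by
    have := (ZMod.natCast_eq_zero_iff _ d).2 hd
    simpa using this
  have hsq : ((w : ZMod d) + 1) ^ 2 = 1 := by linear_combination (w : ZMod d) * hq
  have hG : ∀ b, ((G (w + 1) b : ℕ) : ZMod d) = (b : ZMod d) := fun b => by simp [G, hsq]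
  rw [← ZMod.natCast_eq_zero_iff] at hdm ⊢
  rcases Nat.even_or_odd' m with ⟨b, rfl | rfl⟩
  · rw [K_even, Nat.add_sub_cancel, Nat.cast_mul, hG]
    push_cast at hdm
    linear_combination (b : ZMod d) * hq - hdm
  · rw [K_odd, Nat.add_sub_cancel]
    push_cast at hdm ⊢
    rw [hG]
    linear_combination ((w : ZMod d) - 1) * (b : ZMod d) * hq + hdm

theorem coprime_K {p a q m : ℕ} (hp : p.Prime) (ha : 1 ≤ a) (hq : q = p ^ a) (hm : 1 ≤ m) :
    (K q m).Coprime p := by
  refine (hp.coprime_iff_not_dvd.2 fun h => ?_).symm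
  obtain ⟨w, hw⟩ : ∃ w, q = w + 1 := ⟨q - 1, by have := pow_pos hp.pos a; omega⟩
  have hd : p ∣ q ^ m := by rw [hq, ← pow_mul]; exact dvd_pow_self p (Nat.mul_ne_zero (by omega) (by omega))
  have h2 : p ∣ K q m * (w + 2) := h.mul_right _
  have h3 : p ∣ 1 := by
    subst hw
    rcases Nat.even_or_odd' m with ⟨b, rfl | rfl⟩
    · rw [← K_even_mul] at hd; exact (Nat.dvd_add_right h2).1 hd
    · rw [K_odd_mul] at h2; exact (Nat.dvd_add_right hd).1 h2
  exact hp.not_dvd_one h3

variable {F : Type*} [Field F] [Fintype F] {q : ℕ} (C : UCtx F q)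

theorem bar_odd (hF : Fintype.card F = q ^ 2) {j : ℕ} (hj : Odd j) (c : F) : c ^ q ^ j = C.bar c := by
  obtain ⟨b, rfl⟩ := hj
  rw [pow_succ, pow_mul, pow_mul, ← hF, FiniteField.pow_card_pow, C.bar_eq]

section algebra

variable {R : Type*} [CommRing R] [Algebra F R] [Module.Finite F R]

/-- Norm one elements of an algebra with involution as unitary matrices. -/
theorem exists_su_of_algebra {d : ℕ} (hd : finrank F R = d) (st : R →+* R) (hst : ∀ x, st (st x) = x)
    (hsta : ∀ c, st (algebraMap F R c) = algebraMap F R (C.bar c)) (l : R →ₗ[F] F)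
    (hl : ∀ x, l (st x) = C.bar (l x)) (hnd : ∀ x, (∀ y, l (x * y) = 0) → x = 0)
    (t : R) (ht : t * st t = 1) (hN : Algebra.norm F t = 1) : ∃ A : ↥(Cfsg.SU d F q), orderOf A = orderOf t := by
  classical
  let B : R →ₛₗ[(C.bar : F →+* F)] R →ₗ[F] F :=
    LinearMap.mk₂'ₛₗ (C.bar : F →+* F) (RingHom.id F) (fun u v => l (v * st u))
      (fun a b c => by rw [map_add, mul_add, map_add])
      (fun r a b => by
        show l (b * st (r • a)) = C.bar r • l (b * st a)
        rw [Algebra.smul_def r a, map_mul st, hsta, mul_left_comm, ← Algebra.smul_def, map_smul])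
      (fun a b c => by rw [add_mul, map_add])
      (fun r a b => by rw [smul_mul_assoc, map_smul]; rfl)
  have hBs : B.IsSymm := ⟨fun u v => by
    show C.bar (l (v * st u)) = l (u * st v)
    rw [← hl, map_mul, hst, mul_comm]⟩
  have hBn : B.Nondegenerate := ⟨fun u h => by
      have := hnd (st u) fun y => by rw [mul_comm]; exact h y
      rw [← hst u, this, map_zero],
    fun v h => hnd v fun y => by have := h (st y); rwa [show B (st y) v = l (v * st (st y)) from rfl, hst] at this⟩
  obtain ⟨v, hv⟩ := exists_orth (B := B) (bar_ne_id C) C.bar_bar hBs hBn d hd.ge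
  let b : Basis (Fin d) F R := Basis.mk (linearIndependent_of_orth hv)
      ((linearIndependent_of_orth hv).span_eq_top_of_card_eq_finrank' (by rw [hd, Fintype.card_fin])).ge
  have hb : ∀ i, b i = v i := fun i => Basis.mk_apply _ _ i
  have hB : ∀ x y : R, C.form (b.repr x) (b.repr y) = B y x := by
    intro x y
    conv_rhs => rw [← b.sum_repr x, ← b.sum_repr y]
    simp only [map_sum, LinearMap.sum_apply, map_smul, LinearMap.map_smulₛₗ, LinearMap.smul_apply, smul_eq_mul,
      hb, hv, mul_ite, mul_one, mul_zero, Finset.sum_ite_eq', Finset.mem_univ, if_true, UCtx.form, RingEquiv.coe_toRingHom]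
  let M := Algebra.leftMulMatrix b t
  have hM : ∀ x, M *ᵥ b.repr x = b.repr (t * x) := fun x => Algebra.leftMulMatrix_mulVec_repr b t x
  refine ⟨C.mkSU M (by rw [← Algebra.norm_eq_matrix_det]; exact hN) fun u u' => ?_, ?_⟩
  · obtain ⟨x, rfl⟩ : ∃ x, (b.repr x : Fin d → F) = u := ⟨b.equivFun.symm u, b.equivFun.apply_symm_apply u⟩
    obtain ⟨y, rfl⟩ : ∃ y, (b.repr y : Fin d → F) = u' := ⟨b.equivFun.symm u', b.equivFun.apply_symm_apply u'⟩
    rw [hM, hM, hB, hB]
    show l (t * x * st (t * y)) = l (x * st y)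
    rw [map_mul st, mul_mul_mul_comm, ht, one_mul]
  · rw [← Subgroup.orderOf_coe, ← orderOf_injective (Cfsg.slToMat d F) (fun a b h => Subtype.ext h)]
    exact orderOf_injective (Algebra.leftMulMatrix b).toRingHom.toMonoidHom (Algebra.leftMulMatrix_injective b) t

end algebra

section field

variable {p a : ℕ} [Fact p.Prime] [CharP F p]

theorem exists_of_order (L : Type*) [Field L] [Fintype L] {k : ℕ} (hk : k ∣ Fintype.card L - 1) :
    ∃ t : L, orderOf t = k := by
  obtain ⟨u, hu⟩ := IsCyclic.exists_ofOrder_eq_natCard (α := Lˣ)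
  rw [Nat.card_units, Nat.card_eq_fintype_card] at hu
  exact ⟨((u ^ (orderOf u / k) : Lˣ) : L), by
    rw [orderOf_units, orderOf_pow_orderOf_div (orderOf_pos u).ne' (hu ▸ hk)]⟩

theorem trace_frob (hq : q = p ^ a) (hF : Fintype.card F = q ^ 2) (L : Type*) [Field L] [Finite L] [Algebra F L]
    {j : ℕ} (hj : Odd j) (x : L) : Algebra.trace F L (x ^ q ^ j) = C.bar (Algebra.trace F L x) := by
  haveI : CharP L p := charP_of_injective_algebraMap (algebraMap F L).injective p
  refine (algebraMap F L).injective ?_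
  rw [← bar_odd C hF hj, map_pow (algebraMap F L), FiniteField.algebraMap_trace_eq_sum_pow, FiniteField.algebraMap_trace_eq_sum_pow]
  subst hq
  rw [← pow_mul p, sum_pow_char_pow]
  refine Finset.sum_congr rfl fun i _ => ?_
  rw [← pow_mul, ← pow_mul, mul_comm]

include C in
theorem exists_torus (hq : q = p ^ a) (hF : Fintype.card F = q ^ 2) {m k : ℕ} (hm : 1 ≤ m) (hk : k ∣ K q m) :
    ∃ A : ↥(Cfsg.SU m F q), orderOf A = k := by
  classical
  obtain ⟨w, hw⟩ : ∃ w, q = w + 1 := ⟨q - 1, by have := two_le_q hF; omega⟩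
  rcases Nat.even_or_odd' m with ⟨b, rfl | rfl⟩
  · haveI : NeZero b := ⟨by omega⟩
    let L := FiniteField.Extension F p b
    have hfin : finrank F L = b := FiniteField.finrank_extension F p b
    haveI : Finite L := Module.finite_of_finite F
    letI : Fintype L := Fintype.ofFinite L
    haveI : CharP L p := charP_of_injective_algebraMap (algebraMap F L).injective p
    have hL : Fintype.card L = q ^ (2 * b) := by rw [Module.card_eq_pow_finrank (K := F), hfin, hF, ← pow_mul]
    have hkd : k ∣ Fintype.card L - 1 := hk.trans ⟨w + 2, by rw [hL, hw, ← K_even_mul, Nat.add_sub_cancel]⟩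
    obtain ⟨x, hx⟩ := exists_of_order L hkd
    have hk0 : k ≠ 0 := by
      intro h0
      have h1 := Fintype.one_lt_card (α := L)
      rw [h0, zero_dvd_iff] at hkd
      omega
    have hx0 : x ≠ 0 := fun h => by
      have := pow_orderOf_eq_one x
      rw [hx, h, zero_pow hk0] at this
      exact zero_ne_one this
    obtain ⟨e, he⟩ : ∃ e, 2 * b = e + 1 := ⟨2 * b - 1, by omega⟩
    have hodd : Odd e := by
      rcases Nat.even_or_odd e with ⟨c, hc⟩ | h
      · omega
      · exact h
    let φ : ∀ _ : ℕ, L →+* L := fun j => iterateFrobenius L p (a * j)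
    have hφ : ∀ j y, φ j y = y ^ q ^ j := fun j y => by
      show iterateFrobenius L p (a * j) y = _
      rw [iterateFrobenius_def, hq, ← pow_mul]
    have hfix : ∀ y : L, y ^ (q ^ e * q) = y := fun y => by
      rw [← pow_succ, ← he, ← hL, FiniteField.pow_card]
    let st : L × L →+* L × L :=
      ((φ 1).comp (RingHom.snd L L)).prod ((φ e).comp (RingHom.fst L L))
    have hst1 : ∀ y : L × L, st y = (y.2 ^ q, y.1 ^ q ^ e) := fun y => by
      show (φ 1 y.2, φ e y.1) = _
      rw [hφ, hφ, pow_one]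
    let l : L × L →ₗ[F] F := (Algebra.trace F L).coprod (Algebra.trace F L)
    have hl1 : ∀ y : L × L, l y = Algebra.trace F L y.1 + Algebra.trace F L y.2 := fun y => rfl
    obtain ⟨A, hA⟩ := exists_su_of_algebra C (R := L × L) (d := 2 * b) (by rw [Module.finrank_prod, hfin]; ring) st
      (fun y => by
        rw [hst1, hst1]
        refine Prod.ext ?_ ?_
        · show (y.1 ^ q ^ e) ^ q = y.1
          rw [← pow_mul, hfix]
        · show (y.2 ^ q) ^ q ^ e = y.2
          rw [← pow_mul, mul_comm, hfix])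
      (fun c => by
        rw [hst1]
        show (algebraMap F L c ^ q, algebraMap F L c ^ q ^ e) = (algebraMap F L (C.bar c), algebraMap F L (C.bar c))
        rw [← map_pow, ← map_pow, bar_odd C hF hodd, C.bar_eq])
      l (fun y => by
        rw [hst1, hl1, hl1, map_add, ← trace_frob C hq hF L hodd, ← trace_frob C hq hF L odd_one, pow_one, add_comm])
      (fun y hy => Prod.ext
        ((traceForm_nondegenerate F L).1 _ fun z => by
          have := hy (z, 0)
          simpa [hl1, Algebra.traceForm_apply] using this)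
        ((traceForm_nondegenerate F L).1 _ fun z => by
          have := hy (0, z)
          simpa [hl1, Algebra.traceForm_apply] using this))
      (x, (x⁻¹) ^ q ^ e)
      (by
        rw [hst1]
        refine Prod.ext ?_ ?_
        · show x * ((x⁻¹) ^ q ^ e) ^ q = 1
          rw [← pow_mul, hfix, mul_inv_cancel₀ hx0]
        · show (x⁻¹) ^ q ^ e * x ^ q ^ e = 1
          rw [← mul_pow, inv_mul_cancel₀ hx0, one_pow])
      (by
        have hnp : ∀ z : L × L, Algebra.norm F z = Algebra.norm F z.1 * Algebra.norm F z.2 := fun z => by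
          rw [Algebra.norm_apply, Algebra.norm_apply, Algebra.norm_apply, ← LinearMap.det_prodMap]
          exact congrArg _ (LinearMap.ext fun y => Prod.ext rfl rfl)
        rw [hnp]
        show Algebra.norm F x * Algebra.norm F ((x⁻¹) ^ q ^ e) = 1
        have hN0 : Algebra.norm F x ≠ 0 := Algebra.norm_ne_zero_iff.2 hx0
        rw [map_pow, show Algebra.norm F x⁻¹ = (Algebra.norm F x)⁻¹ from eq_inv_of_mul_eq_one_left
          (by rw [← map_mul, inv_mul_cancel₀ hx0, map_one]), bar_odd C hF hodd, C.bar_eq]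
        have h1 : Algebra.norm F x ^ (q - 1) = 1 := by
          refine (algebraMap F L).injective ?_
          rw [map_pow, FiniteField.algebraMap_norm_eq_pow_sum, ← pow_mul, map_one, hfin, Nat.card_eq_fintype_card, hF]
          obtain ⟨c, hc⟩ := hk
          refine orderOf_dvd_iff_pow_eq_one.1 (hx ▸ ⟨c, ?_⟩)
          rw [← hc, K_even, mul_comm]; rfl
        have h2 : Algebra.norm F x ^ q = Algebra.norm F x := by
          conv_lhs => rw [hw, pow_succ]
          rw [hw, Nat.add_sub_cancel] at h1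
          rw [h1, one_mul]
        rw [inv_pow, h2, mul_inv_cancel₀ hN0])
    refine ⟨A, hA.trans ?_⟩
    have hinj : Function.Injective (φ e) := (φ e).injective
    have h1 : orderOf (φ e x⁻¹) = orderOf x⁻¹ := orderOf_injective (φ e).toMonoidHom hinj _
    have h2 : orderOf x⁻¹ = orderOf x := orderOf_eq_orderOf_iff.2 fun j => by rw [inv_pow, inv_eq_one]
    rw [Prod.orderOf_mk, ← hφ, h1, h2, hx, Nat.lcm_self]
  · haveI : NeZero (2 * b + 1) := ⟨by omega⟩
    let L := FiniteField.Extension F p (2 * b + 1)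
    have hfin : finrank F L = 2 * b + 1 := FiniteField.finrank_extension F p (2 * b + 1)
    haveI : Finite L := Module.finite_of_finite F
    letI : Fintype L := Fintype.ofFinite L
    haveI : CharP L p := charP_of_injective_algebraMap (algebraMap F L).injective p
    have hL : Fintype.card L = q ^ (2 * (2 * b + 1)) := by rw [Module.card_eq_pow_finrank (K := F), hfin, hF, ← pow_mul]
    have hKd : k ∣ q ^ (2 * b + 1) + 1 := hk.trans ⟨w + 2, by rw [hw, ← K_odd_mul]⟩
    have hkd : k ∣ Fintype.card L - 1 := hKd.trans ⟨q ^ (2 * b + 1) - 1, by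
      rw [hL, ← Nat.sq_sub_sq, one_pow, ← pow_mul, mul_comm]⟩
    obtain ⟨x, hx⟩ := exists_of_order L hkd
    have hodd : Odd (2 * b + 1) := ⟨b, rfl⟩
    let st : L →+* L := iterateFrobenius L p (a * (2 * b + 1))
    have hst1 : ∀ y : L, st y = y ^ q ^ (2 * b + 1) := fun y => by
      show iterateFrobenius L p _ y = _
      rw [iterateFrobenius_def, hq, ← pow_mul]
    obtain ⟨A, hA⟩ := exists_su_of_algebra C (R := L) hfin st
      (fun y => by rw [hst1, hst1, ← pow_mul, ← pow_add, ← two_mul, ← hL, FiniteField.pow_card])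
      (fun c => by rw [hst1, ← map_pow, bar_odd C hF hodd])
      (Algebra.trace F L) (fun y => by rw [hst1, trace_frob C hq hF L hodd])
      (fun y hy => (traceForm_nondegenerate F L).1 _ fun z => by rw [Algebra.traceForm_apply]; exact hy z)
      x (by rw [hst1, ← pow_succ']; exact orderOf_dvd_iff_pow_eq_one.1 (hx ▸ hKd))
      (by
        refine (algebraMap F L).injective ?_
        rw [FiniteField.algebraMap_norm_eq_pow_sum, map_one, hfin, Nat.card_eq_fintype_card, hF]
        refine orderOf_dvd_iff_pow_eq_one.1 (hx ▸ ?_)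
        show k ∣ G q (2 * b + 1)
        rw [hw, G_odd, ← hw]
        exact hk.mul_right _)
    exact ⟨A, hA.trans hx⟩

end field

section regular

open Polynomial

variable {p : ℕ} [Fact p.Prime] [CharP F p]

include C in
/-- Regular unipotent elements. -/
theorem exists_regular (p : ℕ) [Fact p.Prime] [CharP F p] {d : ℕ} (hd : 1 ≤ d) :
    ∃ A : ↥(Cfsg.SU d F q), orderOf A = p ^ Nat.clog p d := by
  classical
  have hp : p.Prime := Fact.out
  set P : F[X] := (X - Polynomial.C 1) ^ d with hP
  have hPm : P.Monic := (monic_X_sub_C 1).pow d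
  have hPd : P.natDegree = d := by rw [hP, natDegree_pow, natDegree_X_sub_C, mul_one]
  haveI : Module.Finite F (AdjoinRoot P) := hPm.finite_adjoinRoot
  set u := AdjoinRoot.root P with hu
  set ε := u - 1 with hε
  have hεd : ε ^ d = 0 := by
    have h := AdjoinRoot.eval₂_root P
    rw [← AdjoinRoot.algebraMap_eq, ← aeval_def] at h
    simpa [hP, hε, hu] using h
  have hεd' : ε ^ (d - 1) ≠ 0 := by
    intro h
    have h2 : AdjoinRoot.mk P ((X - Polynomial.C 1) ^ (d - 1)) = 0 := by simpa [hε, hu] using h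
    rw [AdjoinRoot.mk_eq_zero] at h2
    have h3 := natDegree_le_of_dvd h2 (pow_ne_zero _ (X_sub_C_ne_zero 1))
    rw [hPd, natDegree_pow, natDegree_X_sub_C] at h3
    omega
  obtain ⟨U, hU⟩ : IsUnit u := by
    have := IsNilpotent.isUnit_one_add (r := ε) ⟨d, hεd⟩
    rwa [hε, add_sub_cancel] at this
  set v : AdjoinRoot P := (U⁻¹ : (AdjoinRoot P)ˣ).1 with hv
  have huv : u * v = 1 := by rw [← hU, hv, Units.mul_inv]
  have hvε : v - 1 = -(v * ε) := by rw [hε, mul_sub, mul_comm v u, huv]; ring
  let st : AdjoinRoot P →+* AdjoinRoot P := AdjoinRoot.lift ((AdjoinRoot.of P).comp (C.bar : F →+* F)) v (by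
    show eval₂ _ v ((X - Polynomial.C 1) ^ d) = 0
    rw [eval₂_pow, eval₂_sub, eval₂_X, eval₂_C, map_one, hvε, neg_pow, mul_pow, hεd]
    simp)
  have hsu : st u = v := AdjoinRoot.lift_root _
  have hsof : ∀ c, st (algebraMap F _ c) = algebraMap F _ (C.bar c) := fun c => by
    rw [AdjoinRoot.algebraMap_eq]; exact AdjoinRoot.lift_of _
  have hsv : st v = u := by
    have h1 := congrArg st huv
    rw [map_mul, hsu, map_one] at h1
    calc st v = u * (v * st v) := by rw [← mul_assoc, huv, one_mul]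
      _ = u := by rw [h1, mul_one]
  have hss : ∀ x, st (st x) = x := fun x => by
    obtain ⟨g, rfl⟩ := AdjoinRoot.mk_surjective x
    induction g using Polynomial.induction_on with
    | C c => rw [AdjoinRoot.mk_C, ← AdjoinRoot.algebraMap_eq, hsof, hsof, C.bar_bar]
    | add f g hf hg => rw [map_add, map_add, map_add, hf, hg]
    | monomial k c ih =>
      rw [map_mul, map_mul, map_mul, map_pow, map_pow, map_pow, AdjoinRoot.mk_X, hsu, hsv, AdjoinRoot.mk_C,
        ← AdjoinRoot.algebraMap_eq, hsof, hsof, C.bar_bar]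
  -- the socle is one dimensional
  have hsoc : ∀ x, x ≠ 0 → ∃ y, x * y = ε ^ (d - 1) := by
    intro x hx
    obtain ⟨g, rfl⟩ := AdjoinRoot.mk_surjective x
    have hg : g ≠ 0 := fun h => hx (by rw [h, map_zero])
    obtain ⟨g', hg1, hg2⟩ := exists_eq_pow_rootMultiplicity_mul_and_not_dvd g hg (1 : F)
    generalize rootMultiplicity 1 g = j at hg1
    have hj : j < d := by
      by_contra hjd
      refine hx ((AdjoinRoot.mk_eq_zero).2 ?_)
      rw [hg1, hP]
      exact (pow_dvd_pow _ (by omega)).mul_right _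
    have hcop : IsCoprime P g' :=
      (((irreducible_X_sub_C (1 : F)).coprime_iff_not_dvd).2 hg2).pow_left
    obtain ⟨c1, c2, hc⟩ := hcop
    have h1 : AdjoinRoot.mk P c2 * AdjoinRoot.mk P g' = 1 := by
      have := congrArg (AdjoinRoot.mk P) hc
      simpa [AdjoinRoot.mk_self] using this
    refine ⟨ε ^ (d - 1 - j) * AdjoinRoot.mk P c2, ?_⟩
    have h2 : AdjoinRoot.mk P g = ε ^ j * AdjoinRoot.mk P g' := by
      rw [hg1, map_mul, map_pow, map_sub, AdjoinRoot.mk_X, AdjoinRoot.mk_C, map_one]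
    calc AdjoinRoot.mk P g * (ε ^ (d - 1 - j) * AdjoinRoot.mk P c2)
        = ε ^ (j + (d - 1 - j)) * (AdjoinRoot.mk P c2 * AdjoinRoot.mk P g') := by rw [h2, pow_add]; ring
      _ = _ := by rw [h1, mul_one, show j + (d - 1 - j) = d - 1 by omega]
  obtain ⟨l₀, hl₀⟩ := Module.Projective.exists_dual_ne_zero F hεd'
  let lb : AdjoinRoot P →ₗ[F] F :=
    { toFun := fun x => C.bar (l₀ (st x))
      map_add' := fun x y => by rw [map_add, map_add, map_add]
      map_smul' := fun c x => by
        rw [Algebra.smul_def, map_mul, hsof, ← Algebra.smul_def, map_smul, smul_eq_mul, map_mul, C.bar_bar]; rfl }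
  obtain ⟨c, hc⟩ : ∃ c : F, c * l₀ (ε ^ (d - 1)) + C.bar c * lb (ε ^ (d - 1)) ≠ 0 := by
    by_contra hcon
    push Not at hcon
    obtain ⟨y, hy⟩ := C.exists_not_fixed
    have h1 := hcon 1
    have h2 := hcon y
    rw [map_one, one_mul, one_mul] at h1
    exact hy (sub_eq_zero.1 ((mul_eq_zero.1 (show (C.bar y - y) * l₀ (ε ^ (d - 1)) = 0 by
      linear_combination (C.bar y) * h1 - h2)).resolve_right hl₀))
  let l : AdjoinRoot P →ₗ[F] F := c • l₀ + C.bar c • lb
  have hl1 : ∀ x, l x = c * l₀ x + C.bar c * C.bar (l₀ (st x)) := fun x => rfl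
  have hminu : minpoly F u = P := by
    rw [hu, AdjoinRoot.minpoly_root hPm.ne_zero, hPm.leadingCoeff, inv_one, map_one, mul_one]
  obtain ⟨A, hA⟩ := exists_su_of_algebra C (R := AdjoinRoot P) (d := d)
    (by rw [(AdjoinRoot.powerBasis hPm.ne_zero).finrank, AdjoinRoot.powerBasis_dim, hPd]) st hss hsof l
    (fun x => by rw [hl1, hl1, hss, map_add, map_mul, map_mul, C.bar_bar, C.bar_bar, add_comm])
    (fun x hx => by
      by_contra hx0
      obtain ⟨y, hy⟩ := hsoc x hx0
      exact hc (by have := hx y; rw [hy, hl1] at this; exact this))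
    u (by rw [hsu, huv])
    (by
      have h := Algebra.PowerBasis.norm_gen_eq_coeff_zero_minpoly (AdjoinRoot.powerBasis hPm.ne_zero)
      rw [AdjoinRoot.powerBasis_gen, AdjoinRoot.powerBasis_dim, hminu, hPd, coeff_zero_eq_eval_zero, hP,
        eval_pow, eval_sub, eval_X, eval_C, zero_sub, ← mul_pow, neg_one_mul, neg_neg, one_pow] at h
      exact h)
  refine ⟨A, hA.trans ?_⟩
  haveI : Nontrivial (AdjoinRoot P) := ⟨⟨_, _, hεd'⟩⟩
  haveI : CharP (AdjoinRoot P) p := charP_of_injective_algebraMap (algebraMap F (AdjoinRoot P)).injective p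
  have hiff : ∀ k, u ^ p ^ k = 1 ↔ d ≤ p ^ k := fun k => by
    have h1 : u ^ p ^ k - 1 = ε ^ p ^ k := by rw [hε, sub_pow_char_pow, one_pow]
    constructor
    · intro h
      by_contra hlt
      refine hεd' ?_
      rw [show d - 1 = p ^ k + (d - 1 - p ^ k) by omega, pow_add, ← h1, h, sub_self, zero_mul]
    · intro h
      rw [← sub_eq_zero, h1]
      exact pow_eq_zero_of_le h hεd
  have hdvd : orderOf u ∣ p ^ Nat.clog p d := orderOf_dvd_of_pow_eq_one ((hiff _).2 (Nat.le_pow_clog hp.one_lt d))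
  obtain ⟨k, hk1, hk2⟩ := (Nat.dvd_prime_pow hp).1 hdvd
  rw [hk2, le_antisymm hk1 ((Nat.clog_le_iff_le_pow hp.one_lt).2 ((hiff k).1 (hk2 ▸ pow_orderOf_eq_one u)))]

end regular

section block

variable {k m : ℕ}

omit [Fintype F] in
theorem det_blockMat (A : Matrix (Fin k) (Fin k) F) (B : Matrix (Fin m) (Fin m) F) :
    (HermStab.blockMat A B).det = A.det * B.det := by
  rw [HermStab.blockMat, Matrix.reindexAlgEquiv_apply, Matrix.det_reindex_self, Matrix.det_fromBlocks_zero₁₂]

omit [Fintype F] in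
theorem form_blockMat {A : Matrix (Fin k) (Fin k) F} {B : Matrix (Fin m) (Fin m) F}
    (hA : ∀ u v, C.form (A *ᵥ u) (A *ᵥ v) = C.form u v) (hB : ∀ u v, C.form (B *ᵥ u) (B *ᵥ v) = C.form u v)
    (u v : Fin (k + m) → F) :
    C.form (HermStab.blockMat A B *ᵥ u) (HermStab.blockMat A B *ᵥ v) = C.form u v := by
  rw [HermStab.form_split C (HermStab.blockMat A B *ᵥ u), (HermStab.blockMat_mulVec A B u).1,
    (HermStab.blockMat_mulVec A B u).2, (HermStab.blockMat_mulVec A B v).1, (HermStab.blockMat_mulVec A B v).2, hA, hB,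
    ← HermStab.form_split]

/-- Orthogonal sums. -/
def blockSU : ↥(Cfsg.SU k F q) × ↥(Cfsg.SU m F q) →* ↥(Cfsg.SU (k + m) F q) where
  toFun x := C.mkSU (HermStab.blockMat x.1.1.1 x.2.1.1) (by rw [det_blockMat, x.1.1.2, x.2.1.2, mul_one])
    (form_blockMat C (C.form_su x.1) (C.form_su x.2))
  map_one' := Subtype.ext (Subtype.ext (by
    show HermStab.blockMat 1 1 = 1
    rw [HermStab.blockMat, Matrix.fromBlocks_one, map_one]))
  map_mul' x y := Subtype.ext (Subtype.ext (by
    show HermStab.blockMat (x.1.1.1 * y.1.1.1) (x.2.1.1 * y.2.1.1) =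
      HermStab.blockMat x.1.1.1 x.2.1.1 * HermStab.blockMat y.1.1.1 y.2.1.1
    rw [HermStab.blockMat, HermStab.blockMat, HermStab.blockMat, ← map_mul, Matrix.fromBlocks_multiply]
    simp))

omit [Fintype F] in
theorem blockMat_inj {A A' : Matrix (Fin k) (Fin k) F} {B B' : Matrix (Fin m) (Fin m) F}
    (h : HermStab.blockMat A B = HermStab.blockMat A' B') : A = A' ∧ B = B' := by
  obtain ⟨e1, -, -, e2⟩ := Matrix.fromBlocks_inj.1 ((Matrix.reindexAlgEquiv F F finSumFinEquiv).injective h)
  exact ⟨e1, e2⟩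

omit [Fintype F] in
theorem blockMat_scalar (c : F) :
    HermStab.blockMat (c • (1 : Matrix (Fin k) (Fin k) F)) (c • (1 : Matrix (Fin m) (Fin m) F)) = c • 1 := by
  rw [HermStab.blockMat]
  conv_rhs => rw [← map_one (Matrix.reindexAlgEquiv F F (finSumFinEquiv (m := k) (n := m)))]
  rw [← map_smul]
  congr 1
  rw [← Matrix.fromBlocks_one, Matrix.fromBlocks_smul, smul_zero, smul_zero]

end block

end CfsgLib.Classical.HermTori
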