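import Mathlib

/-!
# Witt extension for hermitian forms over finite fields
-/

set_option autoImplicit false

namespace CfsgLib.Classical.HermWitt

open Module

variable {F : Type*} [Field F] [Finite F] {σ : F →+* F}

theorem exists_tr (hσ : σ ≠ RingHom.id F) : ∃ a : F, a + σ a ≠ 0 := by
  by_contra h
  push Not at h
  refine hσ (RingHom.ext fun a => ?_)
  have h1 := h 1
  rw [map_one] at h1
  have h2 : σ a = -a := eq_neg_of_add_eq_zero_right (h a)
  rw [h2, RingHom.id_apply, neg_eq_iff_add_eq_zero, ← one_mul a, ← add_mul, h1, zero_mul]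

theorem exists_tr_eq (hσ : σ ≠ RingHom.id F) (hσ2 : ∀ a : F, σ (σ a) = a) {c : F} (hc : σ c = c) :
    ∃ a : F, a + σ a = c := by
  obtain ⟨a, ha⟩ := exists_tr hσ
  refine ⟨c / (a + σ a) * a, ?_⟩
  rw [map_mul, map_div₀, map_add, hσ2, hc, add_comm (σ a) a, ← mul_add, div_mul_cancel₀ _ ha]

theorem exists_norm (hσ : σ ≠ RingHom.id F) (hσ2 : ∀ a : F, σ (σ a) = a) {c : F} (hc : σ c = c) :
    ∃ a : F, σ a * a = c := by
  rcases eq_or_ne c 0 with rfl | hc0
  · exact ⟨0, by simp⟩
  let s : Fˣ →* Fˣ := Units.map σ.toMonoidHom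
  let N : Fˣ →* Fˣ := s * MonoidHom.id _
  let P : Fˣ →* Fˣ := MonoidHom.id _ / s
  have hker : N.ker = P.range := by
    ext x
    constructor
    · intro hx
      have hx' : σ (x : F) * x = 1 := congrArg Units.val (MonoidHom.mem_ker.1 hx)
      obtain ⟨a, ha⟩ : ∃ a : F, a + x * σ a ≠ 0 := by
        by_contra h
        push Not at h
        refine hσ (RingHom.ext fun a => ?_)
        have h1 := h 1
        rw [map_one, mul_one] at h1
        have h2 := h a
        rw [eq_neg_of_add_eq_zero_right h1] at h2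
        rw [RingHom.id_apply]
        linear_combination -h2
      refine ⟨Units.mk0 _ ha, ?_⟩
      show Units.mk0 _ ha / s (Units.mk0 _ ha) = x
      rw [div_eq_iff_eq_mul]
      refine Units.ext ?_
      show a + x * σ a = x * σ (a + x * σ a)
      rw [map_add, map_mul, hσ2]
      linear_combination -a * hx'
    · rintro ⟨y, rfl⟩
      rw [MonoidHom.mem_ker]
      show s (y / s y) * (y / s y) = 1
      have : s (s y) = y := Units.ext (hσ2 y)
      rw [map_div, this, div_mul_div_cancel, div_self']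
  have hle : N.range ≤ P.ker := by
    rintro _ ⟨y, rfl⟩
    rw [MonoidHom.mem_ker]
    show s y * y / s (s y * y) = 1
    have : s (s y) = y := Units.ext (hσ2 y)
    rw [map_mul, this, mul_comm y, div_self']
  have hcard : Nat.card P.ker ≤ Nat.card N.range := by
    have h1 := N.ker.index_mul_card
    have h2 := P.ker.index_mul_card
    rw [Subgroup.index_ker] at h1 h2
    rw [hker, ← h2] at h1
    have : 0 < Nat.card P.range := Nat.card_pos
    nlinarith
  have heq : N.range = P.ker := Subgroup.eq_of_le_of_card_ge hle hcard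
  have hmem : Units.mk0 c hc0 ∈ P.ker := by
    rw [MonoidHom.mem_ker]
    show Units.mk0 c hc0 / s (Units.mk0 c hc0) = 1
    rw [div_eq_one]
    exact Units.ext hc.symm
  rw [← heq] at hmem
  obtain ⟨a, ha⟩ := hmem
  exact ⟨a, congrArg Units.val ha⟩

variable {V : Type*} [AddCommGroup V] [Module F V] [FiniteDimensional F V] {B : V →ₛₗ[σ] V →ₗ[F] F}

/-- Functionals on a subspace without radical are given by the form. -/
theorem exists_repr_sub {X : Submodule F V} (hX : ∀ x : V, x ∈ (X : Submodule F V) → (∀ x' ∈ X, B x x' = 0) → x = 0)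
    (f : X →ₗ[F] F) : ∃ x : X, ∀ x' : X, B (x : V) x' = f x' := by
  classical
  let T : X → (X →ₗ[F] F) := fun x => (B (x : V)).comp X.subtype
  have hT : Function.Injective T := by
    intro a b h
    refine Subtype.ext (sub_eq_zero.1 (hX _ (X.sub_mem a.2 b.2) fun x' hx' => ?_))
    rw [map_sub, LinearMap.sub_apply, sub_eq_zero]
    exact LinearMap.congr_fun h ⟨x', hx'⟩
  haveI : Finite V := Module.finite_of_finite F
  have hb : Function.Bijective T := by
    let e := (Module.finBasis F X).toDualEquiv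
    exact ⟨hT, ((Finite.injective_iff_surjective_of_equiv e.toEquiv).1 hT)⟩
  obtain ⟨x, hx⟩ := hb.2 f
  exact ⟨x, fun x' => LinearMap.congr_fun hx x'⟩

/-- Nondegeneracy of a subspace. -/
def NDeg (B : V →ₛₗ[σ] V →ₗ[F] F) (X : Submodule F V) : Prop :=
  ∀ x ∈ X, (∀ x' ∈ X, B x x' = 0) → x = 0

theorem ndeg_top (hB : B.Nondegenerate) : NDeg B ⊤ := fun x _ h => hB.1 x fun y => h y trivial

theorem exists_repr (hB : B.Nondegenerate) (Y : Submodule F V) (f : Y →ₗ[F] F) :
    ∃ w : V, ∀ y : Y, B w y = f y := by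
  obtain ⟨g, hg⟩ := LinearMap.exists_extend f
  obtain ⟨w, hw⟩ := exists_repr_sub (B := B) (X := ⊤) (ndeg_top hB) (g.comp (Submodule.subtype ⊤))
  exact ⟨w, fun y => (hw ⟨y, trivial⟩).trans (LinearMap.congr_fun hg y)⟩

/-- A vector of norm one orthogonal to a nondegenerate proper subspace. -/
theorem exists_unit (hσ : σ ≠ RingHom.id F) (hσ2 : ∀ a : F, σ (σ a) = a) (hS : B.IsSymm)
    (hB : B.Nondegenerate) {X : Submodule F V} (hX : NDeg B X) (hne : X ≠ ⊤) :
    ∃ v, (∀ x ∈ X, B x v = 0) ∧ B v v = 1 := by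
  obtain ⟨u, hu⟩ : ∃ u, u ∉ X := by
    by_contra hc
    push Not at hc
    exact hne (eq_top_iff.2 fun x _ => hc x)
  obtain ⟨x, hx⟩ := exists_repr_sub (B := B) hX ((B u).comp X.subtype)
  set z : V := u - x with hzdef
  have hz : z ≠ 0 := fun h => hu (by rw [sub_eq_zero.1 h]; exact x.2)
  have hzX : ∀ t ∈ X, B z t = 0 := fun t ht => by
    rw [hzdef, map_sub, LinearMap.sub_apply, hx ⟨t, ht⟩]
    exact sub_self _
  have hswap : ∀ {a b : V}, B a b = 0 → B b a = 0 := fun {a b} h => by rw [← hS.eq a b, h, map_zero]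
  obtain ⟨t, ht⟩ : ∃ t, B z t ≠ 0 := by
    by_contra hc
    push Not at hc
    exact hz (hB.1 z hc)
  obtain ⟨y, hy⟩ := exists_repr_sub (B := B) hX ((B t).comp X.subtype)
  set z' : V := t - y with hzdef'
  have hzX' : ∀ s ∈ X, B z' s = 0 := fun s hs => by
    rw [hzdef', map_sub, LinearMap.sub_apply, hy ⟨s, hs⟩]
    exact sub_self _
  have hzz' : B z z' ≠ 0 := by rwa [hzdef', map_sub, hzX y y.2, sub_zero]
  have hscale : ∀ w : V, (∀ r ∈ X, B w r = 0) → B w w ≠ 0 → ∃ v, (∀ x ∈ X, B x v = 0) ∧ B v v = 1 := by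
    intro w hw hne
    obtain ⟨c, hc⟩ := exists_norm hσ hσ2 (c := (B w w)⁻¹) (by rw [map_inv₀, hS.eq])
    refine ⟨c • w, fun r hr => by rw [map_smul, hswap (hw r hr), smul_zero], ?_⟩
    rw [map_smul, LinearMap.map_smulₛₗ, LinearMap.smul_apply, smul_eq_mul, smul_eq_mul, ← mul_assoc,
      mul_comm c, hc, inv_mul_cancel₀ hne]
  by_cases h1 : B z z = 0
  swap
  · exact hscale z hzX h1
  by_cases h2 : B z' z' = 0
  swap
  · exact hscale z' hzX' h2
  obtain ⟨a, ha⟩ := exists_tr_eq hσ hσ2 (c := 1) (map_one σ)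
  refine ⟨z + (a / B z z') • z', fun r hr => ?_, ?_⟩
  · rw [map_add, map_smul, hswap (hzX r hr), hswap (hzX' r hr), smul_zero, add_zero]
  · simp only [map_add, LinearMap.add_apply, LinearMap.map_smulₛₗ, LinearMap.smul_apply, smul_eq_mul,
      map_smul, h1, h2, ← hS.eq z z', map_div₀, RingHom.id_apply]
    rw [← ha, mul_zero, add_zero, zero_add, div_mul_cancel₀ _ hzz', div_mul_cancel₀ _ (by rwa [map_ne_zero])]
    ring

theorem witt_step (hσ : σ ≠ RingHom.id F) (hσ2 : ∀ a : F, σ (σ a) = a) (hS : B.IsSymm)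
    (hB : B.Nondegenerate) (X : Submodule F V) (f : X →ₗ[F] V) (hf : Function.Injective f)
    (hiso : ∀ x x' : X, B (f x) (f x') = B x x') (hX : X ≠ ⊤) :
    ∃ (v : V) (_ : v ∉ X) (w : V), w ∉ LinearMap.range f ∧ (∀ x : X, B (f x) w = B x v) ∧ B w w = B v v := by
  classical
  by_cases hrad : NDeg B X
  · have hY : NDeg B (LinearMap.range f) := by
      rintro _ ⟨x, rfl⟩ h
      have hx0 : (x : V) = 0 := hrad _ x.2 fun x' hx' => by
        rw [← hiso x ⟨x', hx'⟩]; exact h _ ⟨_, rfl⟩
      rw [show x = 0 from Subtype.ext hx0, map_zero]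
    have hYne : LinearMap.range f ≠ ⊤ := fun h => hX (Submodule.eq_top_of_finrank_eq (by
      rw [← LinearMap.finrank_range_of_inj hf, h, finrank_top]))
    obtain ⟨v, hv, hvv⟩ := exists_unit hσ hσ2 hS hB hrad hX
    obtain ⟨w, hw, hww⟩ := exists_unit hσ hσ2 hS hB hY hYne
    refine ⟨v, fun h => ?_, w, fun h => ?_, fun x => by rw [hv x x.2, hw _ ⟨x, rfl⟩], hww.trans hvv.symm⟩
    · exact one_ne_zero (hvv.symm.trans (hv v h))
    · exact one_ne_zero (hww.symm.trans (hw w h))
  · simp only [NDeg, not_forall] at hrad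
    obtain ⟨r, hr, hrad, hr0⟩ := hrad
    obtain ⟨t, ht⟩ : ∃ t, B r t ≠ 0 := by
      by_contra hc
      push Not at hc
      exact hr0 (hB.1 r hc)
    set v : V := (B r t)⁻¹ • t
    have hrv : B r v = 1 := by rw [map_smul, smul_eq_mul, inv_mul_cancel₀ ht]
    have hvX : v ∉ X := fun h => one_ne_zero (hrv.symm.trans (hrad v h))
    let e : X ≃ₗ[F] LinearMap.range f := LinearEquiv.ofInjective f hf
    obtain ⟨w₀, hw₀⟩ := exists_repr hB (LinearMap.range f) (((B v).comp X.subtype).comp e.symm.toLinearMap)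
    have hw₀' : ∀ x : X, B (f x) w₀ = B x v := fun x => by
      rw [← hS.eq w₀ (f x), ← hS.eq v x]
      refine congrArg σ ?_
      have := hw₀ (e x)
      rw [LinearEquiv.ofInjective_apply] at this
      rw [this]
      simp
    set y : V := f ⟨r, hr⟩ with hydef
    have hy : ∀ x : X, B (f x) y = 0 := fun x => by
      rw [hydef, hiso, ← hS.eq r x, hrad x x.2, map_zero]
    have hyw : B y w₀ = 1 := by rw [hydef, hw₀']; exact hrv
    have hwy : B w₀ y = 1 := by rw [← hS.eq y w₀, hyw, map_one]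
    have hyy : B y y = 0 := hy _
    obtain ⟨a, ha⟩ := exists_tr_eq hσ hσ2 (c := B v v - B w₀ w₀) (by rw [map_sub, hS.eq, hS.eq])
    refine ⟨v, hvX, w₀ + a • y, ?_, fun x => by rw [map_add, map_smul, hy, hw₀', smul_zero, add_zero], ?_⟩
    · rintro ⟨x, hx⟩
      have h1 : B y (f x) = 0 := by rw [← hS.eq (f x) y, hy, map_zero]
      rw [hx, map_add, map_smul, hyw, hyy, smul_zero, add_zero] at h1
      exact one_ne_zero h1
    · simp only [map_add, LinearMap.add_apply, LinearMap.map_smulₛₗ, LinearMap.smul_apply, smul_eq_mul,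
        map_smul, hyw, hwy, hyy, RingHom.id_apply]
      linear_combination ha

/-- Witt's lemma for injective isometric maps. -/
theorem witt (hσ : σ ≠ RingHom.id F) (hσ2 : ∀ a : F, σ (σ a) = a) (hS : B.IsSymm) (hB : B.Nondegenerate)
    (X : Submodule F V) (f : X →ₗ[F] V) (hf : Function.Injective f)
    (hiso : ∀ x x' : X, B (f x) (f x') = B x x') :
    ∃ g : V ≃ₗ[F] V, (∀ u v : V, B (g u) (g v) = B u v) ∧ ∀ x : X, g x = f x := by
  suffices H : ∀ (n : ℕ) (X : Submodule F V) (f : X →ₗ[F] V), finrank F V - finrank F X = n →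
      Function.Injective f → (∀ x x' : X, B (f x) (f x') = B x x') →
      ∃ g : V ≃ₗ[F] V, (∀ u v : V, B (g u) (g v) = B u v) ∧ ∀ x : X, g x = f x from H _ X f rfl hf hiso
  intro n
  induction n using Nat.strong_induction_on with
  | _ n ih =>
  intro X f hn hf hiso
  classical
  by_cases hX : X = ⊤
  · subst hX
    let h : V →ₗ[F] V := f.comp (LinearMap.id.codRestrict ⊤ fun _ => trivial)
    have hinj : Function.Injective h := fun a b e => congrArg Subtype.val (hf e)
    exact ⟨LinearEquiv.ofBijective h ⟨hinj, LinearMap.surjective_of_injective hinj⟩,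
      fun u v => hiso ⟨u, trivial⟩ ⟨v, trivial⟩, fun x => rfl⟩
  obtain ⟨v, hv, w, hw, hvw, hww⟩ := witt_step hσ hσ2 hS hB X f hf hiso hX
  set X' := X ⊔ F ∙ v
  have hlt : finrank F V - finrank F X' < n := by
    have hXX' : X < X' := lt_of_le_of_ne le_sup_left fun e => hv (by
      rw [e]; exact le_sup_right (α := Submodule F V) (Submodule.mem_span_singleton_self v))
    have := Submodule.finrank_lt_finrank_of_lt hXX'
    have := X'.finrank_le
    omega
  let φ : V →ₗ.[F] V := (LinearPMap.mk X f).supSpanSingleton v w hv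
  let f' : X' →ₗ[F] V := φ.toFun
  have hval : ∀ (x : X) (c : F) (h : (x : V) + c • v ∈ X'), f' ⟨(x : V) + c • v, h⟩ = f x + c • w := by
    intro x c h
    exact LinearPMap.supSpanSingleton_apply_mk _ v w hv x.1 x.2 c
  have hdec : ∀ z : X', ∃ (x : X) (c : F) (h : (x : V) + c • v ∈ X'), z = ⟨(x : V) + c • v, h⟩ := by
    intro z
    obtain ⟨a, ha, b, hb, he⟩ := Submodule.mem_sup.1 z.2
    obtain ⟨c, rfl⟩ := Submodule.mem_span_singleton.1 hb
    exact ⟨⟨a, ha⟩, c, by rw [he]; exact z.2, Subtype.ext he.symm⟩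
  obtain ⟨g, hg, hgX⟩ := ih _ hlt X' f' rfl (by
    rw [injective_iff_map_eq_zero]
    intro z hz
    obtain ⟨x, c, h, rfl⟩ := hdec z
    rw [hval] at hz
    rcases eq_or_ne c 0 with rfl | hc
    · rw [zero_smul, add_zero] at hz
      refine Subtype.ext ?_
      change (x : V) + (0 : F) • v = 0
      rw [zero_smul, add_zero]
      exact congrArg Subtype.val (hf (hz.trans (map_zero f).symm))
    · exfalso
      refine hw ⟨-(c⁻¹ • x), ?_⟩
      rw [map_neg, map_smul, eq_neg_of_add_eq_zero_left hz, smul_neg, neg_neg, inv_smul_smul₀ hc])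
    (by
      intro z z'
      obtain ⟨x, c, h, rfl⟩ := hdec z
      obtain ⟨x', c', h', rfl⟩ := hdec z'
      rw [hval, hval]
      simp only [map_add, map_smul, LinearMap.add_apply, LinearMap.smul_apply, LinearMap.map_smulₛₗ, smul_eq_mul]
      rw [hiso, hvw, ← hS.eq (f x') w, hvw, hS.eq, hww])
  refine ⟨g, hg, fun x => ?_⟩
  have h : (x : V) + (0 : F) • v ∈ X' := by
    rw [zero_smul, add_zero]; exact le_sup_left (α := Submodule F V) x.2
  have := hgX ⟨_, h⟩
  rw [hval] at this
  simpa using this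

end CfsgLib.Classical.HermWitt
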