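import Cfsg.Agent.Lib.Perm.Trans.QuadWitt

/-!
# Half-dimensional totally singular subspaces: the two families, over any field
-/

set_option autoImplicit false

namespace CfsgLib.LagParity

open QuadraticMap Module

variable {F V : Type*} [Field F] [AddCommGroup V] [Module F V] [FiniteDimensional F V]
variable {Q : QuadraticForm F V}

local notation "B" => QuadraticMap.polarBilin Q

/-- half-dimensional totally singular -/
def Lag (Q : QuadraticForm F V) (m : ℕ) (U : Submodule F V) : Prop := finrank F U = m ∧ ∀ x ∈ U, Q x = 0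

/-- the orthogonal -/
abbrev perp (Q : QuadraticForm F V) (U : Submodule F V) : Submodule F V :=
  LinearMap.BilinForm.orthogonal (QuadraticMap.polarBilin Q) U

theorem mem_perp {U : Submodule F V} {x : V} : x ∈ perp Q U ↔ ∀ u ∈ U, polar Q u x = 0 := Iff.rfl

theorem qadd (x y : V) : Q (x + y) = Q x + Q y + polar Q x y := by rw [polar]; ring

theorem finrank_perp (hQ : LinearMap.BilinForm.Nondegenerate B) (U : Submodule F V) :
    finrank F (perp Q U) = finrank F V - finrank F U :=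
  LinearMap.BilinForm.finrank_orthogonal hQ U

theorem polar_eq_zero {U : Submodule F V} (hU : ∀ x ∈ U, Q x = 0) {x y : V} (hx : x ∈ U) (hy : y ∈ U) :
    polar Q x y = 0 := by
  rw [polar, hU _ (U.add_mem hx hy), hU x hx, hU y hy, sub_zero, sub_zero]

theorem le_perp {U : Submodule F V} (hU : ∀ x ∈ U, Q x = 0) : U ≤ perp Q U :=
  fun _ hx _ hu => polar_eq_zero hU hu hx

theorem singular_sup {H : Submodule F V} (hH : ∀ x ∈ H, Q x = 0) {z : V} (hz : Q z = 0) (hzH : z ∈ perp Q H) :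
    ∀ x ∈ H ⊔ F ∙ z, Q x = 0 := by
  intro x hx
  obtain ⟨h, hh, y, hy, rfl⟩ := Submodule.mem_sup.1 hx
  obtain ⟨c, rfl⟩ := Submodule.mem_span_singleton.1 hy
  rw [qadd, hH h hh, QuadraticMap.map_smul, hz, polar_smul_right, mem_perp.1 hzH h hh]
  simp

theorem finrank_sup_span {H : Submodule F V} {z : V} (hz : z ∉ H) : finrank F ↥(H ⊔ F ∙ z) = finrank F H + 1 := by
  have h0 : z ≠ 0 := fun e => hz (e ▸ H.zero_mem)
  have hd : H ⊓ F ∙ z = ⊥ := (Submodule.disjoint_span_singleton_of_notMem hz).eq_bot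
  have := Submodule.finrank_sup_add_finrank_inf_eq H (F ∙ z)
  rw [hd, finrank_bot, finrank_span_singleton h0] at this
  omega

variable (hQ : LinearMap.BilinForm.Nondegenerate (QuadraticMap.polarBilin Q)) {m : ℕ} (hm : finrank F V = m + m)
include hQ hm

theorem perp_eq {W : Submodule F V} (hW : Lag Q m W) : perp Q W = W :=
  (Submodule.eq_of_le_of_finrank_le (le_perp hW.2) (by rw [finrank_perp hQ, hW.1, hm]; omega)).symm

/-- a totally singular subspace lies in a half-dimensional one as soon as one exists -/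
theorem exists_lag_ge {U₀ : Submodule F V} (h₀ : Lag Q m U₀) {W : Submodule F V} (hW : ∀ x ∈ W, Q x = 0) :
    ∃ W', Lag Q m W' ∧ W ≤ W' := by
  have hle : finrank F W ≤ m := by
    have := Submodule.finrank_mono (le_perp hW)
    rw [finrank_perp hQ, hm] at this
    omega
  obtain ⟨e, he⟩ : ∃ e : W →ₗ[F] U₀, Function.Injective e :=
    finrank_le_iff_exists_linearMap.1 (h₀.1.symm ▸ hle)
  obtain ⟨g, hg, hge⟩ := CfsgLib.Perm.Trans.Witt.witt_extension hQ W (U₀.subtype.comp e)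
    (U₀.injective_subtype.comp he) fun x => by rw [hW x x.2]; exact h₀.2 _ (e x).2
  refine ⟨U₀.map (g.symm : V →ₗ[F] V), ⟨(LinearEquiv.finrank_map_eq g.symm U₀).trans h₀.1, ?_⟩,
    fun x hx => ⟨g x, ?_, g.symm_apply_apply x⟩⟩
  · rintro _ ⟨y, hy, rfl⟩
    have h := hg (g.symm y)
    rw [g.apply_symm_apply] at h
    exact h.symm.trans (h₀.2 y hy)
  · rw [show g x = _ from hge ⟨x, hx⟩]
    exact (e ⟨x, hx⟩).2

/-- a singular vector orthogonal to the intersection of two adjacent members lies in one of them -/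
theorem mem_of_adjacent {W W' : Submodule F V} (hW : Lag Q m W) (hW' : Lag Q m W')
    (hadj : finrank F ↥(W ⊓ W') + 1 = m) {z : V} (hz : Q z = 0) (hzH : z ∈ perp Q (W ⊓ W')) : z ∈ W ∨ z ∈ W' := by
  have hp : perp Q (W ⊓ W') = W ⊔ W' := by
    refine (Submodule.eq_of_le_of_finrank_le (sup_le ?_ ?_) ?_).symm
    · exact fun x hx u hu => polar_eq_zero hW.2 hu.1 hx
    · exact fun x hx u hu => polar_eq_zero hW'.2 hu.2 hx
    · have := Submodule.finrank_sup_add_finrank_inf_eq W W'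
      rw [hW.1, hW'.1] at this
      rw [finrank_perp hQ, hm]
      omega
  obtain ⟨w, hw, w', hw', rfl⟩ := Submodule.mem_sup.1 (hp ▸ hzH)
  have hp0 : polar Q w w' = 0 := by
    rw [qadd, hW.2 w hw, hW'.2 w' hw', zero_add, zero_add] at hz
    exact hz
  by_cases h : w' ∈ W ⊓ W'
  · exact Or.inl (W.add_mem hw h.1)
  refine Or.inr (W'.add_mem ?_ hw')
  have hsup : (W ⊓ W') ⊔ F ∙ w' = W' := Submodule.eq_of_le_of_finrank_le
    (sup_le inf_le_right ((Submodule.span_singleton_le_iff_mem _ _).2 hw')) (by rw [finrank_sup_span h, hadj, hW'.1])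
  rw [← perp_eq hQ hm hW']
  refine mem_perp.2 fun u hu => ?_
  obtain ⟨a, ha, b, hb, rfl⟩ := Submodule.mem_sup.1 (hsup.symm ▸ hu : u ∈ (W ⊓ W') ⊔ F ∙ w')
  obtain ⟨c, rfl⟩ := Submodule.mem_span_singleton.1 hb
  rw [polar_add_left, polar_smul_left, polar_eq_zero hW.2 ha.1 hw, polar_comm Q w' w, hp0]
  simp

/-- adjacent members meet any member in dimensions of different parity -/
theorem parity_adjacent {U W W' : Submodule F V} (hU : Lag Q m U) (hW : Lag Q m W) (hW' : Lag Q m W')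
    (hadj : finrank F ↥(W ⊓ W') + 1 = m) :
    finrank F ↥(U ⊓ W) = finrank F ↥(U ⊓ W') + 1 ∨ finrank F ↥(U ⊓ W') = finrank F ↥(U ⊓ W) + 1 := by
  obtain ⟨H, hH⟩ : ∃ H, H = W ⊓ W' := ⟨_, rfl⟩
  obtain ⟨A, hA⟩ : ∃ A, A = U ⊓ H := ⟨_, rfl⟩
  rw [← hH] at hadj
  have hUH : finrank F ↥(U ⊓ perp Q H) = finrank F A + 1 := by
    have e : perp Q (U ⊔ H) = U ⊓ perp Q H := by
      refine le_antisymm (fun x hx => Submodule.mem_inf.2
        ⟨?_, mem_perp.2 fun u hu => mem_perp.1 hx u (Submodule.mem_sup_right hu)⟩) fun x hx => mem_perp.2 fun u hu => ?_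
      · have h1 : x ∈ perp Q U := mem_perp.2 fun u hu => mem_perp.1 hx u (Submodule.mem_sup_left hu)
        rwa [perp_eq hQ hm hU] at h1
      · obtain ⟨a, ha, b, hb, rfl⟩ := Submodule.mem_sup.1 hu
        rw [polar_add_left, mem_perp.1 hx.2 b hb, polar_eq_zero hU.2 ha hx.1, add_zero]
    have := Submodule.finrank_sup_add_finrank_inf_eq U H
    rw [← hA, hU.1] at this
    rw [← e, finrank_perp hQ, hm]
    have hAH : finrank F A ≤ finrank F H := Submodule.finrank_mono (hA ▸ inf_le_right)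
    omega
  obtain ⟨z, hz, hzA⟩ : ∃ z ∈ U ⊓ perp Q H, z ∉ A :=
    SetLike.not_le_iff_exists.1 fun h => by have := Submodule.finrank_mono h; omega
  have hgen : ∀ X Y : Submodule F V, Lag Q m X → Lag Q m Y → X ⊓ Y = H → z ∈ X →
      finrank F ↥(U ⊓ X) = finrank F ↥(U ⊓ Y) + 1 := by
    intro X Y hX hY hXY hzX
    have hXp : X ≤ perp Q H := fun x hx u hu => polar_eq_zero hX.2 (hXY ▸ hu : u ∈ X ⊓ Y).1 hx
    have hYp : Y ≤ perp Q H := fun x hx u hu => polar_eq_zero hY.2 (hXY ▸ hu : u ∈ X ⊓ Y).2 hx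
    have e1 : U ⊓ X = U ⊓ perp Q H := by
      refine Submodule.eq_of_le_of_finrank_le (inf_le_inf_left U hXp) ?_
      rw [hUH, ← finrank_sup_span hzA]
      exact Submodule.finrank_mono (sup_le (hA ▸ inf_le_inf_left U (hXY ▸ inf_le_left))
        ((Submodule.span_singleton_le_iff_mem _ _).2 ⟨hz.1, hzX⟩))
    have e2 : U ⊓ Y = A := by
      rw [hA]
      refine le_antisymm (fun y hy => ⟨hy.1, ?_⟩) (inf_le_inf_left U (hXY ▸ inf_le_right))
      rw [← hXY]
      refine ⟨?_, hy.2⟩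
      have : y ∈ U ⊓ X := e1.symm ▸ (⟨hy.1, hYp hy.2⟩ : y ∈ U ⊓ perp Q H)
      exact this.2
    rw [e1, e2, hUH]
  rcases mem_of_adjacent hQ hm hW hW' (hH ▸ hadj) (hU.2 z hz.1) (hH ▸ hz.2) with h | h
  · exact Or.inl (hgen W W' hW hW' hH.symm h)
  · exact Or.inr (hgen W' W hW' hW (by rw [inf_comm, hH]) h)

/-- the sum of the three distances is even -/
theorem parity_triangle {U W X : Submodule F V} (hU : Lag Q m U) (hW : Lag Q m W) (hX : Lag Q m X) :
    Even ((m - finrank F ↥(U ⊓ W)) + (m - finrank F ↥(W ⊓ X)) + (m - finrank F ↥(U ⊓ X))) := by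
  induction hd : m - finrank F ↥(W ⊓ X) using Nat.strong_induction_on generalizing W with
  | _ d ih =>
    have hle : ∀ {A C : Submodule F V}, Lag Q m A → finrank F ↥(A ⊓ C) ≤ m := fun hA =>
      hA.1 ▸ Submodule.finrank_mono inf_le_left
    by_cases h0 : d = 0
    · have e : W = X := by
        have h1 : W ⊓ X = W := Submodule.eq_of_le_of_finrank_le inf_le_left (by rw [hW.1]; omega)
        exact Submodule.eq_of_le_of_finrank_le (h1 ▸ inf_le_right) (by rw [hW.1, hX.1])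
      subst e
      rw [h0, add_zero]
      exact ⟨_, rfl⟩
    obtain ⟨x, hx, hxW⟩ : ∃ x ∈ X, x ∉ W := SetLike.not_le_iff_exists.1 fun h => h0 (by
      rw [inf_eq_right.2 h, hX.1] at hd; omega)
    obtain ⟨H, hH⟩ : ∃ H, H = W ⊓ perp Q (F ∙ x) := ⟨_, rfl⟩
    have hmem : ∀ y, y ∈ perp Q (F ∙ x) ↔ polar Q x y = 0 := fun y =>
      ⟨fun h => mem_perp.1 h x (Submodule.mem_span_singleton_self x), fun h => mem_perp.2 fun u hu => by
        obtain ⟨c, rfl⟩ := Submodule.mem_span_singleton.1 hu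
        rw [polar_smul_left, h, smul_zero]⟩
    have hHd : finrank F H + 1 = m := by
      have h1 := Submodule.finrank_sup_add_finrank_inf_eq W (perp Q (F ∙ x))
      have hx0 : x ≠ 0 := fun e => hxW (e ▸ W.zero_mem)
      have h2 : finrank F (perp Q (F ∙ x)) = m + m - 1 := by rw [finrank_perp hQ, hm, finrank_span_singleton hx0]
      have h3 : finrank F H ≠ m := fun e => hxW (by
        have h4 : H = W := Submodule.eq_of_le_of_finrank_le (hH ▸ inf_le_left) (by rw [hW.1, e])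
        rw [← perp_eq hQ hm hW]
        refine mem_perp.2 fun w hw => ?_
        rw [polar_comm]
        exact (hmem w).1 (hH ▸ h4.symm ▸ hw : w ∈ W ⊓ perp Q (F ∙ x)).2)
      have h4 := Submodule.finrank_le (W ⊔ perp Q (F ∙ x))
      rw [← hH, hW.1, h2] at h1
      rw [hm] at h4
      have h5 : finrank F H ≤ m := hW.1 ▸ Submodule.finrank_mono (hH ▸ inf_le_left)
      omega
    have hxH : x ∉ H := fun h => hxW (hH ▸ h : x ∈ W ⊓ perp Q (F ∙ x)).1
    obtain ⟨W', hW'e⟩ : ∃ W', W' = H ⊔ F ∙ x := ⟨_, rfl⟩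
    have hW' : Lag Q m W' := ⟨by rw [hW'e, finrank_sup_span hxH, hHd], hW'e ▸ singular_sup
      (fun y hy => hW.2 y (hH ▸ hy : y ∈ W ⊓ perp Q (F ∙ x)).1) (hX.2 x hx)
      (mem_perp.2 fun y hy => by rw [polar_comm]; exact (hmem y).1 (hH ▸ hy : y ∈ W ⊓ perp Q (F ∙ x)).2)⟩
    have hWW' : W ⊓ W' = H := by
      refine le_antisymm (fun y hy => ?_) (le_inf (hH ▸ inf_le_left) (hW'e ▸ le_sup_left))
      obtain ⟨a, ha, b, hb, rfl⟩ := Submodule.mem_sup.1 (hW'e ▸ hy.2)
      obtain ⟨c, rfl⟩ := Submodule.mem_span_singleton.1 hb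
      by_cases hc : c = 0
      · rw [hc, zero_smul, add_zero]; exact ha
      · exact absurd ((W.smul_mem_iff hc).1 ((W.add_mem_iff_right (hH ▸ ha : a ∈ W ⊓ perp Q (F ∙ x)).1).1 hy.1)) hxW
    have hlt : finrank F ↥(W' ⊓ X) = finrank F ↥(W ⊓ X) + 1 := by
      have hWX : W ⊓ X ≤ H := fun y hy => hH ▸ ⟨hy.1, (hmem y).2 (polar_eq_zero hX.2 hx hy.2)⟩
      have hsub : (W ⊓ X) ⊔ F ∙ x ≤ W' ⊓ X := sup_le (le_inf (hWX.trans (hW'e ▸ le_sup_left)) inf_le_right)
        ((Submodule.span_singleton_le_iff_mem _ _).2 ⟨hW'e ▸ Submodule.mem_sup_right (Submodule.mem_span_singleton_self x), hx⟩)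
      have h1 := Submodule.finrank_mono hsub
      rw [finrank_sup_span (fun h : x ∈ W ⊓ X => hxW h.1)] at h1
      rcases parity_adjacent hQ hm hX hW hW' (by rw [hWW', hHd]) with e | e <;>
        rw [inf_comm X W, inf_comm X W'] at e <;> omega
    have hle' := hle (C := X) hW'
    have h3 := ih (m - finrank F ↥(W' ⊓ X)) (by omega) hW' rfl
    rw [Nat.even_iff] at h3 ⊢
    have := hle (C := W) hU
    have := hle (C := W') hU
    rcases parity_adjacent hQ hm hU hW hW' (by rw [hWW', hHd]) with e | e <;> omega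

/-- a hyperplane of a member lies in exactly two members -/
theorem card_lag_ge {U₀ : Submodule F V} (h₀ : Lag Q m U₀) {U : Submodule F V} (hUd : finrank F U + 1 = m)
    (hUs : ∀ x ∈ U, Q x = 0) : Nat.card {W : Submodule F V // Lag Q m W ∧ U ≤ W} = 2 := by
  classical
  obtain ⟨W, hW, hUW⟩ := exists_lag_ge hQ hm h₀ hUs
  obtain ⟨v, hv, hvW⟩ : ∃ v ∈ perp Q U, v ∉ W := SetLike.not_le_iff_exists.1 fun h => by
    have := Submodule.finrank_mono h
    rw [finrank_perp hQ, hW.1, hm] at this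
    omega
  obtain ⟨w, hw, hwv⟩ : ∃ w ∈ W, polar Q w v ≠ 0 := by
    by_contra h
    push Not at h
    exact hvW (perp_eq hQ hm hW ▸ h)
  obtain ⟨v', hv'e⟩ : ∃ v', v' = v + (-(Q v) / polar Q w v) • w := ⟨_, rfl⟩
  have hv'p : v' ∈ perp Q U := mem_perp.2 fun u hu => by
    rw [hv'e, polar_add_right, polar_smul_right, mem_perp.1 hv u hu, polar_eq_zero hW.2 (hUW hu) hw]
    simp
  have hv'W : v' ∉ W := fun h => hvW (by
    have := W.sub_mem h (W.smul_mem (-(Q v) / polar Q w v) hw)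
    rwa [hv'e, add_sub_cancel_right] at this)
  have hv'Q : Q v' = 0 := by
    rw [hv'e, qadd, QuadraticMap.map_smul, hW.2 w hw, polar_smul_right, polar_comm Q v w, smul_zero, add_zero, smul_eq_mul,
      div_mul_cancel₀ _ hwv, add_neg_cancel]
  obtain ⟨W', hW'e⟩ : ∃ W', W' = U ⊔ F ∙ v' := ⟨_, rfl⟩
  have hW' : Lag Q m W' :=
    ⟨by rw [hW'e, finrank_sup_span (fun h => hv'W (hUW h)), hUd], hW'e ▸ singular_sup hUs hv'Q hv'p⟩
  have hne : W ≠ W' := fun e => hv'W (e ▸ hW'e ▸ Submodule.mem_sup_right (Submodule.mem_span_singleton_self v'))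
  have hint : W ⊓ W' = U := by
    refine (Submodule.eq_of_le_of_finrank_le (le_inf hUW (hW'e ▸ le_sup_left)) ?_).symm
    by_contra h
    have h1 : W ⊓ W' = W := Submodule.eq_of_le_of_finrank_le inf_le_left (by rw [hW.1]; omega)
    exact hne (Submodule.eq_of_le_of_finrank_le (h1 ▸ inf_le_right) (by rw [hW.1, hW'.1]))
  refine Nat.card_eq_two_iff.2 ⟨⟨W, hW, hUW⟩, ⟨W', hW', hW'e ▸ le_sup_left⟩, fun e => hne (congrArg Subtype.val e), ?_⟩
  refine Set.eq_univ_of_forall fun X => ?_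
  obtain ⟨X, hX, hUX⟩ := X
  obtain ⟨z, hz, hzU⟩ : ∃ z ∈ X, z ∉ U := SetLike.not_le_iff_exists.1 fun h => by
    have := Submodule.finrank_mono h
    rw [hX.1] at this
    omega
  have hgen : ∀ Y : Submodule F V, Lag Q m Y → U ≤ Y → z ∈ Y → X = Y := fun Y hY hUY hzY => by
    have h1 : ∀ Z : Submodule F V, Lag Q m Z → U ≤ Z → z ∈ Z → U ⊔ F ∙ z = Z := fun Z hZ hUZ hzZ =>
      Submodule.eq_of_le_of_finrank_le (sup_le hUZ ((Submodule.span_singleton_le_iff_mem _ _).2 hzZ))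
        (by rw [finrank_sup_span hzU, hZ.1, hUd])
    rw [← h1 X hX hUX hz, h1 Y hY hUY hzY]
  rcases mem_of_adjacent hQ hm hW hW' (by rw [hint, hUd]) (hX.2 z hz)
      (hint.symm ▸ fun u hu => polar_eq_zero hX.2 (hUX hu) hz) with h | h
  · exact Or.inl (Subtype.ext (hgen W hW hUW h))
  · exact Or.inr (Subtype.ext (hgen W' hW' (hW'e ▸ le_sup_left) h))

omit hm in
/-- maximal totally singular subspaces have one dimension -/
theorem max_finrank_le {W₁ W₂ : Submodule F V} (h₁ : ∀ w ∈ W₁, Q w = 0) (h₂ : ∀ w ∈ W₂, Q w = 0)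
    (hmax : ∀ W : Submodule F V, W₁ ≤ W → (∀ w ∈ W, Q w = 0) → W = W₁) : finrank F W₂ ≤ finrank F W₁ := by
  by_contra hcon
  push Not at hcon
  obtain ⟨e, he⟩ : ∃ e : W₁ →ₗ[F] W₂, Function.Injective e :=
    finrank_le_iff_exists_linearMap.1 hcon.le
  obtain ⟨g, hg, hge⟩ := CfsgLib.Perm.Trans.Witt.witt_extension hQ W₁ (W₂.subtype.comp e)
    (W₂.injective_subtype.comp he) fun x => by rw [h₁ x x.2]; exact h₂ _ (e x).2
  have h := hmax (W₂.map (g.symm : V →ₗ[F] V)) (fun x hx => ⟨g x, by rw [show g x = _ from hge ⟨x, hx⟩]; exact (e ⟨x, hx⟩).2,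
    g.symm_apply_apply x⟩) (by
    rintro _ ⟨y, hy, rfl⟩
    have h := hg (g.symm y)
    rw [g.apply_symm_apply] at h
    exact h.symm.trans (h₂ y hy))
  have h2 : finrank F ↥(W₂.map (g.symm : V →ₗ[F] V)) = finrank F W₂ := LinearEquiv.finrank_map_eq g.symm W₂
  rw [h] at h2
  omega

end CfsgLib.LagParity
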