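import Mathlib
import Cfsg.Agent.Lib.Classical.SpOrders
import Cfsg.Agent.Lib.Classical.SpOrder
import Cfsg.Agent.Lib.Classical.PSL2Spectrum
import Cfsg.Agent.Lib.Classical.SLBasic

/-!
Sylow subgroups of `GL_n`, `SL_n` and `Sp_2n` for primes exceeding the dimension are homocyclic.
-/

set_option autoImplicit false

namespace CfsgLib.Classical.LargePrime

open Matrix Polynomial Finset

/-- The exponent: the `r`-part of `q ^ d - 1`. -/
noncomputable def ee (q r : ℕ) : ℕ := padicValNat r (q ^ orderOf (q : ZMod r) - 1)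

section arith

variable {q r : ℕ} [Fact r.Prime]

theorem ord_pos (hrq : ¬ r ∣ q) : 0 < orderOf (q : ZMod r) := by
  have hne : (q : ZMod r) ≠ 0 := fun h => hrq ((ZMod.natCast_eq_zero_iff _ _).1 h)
  exact IsOfFinOrder.orderOf_pos (isOfFinOrder_iff_pow_eq_one.2
    ⟨r - 1, by have := (Fact.out (p := r.Prime)).two_le; omega, ZMod.pow_card_sub_one_eq_one hne⟩)

theorem dvd_iff_ord (hq : 1 ≤ q) (i : ℕ) : r ∣ q ^ i - 1 ↔ orderOf (q : ZMod r) ∣ i := by
  rw [← ZMod.natCast_eq_zero_iff, Nat.cast_sub (Nat.one_le_pow _ _ hq), Nat.cast_pow, Nat.cast_one, sub_eq_zero,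
    orderOf_dvd_iff_pow_eq_one]

theorem val_sub_one (hq : 2 ≤ q) (hr2 : r ≠ 2) (hrq : ¬ r ∣ q) {i : ℕ} (hi : i ≠ 0)
    (hd : orderOf (q : ZMod r) ∣ i) (hlt : ¬ r ∣ i / orderOf (q : ZMod r)) :
    padicValNat r (q ^ i - 1) = ee q r := by
  obtain ⟨k, rfl⟩ := hd
  rw [Nat.mul_div_cancel_left _ (ord_pos hrq)] at hlt
  rw [pow_mul, ee]
  have hk : k ≠ 0 := right_ne_zero_of_mul hi
  have h := padicValNat.pow_sub_pow (p := r) (x := q ^ orderOf (q : ZMod r)) (y := 1)
    ((Fact.out (p := r.Prime)).odd_of_ne_two hr2) (Nat.one_lt_pow (ord_pos hrq).ne' (by omega))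
    ((dvd_iff_ord (by omega) _).2 dvd_rfl) (fun h => hrq ((Fact.out (p := r.Prime)).dvd_of_dvd_pow h)) hk
  rwa [one_pow, padicValNat.eq_zero_of_not_dvd hlt, add_zero] at h

theorem val_prod {ι : Type*} (s : Finset ι) (f : ι → ℕ) (hf : ∀ i ∈ s, f i ≠ 0) :
    padicValNat r (∏ i ∈ s, f i) = ∑ i ∈ s, padicValNat r (f i) := by
  classical
  induction s using Finset.induction_on with
  | empty => simp
  | insert i s hi ih =>
    rw [Finset.prod_insert hi, Finset.sum_insert hi, padicValNat.mul (hf i (Finset.mem_insert_self i s))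
      (Finset.prod_ne_zero_iff.2 fun j hj => hf j (Finset.mem_insert_of_mem hj)),
      ih fun j hj => hf j (Finset.mem_insert_of_mem hj)]

theorem val_pow_zero (hrq : ¬ r ∣ q) (k : ℕ) : padicValNat r (q ^ k) = 0 :=
  padicValNat.eq_zero_of_not_dvd fun h => hrq ((Fact.out (p := r.Prime)).dvd_of_dvd_pow h)

theorem val_range (hq : 2 ≤ q) (hr2 : r ≠ 2) (hrq : ¬ r ∣ q) (n : ℕ) (g : ℕ → ℕ) (hg : ∀ i ∈ Finset.Icc 1 n, g i ≠ 0)
    (hlt : ∀ i ∈ Finset.Icc 1 n, orderOf (q : ZMod r) ∣ g i → ¬ r ∣ g i / orderOf (q : ZMod r)) :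
    padicValNat r (∏ i ∈ Finset.Icc 1 n, (q ^ g i - 1)) =
      ((Finset.Icc 1 n).filter fun i => orderOf (q : ZMod r) ∣ g i).card * ee q r := by
  rw [val_prod, Finset.card_filter, Finset.sum_mul]
  · refine Finset.sum_congr rfl fun i hi => ?_
    split_ifs with hd
    · rw [one_mul, val_sub_one hq hr2 hrq (hg i hi) hd (hlt i hi hd)]
    · rw [zero_mul, padicValNat.eq_zero_of_not_dvd fun h => hd ((dvd_iff_ord (by omega) _).1 h)]
  · intro i hi h
    have := Nat.one_lt_pow (hg i hi) (show 1 < q by omega)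
    omega

theorem ee_eq (hq : 2 ≤ q) (hrq : ¬ r ∣ q) :
    padicValNat r ((Polynomial.cyclotomic (orderOf (q : ZMod r)) ℤ).eval (q : ℤ)).natAbs = ee q r := by
  set d := orderOf (q : ZMod r) with hd
  have hd0 : 0 < d := ord_pos hrq
  have hq1 : (1 : ℤ) < (q : ℤ) := by exact_mod_cast hq
  have h := congrArg (fun P => Int.natAbs (Polynomial.eval (q : ℤ) P)) (Polynomial.prod_cyclotomic_eq_X_pow_sub_one hd0 ℤ)
  simp only [Polynomial.eval_prod, Polynomial.eval_sub, Polynomial.eval_pow, Polynomial.eval_X,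
    Polynomial.eval_one] at h
  rw [show ((q : ℤ) ^ d - 1).natAbs = q ^ d - 1 by
    rw [show (q : ℤ) ^ d - 1 = ((q ^ d - 1 : ℕ) : ℤ) by push_cast [Nat.cast_sub (Nat.one_le_pow _ _ (show 0 < q by omega))]; ring,
      Int.natAbs_natCast], ← Int.natAbsHom_apply, map_prod] at h
  simp only [Int.natAbsHom_apply] at h
  have hne : ∀ j, 0 < j → ((Polynomial.cyclotomic j ℤ).eval (q : ℤ)).natAbs ≠ 0 := fun j _ => by
    rw [Int.natAbs_ne_zero]; exact (Polynomial.cyclotomic_pos' j hq1).ne'
  rw [ee, ← hd, ← h, val_prod _ _ fun j hj => hne j (Nat.pos_of_mem_divisors hj),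
    Finset.sum_eq_single d]
  · intro j hj hjd
    refine padicValNat.eq_zero_of_not_dvd fun hr => ?_
    have hjd' := Nat.dvd_of_mem_divisors hj
    refine hjd (Nat.dvd_antisymm hjd' ((dvd_iff_ord (r := r) (by omega) j).1 (hr.trans ?_)))
    rw [← Int.natCast_dvd_natCast, Nat.cast_sub (Nat.one_le_pow _ _ (show 0 < q by omega))]
    push_cast
    have := Polynomial.eval_dvd (x := (q : ℤ)) (Polynomial.cyclotomic.dvd_X_pow_sub_one j ℤ)
    simp only [Polynomial.eval_sub, Polynomial.eval_pow, Polynomial.eval_X, Polynomial.eval_one] at this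
    exact (abs_dvd _ _).2 this
  · exact fun h => absurd (Nat.mem_divisors_self d hd0.ne') h

end arith

/-- A group with a homocyclic subgroup of full `r`-order. -/
theorem sylow_equiv {G : Type*} [Group G] [Finite G] {r : ℕ} [Fact r.Prime] (e a : ℕ)
    (φ : (Fin a → Multiplicative (ZMod (r ^ e))) →* G) (hφ : Function.Injective φ)
    (hcard : padicValNat r (Nat.card G) = a * e) (P : Sylow r G) :
    Nonempty (↥(P : Subgroup G) ≃* (Fin a → Multiplicative (ZMod (r ^ e)))) := by
  have hc : Nat.card φ.range = r ^ (Nat.card G).factorization r := by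
    rw [Nat.factorization_def _ Fact.out, hcard, ← Nat.card_congr (MonoidHom.ofInjective hφ).toEquiv,
      Nat.card_pi, Finset.prod_const, Finset.card_univ, Fintype.card_fin, Nat.card_congr Multiplicative.toAdd,
      Nat.card_zmod, ← pow_mul, mul_comm]
  exact ⟨(P.equiv (Sylow.ofCard φ.range hc)).trans (MonoidHom.ofInjective hφ).symm⟩

theorem exists_cyclic_hom {G : Type*} [Group G] [Finite G] {N : ℕ} [NeZero N] (g : G) (hg : orderOf g = N) :
    ∃ φ : Multiplicative (ZMod N) →* G, Function.Injective φ := by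
  haveI : IsCyclic (Multiplicative (ZMod N)) := isCyclic_multiplicative
  let e := mulEquivOfCyclicCardEq (G := Multiplicative (ZMod N)) (G' := Subgroup.zpowers g)
    (by rw [Nat.card_congr Multiplicative.toAdd, Nat.card_zmod, Nat.card_zpowers, hg])
  exact ⟨(Subgroup.zpowers g).subtype.comp e.toMonoidHom, Subtype.val_injective.comp e.injective⟩

variable {F : Type*} [Field F] [Fintype F]

theorem pad_hom {b n : ℕ} (h : b ≤ n) :
    ∃ φ : GL (Fin b) F →* GL (Fin n) F, Function.Injective φ := by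
  let e : Fin b ⊕ Fin (n - b) ≃ Fin n := finSumFinEquiv.trans (finCongr (by omega))
  let f : Matrix (Fin b) (Fin b) F →* Matrix (Fin n) (Fin n) F :=
    { toFun := fun A => (Matrix.fromBlocks A 0 0 (1 : Matrix (Fin (n - b)) (Fin (n - b)) F)).submatrix e.symm e.symm
      map_one' := by simp
      map_mul' := fun A B => by rw [Matrix.submatrix_mul_equiv, Matrix.fromBlocks_multiply]; simp }
  refine ⟨Units.map f, fun A B hAB => Units.ext ?_⟩
  have h1 : f A.1 = f B.1 := congrArg Units.val hAB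
  ext i j
  have h2 := congrFun (congrFun h1 (e (.inl i))) (e (.inl j))
  simpa [f] using h2

theorem torus_hom (a d n : ℕ) (had : a * d ≤ n) :
    ∃ φ : (Fin a → GL (Fin d) F) →* GL (Fin n) F, Function.Injective φ := by
  obtain ⟨π, hπ⟩ := pad_hom (F := F) had
  let e : Fin d × Fin a ≃ Fin (a * d) := finProdFinEquiv.trans (finCongr (mul_comm d a))
  let f : (Fin a → Matrix (Fin d) (Fin d) F) →* Matrix (Fin (a * d)) (Fin (a * d)) F :=
    { toFun := fun M => (Matrix.blockDiagonal M).submatrix e.symm e.symm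
      map_one' := by simp
      map_mul' := fun A B => by rw [Matrix.submatrix_mul_equiv, ← Matrix.blockDiagonal_mul]; rfl }
  let g := (Units.map f).comp (MulEquiv.piUnits (M := fun _ : Fin a => Matrix (Fin d) (Fin d) F)).symm.toMonoidHom
  refine ⟨π.comp g, hπ.comp fun A B hAB => funext fun k => Units.ext ?_⟩
  ext i j
  have h2 := congrArg (fun A : GL (Fin (a * d)) F => A.1 (e (i, k)) (e (j, k))) hAB
  simpa [g, f] using h2

theorem exists_gl_element (d N : ℕ) (hd : 1 ≤ d) (hN : N ∣ Fintype.card F ^ d - 1) :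
    ∃ g : GL (Fin d) F, orderOf g = N := by
  classical
  obtain ⟨p, hp⟩ := CharP.exists F
  haveI := hp
  haveI : Fact p.Prime := ⟨CharP.char_is_prime F p⟩
  let K := FiniteField.Extension F p d
  haveI : NeZero d := ⟨by omega⟩
  have hfin : Module.finrank F K = d := FiniteField.finrank_extension F p d
  haveI : Finite K := Module.finite_of_finite F
  letI : Fintype K := Fintype.ofFinite K
  have hcard : Fintype.card K = Fintype.card F ^ d := by rw [Module.card_eq_pow_finrank (K := F), hfin]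
  let b := Module.finBasisOfFinrankEq F K hfin
  let f := Units.map (Algebra.leftMulMatrix b).toRingHom.toMonoidHom
  have hf : Function.Injective f := Units.map_injective (Algebra.leftMulMatrix_injective b)
  obtain ⟨x, hx⟩ := IsCyclic.exists_ofOrder_eq_natCard (α := Kˣ)
  rw [Nat.card_eq_fintype_card, Fintype.card_units, hcard] at hx
  exact ⟨f (x ^ (orderOf x / N)), by
    rw [orderOf_injective f hf, orderOf_pow_orderOf_div (orderOf_pos x).ne' (hx ▸ hN)]⟩

theorem card_gl_eq (n : ℕ) :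
    Nat.card (GL (Fin n) F) = Fintype.card F ^ (n * (n - 1) / 2) * ∏ i ∈ Finset.Icc 1 n, (Fintype.card F ^ i - 1) := by
  set q := Fintype.card F
  rw [Matrix.card_GL_field, ← Finset.prod_range (fun i => q ^ n - q ^ i), ← Finset.sum_range_id,
    ← Finset.prod_pow_eq_pow_sum]
  have : ∀ i ∈ Finset.range n, q ^ n - q ^ i = q ^ i * (q ^ (n - i) - 1) := fun i hi => by
    rw [Nat.mul_sub, ← pow_add, Nat.add_sub_cancel' (Finset.mem_range.1 hi).le, mul_one]
  rw [Finset.prod_congr rfl this, Finset.prod_mul_distrib]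
  congr 1
  refine Finset.prod_bij' (fun i _ => n - i) (fun i _ => n - i) ?_ ?_ ?_ ?_ ?_ <;>
    intro i hi <;> simp only [Finset.mem_range, Finset.mem_Icc] at * <;> first | omega | rfl

theorem count_dvd (n d : ℕ) : ((Finset.Icc 1 n).filter fun i => d ∣ i).card = n / d := by
  rw [← Nat.Ioc_filter_dvd_card_eq_div n d]
  congr 1

variable {q r : ℕ} [Fact r.Prime]

theorem val_gl (hq : Fintype.card F = q) (hr2 : r ≠ 2) (n : ℕ) (hrn : n < r) (hrq : ¬ r ∣ q) :
    padicValNat r (Nat.card (GL (Fin n) F)) = n / orderOf (q : ZMod r) * ee q r := by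
  have hq2 : 2 ≤ q := hq ▸ Fintype.one_lt_card
  rw [card_gl_eq, hq, padicValNat.mul (pow_ne_zero _ (by omega)), val_pow_zero hrq, zero_add,
    val_range hq2 hr2 hrq n (fun i => i) (fun i hi => by simp at hi; omega), count_dvd]
  · intro i hi hd hri
    simp only [Finset.mem_Icc] at hi
    have h1 : i / orderOf (q : ZMod r) ≤ i := Nat.div_le_self _ _
    rcases Nat.eq_zero_or_pos (i / orderOf (q : ZMod r)) with h0 | h0
    · have := Nat.div_mul_cancel hd; rw [h0, zero_mul] at this; omega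
    · have := Nat.le_of_dvd h0 hri; omega
  · refine Finset.prod_ne_zero_iff.2 fun i hi => ?_
    simp only [Finset.mem_Icc] at hi
    have := Nat.one_lt_pow (show i ≠ 0 by omega) (show 1 < q by omega)
    omega

theorem gl_hom (hq : Fintype.card F = q) (n : ℕ) (hrq : ¬ r ∣ q) :
    ∃ φ : (Fin (n / orderOf (q : ZMod r)) → Multiplicative (ZMod (r ^ ee q r))) →* GL (Fin n) F,
      Function.Injective φ := by
  set d := orderOf (q : ZMod r)
  obtain ⟨g, hg⟩ := exists_gl_element (F := F) d (r ^ ee q r) (ord_pos hrq) (by rw [hq]; exact pow_padicValNat_dvd)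
  haveI : NeZero (r ^ ee q r) := ⟨pow_ne_zero _ (Fact.out (p := r.Prime)).ne_zero⟩
  obtain ⟨c, hc⟩ := exists_cyclic_hom g hg
  obtain ⟨t, ht⟩ := torus_hom (F := F) (n / d) d n (Nat.div_mul_le_self n d)
  exact ⟨t.comp (MonoidHom.pi fun i => c.comp (Pi.evalMonoidHom _ i)),
    ht.comp fun x y h => funext fun i => hc (congrFun h i)⟩

theorem gl_sylow (hq : Fintype.card F = q) (n : ℕ) (hrn : n < r) (hrq : ¬ r ∣ q) (P : Sylow r (GL (Fin n) F)) :
    Nonempty (↥(P : Subgroup (GL (Fin n) F)) ≃* (Fin (n / orderOf (q : ZMod r)) →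
        Multiplicative (ZMod (r ^ padicValNat r
          ((Polynomial.cyclotomic (orderOf (q : ZMod r)) ℤ).eval (q : ℤ)).natAbs)))) := by
  have hq2 : 2 ≤ q := hq ▸ Fintype.one_lt_card
  rw [ee_eq hq2 hrq]
  obtain ⟨φ, hφ⟩ := gl_hom (F := F) (r := r) hq n hrq
  refine sylow_equiv _ _ φ hφ ?_ P
  rcases eq_or_ne r 2 with rfl | hr2
  · -- only `n ≤ 1` remains
    haveI : Fact (Nat.Prime 2) := ⟨Nat.prime_two⟩
    have hd : orderOf (q : ZMod 2) = 1 := by
      rw [orderOf_eq_one_iff, ZMod.natCast_eq_one_iff_odd]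
      exact Nat.not_even_iff_odd.1 fun h => hrq h.two_dvd
    rw [hd, Nat.div_one, card_gl_eq, hq, ee, hd, pow_one]
    interval_cases n <;> simp
  · exact val_gl hq hr2 n hrn hrq

theorem sl_sylow (hq : Fintype.card F = q) (n : ℕ) (hrn : n < r) (hrq : ¬ r ∣ q)
    (P : Sylow r (Matrix.SpecialLinearGroup (Fin n) F)) :
    Nonempty (↥(P : Subgroup (Matrix.SpecialLinearGroup (Fin n) F)) ≃*
      (Fin ((Finset.Icc 2 n).filter (fun i => orderOf (q : ZMod r) ∣ i)).card →
        Multiplicative (ZMod (r ^ padicValNat r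
          ((Polynomial.cyclotomic (orderOf (q : ZMod r)) ℤ).eval (q : ℤ)).natAbs)))) := by
  classical
  have hq2 : 2 ≤ q := hq ▸ Fintype.one_lt_card
  rw [ee_eq hq2 hrq]
  set d := orderOf (q : ZMod r) with hd
  haveI : NeZero (r ^ ee q r) := ⟨pow_ne_zero _ (Fact.out (p := r.Prime)).ne_zero⟩
  rcases Nat.lt_or_ge n 2 with hn | hn
  · haveI : Subsingleton (Matrix.SpecialLinearGroup (Fin n) F) := ⟨fun A B => by
      interval_cases n
      · exact Subtype.ext (Subsingleton.elim _ _)
      · have hA := A.2; have hB := B.2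
        rw [Matrix.det_fin_one] at hA hB
        refine Subtype.ext (Matrix.ext fun i j => ?_)
        rw [Subsingleton.elim i 0, Subsingleton.elim j 0, hA, hB]⟩
    rw [show (Finset.Icc 2 n).filter (fun i => d ∣ i) = ∅ by rw [Finset.Icc_eq_empty (by omega)]; rfl, Finset.card_empty]
    exact ⟨MulEquiv.mk (equivOfSubsingletonOfSubsingleton (fun _ => fun i => i.elim0) (fun _ => 1))
      (fun _ _ => funext fun i => i.elim0)⟩
  have hr2 : r ≠ 2 := by omega
  have hvsl : padicValNat r (q - 1) + padicValNat r (Nat.card (Matrix.SpecialLinearGroup (Fin n) F)) =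
      n / d * ee q r := by
    rw [← val_gl (F := F) hq hr2 n hrn hrq, ← padicValNat.mul (by omega) Nat.card_pos.ne', ← hq,
      CfsgLib.Classical.card_sl_mul (by omega), Matrix.card_GL_field]
  by_cases hd1 : d = 1
  · rw [show (Finset.Icc 2 n).filter (fun i => d ∣ i) = Finset.Icc 2 n from
      Finset.filter_true_of_mem fun i _ => hd1 ▸ one_dvd i, Nat.card_Icc]
    obtain ⟨m, rfl⟩ : ∃ m, n = m + 1 := ⟨n - 1, by omega⟩
    rw [show m + 1 + 1 - 2 = m by omega]
    have hdvd : r ^ ee q r ∣ Fintype.card Fˣ := by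
      rw [Fintype.card_units, hq, ee, ← hd, hd1, pow_one]; exact pow_padicValNat_dvd
    obtain ⟨x, hx⟩ := IsCyclic.exists_ofOrder_eq_natCard (α := Fˣ)
    rw [Nat.card_eq_fintype_card] at hx
    obtain ⟨c, hc⟩ := exists_cyclic_hom (N := r ^ ee q r) (x ^ (orderOf x / r ^ ee q r))
      (orderOf_pow_orderOf_div (orderOf_pos x).ne' (hx ▸ hdvd))
    let u : (Fin m → Multiplicative (ZMod (r ^ ee q r))) → Fin (m + 1) → F :=
      fun f => Fin.snoc (fun i => ((c (f i) : Fˣ) : F)) (((∏ i, c (f i))⁻¹ : Fˣ) : F)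
    have hu : ∀ f g, u (f * g) = u f * u g := fun f g => funext fun i => by
      refine Fin.lastCases ?_ (fun j => ?_) i
      · simp only [u, Pi.mul_apply, Fin.snoc_last, map_mul, Finset.prod_mul_distrib, mul_inv, Units.val_mul]
      · simp only [u, Pi.mul_apply, Fin.snoc_castSucc, map_mul, Units.val_mul]
    let φ : (Fin m → Multiplicative (ZMod (r ^ ee q r))) →* Matrix.SpecialLinearGroup (Fin (m + 1)) F :=
      MonoidHom.mk' (fun f => ⟨Matrix.diagonal (u f), by
        rw [Matrix.det_diagonal, Fin.prod_univ_castSucc]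
        simp only [u, Fin.snoc_castSucc, Fin.snoc_last]
        rw [← Units.coe_prod, ← Units.val_mul, mul_inv_cancel, Units.val_one]⟩)
        (fun f g => Subtype.ext (by
          show Matrix.diagonal (u (f * g)) = Matrix.diagonal (u f) * Matrix.diagonal (u g)
          rw [Matrix.diagonal_mul_diagonal, hu]; rfl))
    have hφ : Function.Injective φ := fun f g h => funext fun i => hc (Units.ext (by
      have h2 : Matrix.diagonal (u f) i.castSucc i.castSucc = Matrix.diagonal (u g) i.castSucc i.castSucc :=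
        congrArg (fun A : Matrix.SpecialLinearGroup (Fin (m + 1)) F => A.1 i.castSucc i.castSucc) h
      simpa [u] using h2))
    refine sylow_equiv _ _ φ hφ ?_ P
    rw [hd1, Nat.div_one, show padicValNat r (q - 1) = ee q r by rw [ee, ← hd, hd1, pow_one]] at hvsl
    rw [Nat.succ_mul] at hvsl
    omega
  · rw [show (Finset.Icc 2 n).filter (fun i => d ∣ i) = (Finset.Icc 1 n).filter fun i => d ∣ i by
      ext i
      simp only [Finset.mem_filter, Finset.mem_Icc]
      refine ⟨fun h => ⟨⟨by omega, h.1.2⟩, h.2⟩, fun h => ⟨⟨?_, h.1.2⟩, h.2⟩⟩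
      by_contra hi
      exact hd1 (Nat.dvd_one.1 (by rw [show i = 1 by omega] at h; exact h.2)), count_dvd]
    have h0 : padicValNat r (q - 1) = 0 := padicValNat.eq_zero_of_not_dvd fun h =>
      hd1 (Nat.dvd_one.1 ((dvd_iff_ord (r := r) (by omega) 1).1 (by rwa [pow_one])))
    rw [h0, zero_add] at hvsl
    obtain ⟨φ, hφ⟩ := gl_hom (F := F) (r := r) hq n hrq
    -- the image lies in `SL`
    have hdet : ∀ f, (φ f).1.det = 1 := by
      intro f
      have h1 : (Units.map (Matrix.detMonoidHom (n := Fin n) (R := F)) (φ f)) ^ r ^ ee q r = 1 := by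
        have hf : f ^ r ^ ee q r = 1 := funext fun i => Multiplicative.toAdd.injective (by simp)
        rw [← map_pow, ← map_pow φ, hf, map_one, map_one]
      have h2 : (Units.map (Matrix.detMonoidHom (n := Fin n) (R := F)) (φ f)) ^ (q - 1) = 1 := by
        rw [show q - 1 = Fintype.card Fˣ by rw [Fintype.card_units, hq]]; exact pow_card_eq_one
      have hco : Nat.gcd (r ^ ee q r) (q - 1) = 1 := Nat.Coprime.pow_left _
        ((Fact.out (p := r.Prime)).coprime_iff_not_dvd.2 fun h =>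
          hd1 (Nat.dvd_one.1 ((dvd_iff_ord (r := r) (by omega) 1).1 (by rwa [pow_one]))))
      have h3 := pow_gcd_eq_one.2 ⟨h1, h2⟩
      rw [hco, pow_one] at h3
      exact congrArg Units.val h3
    let ψ : (Fin (n / d) → Multiplicative (ZMod (r ^ ee q r))) →* Matrix.SpecialLinearGroup (Fin n) F :=
      MonoidHom.mk' (fun f => ⟨(φ f).1, hdet f⟩) fun f g => Subtype.ext (congrArg Units.val (map_mul φ f g))
    exact sylow_equiv _ _ ψ (fun f g h => hφ (Units.ext (congrArg Subtype.val h))) hvsl P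

theorem sp_hom (k : ℕ) {G : Type*} [Monoid G] (c : G →* Matrix.symplecticGroup (Fin k) F) (hc : Function.Injective c) :
    ∀ a : ℕ, ∃ φ : (Fin a → G) →* Matrix.symplecticGroup (Fin (k * a)) F, Function.Injective φ
  | 0 => ⟨1, fun x y _ => funext fun i => i.elim0⟩
  | a + 1 => by
    obtain ⟨φ, hφ⟩ := sp_hom k c hc a
    let t : (Fin (a + 1) → G) →* Matrix.symplecticGroup (Fin (k * a + k)) F :=
      (CfsgLib.Classical.SpOrders.blockHom (k * a) k).comp
        ((φ.comp (MonoidHom.pi fun i : Fin a => Pi.evalMonoidHom (fun _ => G) i.castSucc)).prod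
          (c.comp (Pi.evalMonoidHom (fun _ => G) (Fin.last a))))
    refine ⟨t, fun x y h => ?_⟩
    obtain ⟨h1, h2⟩ := CfsgLib.Classical.SpOrders.bmat_inj (congrArg Subtype.val h)
    exact funext fun i => Fin.lastCases (hc (Subtype.ext h2)) (fun j => congrFun (hφ (Subtype.ext h1)) j) i

theorem card_sp_eq (n : ℕ) : ∃ m : ℕ, Nat.card (Matrix.symplecticGroup (Fin n) F) =
    Fintype.card F ^ m * ∏ i ∈ Finset.Icc 1 n, (Fintype.card F ^ (2 * i) - 1) := by
  induction n with
  | zero =>
    refine ⟨0, ?_⟩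
    rw [Finset.Icc_eq_empty (by omega), Finset.prod_empty]
    exact Nat.card_eq_one_iff_unique.2 ⟨inferInstance, ⟨1⟩⟩
  | succ n ih =>
    obtain ⟨m, hm⟩ := ih
    refine ⟨2 * n + 1 + m, ?_⟩
    rw [CfsgLib.Classical.card_symplectic_succ, hm, Finset.prod_Icc_succ_top (by omega), pow_add]
    ring

theorem sp_sylow (hq : Fintype.card F = q) (n : ℕ) (hr2 : r ≠ 2) (hrn : n < r) (hrq : ¬ r ∣ q)
    (P : Sylow r ↥(Matrix.symplecticGroup (Fin n) F)) :
    Nonempty (↥(P : Subgroup ↥(Matrix.symplecticGroup (Fin n) F)) ≃*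
      (Fin ((Finset.Icc 1 n).filter (fun i => orderOf (q : ZMod r) ∣ 2 * i)).card →
        Multiplicative (ZMod (r ^ padicValNat r
          ((Polynomial.cyclotomic (orderOf (q : ZMod r)) ℤ).eval (q : ℤ)).natAbs)))) := by
  classical
  have hq2 : 2 ≤ q := hq ▸ Fintype.one_lt_card
  rw [ee_eq hq2 hrq]
  set d := orderOf (q : ZMod r) with hd
  have hd0 : 0 < d := ord_pos hrq
  have hrp : r.Prime := Fact.out
  haveI : NeZero (r ^ ee q r) := ⟨pow_ne_zero _ hrp.ne_zero⟩
  obtain ⟨k, hk1, hki, g, hg⟩ : ∃ k : ℕ, 1 ≤ k ∧ (∀ i, d ∣ 2 * i ↔ k ∣ i) ∧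
      ∃ g : Matrix.symplecticGroup (Fin k) F, orderOf g = r ^ ee q r := by
    obtain ⟨p, hp⟩ := CharP.exists F
    haveI := hp
    haveI : Fact p.Prime := ⟨CharP.char_is_prime F p⟩
    have key : ∀ k : ℕ, 1 ≤ k →
        (r ^ ee q r ∣ q ^ k - 1 ∨ r ^ ee q r ∣ q ^ k + 1) → ∃ g : Matrix.symplecticGroup (Fin k) F, orderOf g = r ^ ee q r := by
      intro k hk h
      let K := FiniteField.Extension F p k
      haveI : NeZero k := ⟨by omega⟩
      have hfin : Module.finrank F K = k := FiniteField.finrank_extension F p k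
      haveI : Finite K := Module.finite_of_finite F
      letI : Fintype K := Fintype.ofFinite K
      have hcard : Fintype.card K = q ^ k := by rw [Module.card_eq_pow_finrank (K := F), hfin, hq]
      obtain ⟨φ, hφ, -⟩ := CfsgLib.Classical.SpOrders.exists_sl_hom (F := F) k hk hfin
      obtain ⟨A, hA⟩ : ∃ A : Matrix.SpecialLinearGroup (Fin 2) K, orderOf A = r ^ ee q r := by
        rcases h with h | h
        · obtain ⟨A, hA⟩ := PSL2Spectrum.exists_order_sub_one (F := K)
          exact ⟨A ^ (orderOf A / r ^ ee q r), orderOf_pow_orderOf_div (orderOf_pos A).ne' (by rw [hA, hcard]; exact h)⟩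
        · obtain ⟨A, hA⟩ := PSL2Spectrum.exists_order_add_one (F := K)
          exact ⟨A ^ (orderOf A / r ^ ee q r), orderOf_pow_orderOf_div (orderOf_pos A).ne' (by rw [hA, hcard]; exact h)⟩
      exact ⟨φ A, by rw [orderOf_injective φ hφ, hA]⟩
    rcases Nat.even_or_odd d with ⟨k, hk⟩ | hodd
    · refine ⟨k, by omega, fun i => ?_, key k (by omega) (Or.inr ?_)⟩
      · rw [hk, show k + k = 2 * k by ring, Nat.mul_dvd_mul_iff_left two_pos]
      · have h1 : r ^ ee q r ∣ (q ^ k + 1) * (q ^ k - 1) := by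
          rw [← Nat.sq_sub_sq, one_pow, ← pow_mul, show k * 2 = d by omega]
          exact pow_padicValNat_dvd
        refine (Nat.Coprime.dvd_of_dvd_mul_right (Nat.Coprime.pow_left _ (hrp.coprime_iff_not_dvd.2 fun h => ?_)) h1)
        have := Nat.le_of_dvd (by omega) ((dvd_iff_ord (r := r) (by omega) k).1 h)
        omega
    · refine ⟨d, hd0, fun i => ⟨fun h => (Nat.coprime_two_right.2 hodd).dvd_of_dvd_mul_left h,
        fun h => h.mul_left 2⟩, key d hd0 (Or.inl pow_padicValNat_dvd)⟩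
  have hcount : ((Finset.Icc 1 n).filter (fun i => d ∣ 2 * i)).card = n / k := by
    rw [← count_dvd n k]
    exact congrArg Finset.card (Finset.filter_congr fun i _ => hki i)
  rw [hcount]
  obtain ⟨c, hc⟩ := exists_cyclic_hom g hg
  obtain ⟨φ, hφ⟩ := sp_hom k c hc (n / k)
  have hn : k * (n / k) + (n - k * (n / k)) = n := Nat.add_sub_cancel' (Nat.mul_div_le n k)
  obtain ⟨ψ, hψ⟩ : ∃ ψ : (Fin (n / k) → Multiplicative (ZMod (r ^ ee q r))) →*
      Matrix.symplecticGroup (Fin n) F, Function.Injective ψ := by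
    have h : ∃ ψ : (Fin (n / k) → Multiplicative (ZMod (r ^ ee q r))) →*
        Matrix.symplecticGroup (Fin (k * (n / k) + (n - k * (n / k)))) F, Function.Injective ψ :=
      ⟨(CfsgLib.Classical.SpOrders.blockHom _ _).comp (φ.prod 1), fun x y h =>
        hφ (Subtype.ext (CfsgLib.Classical.SpOrders.bmat_inj (congrArg Subtype.val h)).1)⟩
    rwa [hn] at h
  refine sylow_equiv _ _ ψ hψ ?_ P
  obtain ⟨m, hm⟩ := card_sp_eq (F := F) n
  rw [hm, hq, padicValNat.mul (pow_ne_zero _ (by omega)), val_pow_zero hrq, zero_add,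
    val_range hq2 hr2 hrq n (fun i => 2 * i) (fun i hi => by simp at hi; omega), hcount]
  · intro i hi hdi hri
    simp only [Finset.mem_Icc] at hi
    obtain ⟨c', hc'⟩ := hdi
    rw [← hd, hc', Nat.mul_div_cancel_left _ hd0] at hri
    obtain ⟨c'', rfl⟩ := hri
    rw [← hd] at hc'
    have hc0 : 1 ≤ c'' := Nat.pos_of_ne_zero fun h => by simp [h] at hc'; omega
    rcases Nat.lt_or_ge 1 d with h1 | h1
    · have h5 : 2 * r ≤ d * (r * c'') := Nat.mul_le_mul h1 (Nat.le_mul_of_pos_right r hc0)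
      omega
    · have hd1 : d = 1 := by omega
      rw [hd1, one_mul] at hc'
      rcases Nat.lt_or_ge 1 c'' with h2 | h2
      · have h5 : r * 2 ≤ r * c'' := Nat.mul_le_mul_left r h2
        omega
      · have : c'' = 1 := by omega
        rw [this, mul_one] at hc'
        exact hr2 ((Nat.prime_dvd_prime_iff_eq Nat.prime_two hrp).1 ⟨i, by omega⟩).symm
  · refine Finset.prod_ne_zero_iff.2 fun i hi => ?_
    simp only [Finset.mem_Icc] at hi
    have := Nat.one_lt_pow (show 2 * i ≠ 0 by omega) (show 1 < q by omega)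
    omega

end CfsgLib.Classical.LargePrime
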