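import Cfsg.Agent.Lib.Classical.SylowTwoElemAb
import Cfsg.Agent.Lib.Invol.QuasiDihedral
import Cfsg.Prelude.Def_Transfer

/-!
# Normal elementary abelian subgroups of monomial two-groups

If `Q` has an element of order at least four and every element `x` of `Q` of square one commuting
with its conjugates is central, then every normal elementary abelian subgroup of the monomial group
on `Q` lies in the product of the centres.
-/

set_option autoImplicit false

namespace CfsgLib.Classical.NormalRank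

open CfsgLib.Classical.SylowTwoElemAb
open scoped commutatorElement

/-- The largest normal elementary abelian two-subgroup has order `2 ^ n`. -/
def NR (H : Type*) [Group H] (n : ℕ) : Prop :=
  (∃ E : Subgroup H, E.Normal ∧ Cfsg.IsElementaryAbelian 2 E ∧ 2 ^ n ≤ Nat.card ↥E) ∧
    ∀ E : Subgroup H, E.Normal → Cfsg.IsElementaryAbelian 2 E → Nat.card ↥E ≤ 2 ^ n

theorem isElementaryAbelian_of_exp {H : Type*} [Group H] {E : Subgroup H}
    (h : ∀ a ∈ E, a ^ 2 = 1) : Cfsg.IsElementaryAbelian 2 E := by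
  refine ⟨isMulCommutative_iff.2 fun x y => Subtype.ext ?_, h⟩
  have hi : ∀ a ∈ E, a⁻¹ = a := fun a ha => inv_eq_of_mul_eq_one_right (by rw [← pow_two]; exact h a ha)
  have h1 := hi _ (E.mul_mem x.2 y.2)
  rw [mul_inv_rev, hi _ x.2, hi _ y.2] at h1
  exact h1.symm

theorem NR.of_equiv {H K : Type*} [Group H] [Group K] (e : H ≃* K) {n : ℕ} (h : NR H n) :
    NR K n := by
  obtain ⟨⟨E, hEn, hE, hEc⟩, hu⟩ := h
  refine ⟨⟨E.map e.toMonoidHom, hEn.map _ e.surjective, isElementaryAbelian_of_exp ?_, ?_⟩, ?_⟩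
  · rintro _ ⟨a, ha, rfl⟩
    rw [← map_pow, hE.2 a ha, map_one]
  · rwa [Subgroup.card_map_of_injective e.injective]
  · intro E' hn' hE'
    have h1 := hu (E'.map e.symm.toMonoidHom) (hn'.map _ e.symm.surjective)
      (isElementaryAbelian_of_exp (by
        rintro _ ⟨a, ha, rfl⟩
        rw [← map_pow, hE'.2 a ha, map_one]))
    rwa [Subgroup.card_map_of_injective e.symm.injective] at h1

theorem NR.prod_two {H C : Type*} [Group H] [Group C] [Finite H] [Finite C] {n : ℕ} (h : NR H n)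
    (hC : ∀ c : C, c ^ 2 = 1) (hcard : Nat.card C = 2) : NR (H × C) (n + 1) := by
  obtain ⟨⟨E, hEn, hE, hEc⟩, hu⟩ := h
  have hcomm : ∀ a b : C, a * b = b * a := fun a b => by
    have hi : ∀ c : C, c⁻¹ = c := fun c => inv_eq_of_mul_eq_one_right (by rw [← pow_two]; exact hC c)
    rw [← hi (a * b), mul_inv_rev, hi, hi]
  refine ⟨⟨E.prod ⊤, ⟨fun x hx g => ⟨hEn.conj_mem _ hx.1 _, trivial⟩⟩,
    isElementaryAbelian_of_exp fun x hx => Prod.ext (hE.2 _ hx.1) (hC _), ?_⟩, ?_⟩
  · rw [Nat.card_congr (E.prodEquiv ⊤).toEquiv, Nat.card_prod, Subgroup.card_top, hcard, pow_succ]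
    exact Nat.mul_le_mul_right 2 hEc
  · intro E' hn' hE'
    have h1 := hu (E'.map (MonoidHom.fst H C))
      (hn'.map _ fun x => ⟨(x, 1), rfl⟩) (isElementaryAbelian_of_exp (by
        rintro _ ⟨a, ha, rfl⟩
        rw [← map_pow, hE'.2 a ha, map_one]))
    have h2 : Nat.card ↥E' ≤ Nat.card (↥(E'.map (MonoidHom.fst H C)) × C) := by
      refine Nat.card_le_card_of_injective
        (fun x => (⟨x.1.1, ⟨x.1, x.2, rfl⟩⟩, x.1.2)) fun x y hxy => ?_
      refine Subtype.ext (Prod.ext ?_ ?_)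
      · exact congrArg (fun z : ↥(E'.map (MonoidHom.fst H C)) × C => (z.1 : H)) hxy
      · exact congrArg (fun z : ↥(E'.map (MonoidHom.fst H C)) × C => z.2) hxy
    rw [Nat.card_prod, hcard] at h2
    rw [pow_succ]
    exact h2.trans (Nat.mul_le_mul_right 2 h1)

theorem quasiDihedral_small_central {S : Type*} [Group S] [Finite S]
    (hS : Cfsg.IsQuasiDihedral S) :
    Nat.card ↥(Subgroup.center S) = 2 ∧
      ∀ x : S, x ^ 2 = 1 → (∀ y : S, Commute x (y * x * y⁻¹)) → x ∈ Subgroup.center S := by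
  obtain ⟨k, a, b, -, -, F⟩ := CfsgLib.Invol.exists_qdFrame hS
  refine ⟨F.card_center, fun x hx hc => ?_⟩
  obtain ⟨i, rfl | rfl⟩ := F.exists_eq x
  · obtain ⟨q, hq⟩ := F.rot_sq_eq_one_iff.1 hx
    rw [F.center_eq]
    exact Subgroup.mem_zpowers_iff.2 ⟨q, by rw [← zpow_mul, hq]⟩
  · exfalso
    have e : a ^ (1 : ℤ) * (a ^ i * b) * (a ^ (1 : ℤ))⁻¹ =
        a ^ (1 + i + (2 * 2 ^ (k - 2) - 1) * (-1)) * b := by
      rw [← zpow_neg, show a ^ (1 : ℤ) * (a ^ i * b) = a ^ (1 + i) * b by
        rw [← mul_assoc, ← zpow_add], F.ref_rot]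
    have h1 := hc (a ^ (1 : ℤ))
    rw [e] at h1
    have h2 := F.ref_ref_commute_iff.1 h1.eq
    have h3 := F.two_le
    have h4 : (2 : ℤ) * 2 ^ (k - 2) ∣ 2 := by
      have h5 := dvd_add h2 (dvd_refl ((2 : ℤ) * 2 ^ (k - 2)))
      rwa [show 1 + i + (2 * 2 ^ (k - 2) - 1) * (-1) - i + (2 : ℤ) * 2 ^ (k - 2) = 2 by ring] at h5
    have := Int.le_of_dvd two_pos h4
    omega

variable {ι : Type} {X G : Type*} [Fintype ι] [DecidableEq ι] [Group X] [Group G] [Finite G]
  {d : (ι → X) →* G} {π : Equiv.Perm ι →* G}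

theorem monGroup_nr (M : Monomial d π) (Q : Subgroup X) [Finite ↥Q] (T : Subgroup (Equiv.Perm ι))
    (hq : ∃ q ∈ Q, q ^ 2 ≠ 1)
    (Z : Subgroup ↥Q) (hZC : Z ≤ Subgroup.center ↥Q)
    (hV : ∀ x : ↥Q, x ^ 2 = 1 → (∀ y : ↥Q, Commute x (y * x * y⁻¹)) → x ∈ Z)
    (hZ : ∀ x ∈ Z, x ^ 2 = 1) (hZc : Nat.card ↥Z = 2) :
    NR ↥(monGroup M Q T) (Fintype.card ι) := by
  have hdi : Function.Injective d := by
    rw [injective_iff_map_eq_one]
    intro f hf
    exact (M.inj f 1 (by rw [hf, map_one])).1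
  let emb : (ι → ↥Z) →* ↥(monGroup M Q T) :=
    (d.comp (MonoidHom.compLeft (Q.subtype.comp Z.subtype) ι)).codRestrict _
      fun g => d_mem M T fun i _ => (g i).1.2
  have hembi : Function.Injective emb := fun f g h => funext fun i =>
    Subtype.ext (Subtype.ext (congrFun (hdi (congrArg Subtype.val h)) i))
  have hcardE : Nat.card ↥emb.range = 2 ^ Fintype.card ι := by
    rw [MonoidHom.range_eq_map, Subgroup.card_map_of_injective hembi, Subgroup.card_top, Nat.card_pi]
    simp [hZc]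
  constructor
  · refine ⟨emb.range, ⟨?_⟩, isElementaryAbelian_of_exp ?_, hcardE.ge⟩
    · rintro _ ⟨g, rfl⟩ ⟨_, f, hf, σ, hσ, rfl⟩
      refine ⟨g ∘ σ.symm, Subtype.ext ?_⟩
      show d (fun i => ((g (σ.symm i) : ↥Q) : X)) =
        d f * π σ * d (fun i => ((g i : ↥Q) : X)) * (d f * π σ)⁻¹
      rw [mul_inv_rev, ← mul_assoc, mul_assoc (d f) (π σ), mul_assoc (d f), M.conj, ← map_inv,
        ← map_mul, ← map_mul]
      refine congrArg d (funext fun i => ?_)
      have hc : (g (σ.symm i) : ↥Q).1 * f i = f i * (g (σ.symm i) : ↥Q).1 :=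
        congrArg Subtype.val (Subgroup.mem_center_iff.1 (hZC (g (σ.symm i)).2) ⟨f i, hf i trivial⟩).symm
      show _ = f i * ((g (σ.symm i) : ↥Q) : X) * (f i)⁻¹
      rw [← hc, mul_inv_cancel_right]
    · rintro _ ⟨g, rfl⟩
      rw [← map_pow, show g ^ 2 = 1 from funext fun i => Subtype.ext (hZ _ (g i).2), map_one]
  · intro E hEn hE
    refine le_trans (Nat.card_le_card_of_injective (Subgroup.inclusion (K := emb.range) ?_)
      (Subgroup.inclusion_injective _)) hcardE.le
    have hconj : ∀ x ∈ E, ∀ y : ↥(monGroup M Q T), Commute (x : G) (y * x * (y : G)⁻¹) := by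
      intro x hx y
      exact congrArg Subtype.val (congrArg Subtype.val
        (isMulCommutative_iff.1 hE.1 ⟨x, hx⟩ ⟨y * x * y⁻¹, hEn.conj_mem x hx y⟩))
    rintro ⟨_, f, hf, σ, hσ, rfl⟩ hxE
    have hσ1 : σ = 1 := by
      by_contra hne
      obtain ⟨i, hi⟩ : ∃ i, σ.symm i ≠ i := by
        by_contra h
        push Not at h
        exact hne (Equiv.ext fun i => by
          have := congrArg σ (h i)
          rw [Equiv.apply_symm_apply] at this
          exact this.symm)
      obtain ⟨q, hqQ, hq2⟩ := hq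
      let g : ι → X := Pi.mulSingle i q
      have hg : g ∈ Subgroup.pi Set.univ fun _ : ι => Q := fun j _ => by
        rcases eq_or_ne j i with rfl | hj
        · simp [g, hqQ]
        · simp [g, Pi.mulSingle_eq_of_ne hj]
      let z : ↥(monGroup M Q T) := ⟨d g, d_mem M T hg⟩
      have hcE := hE.2 _ (E.mul_mem (hEn.conj_mem _ hxE z) (E.inv_mem hxE))
      have hc2 : d ((g * (f * (g⁻¹ ∘ σ.symm) * f⁻¹)) ^ 2) = 1 := by
        have h' := congrArg Subtype.val hcE
        push_cast at h'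
        rw [show (z : G) = d g from rfl] at h'
        rw [map_pow, map_mul, map_mul, map_mul, ← M.conj, map_inv, map_inv]
        rw [← h']
        group
      have h3 := congrFun ((injective_iff_map_eq_one d).1 hdi _ hc2) i
      simp [g, Pi.mulSingle_eq_of_ne hi] at h3
      exact hq2 h3
    subst hσ1
    have hfi : ∀ i, (⟨f i, hf i trivial⟩ : ↥Q) ∈ Z := by
      intro i
      refine hV _ ?_ fun y => ?_
      · have h' := congrArg Subtype.val (hE.2 _ hxE)
        push_cast at h'
        rw [map_one, mul_one, ← map_pow] at h'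
        exact Subtype.ext (congrFun ((injective_iff_map_eq_one d).1 hdi _ h') i)
      · have hy : Pi.mulSingle i (y : X) ∈ Subgroup.pi Set.univ fun _ : ι => Q := fun j _ => by
          rcases eq_or_ne j i with rfl | hj
          · simp
          · simp [Pi.mulSingle_eq_of_ne hj]
        have h' := (hconj _ hxE ⟨d (Pi.mulSingle i (y : X)), d_mem M T hy⟩).eq
        push_cast at h'
        simp only [map_one, mul_one, ← map_inv, ← map_mul] at h'
        have h4 := congrFun (hdi h') i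
        simp at h4
        exact Subtype.ext h4
    exact ⟨fun i => ⟨⟨f i, hf i trivial⟩, hfi i⟩, Subtype.ext (by
      show d _ = d f * π 1
      rw [map_one, mul_one]
      rfl)⟩

end CfsgLib.Classical.NormalRank
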