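import Mathlib

/-!
# When `-1` is an `n`-th power in a finite field
-/

set_option autoImplicit false

namespace CfsgLib.NegOnePow

theorem two_pow_dvd_iff {a k : ℕ} (hk : k ≠ 0) : 2 ^ a ∣ k ↔ a ≤ padicValNat 2 k :=
  padicValNat_dvd_iff_le hk

theorem exists_odd_part {n : ℕ} (hn : n ≠ 0) : ∃ k, Odd k ∧ n = 2 ^ padicValNat 2 n * k := by
  obtain ⟨k, hk⟩ := pow_padicValNat_dvd (p := 2) (n := n)
  refine ⟨k, ?_, hk⟩
  rcases Nat.even_or_odd k with ⟨t, rfl⟩ | h
  · have h1 : 2 ^ (padicValNat 2 n + 1) ∣ n := ⟨t, by rw [pow_succ]; linear_combination hk⟩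
    exact absurd ((two_pow_dvd_iff hn).1 h1) (by omega)
  · exact h

variable {F : Type*} [Field F] [Fintype F]

theorem orderOf_neg_one_units (h2 : (2 : F) ≠ 0) : orderOf (-1 : Fˣ) = 2 :=
  orderOf_eq_prime (by simp) fun h => h2 (by
    have h1 := congrArg Units.val h
    simp only [Units.val_neg, Units.val_one] at h1
    linear_combination -h1)

theorem exists_pow_eq_neg_one_iff [Fintype Fˣ] (h2 : (2 : F) ≠ 0) {n : ℕ} (hn : n ≠ 0) :
    (∃ c : Fˣ, c ^ n = -1) ↔ padicValNat 2 n < padicValNat 2 (Fintype.card Fˣ) := by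
  have hN : Fintype.card Fˣ ≠ 0 := Fintype.card_ne_zero
  obtain ⟨k, hk, hnk⟩ := exists_odd_part hn
  constructor
  · rintro ⟨c, hc⟩
    by_contra h
    push Not at h
    obtain ⟨t, ht, htN⟩ := exists_odd_part hN
    have h1 : ((-1 : Fˣ)) ^ t = 1 := by
      rw [← hc, ← pow_mul]
      refine orderOf_dvd_iff_pow_eq_one.1 ((orderOf_dvd_card).trans ?_)
      rw [htN]
      exact Nat.mul_dvd_mul_right (((two_pow_dvd_iff hn).2 h)) _
    rw [← orderOf_dvd_iff_pow_eq_one, orderOf_neg_one_units h2] at h1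
    exact Nat.not_even_iff_odd.2 ht (even_iff_two_dvd.2 h1)
  · intro h
    obtain ⟨g, hg⟩ := IsCyclic.exists_generator (α := Fˣ)
    have hord : orderOf g = Fintype.card Fˣ := by
      rw [orderOf_eq_card_of_forall_mem_zpowers hg, Nat.card_eq_fintype_card]
    obtain ⟨t, ht⟩ := (two_pow_dvd_iff hN).2 (show padicValNat 2 n + 1 ≤ _ from h)
    have ht0 : t ≠ 0 := fun e => hN (by rw [ht, e, mul_zero])
    obtain ⟨c, hc⟩ : ∃ c : Fˣ, c = g ^ t := ⟨_, rfl⟩
    have h1 : orderOf c = 2 ^ (padicValNat 2 n + 1) := by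
      rw [hc, orderOf_pow_of_dvd ht0 (hord ▸ ht ▸ dvd_mul_left _ _), hord, ht, Nat.mul_div_cancel _ (Nat.pos_of_ne_zero ht0)]
    have h3 : c ^ 2 ^ padicValNat 2 n = -1 := by
      have h4 : (c ^ 2 ^ padicValNat 2 n) * (c ^ 2 ^ padicValNat 2 n) = 1 := by
        rw [← pow_add, ← two_mul, ← pow_succ', ← h1, pow_orderOf_eq_one]
      have h5 : ((c ^ 2 ^ padicValNat 2 n : Fˣ) : F) * ((c ^ 2 ^ padicValNat 2 n : Fˣ) : F) = 1 * 1 := by
        rw [← Units.val_mul, h4, Units.val_one, mul_one]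
      rcases mul_self_eq_mul_self_iff.1 h5 with e | e
      · exfalso
        have h6 := orderOf_dvd_of_pow_eq_one (Units.ext (e.trans Units.val_one.symm) : c ^ 2 ^ padicValNat 2 n = 1)
        rw [h1, Nat.pow_dvd_pow_iff_le_right (by norm_num)] at h6
        omega
      · exact Units.ext (by rw [e, Units.val_neg, Units.val_one])
    exact ⟨c, by rw [hnk, pow_mul, h3, hk.neg_one_pow]⟩

theorem exists_sq_mul_neg_pow {q : ℕ} (hF : Fintype.card F = q) (hq : Odd q) (h2 : (2 : F) ≠ 0) {m : ℕ} (hm : 1 ≤ m)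
    {μ : F} (hμ : orderOf μ = 2 ^ padicValNat 2 (q - 1)) :
    (∃ c : F, c ≠ 0 ∧ (c * c * -μ) ^ m = 1) ↔ (q % 4 = 3 ∨ padicValNat 2 (q - 1) < padicValNat 2 (2 * m)) := by
  classical
  have hq1 : q - 1 ≠ 0 := by
    have := Fintype.one_lt_card (α := F)
    omega
  have hμ0 : μ ≠ 0 := fun h => by
    rw [h, orderOf_zero] at hμ
    exact absurd hμ.symm (pow_ne_zero _ two_ne_zero)
  have hcard : Fintype.card Fˣ = q - 1 := by rw [Fintype.card_units, hF]
  obtain ⟨u, hu⟩ : ∃ u : Fˣ, (u : F) = -μ := ⟨Units.mk0 (-μ) (neg_ne_zero.2 hμ0), rfl⟩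
  obtain ⟨a, ha⟩ : ∃ a, a = padicValNat 2 (q - 1) := ⟨_, rfl⟩
  rw [← ha] at hμ ⊢
  have ha1 : 1 ≤ a := by
    rw [ha]; obtain ⟨j, hj⟩ := hq
    exact (two_pow_dvd_iff hq1).1 ⟨j, by omega⟩
  by_cases h4 : q % 4 = 3
  · simp only [h4, true_or, iff_true]
    have : a = 1 := by
      rw [ha]
      refine le_antisymm ?_ (ha ▸ ha1)
      by_contra h
      obtain ⟨j, hj⟩ := (two_pow_dvd_iff hq1).2 (show 2 ≤ padicValNat 2 (q - 1) by omega)
      omega
    refine ⟨1, one_ne_zero, ?_⟩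
    rw [this] at hμ
    have h5 : μ * μ = 1 := by
      have h := pow_orderOf_eq_one μ
      rw [hμ, pow_one, sq] at h
      exact h
    rcases mul_self_eq_mul_self_iff.1 (h5.trans (mul_one 1).symm) with e | e
    · rw [e, orderOf_one] at hμ; norm_num at hμ
    · simp [e]
  simp only [h4, false_or]
  have ha2 : 2 ≤ a := by
    rw [ha]; obtain ⟨j, hj⟩ := hq
    exact (two_pow_dvd_iff hq1).1 ⟨j / 2, by omega⟩
  have hva : padicValNat 2 (2 * m) = padicValNat 2 m + 1 := by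
    rw [padicValNat.mul two_ne_zero (by omega), padicValNat.self one_lt_two, add_comm]
  rw [hva]
  -- the order of `-μ`
  have hμu : orderOf u = 2 ^ a := by
    obtain ⟨b, rfl⟩ : ∃ b, a = b + 1 := ⟨a - 1, by omega⟩
    rw [← orderOf_units, hu]
    refine orderOf_eq_prime_pow ?_ ?_
    · have he : Even (2 ^ b) := Nat.even_pow.2 ⟨even_two, by omega⟩
      rw [he.neg_pow]
      intro h
      have := orderOf_dvd_of_pow_eq_one h
      rw [hμ, Nat.pow_dvd_pow_iff_le_right (by norm_num)] at this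
      omega
    · have he : Even (2 ^ (b + 1)) := Nat.even_pow.2 ⟨even_two, by omega⟩
      rw [he.neg_pow, ← hμ, pow_orderOf_eq_one]
  obtain ⟨t, ht, htN⟩ := exists_odd_part hq1
  rw [← ha] at htN
  constructor
  · rintro ⟨c, hc, hcm⟩
    have h5 : (Units.mk0 c hc * Units.mk0 c hc * u) ^ m = 1 := Units.ext (by simpa [hu] using hcm)
    by_contra h
    obtain ⟨k, hk, hmk⟩ := exists_odd_part (show m ≠ 0 by omega)
    have h6 : (Units.mk0 c hc * Units.mk0 c hc * u) ^ (2 ^ (a - 1) * k) = 1 := by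
      obtain ⟨d, hd⟩ := Nat.pow_dvd_pow 2 (show padicValNat 2 m ≤ a - 1 by omega)
      rw [hd, show 2 ^ padicValNat 2 m * d * k = 2 ^ padicValNat 2 m * k * d by ring, ← hmk, pow_mul, h5, one_pow]
    have h7 : u ^ (2 ^ (a - 1) * k * t) = 1 := by
      have h8 := congrArg (fun y => y ^ t) h6
      simp only [← pow_mul, mul_pow, one_pow, ← pow_add, add_mul] at h8
      have h9 : Units.mk0 c hc ^ (2 ^ (a - 1) * k * t + 2 ^ (a - 1) * k * t) = 1 := by
        rw [show 2 ^ (a - 1) * k * t + 2 ^ (a - 1) * k * t = 2 ^ a * t * k by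
          rw [show 2 ^ a = 2 ^ (a - 1) * 2 by rw [← pow_succ]; congr 1; omega]; ring, ← htN, pow_mul, ← hcard,
          pow_card_eq_one, one_pow]
      rwa [h9, one_mul] at h8
    have h10 := orderOf_dvd_of_pow_eq_one h7
    rw [hμu, mul_assoc, show 2 ^ a = 2 ^ (a - 1) * 2 by rw [← pow_succ]; congr 1; omega,
      Nat.mul_dvd_mul_iff_left (by positivity)] at h10
    exact Nat.not_even_iff_odd.2 (hk.mul ht) (even_iff_two_dvd.2 h10)
  · intro h
    exact ⟨1, one_ne_zero, by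
      rw [mul_one, one_mul, ← hu, ← Units.val_pow_eq_pow_val, orderOf_dvd_iff_pow_eq_one.1
        (hμu ▸ (two_pow_dvd_iff (show m ≠ 0 by omega)).2 (by omega)), Units.val_one]⟩

end CfsgLib.NegOnePow
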