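import Cfsg.Agent.Lib.Classical.OddSpectrum
import Cfsg.Agent.Lib.Char.Zsigmondy.Main

/-!
An element order of `PSp(2n,q)` that is not one of `POmega(2n+1,q)`, `q` odd.
-/

set_option autoImplicit false

namespace CfsgLib.Classical.OddSpectraDiffer

open Matrix Module CfsgLib.Classical.RootOrbits

variable {F : Type*} [Field F] [Fintype F]

local notation "q" => Fintype.card F

variable (p : ℕ) [Fact p.Prime] [CharP F p] (h2 : (2 : F) ≠ 0)

section space

variable {X : Type*} [AddCommGroup X] [Module F X] [FiniteDimensional F X] (Q : QuadraticForm F X)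
  (hQ : (QuadraticMap.polarBilin Q).Nondegenerate)

include h2 hQ in
/-- A nondegenerate space of dimension at most two has no isometry of order `p`. -/
theorem unipotent_small (hd : finrank F X ≤ 2) (u : Module.End F X) (hu : ∀ x, Q (u x) = Q x) (hup : u ^ p = 1) :
    u = 1 := by
  rcases Nat.eq_zero_or_pos (finrank F X) with h0 | h0
  · haveI : Subsingleton X := Module.finrank_zero_iff.1 h0
    exact LinearMap.ext fun x => Subsingleton.elim _ _
  haveI : Nontrivial X := Module.finrank_pos_iff.1 h0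
  haveI : CharP (Module.End F X) p := charP_of_injective_algebraMap (algebraMap F (Module.End F X)).injective p
  have hnil : IsNilpotent (u - 1) := ⟨p, by rw [sub_pow_char_of_commute _ (Commute.one_right u), hup, one_pow, sub_self]⟩
  have hN2 : (u - 1) ^ 2 = 0 := by
    have h := LinearMap.aeval_self_charpoly (u - 1)
    rw [IsNilpotent.charpoly_eq_X_pow_finrank hnil, map_pow, Polynomial.aeval_X] at h
    exact pow_eq_zero_of_le hd h
  by_contra hne
  obtain ⟨x0, hx0⟩ : ∃ x0, (u - 1) x0 ≠ 0 := by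
    by_contra h
    push Not at h
    exact hne (sub_eq_zero.1 (LinearMap.ext h))
  set N := u - 1 with hN
  set w := N x0 with hw
  have hNN : ∀ x, N (N x) = 0 := fun x => by
    rw [← Module.End.mul_apply, ← pow_two, hN2, LinearMap.zero_apply]
  have hux : ∀ x, u x = N x + x := fun x => by simp [hN]
  have key : ∀ x y, QuadraticMap.polar ⇑Q (N x) y + QuadraticMap.polar ⇑Q x (N y) +
      QuadraticMap.polar ⇑Q (N x) (N y) = 0 := fun x y => by
    have h : QuadraticMap.polar ⇑Q (u x) (u y) = QuadraticMap.polar ⇑Q x y := by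
      simp only [QuadraticMap.polar, ← map_add, hu]
    rw [hux, hux, QuadraticMap.polar_add_left, QuadraticMap.polar_add_right, QuadraticMap.polar_add_right] at h
    linear_combination h
  have hww : ∀ x y, QuadraticMap.polar ⇑Q (N x) (N y) = 0 := fun x y => by
    have := key x (N y)
    simpa [hNN] using this
  have hxw : QuadraticMap.polar ⇑Q w x0 = 0 := by
    have := key x0 x0
    rw [hww, add_zero, QuadraticMap.polar_comm (⇑Q) x0, ← two_mul] at this
    exact (mul_eq_zero.1 this).resolve_left h2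
  have hli : LinearIndependent F ![w, x0] := by
    rw [LinearIndependent.pair_iff]
    intro s t hst
    have ht : t = 0 := by
      have := congrArg N hst
      rw [map_add, map_smul, map_smul, hNN, smul_zero, zero_add, map_zero] at this
      exact (smul_eq_zero.1 this).resolve_right hx0
    rw [ht, zero_smul, add_zero] at hst
    exact ⟨(smul_eq_zero.1 hst).resolve_right hx0, ht⟩
  have hspan : Submodule.span F (Set.range ![w, x0]) = ⊤ := by
    refine Submodule.eq_top_of_finrank_eq (le_antisymm (Submodule.finrank_le _) ?_)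
    rw [finrank_span_eq_card hli, Fintype.card_fin]
    exact hd
  refine hx0 (hQ.1 _ fun y => ?_)
  have hy : y ∈ Submodule.span F (Set.range ![w, x0]) := hspan ▸ Submodule.mem_top
  induction hy using Submodule.span_induction with
  | mem z hz =>
    obtain ⟨i, rfl⟩ := hz
    show QuadraticMap.polar ⇑Q w _ = 0
    fin_cases i
    · exact hww x0 x0
    · exact hxw
  | zero => exact map_zero _
  | add a b _ _ ha hb => rw [map_add, ha, hb, add_zero]
  | smul c a _ ha => rw [map_smul, ha, smul_zero]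

include hQ in
/-- Fixed space and its orthogonal complement, for an isometry of order prime to the characteristic. -/
theorem fixed_split {R : Module.End F X} (hR : ∀ x, Q (R x) = Q x) {r : ℕ} (hr : (r : F) ≠ 0) (hRr : R ^ r = 1) :
    IsCompl (LinearMap.ker (R - 1)) (LinearMap.range (R - 1)) ∧
      (QuadraticMap.polarBilin (Q.comp (LinearMap.ker (R - 1)).subtype)).Nondegenerate ∧
      (QuadraticMap.polarBilin (Q.comp (LinearMap.range (R - 1)).subtype)).Nondegenerate := by
  have hfix : ∀ {x}, x ∈ LinearMap.ker (R - 1) ↔ R x = x := fun {x} => by simp [LinearMap.mem_ker, sub_eq_zero]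
  have hperp : ∀ u ∈ LinearMap.ker (R - 1), ∀ c ∈ LinearMap.range (R - 1), QuadraticMap.polar ⇑Q u c = 0 := by
    rintro u hu _ ⟨v, rfl⟩
    have h : QuadraticMap.polar ⇑Q (R u) (R v) = QuadraticMap.polar ⇑Q u v := by
      simp only [QuadraticMap.polar, ← map_add, hR]
    rw [LinearMap.sub_apply, Module.End.one_apply, QuadraticMap.polar_sub_right]
    rw [hfix.1 hu] at h
    rw [h, sub_self]
  have hcop : IsCompl (LinearMap.ker (R - 1)) (LinearMap.range (R - 1)) := by
    constructor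
    · rw [Submodule.disjoint_def]
      rintro x hx ⟨v, rfl⟩
      have hpow : ∀ i, (R ^ i) ((R - 1) v) = (R - 1) v := fun i => by
        induction i with
        | zero => rfl
        | succ i ih => rw [pow_succ, Module.End.mul_apply, hfix.1 hx, ih]
      have h : (∑ i ∈ Finset.range r, R ^ i) ((R - 1) v) = 0 := by
        rw [← Module.End.mul_apply, geom_sum_mul, hRr, sub_self, LinearMap.zero_apply]
      rw [LinearMap.sum_apply, Finset.sum_congr rfl (fun i _ => hpow i), Finset.sum_const, Finset.card_range,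
        ← Nat.cast_smul_eq_nsmul F] at h
      exact (smul_eq_zero.1 h).resolve_left hr
    · rw [codisjoint_iff, eq_top_iff]
      intro x _
      refine Submodule.mem_sup.2 ⟨(r : F)⁻¹ • (∑ i ∈ Finset.range r, R ^ i) x, ?_,
        x - (r : F)⁻¹ • (∑ i ∈ Finset.range r, R ^ i) x, ?_, add_sub_cancel _ _⟩
      · rw [hfix, map_smul, ← Module.End.mul_apply]
        congr 2
        have := mul_geom_sum R r
        rw [hRr, sub_self, sub_mul, one_mul, sub_eq_zero] at this
        exact this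
      · have hterm : ∀ i, x - (R ^ i) x ∈ LinearMap.range (R - 1) := fun i => by
          induction i with
          | zero => simp
          | succ i ih =>
            have : x - (R ^ (i + 1)) x = (x - (R ^ i) x) - (R - 1) ((R ^ i) x) := by
              rw [pow_succ', Module.End.mul_apply, LinearMap.sub_apply, Module.End.one_apply]; abel
            rw [this]
            exact sub_mem ih (LinearMap.mem_range_self _ _)
        have hx : x - (r : F)⁻¹ • (∑ i ∈ Finset.range r, R ^ i) x =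
            (r : F)⁻¹ • ∑ i ∈ Finset.range r, (x - (R ^ i) x) := by
          rw [Finset.sum_sub_distrib, Finset.sum_const, Finset.card_range, ← Nat.cast_smul_eq_nsmul F, smul_sub,
            inv_smul_smul₀ hr, LinearMap.sum_apply]
        rw [hx]
        exact Submodule.smul_mem _ _ (Submodule.sum_mem _ fun i _ => hterm i)
  have key : ∀ {U W : Submodule F X}, IsCompl U W → (∀ u ∈ U, ∀ w ∈ W, QuadraticMap.polar ⇑Q u w = 0) →
      (QuadraticMap.polarBilin (Q.comp U.subtype)).Nondegenerate := by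
    intro U W hc horth
    have k : ∀ u : U, (∀ v, QuadraticMap.polar ⇑(Q.comp U.subtype) u v = 0) → u = 0 := fun u hu =>
      Subtype.ext (hQ.1 _ fun x => by
        obtain ⟨a, ha, b, hb, rfl⟩ := Submodule.mem_sup.1 (hc.sup_eq_top ▸ Submodule.mem_top : x ∈ U ⊔ W)
        show QuadraticMap.polar ⇑Q u.1 (a + b) = 0
        rw [QuadraticMap.polar_add_right, horth _ u.2 b hb, add_zero]
        exact hu ⟨a, ha⟩)
    exact ⟨k, fun y hy => k y fun x => (QuadraticMap.polar_comm _ y x).trans (hy x)⟩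
  exact ⟨hcop, key hcop hperp, key hcop.symm fun c hc u hu => (QuadraticMap.polar_comm _ c u).trans (hperp u hu c hc)⟩

theorem orderOf_prime_mul {G : Type*} [Monoid G] {a b : G} {r s : ℕ} (hr : r.Prime) (hs : s.Prime) (hrs : r ≠ s)
    (hab : Commute a b) (ha : a ^ r = 1) (hb : b ^ s = 1) (ha1 : a ≠ 1) (hb1 : b ≠ 1) : orderOf (a * b) = r * s := by
  haveI := Fact.mk hr
  haveI := Fact.mk hs
  have h1 := orderOf_eq_prime ha ha1
  have h2 := orderOf_eq_prime hb hb1
  rw [hab.orderOf_mul_eq_mul_orderOf_of_coprime (by rw [h1, h2]; exact (Nat.coprime_primes hr hs).2 hrs), h1, h2]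

include h2 hQ in
/-- No element of order `r p` when `eta r = m` and the dimension is at most `2m + 2`. -/
theorem no_rp {r : ℕ} (hr : r.Prime) (hr2 : r ≠ 2) (hrp : r ≠ p) {m : ℕ}
    (hm : eta2 (orderOf ((q : ℕ) : ZMod r)) = 2 * m) (hm2 : 2 ≤ m) (hd : finrank F X ≤ 2 * m + 2)
    (R u : Module.End F X) (hR : ∀ x, Q (R x) = Q x) (hu : ∀ x, Q (u x) = Q x) (hcomm : Commute R u)
    (hRr : R ^ r = 1) (hup : u ^ p = 1) (hR1 : R ≠ 1) : u = 1 := by
  have hrF : (r : F) ≠ 0 := fun h => hrp ((Nat.prime_dvd_prime_iff_eq Fact.out hr).1 ((CharP.cast_eq_zero_iff F p r).1 h)).symm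
  obtain ⟨hc, hndU, hndC⟩ := fixed_split Q hQ hR hrF hRr
  set U := LinearMap.ker (R - 1)
  set C := LinearMap.range (R - 1)
  have hc' : ∀ x, R (u x) = u (R x) := fun x => congrArg (fun f : Module.End F X => f x) hcomm.eq
  have huU : ∀ x ∈ U, u x ∈ U := fun x hx => by
    have h1 : R x = x := by simpa [U, sub_eq_zero] using hx
    simp [U, sub_eq_zero, hc', h1]
  have huC : ∀ x ∈ C, u x ∈ C := by
    rintro _ ⟨v, rfl⟩
    exact ⟨u v, by simp [hc']⟩
  have hRC : ∀ x ∈ C, R x ∈ C := by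
    rintro _ ⟨v, rfl⟩
    exact ⟨R v, by simp⟩
  have hfpf : ∀ x : C, R.restrict hRC x = x → x = 0 := fun x hx => by
    refine Subtype.ext (Submodule.disjoint_def.1 hc.disjoint _ ?_ x.2)
    have := congrArg Subtype.val hx
    simpa [U, sub_eq_zero] using this
  have hRCr : R.restrict hRC ^ r = 1 := by
    rw [Module.End.pow_restrict]
    exact LinearMap.ext fun x => Subtype.ext (by simp [hRr])
  have hRC1 : R.restrict hRC ≠ 1 := fun h1 => by
    refine hR1 (sub_eq_zero.1 (LinearMap.range_eq_bot.1 ((Submodule.eq_bot_iff _).2 fun x hx => ?_)))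
    exact congrArg Subtype.val (hfpf ⟨x, hx⟩ (by rw [h1]; rfl))
  have hsum := Submodule.finrank_add_eq_of_isCompl hc
  have hdimC : finrank F C = 2 * m := by
    rcases IsoEigen.dim_of_fpf (Q.comp C.subtype) hndC _ (fun x => hR x.1) p hr hr2 hrp hRCr hfpf hRC1 with h | h
    · rw [h, hm]
    · rw [hm] at h; omega
  have hone : ∀ {W : Submodule F X} (hW : ∀ x ∈ W, u x ∈ W), u.restrict hW ^ p = 1 := fun hW => by
    rw [Module.End.pow_restrict]
    exact LinearMap.ext fun x => Subtype.ext (by simp [hup])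
  have hU1 := unipotent_small p h2 (Q.comp U.subtype) hndU (by omega) (u.restrict huU) (fun x => hu x.1) (hone huU)
  have hC1 : u.restrict huC = 1 := by
    by_contra hne
    have hcm : Commute (R.restrict hRC) (u.restrict huC) := LinearMap.ext fun x => Subtype.ext (hc' x.1)
    have ho := orderOf_prime_mul hr Fact.out hrp hcm hRCr (hone huC) hRC1 hne
    have h := IsoEigen.le_dim_char (Q.comp C.subtype) hndC _ (fun x => (hR _).trans (hu x.1)) p hr hr2 hrp
      (ho ▸ Nat.mul_pos hr.pos (Fact.out : p.Prime).pos) (ho ▸ dvd_rfl)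
    rw [hm] at h
    omega
  refine LinearMap.ext fun x => ?_
  obtain ⟨a, ha, b, hb, rfl⟩ := Submodule.mem_sup.1 (hc.sup_eq_top ▸ Submodule.mem_top : x ∈ U ⊔ C)
  rw [map_add, Module.End.one_apply]
  exact congrArg₂ (· + ·) (congrArg Subtype.val (LinearMap.congr_fun hU1 ⟨a, ha⟩))
    (congrArg Subtype.val (LinearMap.congr_fun hC1 ⟨b, hb⟩))

end space

include h2 in
/-- A prime whose period gives `eta = m` with the corresponding torus order not divisible by four. -/
theorem exists_prime_eta {m : ℕ} (hm : 2 ≤ m) :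
    ∃ r : ℕ, r.Prime ∧ r ≠ 2 ∧ r ≠ p ∧ eta2 (orderOf ((q : ℕ) : ZMod r)) = 2 * m ∧
      ¬ (4 * r ∣ q ^ m - 1 ∨ 4 * r ∣ q ^ m + 1) := by
  have hodd : q % 2 = 1 := FiniteField.odd_card_of_char_ne_two fun h => h2 (by
    haveI := ringChar.of_eq h; exact CharTwo.two_eq_zero)
  have hq := Fintype.one_lt_card (α := F)
  have key : ∀ j, 3 ≤ j → ∃ r : ℕ, r.Prime ∧ r ≠ 2 ∧ r ≠ p ∧ orderOf ((q : ℕ) : ZMod r) = j := by
    intro j hj
    obtain ⟨r, hr, hd, hmin⟩ := CfsgLib.Char.Zsigmondy.exists_prim q j hq (by omega) (fun h => by omega) (fun h => by omega)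
    refine ⟨r, hr, fun h => ?_, fun h => ?_, ?_⟩
    · subst h
      exact hmin 1 le_rfl (by omega) (by rw [pow_one]; omega)
    · subst h
      obtain ⟨f, -, hf⟩ := FiniteField.card F r
      have h1 : r ∣ q ^ j := (hf ▸ dvd_pow_self r f.pos.ne' : r ∣ q).trans (dvd_pow_self _ (by omega))
      have h3 : r ∣ q ^ j - (q ^ j - 1) := Nat.dvd_sub h1 hd
      rw [Nat.sub_sub_self (Nat.one_le_pow _ _ (by omega))] at h3
      exact hr.ne_one (Nat.dvd_one.1 h3)
    · haveI := Fact.mk hr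
      have hdvd := Adjacency.dvd_pow_sub_one_iff.1 hd
      rcases (Nat.le_of_dvd (by omega) hdvd).lt_or_eq with hlt | h
      · exact absurd (Adjacency.dvd_pow_sub_one_iff.2 dvd_rfl) (hmin _ (Nat.pos_of_dvd_of_pos hdvd (by omega)) hlt)
      · exact h
  by_cases h4 : 4 ∣ q ^ m + 1
  · have hmo : Odd m := by
      by_contra he
      obtain ⟨c, hc⟩ := Nat.not_odd_iff_even.1 he
      subst hc
      rw [← two_mul, pow_mul, Nat.dvd_iff_mod_eq_zero, Nat.add_mod, Nat.pow_mod, Nat.pow_mod _ 2] at h4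
      rcases (show q % 4 = 1 ∨ q % 4 = 3 by omega) with h | h <;> rw [h] at h4 <;> norm_num at h4
    have hm3 : 3 ≤ m := by rcases hmo with ⟨c, hc⟩; omega
    obtain ⟨r, hr, hr2, hrp, hk⟩ := key m hm3
    refine ⟨r, hr, hr2, hrp, by rw [hk, eta2, if_neg (Nat.not_even_iff_odd.2 hmo)], ?_⟩
    have hpos := Nat.one_le_pow m q (by omega)
    rintro (h | h)
    · have := (dvd_mul_right 4 r).trans h
      omega
    · have h1 : r ∣ q ^ m + 1 := dvd_of_mul_left_dvd h
      exact RootOrbits.not_period_dvd hr hr2 h1 (hk ▸ dvd_rfl)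
  · obtain ⟨r, hr, hr2, hrp, hk⟩ := key (2 * m) (by omega)
    refine ⟨r, hr, hr2, hrp, by rw [hk, eta2, if_pos (even_two_mul m)], ?_⟩
    rintro (h | h)
    · have := Nat.le_of_dvd (by omega) (hk ▸ Adjacency.dvd_pow_sub_one_iff.1 (dvd_of_mul_left_dvd h) : 2 * m ∣ m)
      omega
    · exact h4 ((dvd_mul_right 4 r).trans h)

include h2 in
theorem mem_psp {m r : ℕ} (hm : 1 ≤ m) (hr : r.Prime) (hr2 : r ≠ 2) (hrp : r ≠ p)
    (hd : r ∣ q ^ m - 1 ∨ r ∣ q ^ m + 1) :
    r * (2 * p) ∈ Set.range (orderOf : Cfsg.PSp (m + 1) F → ℕ) := by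
  have hp2 : p ≠ 2 := fun h => h2 (by subst h; exact CharTwo.two_eq_zero)
  obtain ⟨x, hx⟩ := Adjacency.exists_sp (F := F) m hm hd
  obtain ⟨u, hu⟩ := Adjacency.exists_sp_char (F := F) p 1 le_rfl
  let N : Matrix.symplecticGroup (Fin 1) F := ⟨-1, SymplecticGroup.neg_mem (one_mem _)⟩
  have hN1 : N ≠ 1 := fun h => h2 (by
    have := congrFun (congrFun (congrArg Subtype.val h) (Sum.inl 0)) (Sum.inl 0)
    simp [N] at this
    linear_combination -this)
  have ho : orderOf (N * u) = 2 * p := orderOf_prime_mul Nat.prime_two Fact.out hp2.symm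
    (Subtype.ext (by simp [N])) (Subtype.ext (by simp [N, pow_two])) (hu ▸ pow_orderOf_eq_one u) hN1
    (fun h => (Fact.out : p.Prime).ne_one (by rw [← hu, h, orderOf_one]))
  have h := OddSpectrum.order_block_odd h2 (rfl : m + 1 = m + 1) hm (N * u) (hx ▸ hr.odd_of_ne_two hr2)
  have hcop : r.Coprime (2 * p) :=
    Nat.Coprime.mul_right ((Nat.coprime_primes hr Nat.prime_two).2 hr2) ((Nat.coprime_primes hr Fact.out).2 hrp)
  rwa [hx, ho, hcop.lcm_eq_mul] at h

include h2 in
theorem not_mem_omega {m r : ℕ} (hm : 2 ≤ m) (hr : r.Prime) (hr2 : r ≠ 2) (hrp : r ≠ p)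
    (hk : eta2 (orderOf ((q : ℕ) : ZMod r)) = 2 * m) (h4 : ¬ (4 * r ∣ q ^ m - 1 ∨ 4 * r ∣ q ^ m + 1)) :
    r * (2 * p) ∉ Set.range (orderOf : Cfsg.POmega F (Cfsg.quadFormOdd (m + 1) F) → ℕ) := by
  intro hmem
  have hp : p.Prime := Fact.out
  have hp2 : p ≠ 2 := fun h => h2 (by subst h; exact CharTwo.two_eq_zero)
  obtain ⟨g, hgO, hg⟩ := (OddTori.mem_range_iff h2 (by omega)).1 hmem
  let Q := oddQ (m + 1) F
  have hQ : (QuadraticMap.polarBilin Q).Nondegenerate := oddQ_nondeg h2 _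
  have hQc : ⇑Q = Cfsg.quadFormOdd (m + 1) F := oddQ_coe _
  have hg1 : g ^ (r * (2 * p)) = 1 := hg ▸ pow_orderOf_eq_one g
  have hne : ∀ e, 0 < e → e < r * (2 * p) → (g ^ e).1.1 ≠ 1 := fun e he hlt h => by
    have := Nat.le_of_dvd he (orderOf_dvd_of_pow_eq_one (show g ^ e = 1 from Subtype.ext (Units.ext h)))
    omega
  have hrpos := hr.two_le
  have hppos := hp.two_le
  have hpw : ∀ e k, e * k = r * (2 * p) → (g ^ e).1.1 ^ k = 1 := fun e k h => by
    rw [← Units.val_pow_eq_pow_val, ← SubgroupClass.coe_pow, ← pow_mul, h, hg1]; rfl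
  let z := g ^ (r * p)
  let R := g ^ (2 * p)
  let u := g ^ (r * 2)
  have hz : z.1.1 * z.1.1 = 1 := by rw [← pow_two]; exact hpw _ 2 (by ring)
  have hz1 : z.1.1 ≠ 1 := hne _ (by positivity) (by nlinarith)
  have hR1 : R.1.1 ≠ 1 := hne _ (by positivity) (by nlinarith)
  have hu1 : u.1.1 ≠ 1 := hne _ (by positivity) (by nlinarith)
  have hcommP : ∀ e k, (g ^ e).1.1 * (g ^ k).1.1 = (g ^ k).1.1 * (g ^ e).1.1 := fun e k =>
    congrArg (fun x : ↥(Cfsg.isometryGroup F (Cfsg.quadFormOdd (m + 1) F)) => x.1.1)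
      ((Commute.pow_pow (Commute.refl g) e k).eq)
  have hiso : ∀ e v, Q ((g ^ e).1.1 *ᵥ v) = Q v := fun e v => by rw [hQc]; exact mem_isometryGroup_iff.1 (g ^ e).2 v
  obtain ⟨hcpl, hndP, hndM⟩ := IsoEigen.invol_split Q hQ h2 hz (hiso _)
  obtain ⟨⟨RP, hRP, hRPi⟩, ⟨RM, hRM, hRMi⟩⟩ := IsoEigen.restrict_iso Q (hcommP (r * p) (2 * p)) (hiso _)
  obtain ⟨⟨uP, huP, huPi⟩, ⟨uM, huM, huMi⟩⟩ := IsoEigen.restrict_iso Q (hcommP (r * p) (r * 2)) (hiso _)
  have hRPr : RP ^ r = 1 := LinearMap.ext fun v => Subtype.ext (by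
    rw [IsoEigen.pow_coe' hRP, hpw _ r (by ring), Matrix.one_mulVec]; rfl)
  have hRMr : RM ^ r = 1 := LinearMap.ext fun v => Subtype.ext (by
    rw [IsoEigen.pow_coe hRM, hpw _ r (by ring), Matrix.one_mulVec]; rfl)
  have huPp : uP ^ p = 1 := LinearMap.ext fun v => Subtype.ext (by
    rw [IsoEigen.pow_coe' huP, hpw _ p (by ring), Matrix.one_mulVec]; rfl)
  have huMp : uM ^ p = 1 := LinearMap.ext fun v => Subtype.ext (by
    rw [IsoEigen.pow_coe huM, hpw _ p (by ring), Matrix.one_mulVec]; rfl)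
  have hcP : Commute RP uP := LinearMap.ext fun v => Subtype.ext (by
    rw [Module.End.mul_apply, Module.End.mul_apply, hRP, huP, huP, hRP, Matrix.mulVec_mulVec, Matrix.mulVec_mulVec, hcommP])
  have hcM : Commute RM uM := LinearMap.ext fun v => Subtype.ext (by
    rw [Module.End.mul_apply, Module.End.mul_apply, hRM, huM, huM, hRM, Matrix.mulVec_mulVec, Matrix.mulVec_mulVec, hcommP])
  have hext : ∀ (M : Matrix (Unit ⊕ (Fin (m + 1) ⊕ Fin (m + 1))) (Unit ⊕ (Fin (m + 1) ⊕ Fin (m + 1))) F),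
      (∀ v ∈ IsoEigen.plusSp z.1.1, M *ᵥ v = v) → (∀ v ∈ IsoEigen.minusSp z.1.1, M *ᵥ v = v) → M = 1 := by
    intro M hP hM
    refine Matrix.ext_iff_mulVec.2 fun v => ?_
    obtain ⟨x, hx, y, hy, rfl⟩ := Submodule.mem_sup.1 (hcpl.sup_eq_top ▸ Submodule.mem_top :
      v ∈ IsoEigen.plusSp z.1.1 ⊔ IsoEigen.minusSp z.1.1)
    rw [Matrix.one_mulVec, Matrix.mulVec_add, hP x hx, hM y hy]
  have hRor : RP ≠ 1 ∨ RM ≠ 1 := by
    by_contra h
    push Not at h
    exact hR1 (hext _ (fun v hv => by rw [← hRP ⟨v, hv⟩, h.1]; rfl) fun v hv => by rw [← hRM ⟨v, hv⟩, h.2]; rfl)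
  have huor : uP ≠ 1 ∨ uM ≠ 1 := by
    by_contra h
    push Not at h
    exact hu1 (hext _ (fun v hv => by rw [← huP ⟨v, hv⟩, h.1]; rfl) fun v hv => by rw [← huM ⟨v, hv⟩, h.2]; rfl)
  have hzO : (⟨z.1, by rw [hQc]; exact z.2⟩ : ↥(Cfsg.isometryGroup F ⇑Q)) ∈ Cfsg.Omega F ⇑Q := by
    have : ∀ (S : (Unit ⊕ (Fin (m + 1) ⊕ Fin (m + 1)) → F) → F) (hS : S = Cfsg.quadFormOdd (m + 1) F)
        (hm : z.1 ∈ Cfsg.isometryGroup F S), (⟨z.1, hm⟩ : ↥(Cfsg.isometryGroup F S)) ∈ Cfsg.Omega F S := by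
      rintro S rfl hm
      exact pow_mem hgO _
    exact this _ hQc _
  have hsum : finrank F (IsoEigen.plusSp z.1.1) + finrank F (IsoEigen.minusSp z.1.1) = 2 * m + 3 := by
    rw [Submodule.finrank_add_eq_of_isCompl hcpl, Module.finrank_pi]
    simp; omega
  have hev : Even (finrank F (IsoEigen.minusSp z.1.1)) := by
    have hQ' := CfsgLib.Orth.nd_of_qf Q hQ
    rw [hQc] at hQ'
    have hdet := (CfsgLib.Orth.det_eq_one_iff hQ' h2 z.2).2
      ((CfsgLib.Orth.mem_omega_iff hQ' (by simp; omega) (CfsgLib.Orth.hex_of_two h2) (g := z)).1 (pow_mem hgO _)).2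
    rw [(CfsgLib.Orth.det_invol h2 hz).1] at hdet
    by_contra ho
    change (-1 : F) ^ Module.finrank F ↥(IsoEigen.minusSp z.1.1) = 1 at hdet
    rw [(Nat.not_even_iff_odd.1 ho : Odd _).neg_one_pow] at hdet
    exact h2 (by linear_combination -hdet)
  have hne0 : finrank F (IsoEigen.minusSp z.1.1) ≠ 0 := fun h0 => by
    refine hz1 (hext _ (fun v hv => IsoEigen.mem_plusSp.1 hv) fun v hv => ?_)
    rw [Submodule.finrank_eq_zero.1 h0, Submodule.mem_bot] at hv
    rw [hv, Matrix.mulVec_zero]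
  haveI := Fact.mk hr
  obtain ⟨c, hc⟩ := hev
  by_cases hM1 : RM = 1
  · have hP1 : RP ≠ 1 := hRor.resolve_right (not_not_intro hM1)
    have hle := IsoEigen.le_dim _ hndP RP hRPi p hr hr2 hrp (orderOf_eq_prime hRPr hP1 ▸ hr.pos)
      (orderOf_eq_prime hRPr hP1 ▸ dvd_rfl)
    have hPu := no_rp p h2 _ hndP hr hr2 hrp hk hm (by omega) RP uP hRPi huPi hcP hRPr huPp hP1
    have hMu := unipotent_small p h2 _ hndM (by omega) uM huMi huMp
    exact huor.elim (fun h => h hPu) (fun h => h hMu)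
  · have hle := IsoEigen.le_dim _ hndM RM hRMi p hr hr2 hrp (orderOf_eq_prime hRMr hM1 ▸ hr.pos)
      (orderOf_eq_prime hRMr hM1 ▸ dvd_rfl)
    rw [hk] at hle
    rcases (show finrank F (IsoEigen.minusSp z.1.1) = 2 * m ∨ finrank F (IsoEigen.minusSp z.1.1) = 2 * m + 2 by omega)
      with hd | hd
    · obtain ⟨m', rfl⟩ : ∃ m', m = m' + 1 := ⟨m - 1, by omega⟩
      exact h4 (IsoEigen.four_dvd Q hQ p h2 (by simp; omega) hr hr2 hrp (m := m') hk hzO hz
        (show finrank F (IsoEigen.minusSp z.1.1) = 2 * (m' + 1) from hd) RM hRMi (orderOf_eq_prime hRMr hM1))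
    · have hMu := no_rp p h2 _ hndM hr hr2 hrp hk hm (by omega) RM uM hRMi huMi hcM hRMr huMp hM1
      have hPu := unipotent_small p h2 _ hndP (by omega) uP huPi huPp
      exact huor.elim (fun h => h hPu) (fun h => h hMu)

end CfsgLib.Classical.OddSpectraDiffer
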