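import Cfsg.Agent.Lib.Classical.OrthEmbed
import Cfsg.Agent.Lib.Classical.AdjacencyExist
import Cfsg.Agent.Lib.Classical.QuadOrder
import Cfsg.Agent.Lib.Orth.Centre
import Cfsg.Agent.Lib.Orth.Field.Normal

/-!
Cyclic subgroups of order dividing `q^e ± 1` in odd dimensional orthogonal groups, and passage to `POmega`.
-/

set_option autoImplicit false

namespace CfsgLib.Classical.OddTori

open Matrix Module

variable {F : Type*} [Field F] [Fintype F]

local notation "q" => Fintype.card F
local notation "O" n => Cfsg.isometryGroup F (Cfsg.quadFormOdd n F)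

theorem extend (h2 : (2 : F) ≠ 0) {n e : ℕ} (he : e ≤ n) {V : Type*} [AddCommGroup V] [Module F V] [FiniteDimensional F V]
    (Q : QuadraticForm F V) (hQ : (QuadraticMap.polarBilin Q).Nondegenerate) (hd : finrank F V = 2 * e)
    {G : Type*} [Group G] (ρ : G →* Module.End F V) (hρ : ∀ g x, Q (ρ g x) = Q x) (hinj : Function.Injective ρ) :
    ∃ φ : G × ↥(O (n - e)) →* ↥(O n), Function.Injective φ := by
  classical
  let P := Q.prod (oddQ (n - e) F)
  have hpol : ∀ x y, QuadraticMap.polar ⇑P x y =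
      QuadraticMap.polar ⇑Q x.1 y.1 + QuadraticMap.polar ⇑(oddQ (n - e) F) x.2 y.2 := fun x y => by
    simp only [P, QuadraticMap.polar, QuadraticMap.prod_apply, Prod.fst_add, Prod.snd_add]
    ring
  have key : ∀ x, (∀ y, QuadraticMap.polar ⇑P x y = 0) → x = 0 := fun x hx => by
    refine Prod.ext (hQ.1 _ fun y => ?_) ((oddQ_nondeg h2 (n - e)).1 _ fun y => ?_)
    · have := hx (y, 0)
      rwa [hpol, QuadraticMap.polar_zero_right, add_zero] at this
    · have := hx (0, y)
      rwa [hpol, QuadraticMap.polar_zero_right, zero_add] at this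
  have hP : (QuadraticMap.polarBilin P).Nondegenerate :=
    ⟨key, fun y hy => key y fun x => (QuadraticMap.polar_comm _ y x).trans (hy x)⟩
  obtain ⟨d, L, hd0, hL, hLP⟩ := CfsgLib.Orth.FieldCls.exists_odd_normal h2 P hP (m := n) (by
    rw [Module.finrank_prod, hd, Module.finrank_pi, Fintype.card_sum, Fintype.card_sum, Fintype.card_unit,
      Fintype.card_fin]
    omega)
  let Le := LinearMap.linearEquivOfInjective L hL (by
    rw [Module.finrank_prod, hd, Module.finrank_pi, Module.finrank_pi, Fintype.card_sum, Fintype.card_sum,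
      Fintype.card_sum, Fintype.card_sum, Fintype.card_unit, Fintype.card_fin, Fintype.card_fin]
    omega)
  let τ : G × ↥(O (n - e)) →* Module.End F (V × (Unit ⊕ (Fin (n - e) ⊕ Fin (n - e)) → F)) :=
    { toFun := fun g => (ρ g.1).prodMap (g.2.1.1.mulVecLin)
      map_one' := LinearMap.ext fun x => by simp
      map_mul' := fun g h => LinearMap.ext fun x => by simp [Matrix.mulVec_mulVec] }
  refine OrthEmbed.hom_of_action _ Le τ (fun g x => ?_) fun g h hgh => ?_
  · refine mul_left_cancel₀ hd0 ?_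
    rw [← hLP, ← hLP]
    show P (Le (Le.symm (τ g (Le x)))) = P (Le x)
    rw [Le.apply_symm_apply]
    simp only [P, QuadraticMap.prod_apply, τ, MonoidHom.coe_mk, OneHom.coe_mk, LinearMap.prodMap_apply,
      Matrix.mulVecLin_apply, hρ, oddQ_coe, mem_isometryGroup_iff.1 g.2.2]
  · refine Prod.ext (hinj (LinearMap.ext fun x => ?_)) (Subtype.ext (Units.ext (Matrix.ext_iff_mulVec.2 fun y => ?_)))
    · exact congrArg (fun f : Module.End F (V × _) => (f (x, 0)).1) hgh
    · exact congrArg (fun f : Module.End F (V × _) => (f (0, y)).2) hgh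

theorem exists_block (h2 : (2 : F) ≠ 0) {n e t : ℕ} (he1 : 1 ≤ e) (he : e ≤ n) (ht : t ∣ q ^ e - 1 ∨ t ∣ q ^ e + 1)
    (y : ↥(O (n - e))) : ∃ z : ↥(O n), orderOf z = Nat.lcm t (orderOf y) := by
  classical
  obtain ⟨p, hp⟩ := CharP.exists F
  haveI : Fact p.Prime := ⟨CharP.char_is_prime F p⟩
  have key : ∀ {V : Type _} [AddCommGroup V] [Module F V] [FiniteDimensional F V] (Q : QuadraticForm F V),
      (QuadraticMap.polarBilin Q).Nondegenerate → finrank F V = 2 * e → ∀ (f : Module.End F V),
      orderOf f = t → 0 < t → (∀ x, Q (f x) = Q x) → ∃ z : ↥(O n), orderOf z = Nat.lcm t (orderOf y) := by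
    intro V _ _ _ Q hQ hd f hf ht0 hfQ
    obtain ⟨u, hu⟩ : IsUnit f := IsUnit.of_pow_eq_one (by rw [← hf]; exact pow_orderOf_eq_one f) ht0.ne'
    have hall : ∀ g ∈ Subgroup.zpowers u, ∀ x, Q ((g : Module.End F V) x) = Q x := fun g hg => by
      obtain ⟨k, rfl⟩ : ∃ k : ℕ, u ^ k = g := by
        have hfin : IsOfFinOrder u := orderOf_pos_iff.1 (by rw [← orderOf_units, hu, hf]; exact ht0)
        exact Submonoid.mem_powers_iff _ _ |>.1 (IsOfFinOrder.mem_powers_iff_mem_zpowers hfin |>.2 hg)
      intro x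
      rw [Units.val_pow_eq_pow_val, hu]
      induction k generalizing x with
      | zero => rfl
      | succ k ih => rw [pow_succ, Module.End.mul_apply, ih (pow_mem (Subgroup.mem_zpowers u) k), hfQ]
    let ρ : ↥(Subgroup.zpowers u) →* Module.End F V := (Units.coeHom _).comp (Subgroup.zpowers u).subtype
    have hρi : Function.Injective ρ := fun g h hgh => Subtype.ext (Units.ext hgh)
    obtain ⟨φ, hφ⟩ := extend h2 he Q hQ hd ρ (fun g x => hall g.1 g.2 x) hρi
    refine ⟨φ (⟨u, Subgroup.mem_zpowers u⟩, y), ?_⟩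
    rw [orderOf_injective φ hφ, Prod.orderOf, Subgroup.orderOf_mk, ← orderOf_units, hu, hf]
  have ht0 : 0 < t := by
    have h1 : 1 < q ^ e := Nat.one_lt_pow (by omega) Fintype.one_lt_card
    rcases ht with ht | ht <;> exact Nat.pos_of_dvd_of_pos ht (by omega)
  have root : ∀ {d : ℕ}, 1 ≤ d → t ∣ q ^ d - 1 → ∀ (K : Type _) [Field K] [Algebra F K] [Fintype K],
      Fintype.card K = q ^ d → ∃ w : K, orderOf w = t := by
    intro d hd hdt K _ _ _ hK
    obtain ⟨u, hu⟩ := IsCyclic.exists_ofOrder_eq_natCard (α := Kˣ)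
    rw [Nat.card_units, Nat.card_eq_fintype_card, hK] at hu
    exact ⟨((u ^ (orderOf u / t) : Kˣ) : K), by
      rw [orderOf_units, orderOf_pow_orderOf_div (orderOf_pos u).ne' (hu ▸ hdt)]⟩
  rcases ht with ht | ht
  · -- split torus
    haveI : NeZero e := ⟨by omega⟩
    let K := FiniteField.Extension F p e
    have hfin : finrank F K = e := FiniteField.finrank_extension F p e
    haveI : Finite K := Module.finite_of_finite F
    letI : Fintype K := Fintype.ofFinite K
    obtain ⟨w, hw⟩ := root he1 ht K (by rw [Module.card_eq_pow_finrank (K := F), hfin])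
    have hw0 : w ≠ 0 := fun h => by
      have := pow_orderOf_eq_one w
      rw [hw, h, zero_pow ht0.ne'] at this
      exact zero_ne_one this
    let B : LinearMap.BilinMap F (K × K) F := (Algebra.traceForm F K).compl₁₂ (LinearMap.fst F K K) (LinearMap.snd F K K)
    let f : Module.End F (K × K) := (LinearMap.mulLeft F w).prodMap (LinearMap.mulLeft F w⁻¹)
    have hB : ∀ x, B.toQuadraticMap x = Algebra.trace F K (x.1 * x.2) := fun x => by
      simp [B, Algebra.traceForm_apply]
    have hpol : ∀ x y : K × K, QuadraticMap.polar ⇑B.toQuadraticMap x y = Algebra.trace F K (x.1 * y.2 + y.1 * x.2) :=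
      fun x y => by
        simp only [QuadraticMap.polar, hB, Prod.fst_add, Prod.snd_add, ← map_sub]
        congr 1
        ring
    have hnd : (QuadraticMap.polarBilin B.toQuadraticMap).Nondegenerate := by
      have key' : ∀ x : K × K, (∀ y, QuadraticMap.polar ⇑B.toQuadraticMap x y = 0) → x = 0 := fun x hx => by
        refine Prod.ext ((traceForm_nondegenerate F K).1 _ fun z => ?_) ((traceForm_nondegenerate F K).1 _ fun z => ?_)
        · have := hx (0, z)
          simpa [hpol, Algebra.traceForm_apply] using this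
        · have := hx (z, 0)
          simpa [hpol, Algebra.traceForm_apply, mul_comm] using this
      exact ⟨key', fun y hy => key' y fun x => (QuadraticMap.polar_comm _ y x).trans (hy x)⟩
    refine key B.toQuadraticMap hnd (by rw [Module.finrank_prod, hfin, two_mul]) f ?_ ht0 fun x => ?_
    · rw [← hw]
      refine orderOf_eq_orderOf_iff.2 fun i => ?_
      have hfi : ∀ x, (f ^ i) x = (w ^ i * x.1, w⁻¹ ^ i * x.2) := fun x => by
        induction i with
        | zero => simp
        | succ i ih => rw [pow_succ', Module.End.mul_apply, ih]; simp [f, pow_succ', mul_assoc]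
      constructor
      · intro h
        have := congrArg (fun g : Module.End F (K × K) => (g (1, 0)).1) h
        simpa [hfi] using this
      · intro h
        exact LinearMap.ext fun x => by rw [hfi, inv_pow, h, inv_one, one_mul, one_mul]; rfl
    · rw [hB, hB]
      simp only [f, LinearMap.prodMap_apply, LinearMap.mulLeft_apply]
      rw [mul_mul_mul_comm, mul_inv_cancel₀ hw0, one_mul]
  · -- nonsplit torus
    haveI : NeZero (2 * e) := ⟨by omega⟩
    let K := FiniteField.Extension F p (2 * e)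
    have hfin : finrank F K = 2 * e := FiniteField.finrank_extension F p (2 * e)
    haveI : Finite K := Module.finite_of_finite F
    letI : Fintype K := Fintype.ofFinite K
    have hK : Fintype.card K = q ^ (2 * e) := by rw [Module.card_eq_pow_finrank (K := F), hfin]
    have hmul : q ^ (2 * e) - 1 = (q ^ e + 1) * (q ^ e - 1) := by
      rw [← Nat.sq_sub_sq, one_pow, ← pow_mul, mul_comm]
    obtain ⟨w, hw⟩ := root (d := 2 * e) (by omega) (hmul ▸ ht.mul_right _) K hK
    let σ : K →ₐ[F] K := (FiniteField.frobeniusAlgEquivOfAlgebraic F K ^ e : K ≃ₐ[F] K).toAlgHom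
    have hσ : ∀ x : K, σ x = x ^ q ^ e := fun x => by
      show (FiniteField.frobeniusAlgEquivOfAlgebraic F K ^ e : K ≃ₐ[F] K) x = _
      rw [AlgEquiv.coe_pow, FiniteField.coe_frobeniusAlgEquivOfAlgebraic, pow_iterate]
    have hσσ : ∀ x, σ (σ x) = x := fun x => by
      rw [hσ, hσ, ← pow_mul, ← pow_add, ← two_mul, ← hK, FiniteField.pow_card]
    have htr : ∀ x, Algebra.trace F K (σ x) = Algebra.trace F K x := fun x =>
      Algebra.trace_eq_of_algEquiv (FiniteField.frobeniusAlgEquivOfAlgebraic F K ^ e : K ≃ₐ[F] K) x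
    let B : LinearMap.BilinMap F K F := (Algebra.traceForm F K).compl₁₂ LinearMap.id σ.toLinearMap
    let f : Module.End F K := LinearMap.mulLeft F w
    have hB : ∀ x, B.toQuadraticMap x = Algebra.trace F K (x * σ x) := fun x => by
      simp [B, Algebra.traceForm_apply]
    have hpol : ∀ x y : K, QuadraticMap.polar ⇑B.toQuadraticMap x y = 2 * Algebra.trace F K (x * σ y) := fun x y => by
      simp only [QuadraticMap.polar, hB, map_add, add_mul, mul_add]
      rw [← htr (y * σ x), map_mul σ, hσσ, mul_comm (σ y) x]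
      ring
    have hnd : (QuadraticMap.polarBilin B.toQuadraticMap).Nondegenerate := by
      have key' : ∀ x : K, (∀ y, QuadraticMap.polar ⇑B.toQuadraticMap x y = 0) → x = 0 := fun x hx =>
        (traceForm_nondegenerate F K).1 _ fun z => by
          have := hx (σ z)
          rw [hpol, hσσ] at this
          rw [Algebra.traceForm_apply]
          exact (mul_eq_zero.1 this).resolve_left h2
      exact ⟨key', fun y hy => key' y fun x => (QuadraticMap.polar_comm _ y x).trans (hy x)⟩
    refine key B.toQuadraticMap hnd hfin f ?_ ht0 fun x => ?_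
    · rw [← hw]
      exact orderOf_injective (Algebra.lmul F K).toMonoidHom Algebra.lmul_injective w
    · rw [hB, hB]
      simp only [f, LinearMap.mulLeft_apply, map_mul]
      rw [mul_mul_mul_comm, hσ w, ← pow_succ']
      have : w ^ (q ^ e + 1) = 1 := orderOf_dvd_iff_pow_eq_one.1 (hw ▸ ht)
      rw [this, one_mul]

theorem exists_char (h2 : (2 : F) ≠ 0) (p : ℕ) [Fact p.Prime] [CharP F p] {m : ℕ} (hm : 1 ≤ m) :
    ∃ u : ↥(O m), orderOf u = p := by
  refine exists_prime_orderOf_dvd_card' p ?_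
  rw [card_iso_odd h2]
  obtain ⟨f, -, hf⟩ := FiniteField.card F p
  refine Dvd.dvd.mul_right (Dvd.dvd.mul_left ?_ _) _
  rw [hf, ← pow_mul]
  exact dvd_pow_self p (Nat.mul_ne_zero f.pos.ne' (by positivity))

section omega

variable {n : ℕ} (h2 : (2 : F) ≠ 0) (hn : 2 ≤ n)
include h2 hn

theorem sq_mem (z : ↥(O n)) : z ^ 2 ∈ Cfsg.Omega F (Cfsg.quadFormOdd n F) := by
  have hQ := CfsgLib.Orth.nd_of_qf _ (oddQ_nondeg (F := F) h2 n)
  rw [oddQ_coe] at hQ
  rw [← CfsgLib.Orth.clsHom_ker hQ (by simp; omega) (CfsgLib.Orth.hex_of_two h2), MonoidHom.mem_ker, map_pow]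
  refine Prod.ext ?_ ?_
  · obtain ⟨u, hu⟩ := QuotientGroup.mk'_surjective _ ((CfsgLib.Orth.clsHom hQ (CfsgLib.Orth.hex_of_two h2)) z).1
    rw [Prod.pow_fst, ← hu]
    exact (map_pow (CfsgLib.Orth.sqMk F) u 2).symm.trans (CfsgLib.Orth.sqMk_eq_one_iff.2 ⟨u, rfl⟩)
  · rw [Prod.pow_snd, pow_two]
    exact (show ∀ x : Multiplicative (ZMod 2), x * x = 1 by decide) _

theorem center_eq_bot : Subgroup.center (Cfsg.Omega F (Cfsg.quadFormOdd n F)) = ⊥ := by
  have hQ := CfsgLib.Orth.nd_of_qf _ (oddQ_nondeg (F := F) h2 n)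
  rw [oddQ_coe] at hQ
  refine (Subgroup.eq_bot_iff_forall _).2 fun z hz => ?_
  rcases CfsgLib.Orth.omega_center_sign hQ (by simp; omega) hz with h | h
  · exact Subtype.ext (Subtype.ext (Units.ext h))
  · have hmem := (CfsgLib.Orth.mem_omega_iff hQ (by simp; omega) (CfsgLib.Orth.hex_of_two h2) (g := z.1)).1 z.2
    have hdet := (CfsgLib.Orth.det_eq_one_iff hQ h2 z.1.2).2 hmem.2
    rw [h, Matrix.det_neg, Matrix.det_one, mul_one, Odd.neg_one_pow] at hdet
    · exact absurd hdet fun e => h2 (by linear_combination -e)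
    · simp only [Fintype.card_sum, Fintype.card_unit, Fintype.card_fin]
      exact ⟨n, by ring⟩

theorem orderOf_mk (z : Cfsg.Omega F (Cfsg.quadFormOdd n F)) :
    orderOf (QuotientGroup.mk z : Cfsg.POmega F (Cfsg.quadFormOdd n F)) = orderOf z.1 := by
  rw [Subgroup.orderOf_coe]
  refine orderOf_injective (QuotientGroup.mk' _) (fun a b h => ?_) z
  have := QuotientGroup.eq.1 h
  rw [center_eq_bot h2 hn, Subgroup.mem_bot, inv_mul_eq_one] at this
  exact this

theorem mem_range_iff {t : ℕ} : t ∈ Set.range (orderOf : Cfsg.POmega F (Cfsg.quadFormOdd n F) → ℕ) ↔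
    ∃ z ∈ Cfsg.Omega F (Cfsg.quadFormOdd n F), orderOf z = t := by
  constructor
  · rintro ⟨x, rfl⟩
    obtain ⟨z, rfl⟩ := QuotientGroup.mk_surjective x
    exact ⟨z.1, z.2, (orderOf_mk h2 hn z).symm⟩
  · rintro ⟨z, hz, rfl⟩
    exact ⟨_, orderOf_mk h2 hn ⟨z, hz⟩⟩

/-- An odd order element, or the square of an element of even order. -/
theorem mem_range_of_order {z : ↥(O n)} {t : ℕ} (hz : orderOf z = t ∧ Odd t ∨ orderOf z = 2 * t) :
    t ∈ Set.range (orderOf : Cfsg.POmega F (Cfsg.quadFormOdd n F) → ℕ) := by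
  rw [mem_range_iff h2 hn]
  refine ⟨z ^ 2, sq_mem h2 hn z, ?_⟩
  rcases hz with ⟨h, ho⟩ | h
  · exact (Nat.Coprime.orderOf_pow (h ▸ Nat.coprime_two_right.2 ho)).trans h
  · rw [orderOf_pow' z two_ne_zero, h, Nat.gcd_eq_right (Dvd.intro t rfl), Nat.mul_div_cancel_left _ two_pos]

end omega

end CfsgLib.Classical.OddTori
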