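import Cfsg.Agent.Lib.Classical.QuadBasic
import Cfsg.Agent.Lib.Classical.QuadDisc
import Cfsg.Agent.Lib.Orth.Facts
import Cfsg.Agent.Lib.Orth.Centre

/-!
# Involutions of every rank in `Omega` of odd dimension
-/

set_option autoImplicit false

namespace CfsgLib.Classical.OmegaInvolRanks

open Matrix Module CfsgLib.Classical

theorem exists_pairing {κ : Type*} [DecidableEq κ] (same : κ → κ → Prop) (hsymm : ∀ a b, same a b → same b a)
    (h3 : ∀ a b c, same a b ∨ same a c ∨ same b c) :
    ∀ (k : ℕ) (s : Finset κ), 2 * k + 1 ≤ s.card →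
      ∃ p r : Fin k → κ, (∀ i, p i ∈ s ∧ r i ∈ s ∧ same (p i) (r i)) ∧ Function.Injective (Sum.elim p r) := by
  intro k
  induction k with
  | zero => exact fun s _ => ⟨fun i => i.elim0, fun i => i.elim0, fun i => i.elim0, fun i => Sum.elim (Fin.elim0) (Fin.elim0) i⟩
  | succ k ih =>
    intro s hs
    obtain ⟨a, ha, b, hb, hab⟩ := Finset.one_lt_card.1 (show 1 < s.card by omega)
    obtain ⟨c, hc⟩ : ((s.erase a).erase b).Nonempty := Finset.card_pos.1 (by
      rw [Finset.card_erase_of_mem (Finset.mem_erase.2 ⟨hab.symm, hb⟩), Finset.card_erase_of_mem ha]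
      omega)
    simp only [Finset.mem_erase] at hc
    obtain ⟨x, hx, y, hy, hxy, hsame⟩ : ∃ x ∈ s, ∃ y ∈ s, x ≠ y ∧ same x y := by
      rcases h3 a b c with h | h | h
      · exact ⟨a, ha, b, hb, hab, h⟩
      · exact ⟨a, ha, c, hc.2.2, Ne.symm hc.2.1, h⟩
      · exact ⟨b, hb, c, hc.2.2, Ne.symm hc.1, h⟩
    obtain ⟨p, r, hpr, hinj⟩ := ih ((s.erase x).erase y) (by
      rw [Finset.card_erase_of_mem (Finset.mem_erase.2 ⟨hxy.symm, hy⟩), Finset.card_erase_of_mem hx]
      omega)
    simp only [Finset.mem_erase] at hpr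
    refine ⟨Fin.cons x p, Fin.cons y r, fun i => ?_, ?_⟩
    · induction i using Fin.cases with
      | zero => exact ⟨hx, hy, hsame⟩
      | succ i => exact ⟨(hpr i).1.2.2, (hpr i).2.1.2.2, (hpr i).2.2⟩
    · rw [Sum.elim_injective]
      have hp := fun i j => @hinj (.inl i) (.inl j)
      have hr := fun i j => @hinj (.inr i) (.inr j)
      refine ⟨?_, ?_, ?_⟩
      · rw [Fin.cons_injective_iff]
        exact ⟨fun ⟨i, hi⟩ => (hpr i).1.2.1 hi, fun i j h => Sum.inl_injective (hp i j h)⟩
      · rw [Fin.cons_injective_iff]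
        exact ⟨fun ⟨i, hi⟩ => (hpr i).2.1.1 hi, fun i j h => Sum.inr_injective (hr i j h)⟩
      · intro i j
        induction i using Fin.cases with
        | zero =>
          induction j using Fin.cases with
          | zero => exact hxy
          | succ j => exact fun h => (hpr j).2.1.2.1 h.symm
        | succ i =>
          induction j using Fin.cases with
          | zero => exact fun h => (hpr i).1.1 h
          | succ j => exact fun h => Sum.inl_ne_inr (@hinj (.inl i) (.inr j) h)

variable {ι : Type} [Fintype ι] [DecidableEq ι] {F : Type*} [Field F] [Fintype F]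
variable (Q : QuadraticForm F (ι → F))

set_option quotPrecheck false in
local notation "pol" => QuadraticMap.polar ⇑Q

omit [Fintype F] in
theorem refl_fix {v x : ι → F} (hv : Q v ≠ 0) (h : pol v x = 0) :
    (reflectionIso Q v hv).1.1 *ᵥ x = x := by
  rw [reflectionIso_coe, reflectionMatrix_mulVec, h, mul_zero, zero_smul, sub_zero]

omit [Fintype F] in
theorem refl_self (h2 : (2 : F) ≠ 0) {v : ι → F} (hv : Q v ≠ 0) :
    (reflectionIso Q v hv).1.1 *ᵥ v = -v := by
  rw [reflectionIso_coe, reflectionMatrix_mulVec, polar_self_two, mul_comm (2 : F), ← mul_assoc,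
    inv_mul_cancel₀ hv, one_mul, two_smul]
  abel

omit [Fintype F] in
theorem refl_invol {v : ι → F} (hv : Q v ≠ 0) :
    reflectionIso Q v hv * reflectionIso Q v hv = 1 := by
  refine Subtype.ext (Units.ext (Matrix.ext_iff_mulVec.2 fun x => ?_))
  show ((reflectionIso Q v hv).1.1 * (reflectionIso Q v hv).1.1) *ᵥ x = (1 : Matrix ι ι F) *ᵥ x
  rw [← Matrix.mulVec_mulVec, reflectionIso_coe, reflectionMatrix_mulVec Q v x, Matrix.mulVec_sub,
    Matrix.mulVec_smul, reflectionMatrix_mulVec, reflectionMatrix_mulVec, polar_self_two, Matrix.one_mulVec]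
  rw [mul_comm (2 : F), ← mul_assoc, inv_mul_cancel₀ hv, one_mul, two_smul, smul_sub, smul_add]
  abel

omit [Fintype F] in
/-- A commutator negating two orthogonal vectors of equal value. -/
theorem exists_negate_pair (h2 : (2 : F) ≠ 0) {e f : ι → F} (he : Q e ≠ 0) (hef : pol e f = 0) (hQf : Q f = Q e) :
    ∃ g : ↥(Cfsg.isometryGroup F ⇑Q), g ∈ Cfsg.Omega F ⇑Q ∧ g.1.1 *ᵥ e = -e ∧ g.1.1 *ᵥ f = -f ∧
      ∀ x, pol e x = 0 → pol f x = 0 → g.1.1 *ᵥ x = x := by
  have hp : ∀ x, pol (e - f) x = pol e x - pol f x := fun x => by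
    show QuadraticMap.polarBilin Q (e - f) x = _
    rw [map_sub, LinearMap.sub_apply]
    rfl
  have hqd : Q (e - f) = 2 * Q e := by
    rw [sub_eq_add_neg, map_add_polar, QuadraticMap.map_neg, hQf,
      show pol e (-f) = -pol e f from map_neg (QuadraticMap.polarBilin Q e) f, hef]
    ring
  have hd : Q (e - f) ≠ 0 := by rw [hqd]; exact mul_ne_zero h2 he
  set s := reflectionIso Q e he
  set r := reflectionIso Q (e - f) hd
  have hse : s.1.1 *ᵥ e = -e := refl_self Q h2 he
  have hsf : s.1.1 *ᵥ f = f := refl_fix Q he hef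
  have hfe : pol f e = 0 := by rw [QuadraticMap.polar_comm, hef]
  have hre : r.1.1 *ᵥ e = f := by
    rw [reflectionIso_coe, reflectionMatrix_mulVec, hp, polar_self_two, hfe, sub_zero, hqd,
      inv_mul_cancel₀ (mul_ne_zero h2 he), one_smul, sub_sub_cancel]
  have hrf : r.1.1 *ᵥ f = e := by
    rw [reflectionIso_coe, reflectionMatrix_mulVec, hp, polar_self_two, hef, zero_sub, hQf, hqd, mul_neg,
      inv_mul_cancel₀ (mul_ne_zero h2 he), neg_one_smul, sub_neg_eq_add, add_sub_cancel]
  refine ⟨s * r * s * r, ?_, ?_, ?_, fun x hx hy => ?_⟩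
  · have hs : s⁻¹ = s := inv_eq_of_mul_eq_one_right (refl_invol Q he)
    have hr : r⁻¹ = r := inv_eq_of_mul_eq_one_right (refl_invol Q hd)
    have := Subgroup.commutator_mem_commutator (H₁ := (⊤ : Subgroup ↥(Cfsg.isometryGroup F ⇑Q))) (H₂ := ⊤)
      (Subgroup.mem_top s) (Subgroup.mem_top r)
    rwa [commutatorElement_def, hs, hr] at this
  · show (s.1.1 * r.1.1 * s.1.1 * r.1.1) *ᵥ e = -e
    simp only [← Matrix.mulVec_mulVec, hre, hsf, hrf, hse]
  · show (s.1.1 * r.1.1 * s.1.1 * r.1.1) *ᵥ f = -f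
    simp only [← Matrix.mulVec_mulVec, hrf, hse, Matrix.mulVec_neg, hre, hsf]
  · show (s.1.1 * r.1.1 * s.1.1 * r.1.1) *ᵥ x = x
    have hsx : s.1.1 *ᵥ x = x := refl_fix Q he hx
    have hrx : r.1.1 *ᵥ x = x := refl_fix Q hd (by rw [hp, hx, hy, sub_zero])
    simp only [← Matrix.mulVec_mulVec, hsx, hrx]

/-- Involutions of every even rank. -/
theorem exists_ranks (h2 : (2 : F) ≠ 0) (hQ : (QuadraticMap.polarBilin Q).Nondegenerate) (n : ℕ)
    (hn : Fintype.card ι = 2 * n + 1) :
    ∀ k ≤ n, ∃ g : ↥(Cfsg.isometryGroup F ⇑Q), g ∈ Cfsg.Omega F ⇑Q ∧ g * g = 1 ∧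
      finrank F (LinearMap.range (g.1.1 - 1).mulVecLin) = 2 * k := by
  classical
  haveI : Invertible (2 : F) := invertibleOfNonzero h2
  obtain ⟨b, hb⟩ := LinearMap.BilinForm.exists_orthogonal_basis (B := QuadraticMap.polarBilin Q)
    ⟨fun x y => QuadraticMap.polar_comm ⇑Q x y⟩
  have horth : ∀ i j, i ≠ j → pol (b i) (b j) = 0 := fun i j h => hb h
  have hne : ∀ i, Q (b i) ≠ 0 := by
    intro i h
    refine b.ne_zero i (hQ.1 _ fun y => ?_)
    rw [← b.sum_repr y, map_sum]
    refine Finset.sum_eq_zero fun j _ => ?_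
    rw [map_smul]
    rcases eq_or_ne i j with rfl | hij
    · simp [QuadraticMap.polarBilin_apply_apply, polar_self_two, h]
    · simp [QuadraticMap.polarBilin_apply_apply, horth i j hij]
  have hsame3 : ∀ x y z, IsSquare (Q (b x) * Q (b y)) ∨ IsSquare (Q (b x) * Q (b z)) ∨
      IsSquare (Q (b y) * Q (b z)) := by
    intro x y z
    by_cases hx : IsSquare (Q (b x)) <;> by_cases hy : IsSquare (Q (b y)) <;> by_cases hz : IsSquare (Q (b z))
    all_goals first
      | exact Or.inl (hx.mul hy)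
      | exact Or.inr (Or.inl (hx.mul hz))
      | exact Or.inr (Or.inr (hy.mul hz))
      | exact Or.inl (isSquare_mul_of_not h2 hx hy)
      | exact Or.inr (Or.inl (isSquare_mul_of_not h2 hx hz))
      | exact Or.inr (Or.inr (isSquare_mul_of_not h2 hy hz))
  intro k hk
  obtain ⟨p, r, hpr, hinj⟩ := exists_pairing (fun x y => IsSquare (Q (b x) * Q (b y)))
    (fun x y h => by rwa [mul_comm]) hsame3 k Finset.univ (by
      rw [Finset.card_univ, Fintype.card_fin, Module.finrank_fintype_fun_eq_card, hn]; omega)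
  -- negate the first pairs one after another
  have key : ∀ l, l ≤ k → ∃ g : ↥(Cfsg.isometryGroup F ⇑Q), g ∈ Cfsg.Omega F ⇑Q ∧
      ∀ i, g.1.1 *ᵥ b i = if (∃ t : Fin k, t.1 < l ∧ (p t = i ∨ r t = i)) then -b i else b i := by
    intro l
    induction l with
    | zero =>
      refine fun _ => ⟨1, one_mem _, fun i => ?_⟩
      rw [if_neg (by rintro ⟨t, ht, -⟩; exact absurd ht (Nat.not_lt_zero _))]
      exact Matrix.one_mulVec _
    | succ l ih =>
      intro hl
      obtain ⟨g, hg, hgb⟩ := ih (by omega)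
      set t : Fin k := ⟨l, hl⟩
      obtain ⟨c, hc⟩ := (hpr t).2.2
      have hc0 : c ≠ 0 := fun h => mul_ne_zero (hne (p t)) (hne (r t)) (by rw [hc, h, mul_zero])
      have hpne : p t ≠ r t := fun h => Sum.inl_ne_inr (@hinj (.inl t) (.inr t) h)
      set e := b (p t)
      set f := (Q (b (p t)) / c) • b (r t)
      obtain ⟨u, hu, hue, huf, hux⟩ := exists_negate_pair Q h2 (e := e) (f := f) (hne _) (by
          show QuadraticMap.polarBilin Q e f = 0
          rw [map_smul, QuadraticMap.polarBilin_apply_apply, horth _ _ hpne, smul_zero])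
        (by
          rw [QuadraticMap.map_smul, smul_eq_mul, div_mul_div_comm]
          field_simp
          linear_combination (Q (b (p t))) * hc)
      have hfb : u.1.1 *ᵥ b (r t) = -b (r t) := by
        rw [Matrix.mulVec_smul, ← smul_neg] at huf
        exact smul_right_injective _ (div_ne_zero (hne _) hc0) huf
      refine ⟨u * g, mul_mem hu hg, fun i => ?_⟩
      show (u.1.1 * g.1.1) *ᵥ b i = _
      rw [← Matrix.mulVec_mulVec, hgb]
      by_cases hi : p t = i ∨ r t = i
      · rw [if_neg ?_, if_pos ⟨t, Nat.lt_succ_self l, hi⟩]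
        · rcases hi with rfl | rfl
          · exact hue
          · exact hfb
        · rintro ⟨t', ht', h⟩
          have hne' : t' ≠ t := fun e' => by rw [e'] at ht'; exact lt_irrefl _ ht'
          rcases hi with rfl | rfl <;> rcases h with h | h
          · exact hne' (Sum.inl_injective (@hinj (.inl t') (.inl t) h))
          · exact Sum.inl_ne_inr (@hinj (.inl t) (.inr t') h.symm)
          · exact Sum.inl_ne_inr (@hinj (.inl t') (.inr t) h)
          · exact hne' (Sum.inr_injective (@hinj (.inr t') (.inr t) h))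
      · push Not at hi
        have hfix : u.1.1 *ᵥ b i = b i := hux _ (horth _ _ hi.1) (by
          show QuadraticMap.polarBilin Q f (b i) = 0
          rw [map_smul, LinearMap.smul_apply, QuadraticMap.polarBilin_apply_apply, horth _ _ hi.2, smul_zero])
        by_cases h : ∃ t' : Fin k, t'.1 < l ∧ (p t' = i ∨ r t' = i)
        · obtain ⟨t', ht', h'⟩ := h
          rw [if_pos ⟨t', ht', h'⟩, if_pos ⟨t', Nat.lt_succ_of_lt ht', h'⟩, Matrix.mulVec_neg, hfix]
        · rw [if_neg h, if_neg ?_, hfix]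
          rintro ⟨t', ht', h'⟩
          rcases (Nat.lt_succ_iff.1 ht').lt_or_eq with h'' | h''
          · exact h ⟨t', h'', h'⟩
          · obtain rfl : t' = t := Fin.ext h''
            exact h'.elim hi.1 hi.2
  obtain ⟨g, hg, hgb⟩ := key k le_rfl
  refine ⟨g, hg, Subtype.ext (Units.ext (Matrix.toLin'.injective (b.ext fun i => ?_))), ?_⟩
  · show Matrix.toLin' (g.1.1 * g.1.1) (b i) = Matrix.toLin' 1 (b i)
    rw [Matrix.toLin'_apply, Matrix.toLin'_apply, ← Matrix.mulVec_mulVec, Matrix.one_mulVec, hgb]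
    split_ifs with h
    · rw [Matrix.mulVec_neg, hgb, if_pos h, neg_neg]
    · rw [hgb, if_neg h]
  · have himg : LinearMap.range (g.1.1 - 1).mulVecLin = Submodule.span F (Set.range (b ∘ Sum.elim p r)) := by
      rw [LinearMap.range_eq_map, ← b.span_eq, Submodule.map_span, ← Set.range_comp]
      refine le_antisymm (Submodule.span_le.2 ?_) (Submodule.span_le.2 ?_)
      · rintro _ ⟨i, rfl⟩
        rw [Function.comp_apply, Matrix.mulVecLin_apply, Matrix.sub_mulVec, Matrix.one_mulVec, hgb]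
        split_ifs with h
        · obtain ⟨t, -, h⟩ := h
          refine Submodule.sub_mem _ (Submodule.neg_mem _ ?_) ?_ <;>
          · rcases h with rfl | rfl
            · exact Submodule.subset_span ⟨.inl t, rfl⟩
            · exact Submodule.subset_span ⟨.inr t, rfl⟩
        · rw [sub_self]; exact Submodule.zero_mem _
      · rintro _ ⟨s, rfl⟩
        obtain ⟨t, ht⟩ : ∃ t : Fin k, p t = Sum.elim p r s ∨ r t = Sum.elim p r s := by
          rcases s with t | t
          · exact ⟨t, Or.inl rfl⟩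
          · exact ⟨t, Or.inr rfl⟩
        have hm : (g.1.1 - 1).mulVecLin (b (Sum.elim p r s)) = (-2 : F) • b (Sum.elim p r s) := by
          rw [Matrix.mulVecLin_apply, Matrix.sub_mulVec, Matrix.one_mulVec, hgb, if_pos ⟨t, t.isLt, ht⟩, neg_smul, two_smul]
          abel
        rw [Function.comp_apply, ← inv_smul_smul₀ (neg_ne_zero.2 h2) (b (Sum.elim p r s)), ← hm]
        exact Submodule.smul_mem _ _ (Submodule.subset_span ⟨_, rfl⟩)
    rw [himg, finrank_span_eq_card (b.linearIndependent.comp _ hinj)]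
    simp
    omega

/-- Pairwise non-conjugate involutions of `POmega`. -/
theorem exists_nonconj (h2 : (2 : F) ≠ 0) (hQ : (QuadraticMap.polarBilin Q).Nondegenerate) (n : ℕ) (hn2 : 2 ≤ n)
    (hn : Fintype.card ι = 2 * n + 1) :
    ∃ u : Fin n → Cfsg.POmega F ⇑Q, (∀ k, orderOf (u k) = 2) ∧ ∀ k l, IsConj (u k) (u l) → k = l := by
  classical
  have hnd := CfsgLib.Orth.nd_of_qf Q hQ
  choose g hgO hg2 hgr using fun k : Fin n => exists_ranks Q h2 hQ n hn (k.1 + 1) k.isLt
  let G : Fin n → Cfsg.Omega F ⇑Q := fun k => ⟨g k, hgO k⟩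
  have hdet : ∀ z : Cfsg.Omega F ⇑Q, z.1.1.1.det = 1 := by
    intro z
    let d : ↥(Cfsg.isometryGroup F ⇑Q) →* Fˣ :=
      Matrix.GeneralLinearGroup.det.comp (Cfsg.isometryGroup F ⇑Q).subtype
    have := Abelianization.commutator_subset_ker d z.2
    exact congrArg Units.val this
  have hcen : ∀ z ∈ Subgroup.center (Cfsg.Omega F ⇑Q), z = 1 := by
    intro z hz
    rcases CfsgLib.Orth.omega_center_sign hnd (by omega) hz with h | h
    · exact Subtype.ext (Subtype.ext (Units.ext h))
    · exfalso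
      have h1 := hdet z
      rw [h, Matrix.det_neg, Matrix.det_one, mul_one, hn, Odd.neg_one_pow ⟨n, rfl⟩] at h1
      exact h2 (by linear_combination -h1)
  have hinj : Function.Injective (QuotientGroup.mk' (Subgroup.center (Cfsg.Omega F ⇑Q))) := by
    rw [injective_iff_map_eq_one]
    exact fun a ha => hcen a ((QuotientGroup.eq_one_iff a).1 ha)
  refine ⟨fun k => QuotientGroup.mk' _ (G k), fun k => ?_, fun k l h => ?_⟩
  · have hne : G k ≠ 1 := fun h => by
      have h1 : (g k).1.1 = 1 := congrArg (fun z : Cfsg.Omega F ⇑Q => z.1.1.1) h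
      have h3 := hgr k
      rw [h1, sub_self, Matrix.mulVecLin_zero, LinearMap.range_zero, finrank_bot] at h3
      omega
    rw [orderOf_eq_prime_iff]
    refine ⟨?_, fun h => hne (hinj (h.trans (map_one _).symm))⟩
    rw [← map_pow, show (G k) ^ 2 = 1 from by rw [sq]; exact Subtype.ext (hg2 k), map_one]
  · obtain ⟨c, hc⟩ := isConj_iff.1 h
    obtain ⟨a, rfl⟩ := QuotientGroup.mk'_surjective _ c
    rw [← map_mul, ← map_inv, ← map_mul] at hc
    have hm : a.1.1.1 * (g k).1.1 * (a.1.1⁻¹).1 = (g l).1.1 :=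
      congrArg (fun z : Cfsg.Omega F ⇑Q => z.1.1.1) (hinj hc)
    have h1 : ((g l).1.1 - 1) = a.1.1.1 * ((g k).1.1 - 1) * (a.1.1⁻¹).1 := by
      rw [Matrix.mul_sub, Matrix.sub_mul, hm, Matrix.mul_one, Units.mul_inv]
    have h3 : ((g l).1.1 - 1).rank = ((g k).1.1 - 1).rank := by
      rw [h1, Matrix.rank_mul_eq_left_of_isUnit_det _ _ ((Matrix.isUnit_iff_isUnit_det _).1 (a.1.1⁻¹).isUnit),
        Matrix.rank_mul_eq_right_of_isUnit_det _ _ ((Matrix.isUnit_iff_isUnit_det _).1 a.1.1.isUnit)]
    rw [Matrix.rank, Matrix.rank, hgr, hgr] at h3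
    exact Fin.ext (by omega)

end CfsgLib.Classical.OmegaInvolRanks
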