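import Mathlib
import Cfsg.Agent.Lib.Classical.GL2Sylow

/-!
Two Sylow `2`-subgroups of `PGL(2, q)`, `q + 1` a power of two, meet non-trivially.
-/

set_option autoImplicit false

namespace CfsgLib.PGLTwoSylow

open Matrix
open scoped Pointwise

variable {F : Type*} [Field F]

/-- An element anticommuting-or-commuting with `A` is determined by few vectors. -/
theorem eigen_sum {A : Matrix (Fin 2) (Fin 2) F} {a : F} {v : Fin 2 → F} (h2 : (2 : F) ≠ 0)
    (htr : A 0 0 + A 1 1 = 0) (hdet : A.det ≠ 0) (hv : v ≠ 0) (ha : A *ᵥ v = a • v) :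
    a ≠ 0 ∧ ∃ w : Fin 2 → F, A *ᵥ w = -a • w ∧ LinearIndependent F ![v, w] := by
  have ha0 : a ≠ 0 := by
    rintro rfl
    rw [zero_smul] at ha
    exact hdet (Matrix.exists_mulVec_eq_zero_iff.1 ⟨v, hv, ha⟩)
  refine ⟨ha0, ?_⟩
  have hd : (A - a • 1).det = 0 := Matrix.exists_mulVec_eq_zero_iff.1 ⟨v, hv, by
    rw [Matrix.sub_mulVec, Matrix.smul_mulVec, Matrix.one_mulVec, ha, sub_self]⟩
  have hd2 : (A + a • 1).det = 0 := by
    simp [Matrix.det_fin_two] at hd ⊢
    linear_combination hd + 2 * a * htr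
  obtain ⟨w, hw, hw0⟩ := Matrix.exists_mulVec_eq_zero_iff.2 hd2
  rw [Matrix.add_mulVec, Matrix.smul_mulVec, Matrix.one_mulVec, add_eq_zero_iff_eq_neg] at hw0
  refine ⟨w, by rw [hw0, neg_smul], LinearIndependent.pair_iff.2 fun s t hst => ?_⟩
  have h1 := congrArg (A *ᵥ ·) hst
  simp only [Matrix.mulVec_add, Matrix.mulVec_smul, ha, hw0, Matrix.mulVec_zero] at h1
  have h3 : (2 * a * t) • w = 0 := by
    have : a • (s • v + t • w) - (s • a • v + t • -(a • w)) = 0 := by rw [hst, h1, smul_zero, sub_zero]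
    rw [← this]; module
  have ht : t = 0 := by
    by_contra ht
    exact hw ((smul_eq_zero.1 h3).resolve_left (by simp [h2, ha0, ht]))
  refine ⟨?_, ht⟩
  rw [ht, zero_smul, add_zero] at hst
  exact (smul_eq_zero.1 hst).resolve_right hv

theorem eq_of_mulVec_pair {g g' : GL (Fin 2) F} {v w : Fin 2 → F} (hli : LinearIndependent F ![v, w])
    (h1 : g.1 *ᵥ v = g'.1 *ᵥ v) (h2 : g.1 *ᵥ w = g'.1 *ᵥ w) : g = g' := by
  refine Units.ext (Matrix.toLin'.injective ((basisOfLinearIndependentOfCardEqFinrank hli (by simp)).ext fun i => ?_))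
  rw [coe_basisOfLinearIndependentOfCardEqFinrank, Matrix.toLin'_apply, Matrix.toLin'_apply]
  fin_cases i
  · exact h1
  · exact h2

variable [Fintype F]

/-- The matrices commuting with `A` up to the sign `μ`. -/
def twCent (A : Matrix (Fin 2) (Fin 2) F) (μ : F) : Set (GL (Fin 2) F) := {g | g.1 * A = μ • (A * g.1)}

theorem card_twCent_split {A : Matrix (Fin 2) (Fin 2) F} {a : F} {v : Fin 2 → F} (h2 : (2 : F) ≠ 0)
    (htr : A 0 0 + A 1 1 = 0) (hdet : A.det ≠ 0) (hv : v ≠ 0) (ha : A *ᵥ v = a • v) (μ : F)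
    (hμ : μ = 1 ∨ μ = -1) : Nat.card (twCent A μ) ≤ (Fintype.card F - 1) ^ 2 := by
  classical
  obtain ⟨ha0, w, hw, hli⟩ := eigen_sum h2 htr hdet hv ha
  let b := basisOfLinearIndependentOfCardEqFinrank hli (by simp)
  have hb : ∀ u, ∃ x y : F, u = x • v + y • w := fun u => by
    refine ⟨b.repr u 0, b.repr u 1, ?_⟩
    conv_lhs => rw [← b.sum_repr u]
    rw [Fin.sum_univ_two, coe_basisOfLinearIndependentOfCardEqFinrank]
    rfl
  have hAxy : ∀ x y : F, A *ᵥ (x • v + y • w) = (x * a) • v + (y * -a) • w := fun x y => by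
    rw [Matrix.mulVec_add, Matrix.mulVec_smul, Matrix.mulVec_smul, ha, hw, smul_smul, smul_smul]
  have hline : ∀ (c : F) (u : Fin 2 → F), A *ᵥ u = c • u → u ≠ 0 → ∀ e : Fin 2 → F,
      ((c = a ∧ e = v) ∨ (c = -a ∧ e = w)) → ∃ x : Fˣ, u = (x : F) • e := by
    intro c u hu hu0 e he
    obtain ⟨x, y, rfl⟩ := hb u
    rw [hAxy, smul_add, smul_smul, smul_smul] at hu
    have h' : (x * a - c * x) • v + (y * -a - c * y) • w = 0 := by
      rw [sub_smul, sub_smul, sub_add_sub_comm, hu, sub_self]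
    obtain ⟨e1, e2⟩ := LinearIndependent.pair_iff.1 hli _ _ h'
    rcases he with ⟨rfl, rfl⟩ | ⟨rfl, rfl⟩
    · have hy : y = 0 := mul_left_cancel₀ (mul_ne_zero h2 ha0) (by linear_combination -e2)
      subst hy
      rw [zero_smul, add_zero] at hu0 ⊢
      exact ⟨Units.mk0 x fun h => hu0 (by rw [h, zero_smul]), rfl⟩
    · have hx : x = 0 := mul_left_cancel₀ (mul_ne_zero h2 ha0) (by linear_combination e1)
      subst hx
      rw [zero_smul, zero_add] at hu0 ⊢
      exact ⟨Units.mk0 y fun h => hu0 (by rw [h, zero_smul]), rfl⟩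
  have hμ2 : μ * μ = 1 := by rcases hμ with rfl | rfl <;> ring
  have himg : ∀ (g : twCent A μ) (c : F) (u : Fin 2 → F), A *ᵥ u = c • u →
      A *ᵥ (g.1.1 *ᵥ u) = (μ * c) • (g.1.1 *ᵥ u) := by
    intro g c u hu
    have h := congrArg (fun M => (μ • M) *ᵥ u) g.2
    simp only [smul_smul, hμ2, one_smul, Matrix.smul_mulVec, ← Matrix.mulVec_mulVec, hu,
      Matrix.mulVec_smul] at h
    exact h.symm
  have hne : ∀ (g : twCent A μ) (u : Fin 2 → F), u ≠ 0 → g.1.1 *ᵥ u ≠ 0 := fun g u hu h =>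
    hu (Matrix.mulVec_injective_of_isUnit g.1.isUnit (by rw [h, Matrix.mulVec_zero]))
  have hw0 : w ≠ 0 := by simpa using hli.ne_zero 1
  let e1 := if μ = 1 then v else w
  let e2 := if μ = 1 then w else v
  have hm : μ = -1 → μ ≠ 1 := fun h h' => h2 (by linear_combination h.symm.trans h' |>.symm)
  have hc1 : ∀ g : twCent A μ, ∃ x : Fˣ, g.1.1 *ᵥ v = (x : F) • e1 := fun g =>
    hline _ _ (himg g a v ha) (hne g v hv) _ (by
      rcases hμ with h | h
      · exact Or.inl ⟨by rw [h, one_mul], if_pos h⟩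
      · exact Or.inr ⟨by rw [h, neg_one_mul], if_neg (hm h)⟩)
  have hc2 : ∀ g : twCent A μ, ∃ x : Fˣ, g.1.1 *ᵥ w = (x : F) • e2 := fun g =>
    hline _ _ (himg g (-a) w hw) (hne g w hw0) _ (by
      rcases hμ with h | h
      · exact Or.inr ⟨by rw [h, one_mul], if_pos h⟩
      · exact Or.inl ⟨by rw [h, neg_one_mul, neg_neg], if_neg (hm h)⟩)
  choose f hf using hc1
  choose g hg using hc2
  have hinj : Function.Injective fun x : twCent A μ => (f x, g x) := fun x y h => by
    simp only [Prod.mk.injEq] at h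
    obtain ⟨h1, h3⟩ := h
    refine Subtype.ext (eq_of_mulVec_pair hli ?_ ?_)
    · rw [hf, hf, h1]
    · rw [hg, hg, h3]
  refine (Nat.card_le_card_of_injective _ hinj).trans ?_
  rw [Nat.card_prod, Nat.card_eq_fintype_card, Fintype.card_units, pow_two]

theorem card_twCent_ell {A : Matrix (Fin 2) (Fin 2) F} (hns : ∀ (a : F) (v : Fin 2 → F), A *ᵥ v = a • v → v = 0)
    (μ : F) (hμ : μ ≠ 0) : Nat.card (twCent A μ) ≤ Fintype.card F ^ 2 - 1 := by
  classical
  set v : Fin 2 → F := ![1, 0] with hv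
  have hv0 : v ≠ 0 := fun h => by simpa [hv] using congrFun h 0
  have hli : LinearIndependent F ![v, A *ᵥ v] := LinearIndependent.pair_iff.2 fun s t hst => by
    by_cases ht : t = 0
    · rw [ht, zero_smul, add_zero] at hst
      exact ⟨(smul_eq_zero.1 hst).resolve_right hv0, ht⟩
    · refine absurd (hns (-s / t) v ?_) hv0
      rw [div_eq_inv_mul, mul_smul, neg_smul, eq_neg_of_add_eq_zero_left hst, neg_neg, smul_smul,
        inv_mul_cancel₀ ht, one_smul]
  let φ : twCent A μ → {u : Fin 2 → F // u ≠ 0} := fun g => ⟨g.1.1 *ᵥ v, fun h =>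
    hv0 (Matrix.mulVec_injective_of_isUnit g.1.isUnit (by rw [h, Matrix.mulVec_zero]))⟩
  have hinj : Function.Injective φ := fun g g' h => by
    have h1 : g.1.1 *ᵥ v = g'.1.1 *ᵥ v := congrArg Subtype.val h
    refine Subtype.ext (eq_of_mulVec_pair hli h1 ?_)
    rw [Matrix.mulVec_mulVec, Matrix.mulVec_mulVec, show g.1.1 * A = μ • (A * g.1.1) from g.2,
      show g'.1.1 * A = μ • (A * g'.1.1) from g'.2, Matrix.smul_mulVec, Matrix.smul_mulVec,
      ← Matrix.mulVec_mulVec, ← Matrix.mulVec_mulVec, h1]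
  refine (Nat.card_le_card_of_injective φ hinj).trans ?_
  rw [Nat.card_eq_fintype_card, Fintype.card_subtype_compl]
  simp

theorem card_center :
    Nat.card (Subgroup.center (GL (Fin 2) F)) = Fintype.card F - 1 := by
  classical
  have hinj : Function.Injective (Matrix.GeneralLinearGroup.scalar (Fin 2) : Fˣ → GL (Fin 2) F) :=
    fun a b h => Units.ext (by
      simpa [Matrix.scalar_apply] using congrArg (fun g : GL (Fin 2) F => g.1 0 0) h)
  rw [Matrix.GeneralLinearGroup.center_eq_range_scalar,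
    Nat.card_congr (MonoidHom.ofInjective hinj).toEquiv.symm,
    Nat.card_eq_fintype_card, Fintype.card_units]

local notation "PG" => GL (Fin 2) F ⧸ Subgroup.center (GL (Fin 2) F)

theorem mem_center_iff {g : GL (Fin 2) F} :
    g ∈ Subgroup.center (GL (Fin 2) F) ↔ ∃ c : F, g.1 = c • (1 : Matrix (Fin 2) (Fin 2) F) := by
  rw [Matrix.GeneralLinearGroup.center_eq_range_scalar]
  constructor
  · rintro ⟨c, rfl⟩; exact ⟨c, by simp [Matrix.smul_one_eq_diagonal]⟩
  · rintro ⟨c, hc⟩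
    have hc0 : c ≠ 0 := fun h => g.isUnit.ne_zero (by rw [hc, h, zero_smul])
    exact ⟨Units.mk0 c hc0, Units.ext (by simp [hc, Matrix.smul_one_eq_diagonal])⟩

theorem sylow_data {k : ℕ} (hk : Fintype.card F + 1 = 2 ^ k) (hq : 7 ≤ Fintype.card F)
    (H : Sylow 2 PG) :
    ∃ A : GL (Fin 2) F, A.1 0 0 + A.1 1 1 = 0 ∧ (∀ (a : F) (v : Fin 2 → F), A.1 *ᵥ v = a • v → v = 0) ∧
      ∀ y : GL (Fin 2) F, (∃ μ : F, y.1 * A.1 = μ • (A.1 * y.1) ∧ (μ = 1 ∨ μ = -1)) →
        (QuotientGroup.mk y : PG) ∈ (H : Subgroup PG) := by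
  classical
  haveI : Fact (Nat.Prime 2) := ⟨Nat.prime_two⟩
  set q := Fintype.card F with hqd
  have hk3 : 3 ≤ k := by
    by_contra hc
    have : 2 ^ k ≤ 2 ^ 2 := Nat.pow_le_pow_right two_pos (by omega)
    omega
  have hodd : Odd q := by
    have : Even (q + 1) := hk ▸ (Nat.even_pow.2 ⟨even_two, by omega⟩)
    exact Nat.not_even_iff_odd.1 (Nat.even_add_one.1 this)
  have h2 : (2 : F) ≠ 0 := Ring.two_ne_zero (fun hc => by
    have := FiniteField.even_card_of_char_two hc
    rw [← hqd] at this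
    obtain ⟨j, hj⟩ := hodd
    omega)
  have hcG : Nat.card PG = q * ((q - 1) * (q + 1)) := by
    have h := Subgroup.card_eq_card_quotient_mul_card_subgroup (Subgroup.center (GL (Fin 2) F))
    rw [CfsgLib.Classical.card_gl2, card_center, ← hqd] at h
    exact Nat.eq_of_mul_eq_mul_right (show 0 < q - 1 by omega) (h.symm.trans (by ring))
  have hcH : Nat.card (H : Subgroup PG) = 2 ^ (k + 1) := by
    obtain ⟨j, hj⟩ : ∃ j, k = j + 2 := ⟨k - 2, by omega⟩
    have h4 : 2 ^ k = 2 ^ j * 4 := by rw [hj, pow_add]; ring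
    rw [H.card_eq_multiplicity, hcG,
      show q * ((q - 1) * (q + 1)) = 2 ^ (k + 1) * (q * (2 ^ j * 2 - 1)) by
        rw [show q - 1 = 2 * (2 ^ j * 2 - 1) by omega, hk]; ring,
      Nat.factorization_mul (by positivity) (mul_ne_zero (by omega) (by omega)), Nat.Prime.factorization_pow Nat.prime_two]
    congr 1
    rw [Finsupp.add_apply, Finsupp.single_eq_same, Nat.factorization_eq_zero_of_not_dvd, add_zero]
    intro hd
    rcases (Nat.prime_two.dvd_mul).1 hd with h | h
    · obtain ⟨i, hi⟩ := hodd; omega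
    · have : 1 ≤ 2 ^ j := Nat.one_le_two_pow
      omega
  haveI : Nontrivial (H : Subgroup PG) := Finite.one_lt_card_iff_nontrivial.1 (by rw [hcH]; exact Nat.one_lt_two_pow (by omega))
  haveI := H.isPGroup'.center_nontrivial
  obtain ⟨z, hz⟩ := exists_prime_orderOf_dvd_card' 2 (H.isPGroup'.center_nontrivial |> fun _ =>
    (H.isPGroup'.to_subgroup (Subgroup.center _)).card_eq_or_dvd.resolve_left
      (Finite.one_lt_card.ne') : 2 ∣ Nat.card (Subgroup.center (H : Subgroup PG)))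
  obtain ⟨A, hA⟩ := QuotientGroup.mk_surjective ((z : (H : Subgroup PG)) : PG)
  have hzo : orderOf (QuotientGroup.mk A : PG) = 2 := by rw [hA, Subgroup.orderOf_coe, Subgroup.orderOf_coe, hz]
  have hns : ∀ c : F, A.1 ≠ c • (1 : Matrix (Fin 2) (Fin 2) F) := fun c hc => by
    rw [(QuotientGroup.eq_one_iff A).2 (mem_center_iff.2 ⟨c, hc⟩), orderOf_one] at hzo
    omega
  obtain ⟨c, hc⟩ : ∃ c : F, (A ^ 2).1 = c • (1 : Matrix (Fin 2) (Fin 2) F) := by
    refine mem_center_iff.1 ((QuotientGroup.eq_one_iff _).1 ?_)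
    rw [QuotientGroup.mk_pow]
    have hpow := pow_orderOf_eq_one (QuotientGroup.mk A : PG)
    rw [hzo] at hpow
    exact hpow
  have hdet : A.1.det ≠ 0 := ((Matrix.isUnit_iff_isUnit_det _).1 A.isUnit).ne_zero
  have htr : A.1 0 0 + A.1 1 1 = 0 := by
    rw [Units.val_pow_eq_pow_val, pow_two] at hc
    have e00 := congrFun (congrFun hc 0) 0
    have e01 := congrFun (congrFun hc 0) 1
    have e10 := congrFun (congrFun hc 1) 0
    have e11 := congrFun (congrFun hc 1) 1
    simp [Matrix.mul_apply, Fin.sum_univ_two] at e00 e01 e10 e11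
    by_contra ht
    have h01 : A.1 0 1 = 0 := (mul_eq_zero.1 (show A.1 0 1 * (A.1 0 0 + A.1 1 1) = 0 by linear_combination e01)).resolve_right ht
    have h10 : A.1 1 0 = 0 := (mul_eq_zero.1 (show A.1 1 0 * (A.1 0 0 + A.1 1 1) = 0 by linear_combination e10)).resolve_right ht
    have hd' : A.1 0 0 = A.1 1 1 := by
      rw [h01] at e00; rw [h10] at e11
      refine sub_eq_zero.1 ((mul_eq_zero.1 (show (A.1 0 0 - A.1 1 1) * (A.1 0 0 + A.1 1 1) = 0 by
        linear_combination e00 - e11)).resolve_right ht)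
    refine hns (A.1 0 0) ?_
    ext i j
    fin_cases i <;> fin_cases j <;> simp [h01, h10, hd']
  let C : Subgroup PG := Subgroup.centralizer {(QuotientGroup.mk A : PG)}
  have hHC : (H : Subgroup PG) ≤ C := fun h hh => Subgroup.mem_centralizer_singleton_iff.2 (by
    rw [hA]
    exact congrArg Subtype.val (Subgroup.mem_center_iff.1 z.2 ⟨h, hh⟩))
  have hpre : ∀ y : GL (Fin 2) F, (QuotientGroup.mk y : PG) ∈ C ↔ y ∈ twCent A.1 1 ∪ twCent A.1 (-1) := by
    intro y
    rw [Subgroup.mem_centralizer_singleton_iff, ← QuotientGroup.mk_mul, ← QuotientGroup.mk_mul, QuotientGroup.eq]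
    constructor
    · intro h
      obtain ⟨μ, hμ⟩ := mem_center_iff.1 h
      have e : A.1 * y.1 = μ • (y.1 * A.1) := by
        have := congrArg (fun M => (y * A).1 * M) hμ
        rwa [← Units.val_mul, mul_inv_cancel_left, Units.val_mul, Units.val_mul, Matrix.mul_smul, mul_one] at this
      have hsq : μ * μ = 1 := by
        have hd := congrArg Matrix.det e
        rw [Matrix.det_smul, Matrix.det_mul, Matrix.det_mul, Fintype.card_fin] at hd
        have hy : y.1.det * A.1.det ≠ 0 := mul_ne_zero ((Matrix.isUnit_iff_isUnit_det _).1 y.isUnit).ne_zero hdet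
        exact mul_right_cancel₀ hy (by linear_combination -hd)
      rcases mul_self_eq_one_iff.1 hsq with rfl | rfl
      · exact Or.inl (by show _ = _; rw [one_smul] at e ⊢; exact e.symm)
      · exact Or.inr (by show _ = _; rw [e, smul_smul, hsq, one_smul])
    · intro h
      refine mem_center_iff.2 ?_
      rcases h with h | h
      · refine ⟨1, ?_⟩
        have e : A * y = y * A := Units.ext (by rw [Units.val_mul, Units.val_mul]; simpa using (h : _ = _).symm)
        rw [← e, inv_mul_cancel, Units.val_one, one_smul]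
      · refine ⟨-1, ?_⟩
        have e : A.1 * y.1 = (-1 : F) • (y.1 * A.1) := by rw [show y.1 * A.1 = _ from h]; simp
        rw [Units.val_mul, Units.val_mul A, e, Matrix.mul_smul, ← Units.val_mul, ← Units.val_mul, inv_mul_cancel,
          Units.val_one]
  have hcount : Nat.card C * (q - 1) ≤ Nat.card (twCent A.1 1) + Nat.card (twCent A.1 (-1)) := by
    have h := QuotientGroup.preimageMkEquivSubgroupProdSet (Subgroup.center (GL (Fin 2) F)) (C : Set PG)
    have h' := Nat.card_congr h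
    rw [Nat.card_prod, card_center, ← hqd, SetLike.coe_sort_coe] at h'
    rw [Nat.mul_comm, ← h', Nat.card_coe_set_eq, Nat.card_coe_set_eq, Nat.card_coe_set_eq]
    refine le_trans (Set.ncard_le_ncard (fun y hy => (hpre y).1 hy)) (Set.ncard_union_le _ _)
  have hle := Subgroup.card_le_of_le hHC
  rw [hcH] at hle
  have hH2 : 2 ^ (k + 1) = 2 * (q + 1) := by rw [pow_succ, hk]; ring
  have hell : ∀ (a : F) (v : Fin 2 → F), A.1 *ᵥ v = a • v → v = 0 := by
    intro a v hav
    by_contra hv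
    have b1 := card_twCent_split h2 htr hdet hv hav 1 (Or.inl rfl)
    have b2 := card_twCent_split h2 htr hdet hv hav (-1) (Or.inr rfl)
    rw [← hqd, pow_two] at b1 b2
    have h3 : 2 * (q + 1) * (q - 1) ≤ 2 * (q - 1) * (q - 1) :=
      le_trans (Nat.mul_le_mul_right _ (hH2 ▸ hle)) (hcount.trans (by nlinarith [b1, b2]))
    have := Nat.le_of_mul_le_mul_right h3 (by omega)
    omega
  refine ⟨A, htr, hell, ?_⟩
  have b1 := card_twCent_ell hell 1 one_ne_zero
  have b2 := card_twCent_ell hell (-1) (neg_ne_zero.2 one_ne_zero)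
  have hq2 : q ^ 2 - 1 = (q + 1) * (q - 1) := by rw [← one_pow 2, Nat.sq_sub_sq, one_pow]
  rw [← hqd, hq2] at b1 b2
  have hCle : Nat.card C ≤ 2 * (q + 1) :=
    Nat.le_of_mul_le_mul_right (hcount.trans (by linarith : _ ≤ 2 * (q + 1) * (q - 1))) (by omega)
  have hCH : (H : Subgroup PG) = C := Subgroup.eq_of_le_of_card_ge hHC (by rw [hcH, hH2]; exact hCle)
  intro y hy
  rw [hCH, hpre]
  obtain ⟨μ, he, rfl | rfl⟩ := hy
  · exact Or.inl he
  · exact Or.inr he

theorem exists_orth {a b : Fin 2 → Fin 2 → F} :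
    ∃ x y z : F, (x ≠ 0 ∨ y ≠ 0 ∨ z ≠ 0) ∧ x * (a 0 0 - a 1 1) + y * a 1 0 + z * a 0 1 = 0 ∧
      x * (b 0 0 - b 1 1) + y * b 1 0 + z * b 0 1 = 0 := by
  let f : (Fin 3 → F) →ₗ[F] (Fin 2 → F) :=
    Matrix.mulVecLin !![a 0 0 - a 1 1, a 1 0, a 0 1; b 0 0 - b 1 1, b 1 0, b 0 1]
  obtain ⟨u, hu, hu0⟩ := f.ker.ne_bot_iff.1 (LinearMap.ker_ne_bot_of_finrank_lt (by simp))
  have h0 := congrFun (show f u = 0 from hu) 0
  have h1 := congrFun (show f u = 0 from hu) 1
  simp [f, Matrix.mulVec, dotProduct, Fin.sum_univ_three] at h0 h1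
  refine ⟨u 0, u 1, u 2, ?_, by linear_combination h0, by linear_combination h1⟩
  by_contra hcon
  push Not at hcon
  exact hu0 (funext fun i => by fin_cases i <;> simp [hcon.1, hcon.2.1, hcon.2.2])

theorem inter_ne_bot_of_card {k : ℕ} (hk : Fintype.card F + 1 = 2 ^ k) (hq : 7 ≤ Fintype.card F)
    (H : Sylow 2 PG) (x : PG) :
    (H : Subgroup PG) ⊓ MulAut.conj x • (H : Subgroup PG) ≠ ⊥ := by
  classical
  obtain ⟨A, hA, hAe, hAH⟩ := sylow_data hk hq H
  obtain ⟨B, hB, -, hBH⟩ := sylow_data hk hq (x • H)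
  obtain ⟨a, b, c, hne, h1, h2⟩ := exists_orth (a := fun i j => A.1 i j) (b := fun i j => B.1 i j)
  let C : Matrix (Fin 2) (Fin 2) F := !![a, b; c, -a]
  have hanti : ∀ M : Matrix (Fin 2) (Fin 2) F, M 0 0 + M 1 1 = 0 →
      a * (M 0 0 - M 1 1) + b * M 1 0 + c * M 0 1 = 0 → C * M = (-1 : F) • (M * C) := by
    intro M h0 h
    ext i j
    fin_cases i <;> fin_cases j <;> simp [C, Matrix.mul_apply, Fin.sum_univ_two]
    · linear_combination h + a * h0
    · linear_combination b * h0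
    · linear_combination c * h0
    · linear_combination h - a * h0
  have hCd : C.det ≠ 0 := by
    intro hd
    obtain ⟨v, hv, hCv⟩ := Matrix.exists_mulVec_eq_zero_iff.2 hd
    have hAv : C *ᵥ (A.1 *ᵥ v) = 0 := by
      rw [Matrix.mulVec_mulVec, hanti A.1 hA h1, Matrix.smul_mulVec, ← Matrix.mulVec_mulVec, hCv,
        Matrix.mulVec_zero, smul_zero]
    -- the kernel of `C` is a line
    have hker : ∀ u w : Fin 2 → F, C *ᵥ u = 0 → C *ᵥ w = 0 → u 0 * w 1 - u 1 * w 0 = 0 := by
      intro u w hu hw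
      have u0 := congrFun hu 0; have u1 := congrFun hu 1
      have w0 := congrFun hw 0; have w1 := congrFun hw 1
      simp [C, Matrix.mulVec, dotProduct, Fin.sum_univ_two] at u0 u1 w0 w1
      rcases hne with h | h | h
      · exact mul_left_cancel₀ h (by linear_combination w 1 * u0 - u 1 * w0)
      · exact mul_left_cancel₀ h (by linear_combination u 0 * w0 - w 0 * u0)
      · exact mul_left_cancel₀ h (by linear_combination w 1 * u1 - u 1 * w1)
    have hl := hker v _ hCv hAv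
    by_cases hv0 : v 0 = 0
    · have hv1 : v 1 ≠ 0 := fun h => hv (funext fun i => by fin_cases i <;> simp [hv0, h])
      refine hv (hAe ((A.1 *ᵥ v) 1 / v 1) v (funext fun i => ?_))
      fin_cases i
      · simp [hv0] at hl ⊢; exact hl.resolve_left hv1
      · simp [hv1]
    · refine hv (hAe ((A.1 *ᵥ v) 0 / v 0) v (funext fun i => ?_))
      fin_cases i
      · simp [hv0]
      · simp only [Fin.mk_one, Pi.smul_apply, smul_eq_mul]
        field_simp
        linear_combination hl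
  let y : GL (Fin 2) F := Matrix.GeneralLinearGroup.mkOfDetNeZero C hCd
  have hy1 : (QuotientGroup.mk y : PG) ≠ 1 := by
    rw [Ne, QuotientGroup.eq_one_iff, mem_center_iff]
    rintro ⟨e, he⟩
    have e00 := congrFun (congrFun he 0) 0
    have e01 := congrFun (congrFun he 0) 1
    have e10 := congrFun (congrFun he 1) 0
    have e11 := congrFun (congrFun he 1) 1
    simp [y, C] at e00 e01 e10 e11
    have h22 : (2 : F) ≠ 0 := Ring.two_ne_zero (fun hc => by
      have h := FiniteField.even_card_of_char_two hc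
      have hk0 : k ≠ 0 := fun h0 => by rw [h0] at hk; omega
      have : (Fintype.card F + 1) % 2 = 0 := by
        rw [hk]; exact Nat.even_iff.1 (Nat.even_pow.2 ⟨even_two, hk0⟩)
      omega)
    refine hCd ?_
    have ha : a = 0 := mul_left_cancel₀ h22 (by linear_combination e00 - e11)
    simp [C, Matrix.det_fin_two, ha, e01]
  intro hbot
  refine hy1 ((Subgroup.eq_bot_iff_forall _).1 hbot _ ⟨hAH y ⟨-1, hanti A.1 hA h1, Or.inr rfl⟩, ?_⟩)
  exact hBH y ⟨-1, hanti B.1 hB h2, Or.inr rfl⟩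

theorem inter_ne_bot {q k : ℕ} [Fact q.Prime] (hk : q + 1 = 2 ^ k) (hq : 7 ≤ q)
    (H : Sylow 2 (GL (Fin 2) (ZMod q) ⧸ Subgroup.center (GL (Fin 2) (ZMod q))))
    (x : GL (Fin 2) (ZMod q) ⧸ Subgroup.center (GL (Fin 2) (ZMod q))) :
    (H : Subgroup (GL (Fin 2) (ZMod q) ⧸ Subgroup.center (GL (Fin 2) (ZMod q)))) ⊓
      MulAut.conj x • (H : Subgroup _) ≠ ⊥ :=
  inter_ne_bot_of_card (by rwa [ZMod.card]) (by rwa [ZMod.card]) H x

end CfsgLib.PGLTwoSylow
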