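import Cfsg.Agent.Lib.Classical.OrthEmbed
import Cfsg.Agent.Lib.Classical.BinaryForms

/-!
# The reduced permutation module over the field of two elements
-/

set_option autoImplicit false

namespace CfsgLib.Classical.PermModuleTwo

open Module Finset

local notation "F2" => ZMod 2

variable {N : ℕ}

/-- weight -/
def wt (x : Fin (N + 1) → F2) : ℕ := ∑ i, (x i).val

/-- half the weight -/
def hq (x : Fin (N + 1) → F2) : F2 := ((wt x / 2 : ℕ) : F2)

/-- the dot product -/
def dot (x y : Fin (N + 1) → F2) : F2 := ∑ i, x i * y i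

theorem val_add : ∀ a b : F2, (a + b).val + 2 * (a * b).val = a.val + b.val := by decide

theorem wt_cast (x : Fin (N + 1) → F2) : (wt x : F2) = ∑ i, x i := by
  rw [wt, Nat.cast_sum]
  simp

theorem wt_even {x : Fin (N + 1) → F2} : ∑ i, x i = 0 ↔ Even (wt x) := by
  rw [← wt_cast, ZMod.natCast_eq_zero_iff_even]

theorem wt_add (x y : Fin (N + 1) → F2) :
    wt (x + y) + 2 * (∑ i, (x i * y i).val) = wt x + wt y := by
  rw [wt, wt, wt, Finset.mul_sum, ← Finset.sum_add_distrib, ← Finset.sum_add_distrib]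
  exact Finset.sum_congr rfl fun i _ => val_add (x i) (y i)

theorem hq_add {x y : Fin (N + 1) → F2} (hx : ∑ i, x i = 0) (hy : ∑ i, y i = 0) :
    hq (x + y) = hq x + hq y + dot x y := by
  have hxy : ∑ i, (x + y) i = 0 := by simp [Finset.sum_add_distrib, hx, hy]
  obtain ⟨a, ha⟩ := wt_even.1 hx
  obtain ⟨b, hb⟩ := wt_even.1 hy
  obtain ⟨c, hc⟩ := wt_even.1 hxy
  have h := wt_add x y
  have hd : ((∑ i, (x i * y i).val : ℕ) : F2) = dot x y := by rw [Nat.cast_sum]; simp [dot]
  rw [hq, hq, hq, ← hd, ← Nat.cast_add, ← Nat.cast_add, show wt x / 2 = a by omega, show wt y / 2 = b by omega,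
    show wt (x + y) / 2 = c by omega, show a + b = c + (∑ i, (x i * y i).val) by omega, Nat.cast_add, Nat.cast_add,
    add_assoc, CharTwo.add_self_eq_zero, add_zero]

/-- even weight, last coordinate zero -/
def ends (N : ℕ) : (Fin (N + 1) → F2) →ₗ[F2] F2 × F2 :=
  (∑ i, LinearMap.proj i).prod (LinearMap.proj (Fin.last N))

/-- the module -/
def W (N : ℕ) : Submodule F2 (Fin (N + 1) → F2) := LinearMap.ker (ends N)

theorem mem_W {x : Fin (N + 1) → F2} : x ∈ W N ↔ (∑ i, x i = 0) ∧ x (Fin.last N) = 0 := by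
  simp [W, ends, LinearMap.mem_ker, Prod.ext_iff, LinearMap.sum_apply]

/-- normalisation -/
def nrm (x : Fin (N + 1) → F2) : Fin (N + 1) → F2 := x + fun _ => x (Fin.last N)

theorem sum_nrm (hN : Odd N) (x : Fin (N + 1) → F2) : ∑ i, nrm x i = ∑ i, x i := by
  simp [nrm, Finset.sum_add_distrib, ZMod.natCast_eq_zero_iff_even.2 hN.add_one]

theorem nrm_last (x : Fin (N + 1) → F2) : nrm x (Fin.last N) = 0 := CharTwo.add_self_eq_zero _

theorem hq_one_add (h4 : 4 ∣ N + 1) {x : Fin (N + 1) → F2} (hx : ∑ i, x i = 0) (c : F2) :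
    hq (x + fun _ => c) = hq x := by
  have hs : ∑ _i : Fin (N + 1), c = 0 := by
    rw [Finset.sum_const, Finset.card_univ, Fintype.card_fin, nsmul_eq_mul,
      ZMod.natCast_eq_zero_iff_even.2 (by obtain ⟨t, ht⟩ := h4; exact ⟨2 * t, by omega⟩), zero_mul]
  rw [hq_add hx hs]
  have h1 : dot x (fun _ => c) = 0 := by rw [dot, ← Finset.sum_mul, hx, zero_mul]
  have h2 : hq (fun _ : Fin (N + 1) => c) = 0 := by
    obtain ⟨t, ht⟩ := h4
    rw [hq, wt, Finset.sum_const, Finset.card_univ, Fintype.card_fin, smul_eq_mul, ht,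
      show 4 * t * c.val / 2 = 2 * (t * c.val) by rw [show 4 * t * c.val = 2 * (2 * (t * c.val)) by ring]; omega,
      Nat.cast_mul]
    simp [show (2 : F2) = 0 from rfl]
  rw [h1, h2, add_zero, add_zero]

theorem finrank_W (hN : 1 ≤ N) : finrank F2 (W N) + 2 = N + 1 := by
  have hsurj : Function.Surjective (ends N) := fun p => by
    refine ⟨Pi.single ⟨0, by omega⟩ (p.1 + p.2) + Pi.single (Fin.last N) p.2, ?_⟩
    have h0 : Fin.last N ≠ ⟨0, by omega⟩ := fun h => by
      have := congrArg Fin.val h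
      simp at this; omega
    refine Prod.ext ?_ ?_
    · simp [ends, LinearMap.sum_apply, Finset.sum_add_distrib, add_assoc, CharTwo.add_self_eq_zero]
    · simp [ends, Pi.single_apply, h0]
      omega
  have h := (ends N).finrank_range_add_finrank_ker
  rw [LinearMap.range_eq_top.2 hsurj, finrank_top, Module.finrank_prod, Module.finrank_self, Module.finrank_fin_fun] at h
  unfold W
  omega

/-- the action -/
def act (hN : Odd N) : Equiv.Perm (Fin (N + 1)) →* Module.End F2 (W N) where
  toFun p :=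
    { toFun := fun x => ⟨nrm (x.1 ∘ p.symm), mem_W.2 ⟨by
        rw [sum_nrm hN]; exact (Equiv.sum_comp p.symm _).trans (mem_W.1 x.2).1, nrm_last _⟩⟩
      map_add' := fun x y => Subtype.ext (funext fun i => by simp [nrm]; ring)
      map_smul' := fun c x => Subtype.ext (funext fun i => by simp [nrm, mul_add]) }
  map_one' := LinearMap.ext fun x => Subtype.ext (funext fun i => by
    simp [nrm, show (Equiv.symm (1 : Equiv.Perm (Fin (N + 1)))) = 1 from rfl, (mem_W.1 x.2).2])
  map_mul' p r := LinearMap.ext fun x => Subtype.ext (funext fun i => by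
    simp [nrm, Equiv.Perm.mul_def]
    rw [add_assoc (x.1 _) _ (x.1 (r.symm (p.symm (Fin.last N))) + _), add_left_comm _ (x.1 (r.symm (p.symm (Fin.last N)))) _,
      CharTwo.add_self_eq_zero, add_zero])

theorem act_injective (hN : Odd N) (h7 : 7 ≤ N) : Function.Injective (act hN) := by
  refine (injective_iff_map_eq_one _).2 fun p hp => ?_
  have hw : ∀ i j : Fin (N + 1), i ≠ j → wt (Pi.single i 1 + Pi.single j 1 : Fin (N + 1) → F2) = 2 := fun i j hij => by
    rw [wt, ← Finset.sum_subset (Finset.subset_univ {i, j}) fun l _ hl => by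
      simp at hl; simp [Pi.single_apply, hl.1, hl.2], Finset.sum_pair hij]
    simp [Pi.single_apply, hij, hij.symm, ZMod.val_one]
  have hpair : ∀ i j : Fin (N + 1), i ≠ j → i ≠ Fin.last N → j ≠ Fin.last N → p i = i ∨ p i = j := by
    intro i j hij hi hj
    have hx : (Pi.single i 1 + Pi.single j 1 : Fin (N + 1) → F2) ∈ W N := mem_W.2 ⟨by
      simp [Finset.sum_add_distrib, CharTwo.add_self_eq_zero], by simp [Pi.single_apply, hi.symm, hj.symm]⟩
    set x : Fin (N + 1) → F2 := Pi.single i 1 + Pi.single j 1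
    have h := congrArg Subtype.val (LinearMap.congr_fun hp ⟨x, hx⟩)
    change nrm (x ∘ p.symm) = x at h
    have hwp : wt (x ∘ p.symm) = 2 := (Equiv.sum_comp p.symm fun l => (x l).val).trans (hw i j hij)
    have hc : x (p.symm (Fin.last N)) = 0 := by
      rcases BinaryForms.two_cases (x (p.symm (Fin.last N))) with h0 | h1
      · exact h0
      exfalso
      have e : wt x = 2 := hw i j hij
      have hadd : ∀ a : F2, (a + 1).val + a.val = 1 := by decide
      have hs : wt x + wt (x ∘ p.symm) = N + 1 := by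
        conv_lhs => arg 1; rw [← h]
        rw [wt, wt, ← Finset.sum_add_distrib]
        simp [nrm, h1, hadd]
      omega
    have hp' : x (p i) = 1 := by
      have h1 := congrFun h (p i)
      simp only [nrm, Pi.add_apply, Function.comp_apply, hc, add_zero, Equiv.symm_apply_apply] at h1
      rw [← h1]
      simp [x, Pi.single_apply, hij]
    by_contra hne
    push Not at hne
    simp [x, Pi.single_apply, hne.1, hne.2] at hp'
  have hfix : ∀ i : Fin (N + 1), i ≠ Fin.last N → p i = i := by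
    intro i hi
    by_contra hne
    obtain ⟨j, hj, hjl⟩ : ∃ j, j ∉ ({i, p i, Fin.last N} : Finset (Fin (N + 1))) ∧ True := by
      obtain ⟨j, hj⟩ := Finset.exists_mem_notMem_of_card_lt_card (s := ({i, p i, Fin.last N} : Finset (Fin (N + 1))))
        (t := Finset.univ) (Finset.card_le_three.trans_lt (by simp; omega))
      exact ⟨j, hj.2, trivial⟩
    simp at hj
    rcases hpair i j (fun h => hj.1 h.symm) hi hj.2.2 with h | h
    · exact hne h
    · exact hj.2.1 h.symm
  refine Equiv.ext fun i => ?_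
  rcases eq_or_ne i (Fin.last N) with rfl | hi
  · by_contra hne
    exact hne (p.injective (hfix _ hne))
  · exact hfix i hi

/-- The zeros of the form. -/
theorem card_zero {k : ℕ} (hN : N + 1 = 4 * (k + 1)) :
    (Nat.card {x : W N // hq (x : Fin (N + 1) → F2) = 0} : ℤ) * 2 = 2 ^ (4 * k + 2) + (-1) ^ (k + 1) * 2 ^ (2 * k + 1) := by
  classical
  have hNodd : Odd N := ⟨2 * k + 1, by omega⟩
  have h4 : 4 ∣ N + 1 := ⟨k + 1, hN⟩
  let I : GaussianInt := ⟨0, 1⟩
  have htot : ∑ x : Fin (N + 1) → F2, I ^ wt x = ((-4 : ℤ) ^ (k + 1) : GaussianInt) := by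
    have e : ∀ x : Fin (N + 1) → F2, I ^ wt x = ∏ i, I ^ (x i).val := fun x => (Finset.prod_pow_eq_pow_sum _ _ _).symm
    rw [Finset.sum_congr rfl fun x _ => e x, ← Fintype.prod_sum fun (_ : Fin (N + 1)) (a : F2) => I ^ a.val,
      Finset.prod_const, Finset.card_univ, Fintype.card_fin, hN, pow_mul,
      show (∑ a : F2, I ^ a.val) = (⟨1, 1⟩ : GaussianInt) by decide]
    congr 1
  let sg : F2 → ℤ := BinaryForms.sgn
  have hre : ∀ x : Fin (N + 1) → F2, (I ^ wt x).re = if ∑ i, x i = 0 then sg (hq x) else 0 := by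
    intro x
    by_cases hx : ∑ i, x i = 0
    · obtain ⟨a, ha⟩ := wt_even.1 hx
      rw [if_pos hx, ha, ← two_mul, pow_mul, show I ^ 2 = -1 from rfl, hq, ha, show (a + a) / 2 = a by omega]
      rcases Nat.even_or_odd a with he | ho
      · rw [he.neg_one_pow, ZMod.natCast_eq_zero_iff_even.2 he]; rfl
      · rw [ho.neg_one_pow, ZMod.natCast_eq_one_iff_odd.2 ho]; rfl
    · rw [if_neg hx]
      obtain ⟨a, ha⟩ := Nat.not_even_iff_odd.1 (mt wt_even.2 hx)
      rw [ha, pow_succ, pow_mul, show I ^ 2 = -1 from rfl]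
      rcases neg_one_pow_eq_or GaussianInt a with h | h <;> rw [h] <;> rfl
  have hS : ∑ x : {x : Fin (N + 1) → F2 // ∑ i, x i = 0}, sg (hq x.1) = (-4 : ℤ) ^ (k + 1) := by
    rw [← Finset.sum_subtype (p := fun x => ∑ i, x i = 0) (Finset.univ.filter fun x : Fin (N + 1) → F2 => ∑ i, x i = 0) (fun x => by simp) (fun x => sg (hq x)),
      Finset.sum_filter, ← Finset.sum_congr rfl fun x _ => hre x]
    have h := congrArg Zsqrtd.re htot
    rw [← Int.cast_pow, Zsqrtd.re_intCast] at h
    rw [← h]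
    exact (map_sum (AddMonoidHom.mk' (fun z : GaussianInt => z.re) fun a b => rfl) _ _).symm
  let e : {x : Fin (N + 1) → F2 // ∑ i, x i = 0} ≃ W N × F2 :=
    { toFun := fun x => (⟨nrm x.1, mem_W.2 ⟨(sum_nrm hNodd x.1).trans x.2, nrm_last _⟩⟩, x.1 (Fin.last N))
      invFun := fun p => ⟨p.1.1 + fun _ => p.2, by
        simp [Finset.sum_add_distrib, (mem_W.1 p.1.2).1, ZMod.natCast_eq_zero_iff_even.2 hNodd.add_one]⟩
      left_inv := fun x => Subtype.ext (funext fun i => by simp [nrm, add_assoc, CharTwo.add_self_eq_zero])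
      right_inv := fun p => by
        have := (mem_W.1 p.1.2).2
        refine Prod.ext (Subtype.ext (funext fun i => ?_)) ?_
        · simp [nrm, this, add_assoc, CharTwo.add_self_eq_zero]
        · simp [this] }
  have hsum : ∑ x : {x : Fin (N + 1) → F2 // ∑ i, x i = 0}, sg (hq x.1) = 2 * ∑ w : W N, sg (hq w.1) := by
    rw [← e.symm.sum_comp, Fintype.sum_prod_type, Finset.mul_sum]
    refine Finset.sum_congr rfl fun w _ => ?_
    have : ∀ c : F2, hq (e.symm (w, c)).1 = hq w.1 := fun c => hq_one_add h4 (mem_W.1 w.2).1 c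
    simp [this]
  have hz : (Nat.card {x : W N // hq (x : Fin (N + 1) → F2) = 0} : ℤ) * 2 = ∑ w : W N, (1 + sg (hq w.1)) := by
    rw [Nat.card_eq_fintype_card, Fintype.card_subtype, Finset.card_filter, Nat.cast_sum, Finset.sum_mul]
    refine Finset.sum_congr rfl fun w _ => ?_
    rcases BinaryForms.two_cases (hq w.1) with h | h <;> simp [h, sg, BinaryForms.sgn]
  rw [hz, Finset.sum_add_distrib, Finset.sum_const, Finset.card_univ, ← Nat.card_eq_fintype_card,
    Module.natCard_eq_pow_finrank (K := F2), show finrank F2 (W N) = 4 * k + 2 by have := finrank_W (N := N) (by omega); omega,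
    Nat.card_zmod, nsmul_one]
  push_cast
  rw [hS] at hsum
  have : (-4 : ℤ) ^ (k + 1) = 2 * ((-1) ^ (k + 1) * 2 ^ (2 * k + 1)) := by
    rw [show (-4 : ℤ) = (-1) * 2 ^ 2 by norm_num, mul_pow, ← pow_mul, show 2 * (k + 1) = 2 * k + 1 + 1 by ring, pow_succ]
    ring
  linarith

theorem main {k : ℕ} (hk : 1 ≤ k) (hN : N + 1 = 4 * k + 4) :
    (Odd k → ∃ φ : Equiv.Perm (Fin (N + 1)) →* ↥(Cfsg.isometryGroup F2 (Cfsg.quadFormPlus (2 * k + 1) F2)), Function.Injective φ) ∧
    (Even k → ∃ φ : Equiv.Perm (Fin (N + 1)) →* ↥(Cfsg.isometryGroup F2 (Cfsg.quadFormMinus (2 * k) F2 1 1)), Function.Injective φ) := by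
  classical
  have hN' : N + 1 = 4 * (k + 1) := by omega
  have hodd : Odd N := ⟨2 * k + 1, by omega⟩
  let Q : QuadraticForm F2 (W N) := QuadraticMap.ofPolar (fun x => hq x.1)
    (fun c x => by
      rcases BinaryForms.two_cases c with rfl | rfl
      · simp [hq, wt]
      · simp)
    (fun x x' y => by
      have hx := (mem_W.1 x.2).1; have hx' := (mem_W.1 x'.2).1; have hy := (mem_W.1 y.2).1
      have hs : ∑ i, (x.1 + x'.1) i = 0 := by simp [Finset.sum_add_distrib, hx, hx']
      simp only [QuadraticMap.polar, Submodule.coe_add, hq_add hx hy, hq_add hx' hy, hq_add hs hy]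
      simp [dot, add_mul, Finset.sum_add_distrib]
      ring)
    (fun c x y => by
      have hx := (mem_W.1 x.2).1; have hy := (mem_W.1 y.2).1
      rcases BinaryForms.two_cases c with rfl | rfl
      · simp [QuadraticMap.polar, hq, wt]
      · simp)
  have hpol : ∀ x y : W N, QuadraticMap.polar ⇑Q x y = dot x.1 y.1 := fun x y => by
    show hq (x.1 + y.1) - hq x.1 - hq y.1 = _
    rw [hq_add (mem_W.1 x.2).1 (mem_W.1 y.2).1]; ring
  have key : ∀ x : W N, (∀ y, QuadraticMap.polar ⇑Q x y = 0) → x = 0 := by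
    intro x hx
    let z : Fin (N + 1) := ⟨0, by omega⟩
    have hz : z ≠ Fin.last N := fun h => by
      have := congrArg Fin.val h
      simp [z] at this; omega
    have heq : ∀ i, i ≠ Fin.last N → x.1 i = x.1 z := fun i hi => by
      have hm : (Pi.single i 1 + Pi.single z 1 : Fin (N + 1) → F2) ∈ W N := mem_W.2 ⟨by
        simp [Finset.sum_add_distrib, CharTwo.add_self_eq_zero], by simp [Pi.single_apply, hi.symm, hz.symm]⟩
      have h := hx ⟨_, hm⟩
      rw [hpol] at h
      simp [dot, mul_add, Finset.sum_add_distrib, Pi.single_apply] at h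
      exact CharTwo.add_eq_zero.1 h
    have hs := (mem_W.1 x.2).1
    rw [Fin.sum_univ_castSucc, (mem_W.1 x.2).2, add_zero, Finset.sum_congr rfl fun i _ => heq i.castSucc i.castSucc_lt_last.ne,
      Finset.sum_const, Finset.card_univ, Fintype.card_fin, nsmul_eq_mul, ZMod.natCast_eq_one_iff_odd.2 hodd, one_mul] at hs
    refine Subtype.ext (funext fun i => ?_)
    rcases eq_or_ne i (Fin.last N) with rfl | hi
    · exact (mem_W.1 x.2).2
    · exact (heq i hi).trans hs
  have hnd : (QuadraticMap.polarBilin Q).Nondegenerate :=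
    ⟨fun x hx => key x hx, fun y hy => key y fun x => by rw [QuadraticMap.polar_comm]; exact hy x⟩
  have hdim : finrank F2 (W N) = 2 * (2 * k + 1) := by have := finrank_W (N := N) (by omega); omega
  have hact : ∀ p x, Q (act hodd p x) = Q x := fun p x => by
    show hq (x.1 ∘ p.symm + fun _ => (x.1 ∘ p.symm) (Fin.last N)) = hq x.1
    rw [hq_one_add ⟨k + 1, hN'⟩ (x := x.1 ∘ p.symm) ((Equiv.sum_comp p.symm x.1).trans (mem_W.1 x.2).1)]
    unfold hq wt
    rw [show (∑ i, ((x.1 ∘ p.symm) i).val) = ∑ i, (x.1 i).val from Equiv.sum_comp p.symm fun i => (x.1 i).val]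
  have fin : ∀ {κ : Type} [Fintype κ] [DecidableEq κ] (S : (κ → F2) → F2) (L : (κ → F2) →ₗ[F2] W N),
      Function.Injective L → (∀ v, Q (L v) = S v) → finrank F2 (κ → F2) = 2 * (2 * k + 1) →
      (∃ φ : Equiv.Perm (Fin (N + 1)) →* ↥(Cfsg.isometryGroup F2 S), Function.Injective φ) ∧
        Nat.card {v : κ → F2 // S v = 0} = Nat.card {x : W N // hq (x : Fin (N + 1) → F2) = 0} := by
    intro κ _ _ S L hL hLS hd
    let Le := LinearMap.linearEquivOfInjective L hL (hd.trans hdim.symm)
    have hLe : ∀ x, Le x = L x := fun x => rfl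
    refine ⟨OrthEmbed.hom_of_action S Le (act hodd) (fun g x => ?_) (act_injective hodd (by omega)),
      Nat.card_congr (Le.toEquiv.subtypeEquiv fun v => by rw [← hLS]; rfl)⟩
    rw [← hLS, ← hLe, LinearEquiv.apply_symm_apply, hact, hLe, hLS]
  have hab : ∀ z₁ z₂ : F2, z₁ ^ 2 + 1 * z₁ * z₂ + 1 * z₂ ^ 2 = 0 → z₁ = 0 ∧ z₂ = 0 := by decide
  have hpos : (0 : ℤ) < 2 ^ (2 * k) := pow_pos two_pos _
  rcases CfsgLib.Orth.FieldCls.exists_even_normal Q hnd (k := 2 * k) hdim hab with ⟨L, hL, hLS⟩ | ⟨L, hL, hLS⟩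
  · obtain ⟨hφ, hc⟩ := fin _ L hL hLS (by rw [Module.finrank_pi, Fintype.card_sum, Fintype.card_fin]; ring)
    refine ⟨fun _ => hφ, fun he => ?_⟩
    have h := card_zero hN'
    rw [← hc, CfsgLib.Classical.card_sing_plus (F := F2) (2 * k), ZMod.card, he.add_one.neg_one_pow] at h
    exfalso
    push_cast at h
    ring_nf at h hpos
    linarith
  · obtain ⟨hφ, hc⟩ := fin _ L hL hLS (by
      rw [Module.finrank_pi, Fintype.card_sum, Fintype.card_sum, Fintype.card_fin, Fintype.card_fin]; ring)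
    refine ⟨fun ho => ?_, fun _ => hφ⟩
    have h := card_zero hN'
    rw [← hc, CfsgLib.Classical.card_sing_minus hab (2 * k), ZMod.card, ho.add_one.neg_one_pow] at h
    exfalso
    push_cast at h
    ring_nf at h hpos
    linarith

end CfsgLib.Classical.PermModuleTwo
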