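import Cfsg.Agent.Lib.GLClass.Regular
import Cfsg.Agent.Lib.Classical.SympCount

/-!
# Invariant subspaces of a regular unipotent symplectic map
-/

set_option autoImplicit false

namespace CfsgLib.Classical.RegularSymp

open Matrix Module CfsgLib.Sp CfsgLib.Classical.SympCount

variable {F : Type*} [Field F] {m : ℕ}

local notation "Vm" => Fin m ⊕ Fin m → F

theorem isotropic (u : Matrix.symplecticGroup (Fin m) F) (hnil : (u.1 - 1) ^ (2 * m) = 0)
    (hreg : (u.1 - 1).rank = 2 * m - 1) (W : Submodule F Vm) (hW : ∀ v ∈ W, u.1 *ᵥ v ∈ W)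
    (hdim : 2 * finrank F W ≤ 2 * m) : ∀ v ∈ W, ∀ w ∈ W, sf v w = 0 := by
  classical
  set N := u.1 - 1 with hN
  set d := finrank F W
  have hV : finrank F Vm = 2 * m := by simp; omega
  have hk1 : finrank F (LinearMap.ker N.mulVecLin) ≤ 1 := by
    have h1 := LinearMap.finrank_range_add_finrank_ker N.mulVecLin
    rw [Matrix.rank] at hreg
    rw [hV] at h1
    omega
  have hkle : ∀ j, finrank F (LinearMap.ker (N ^ j).mulVecLin) ≤ j := by
    intro j
    induction j with
    | zero => simp [Matrix.mulVecLin_one]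
    | succ j ih =>
      rw [pow_succ, Matrix.mulVecLin_mul]
      exact (CfsgLib.GLClass.finrank_ker_comp_le _ _).trans (Nat.add_le_add ih hk1)
  have hWN : ∀ v ∈ W, N *ᵥ v ∈ W := fun v hv => by
    rw [hN, Matrix.sub_mulVec, Matrix.one_mulVec]
    exact W.sub_mem (hW v hv) hv
  let f : W →ₗ[F] W := N.mulVecLin.restrict hWN
  have hpow : ∀ k (w : W), (((f ^ k) w : W) : Vm) = (N ^ k) *ᵥ (w : Vm) := by
    intro k
    induction k with
    | zero => simp
    | succ k ih =>
      intro w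
      rw [pow_succ', pow_succ', Module.End.mul_apply, ← Matrix.mulVec_mulVec, ← ih]
      rfl
  have hfz : f ^ d = 0 := by
    have hn : IsNilpotent f := ⟨2 * m, LinearMap.ext fun w => Subtype.ext (by
      rw [hpow, hnil, Matrix.zero_mulVec]; rfl)⟩
    have h2 := LinearMap.aeval_self_charpoly f
    rwa [hn.charpoly_eq_X_pow_finrank, map_pow, Polynomial.aeval_X] at h2
  have hWker : W = LinearMap.ker (N ^ d).mulVecLin :=
    Submodule.eq_of_le_of_finrank_le (fun v hv => by
      rw [LinearMap.mem_ker, Matrix.mulVecLin_apply, ← hpow _ ⟨v, hv⟩, hfz]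
      rfl) (hkle d)
  set a := 2 * m - d
  have hWran : W = LinearMap.range (N ^ a).mulVecLin := by
    refine (Submodule.eq_of_le_of_finrank_le ?_ ?_).symm
    · rw [hWker]
      rintro _ ⟨x, rfl⟩
      rw [LinearMap.mem_ker, Matrix.mulVecLin_apply, Matrix.mulVecLin_apply, Matrix.mulVec_mulVec, ← pow_add,
        show d + a = 2 * m by omega, hnil, Matrix.zero_mulVec]
    · have h1 := LinearMap.finrank_range_add_finrank_ker (N ^ a).mulVecLin
      have h2 := hkle a
      rw [hV] at h1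
      omega
  set M := (u⁻¹).1 - 1 with hM
  have hadj : ∀ x y, sf (N *ᵥ x) y = sf x (M *ᵥ y) := fun x y => by
    have h := sf_sp u⁻¹ (u.1 *ᵥ x) y
    rw [sp_inv_mulVec] at h
    rw [hN, hM, Matrix.sub_mulVec, Matrix.sub_mulVec, Matrix.one_mulVec, Matrix.one_mulVec, sub_eq_add_neg,
      sub_eq_add_neg, sf_add_left, sf_add_right, ← h, ← neg_one_smul F x, ← neg_one_smul F y, sf_smul_left,
      sf_smul_right]
  have hadjk : ∀ k x y, sf (N ^ k *ᵥ x) y = sf x (M ^ k *ᵥ y) := by
    intro k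
    induction k with
    | zero => simp
    | succ k ih => intro x y; rw [pow_succ', ← Matrix.mulVec_mulVec, hadj, ih, Matrix.mulVec_mulVec, ← pow_succ]
  intro v hv w hw
  rw [hWran] at hv
  obtain ⟨x, rfl⟩ := hv
  rw [Matrix.mulVecLin_apply, hadjk]
  have hw' : N ^ a *ᵥ w = 0 := by
    rw [hWker, LinearMap.mem_ker, Matrix.mulVecLin_apply] at hw
    rw [show a = (a - d) + d by omega, pow_add, ← Matrix.mulVec_mulVec, hw, Matrix.mulVec_zero]
  have hMN : M = -(u⁻¹).1 * N ∧ Commute (-(u⁻¹).1) N := by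
    have e1 : (u⁻¹).1 * u.1 = 1 := congrArg Subtype.val (inv_mul_cancel u)
    have e2 : u.1 * (u⁻¹).1 = 1 := congrArg Subtype.val (mul_inv_cancel u)
    refine ⟨?_, ?_⟩
    · rw [hM, hN, Matrix.mul_sub, Matrix.neg_mul, Matrix.neg_mul, e1, Matrix.mul_one]; abel
    · show -(u⁻¹).1 * N = N * -(u⁻¹).1
      rw [hN, Matrix.mul_sub, Matrix.sub_mul, Matrix.neg_mul, Matrix.mul_neg, e1, e2, Matrix.mul_one, Matrix.one_mul]
  rw [hMN.1, hMN.2.mul_pow, ← Matrix.mulVec_mulVec, hw', Matrix.mulVec_zero]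
  exact (sf_smul_right 0 x 0 |> fun h => by simpa using h)

end CfsgLib.Classical.RegularSymp
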