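import Mathlib

/-!
# The structure of `SL(2,3)`
-/

set_option autoImplicit false
set_option maxRecDepth 8000

namespace CfsgLib.Classical.SL23Structure

open scoped commutatorElement

local notation "G" => Matrix.SpecialLinearGroup (Fin 2) (ZMod 3)

instance : Fintype G := Subtype.fintype _

theorem card_all : Nat.card G = 24 := by
  rw [Nat.card_eq_fintype_card]; decide +kernel

/-- The elements of order dividing four. -/
def quat : Subgroup G where
  carrier := {x | x ^ 4 = 1}
  one_mem' := one_pow 4
  mul_mem' {a b} := (show ∀ a b : G, a ^ 4 = 1 → b ^ 4 = 1 → (a * b) ^ 4 = 1 by decide +kernel) a b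
  inv_mem' {a} := (show ∀ a : G, a ^ 4 = 1 → a⁻¹ ^ 4 = 1 by decide +kernel) a

theorem mem_quat {x : G} : x ∈ quat ↔ x ^ 4 = 1 := Iff.rfl

theorem commutator_eq : commutator G = quat := by
  refine le_antisymm ?_ fun x hx => ?_
  · rw [commutator_def, Subgroup.commutator_le]
    exact fun a _ b _ => (show ∀ a b : G, ⁅a, b⁆ ^ 4 = 1 by decide +kernel) a b
  · obtain ⟨a, b, rfl⟩ := (show ∀ x : G, x ^ 4 = 1 → ∃ a b : G, x = ⁅a, b⁆ by decide +kernel) x hx
    exact Subgroup.commutator_mem_commutator (Subgroup.mem_top _) (Subgroup.mem_top _)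

theorem card_center : Nat.card (Subgroup.center G) = 2 := by
  rw [Nat.card_congr (Equiv.subtypeEquivRight (q := fun x : G => ∀ y : G, y * x = x * y)
    fun x => Subgroup.mem_center_iff), Nat.card_eq_fintype_card]
  decide +kernel

theorem card_quat : Nat.card quat = 8 := by
  rw [Nat.card_congr (Equiv.subtypeEquivRight (q := fun x : G => x ^ 4 = 1) fun x => mem_quat),
    Nat.card_eq_fintype_card]
  decide +kernel

theorem card_commutator : Nat.card (commutator G) = 8 := commutator_eq ▸ card_quat

def gI : G := ⟨!![0, 2; 1, 0], by decide +kernel⟩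
def gJ : G := ⟨!![1, 1; 1, 2], by decide +kernel⟩

/-- The standard embedding of the quaternion group. -/
def quatMap : QuaternionGroup 2 → G
  | .a i => gI ^ i.val
  | .xa i => gJ * gI ^ i.val

/-- The homomorphism. -/
def quatHom : QuaternionGroup 2 →* G where
  toFun := quatMap
  map_one' := by decide +kernel
  map_mul' := by decide +kernel

theorem quatHom_range : quatHom.range = quat := by
  refine le_antisymm ?_ fun x hx => ?_
  · rintro _ ⟨y, rfl⟩
    exact (show ∀ y, quatMap y ^ 4 = 1 by decide +kernel) y
  · exact (show ∀ x : G, x ^ 4 = 1 → ∃ y, quatMap y = x by decide +kernel) x hx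

theorem nonempty_equiv : Nonempty (commutator G ≃* QuaternionGroup 2) :=
  ⟨(MulEquiv.subgroupCongr (commutator_eq.trans quatHom_range.symm)).trans
    (MonoidHom.ofInjective (f := quatHom)
      (show ∀ a b, quatMap a = quatMap b → a = b by decide +kernel)).symm⟩

theorem complement (P : Sylow 3 G) : Subgroup.IsComplement' (commutator G) (P : Subgroup G) := by
  have hP : Nat.card (P : Subgroup G) = 3 := by
    rw [P.card_eq_multiplicity, card_all, show (24 : ℕ).factorization 3 = 1 by
      rw [show (24 : ℕ) = 3 * 8 by rfl, Nat.factorization_mul (by norm_num) (by norm_num),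
        Finsupp.add_apply, Nat.Prime.factorization_self Nat.prime_three,
        Nat.factorization_eq_zero_of_not_dvd (by norm_num)], pow_one]
  exact Subgroup.isComplement'_of_coprime (by rw [card_commutator, hP, card_all])
    (by rw [card_commutator, hP]; decide)

theorem normal_cases (N : Subgroup G) (hN : N.Normal) :
    N = ⊥ ∨ N = ⊤ ∨ N = Subgroup.center G ∨ N = commutator G := by
  classical
  by_cases hc : N ≤ Subgroup.center G
  · have hd := Subgroup.card_dvd_of_le hc
    rw [card_center, Nat.dvd_prime Nat.prime_two] at hd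
    rcases hd with hd | hd
    · exact Or.inl (Subgroup.card_eq_one.1 hd)
    · exact Or.inr (Or.inr (Or.inl (Subgroup.eq_of_le_of_card_ge hc (by rw [card_center, hd]))))
  obtain ⟨x, hxN, hx⟩ := SetLike.not_le_iff_exists.1 hc
  have hsub : commutator G ≤ N := by
    rw [commutator_eq]
    intro y hy
    have hex : ∀ x : G, (∃ z, z * x ≠ x * z) → ∀ y : G, y ^ 4 = 1 → ∃ g h : G, y = ⁅x, g⁆ * ⁅x, h⁆ := by
      decide +kernel
    have hx' : ∃ z, z * x ≠ x * z := by
      by_contra h
      push Not at h
      exact hx (Subgroup.mem_center_iff.2 h)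
    obtain ⟨g, h, rfl⟩ := hex x hx' y hy
    have hm : ∀ g, ⁅x, g⁆ ∈ N := fun g => by
      rw [commutatorElement_def, mul_assoc, mul_assoc, ← mul_assoc g]
      exact N.mul_mem hxN (hN.conj_mem _ (N.inv_mem hxN) g)
    exact N.mul_mem (hm g) (hm h)
  have hd := Subgroup.card_dvd_of_le hsub
  have hd' := Subgroup.card_subgroup_dvd_card N
  rw [card_commutator] at hd
  rw [card_all] at hd'
  have hle := Nat.le_of_dvd (by norm_num) hd'
  obtain ⟨m, hm⟩ := hd
  rcases (show Nat.card N = 8 ∨ Nat.card N = 24 by
    have : m ∣ 3 := by rw [hm] at hd'; exact Nat.dvd_of_mul_dvd_mul_left (by norm_num : 0 < 8) hd'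
    rcases (Nat.dvd_prime Nat.prime_three).1 this with rfl | rfl <;> omega) with h | h
  · exact Or.inr (Or.inr (Or.inr (Subgroup.eq_of_le_of_card_ge hsub (by rw [card_commutator, h])).symm))
  · exact Or.inr (Or.inl (Subgroup.card_eq_iff_eq_top _ |>.1 (by rw [h, card_all])))

end CfsgLib.Classical.SL23Structure
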