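import Cfsg.Agent.Lib.Char.TwoEllTorus
import Cfsg.Agent.Lib.Classical.PSL2Spectrum

/-!
# The non-split torus of `SL(2, q)` and its normaliser
-/

set_option autoImplicit false
set_option linter.unusedSectionVars false

namespace CfsgLib.Classical.SL2EllTorus

open Matrix CfsgLib.Char CfsgLib.Char.TwoChars

variable {F : Type*} [Field F] [Fintype F] [DecidableEq F]

local notation "S2" => Matrix.SpecialLinearGroup (Fin 2) F
local notation "qF" => Fintype.card F

variable (hodd : Odd (Fintype.card F))
variable {A : Matrix.SpecialLinearGroup (Fin 2) F}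
variable (hA : orderOf A = Fintype.card F + 1)

include hA in
theorem card_tor : Nat.card (Subgroup.zpowers A) = qF + 1 := by rw [Nat.card_zpowers, hA]

include hodd hA in
theorem gen_not_scalar : ¬ TwoClasses.IsScalar2 A.1 := fun h => by
  have h2 : A ^ 2 = 1 := by
    rcases scalar_cases h with rfl | rfl
    · exact one_pow 2
    · exact Subtype.ext (by simp [negS_val, pow_two])
  have := Nat.le_of_dvd two_pos (hA ▸ orderOf_dvd_of_pow_eq_one h2)
  have := Fintype.one_lt_card (α := F)
  obtain ⟨k, hk⟩ := hodd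
  omega

include hodd hA in
theorem centralizer_elem {g : S2} (hg : g ∈ Subgroup.zpowers A) (hns : ¬ TwoClasses.IsScalar2 g.1) :
    Subgroup.centralizer ({g} : Set S2) = Subgroup.zpowers A :=
  centralizer_torus (c := ⟨g, hg⟩) inferInstance (card_tor hA) hodd hns

include hodd hA in
theorem centralizer_gen : Subgroup.centralizer ({A} : Set S2) = Subgroup.zpowers A :=
  centralizer_elem hodd hA (Subgroup.mem_zpowers A) (gen_not_scalar hodd hA)

include hodd hA in
theorem centralizer_tor : Subgroup.centralizer (Subgroup.zpowers A : Set S2) = Subgroup.zpowers A := by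
  rw [Subgroup.zpowers_eq_closure, Subgroup.centralizer_closure, ← Subgroup.zpowers_eq_closure, centralizer_gen hodd hA]

include hodd hA in
theorem exists_inverter : ∃ w : S2, w * A * w⁻¹ = A⁻¹ := by
  refine isConj_iff.1 (TwoClasses.sl_isConj_of_trace (gen_not_scalar hodd hA) ?_ ?_ (Or.inl ?_))
  · intro h
    have hm := scalar_mem (C := Subgroup.zpowers A) (card_tor hA) hodd h
    rcases scalar_cases h with h | h
    · exact gen_not_scalar hodd hA (by rw [inv_eq_one.1 h]; simp [TwoClasses.IsScalar2])
    · exact gen_not_scalar hodd hA (by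
        rw [← inv_inv A, h, show (negS : S2)⁻¹ = negS from inv_eq_of_mul_eq_one_right (Subtype.ext (by simp [negS_val]))]
        exact scalar_negS)
  · rw [inv_val, Matrix.trace_sub, Matrix.trace_smul, Matrix.trace_one, Fintype.card_fin, Nat.cast_two, smul_eq_mul]
    ring
  · exact TwoClasses.isEll_dsc_ne hodd (torus_ell (card_tor hA) hodd (Subgroup.mem_zpowers A) (gen_not_scalar hodd hA))

include hodd hA in
theorem normalizer_iff (g : S2) :
    g ∈ Subgroup.normalizer (Subgroup.zpowers A : Set S2) ↔ g * A * g⁻¹ = A ∨ g * A * g⁻¹ = A⁻¹ := by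
  constructor
  · intro hg
    have hm : g * A * g⁻¹ ∈ Subgroup.zpowers A := (Subgroup.mem_normalizer_iff.1 hg A).1 (Subgroup.mem_zpowers A)
    exact torus_fusion (c := ⟨A, Subgroup.mem_zpowers A⟩) (d := ⟨_, hm⟩) inferInstance (card_tor hA) hodd
      (gen_not_scalar hodd hA) (isConj_iff.2 ⟨g, rfl⟩)
  · intro h
    have hmap : (Subgroup.zpowers A).map (MulAut.conj g).toMonoidHom = Subgroup.zpowers A := by
      rw [MonoidHom.map_zpowers]
      rcases h with h | h <;> simp only [MulEquiv.coe_toMonoidHom, MulAut.conj_apply, h, Subgroup.zpowers_inv]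
    refine Subgroup.mem_normalizer_iff.2 fun x => ?_
    rw [← MulAut.conj_apply, ← MulEquiv.coe_toMonoidHom]
    conv_rhs => rw [← hmap]
    exact (Subgroup.mem_map_iff_mem (MulEquiv.injective _)).symm

include hodd hA in
theorem mem_tor_iff (g : S2) : g ∈ Subgroup.zpowers A ↔ g * A * g⁻¹ = A := by
  rw [← centralizer_gen hodd hA, Subgroup.mem_centralizer_singleton_iff, mul_inv_eq_iff_eq_mul]

include hodd hA in
theorem gen_ne_inv : A ≠ A⁻¹ := fun h => by
  have h2 : A ^ 2 = 1 := by rw [pow_two]; nth_rewrite 1 [h]; exact inv_mul_cancel A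
  have := Nat.le_of_dvd two_pos (hA ▸ orderOf_dvd_of_pow_eq_one h2)
  have := Fintype.one_lt_card (α := F)
  obtain ⟨k, hk⟩ := hodd
  omega

include hodd hA in
theorem card_normalizer : Nat.card (Subgroup.normalizer (Subgroup.zpowers A : Set S2)) = 2 * (qF + 1) := by
  classical
  obtain ⟨w, hw⟩ := exists_inverter hodd hA
  set T := Subgroup.zpowers A
  let e : Bool × T → Subgroup.normalizer (T : Set S2) := fun p =>
    ⟨(if p.1 then w else 1) * p.2, mul_mem (by
      cases p.1
      · exact one_mem _
      · exact (normalizer_iff hodd hA w).2 (Or.inr hw)) (Subgroup.le_normalizer p.2.2)⟩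
  have he : Function.Bijective e := by
    constructor
    · rintro ⟨s, a⟩ ⟨t, b⟩ h
      have h' : (if s then w else 1) * (a : S2) = (if t then w else 1) * b := congrArg Subtype.val h
      have hwn : ∀ x y : T, w * (x : S2) ≠ y := fun x y h => gen_ne_inv hodd hA (hw ▸ ((mem_tor_iff hodd hA w).1
        (by rw [eq_mul_inv_of_mul_eq h]; exact mul_mem y.2 (inv_mem x.2))).symm)
      cases s <;> cases t <;> simp at h'
      · rw [h']
      · exact absurd h'.symm (hwn b a)
      · exact absurd h' (hwn a b)
      · rw [h']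
    · rintro ⟨g, hg⟩
      rcases (normalizer_iff hodd hA g).1 hg with h | h
      · exact ⟨(false, ⟨g, (mem_tor_iff hodd hA g).2 h⟩), Subtype.ext (one_mul g)⟩
      · refine ⟨(true, ⟨w⁻¹ * g, (mem_tor_iff hodd hA _).2 ?_⟩), Subtype.ext (mul_inv_cancel_left w g)⟩
        calc w⁻¹ * g * A * (w⁻¹ * g)⁻¹ = w⁻¹ * (g * A * g⁻¹) * w := by group
          _ = A := by rw [h, ← hw]; group
  rw [← Nat.card_eq_of_bijective e he, Nat.card_prod, card_tor hA, Nat.card_eq_fintype_card, Fintype.card_bool]

include hodd hA in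
theorem inverts {g : S2} (hg : g ∈ Subgroup.normalizer (Subgroup.zpowers A : Set S2)) (hn : g ∉ Subgroup.zpowers A)
    {x : S2} (hx : x ∈ Subgroup.zpowers A) : g * x * g⁻¹ = x⁻¹ := by
  obtain ⟨k, rfl⟩ := Subgroup.mem_zpowers_iff.1 hx
  rw [← conj_zpow, ((normalizer_iff hodd hA g).1 hg).resolve_left fun h => hn ((mem_tor_iff hodd hA g).2 h), _root_.inv_zpow]

include hodd hA in
theorem sq_outside {g : S2} (hg : g ∈ Subgroup.normalizer (Subgroup.zpowers A : Set S2)) (hn : g ∉ Subgroup.zpowers A) :
    g * g = negS := by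
  have hgA := ((normalizer_iff hodd hA g).1 hg).resolve_left fun h => hn ((mem_tor_iff hodd hA g).2 h)
  have hgg : g * g ∈ Subgroup.zpowers A := (mem_tor_iff hodd hA _).2 (by
    calc g * g * A * (g * g)⁻¹ = g * (g * A * g⁻¹) * g⁻¹ := by group
      _ = (g * A * g⁻¹)⁻¹ := by rw [hgA, inv_inv, ← conj_inv, hgA, inv_inv]
      _ = A := by rw [hgA, inv_inv])
  have h4 := inverts hodd hA hg hn hgg
  have h1 : g * g * (g * g) = 1 := by
    rw [eq_inv_iff_mul_eq_one] at h4
    rw [← h4]; group
  rcases scalar_cases (scalar_of_sq_one hodd h1) with h | h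
  · exact absurd (scalar_mem (card_tor hA) hodd (scalar_of_sq_one hodd h)) hn
  · exact h

include hodd hA in
theorem card_conjClasses :
    Nat.card (ConjClasses (Subgroup.normalizer (Subgroup.zpowers A : Set S2))) = (qF + 7) / 2 := by
  classical
  set T := Subgroup.zpowers A
  set N := Subgroup.normalizer (T : Set S2)
  haveI : Fintype N := Fintype.ofFinite _
  have hN := card_normalizer hodd hA
  have hT := card_tor hA
  have hTN : T ≤ N := Subgroup.le_normalizer
  let S : N → Prop := fun x => TwoClasses.IsScalar2 x.1.1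
  have hcent : ∀ x : N, Nat.card {y : N // Commute x y} =
      if S x then 2 * (qF + 1) else if (x : S2) ∈ T then qF + 1 else 4 := by
    intro x
    by_cases hs : S x
    · rw [if_pos hs, Nat.card_congr (Equiv.subtypeUnivEquiv fun y => ?_), hN]
      exact Subtype.ext (Subgroup.mem_center_iff.1 ((sl_mem_center_iff _).2 hs) y.1).symm
    rw [if_neg hs]
    by_cases hx : (x : S2) ∈ T
    · rw [if_pos hx, ← hT]
      refine Nat.card_congr
        { toFun := fun y => ⟨y.1.1, by
            rw [← centralizer_elem hodd hA hx hs, Subgroup.mem_centralizer_singleton_iff]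
            exact (congrArg Subtype.val y.2.eq).symm⟩
          invFun := fun y => ⟨⟨y.1, hTN y.2⟩, Subtype.ext (torus_comm (C := T) inferInstance ⟨x.1, hx⟩ y)⟩
          left_inv := fun _ => rfl
          right_inv := fun _ => rfl }
    · rw [if_neg hx]
      have hsub : ∀ y : N, Commute x y ↔ (y : S2) = 1 ∨ (y : S2) = negS ∨ (y : S2) = x ∨ (y : S2) = (x : S2) * negS := by
        intro y
        constructor
        · intro h
          have h' : (x : S2) * y = y * x := congrArg Subtype.val h.eq
          have fixed : ∀ z : S2, z ∈ T → (x : S2) * z = z * x → z = 1 ∨ z = negS := fun z hz hzc => by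
            have h1 := inverts hodd hA x.2 hx hz
            rw [hzc, mul_inv_cancel_right] at h1
            exact scalar_cases (scalar_of_sq_one hodd (eq_inv_iff_mul_eq_one.1 h1))
          by_cases hy : (y : S2) ∈ T
          · rcases fixed _ hy h' with e | e <;> simp [e]
          · have hm : ((x : S2)⁻¹ * y) ∈ T := (mem_tor_iff hodd hA _).2 (by
              have e1 := inverts hodd hA y.2 hy (Subgroup.mem_zpowers A)
              have e2 := inverts hodd hA x.2 hx (Subgroup.mem_zpowers A)
              calc (x : S2)⁻¹ * y * A * ((x : S2)⁻¹ * y)⁻¹ = (x : S2)⁻¹ * ((y : S2) * A * (y : S2)⁻¹) * x := by group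
                _ = A := by rw [e1, ← e2]; group)
            rcases fixed _ hm (by rw [← mul_assoc, mul_inv_cancel, one_mul, mul_assoc, ← h', inv_mul_cancel_left]) with e | e
            · exact Or.inr (Or.inr (Or.inl (inv_mul_eq_one.1 e).symm))
            · exact Or.inr (Or.inr (Or.inr (inv_mul_eq_iff_eq_mul.1 e)))
        · intro h
          have hc : Commute (x : S2) negS := Subgroup.mem_center_iff.1 ((sl_mem_center_iff _).2 scalar_negS) _
          refine Subtype.ext ?_
          show Commute (x : S2) (y : S2)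
          rcases h with e | e | e | e <;> rw [e]
          · exact Commute.one_right _
          · exact hc
          · exact (Commute.refl _).mul_right hc
      have hnmem : (negS : S2) ∈ N := hTN (negS_mem hT hodd)
      rw [Nat.card_congr (Equiv.subtypeEquivRight hsub), Nat.card_eq_fintype_card, Fintype.card_subtype,
        show Finset.univ.filter (fun y : N => (y : S2) = 1 ∨ (y : S2) = negS ∨ (y : S2) = x ∨ (y : S2) = (x : S2) * negS) =
          {1, ⟨negS, hnmem⟩, x, x * ⟨negS, hnmem⟩} by
            ext y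
            simp only [Finset.mem_filter, Finset.mem_univ, true_and, Finset.mem_insert, Finset.mem_singleton, Subtype.ext_iff, Subgroup.coe_mul, OneMemClass.coe_one]]
      have h1 : (negS : S2) ≠ 1 := negS_ne_one hodd
      have h2 : (x : S2) ≠ 1 := fun e => hx (e ▸ one_mem T)
      have h3 : (x : S2) ≠ negS := fun e => hx (e ▸ negS_mem hT hodd)
      have h5 : (x : S2) * negS ≠ 1 := fun e => hx (by rw [eq_inv_of_mul_eq_one_left e]; exact inv_mem (negS_mem hT hodd))
      simp [Subtype.ext_iff, h1, h1.symm, h2.symm, h3.symm, h2, h5.symm]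
  have hpairs : Nat.card {p : N × N // Commute p.1 p.2} = ∑ x : N, Nat.card {y : N // Commute x y} := by
    rw [Nat.card_congr (Equiv.subtypeProdEquivSigmaSubtype fun x y : N => Commute x y), Nat.card_sigma]
  rw [card_comm_eq_card_conjClasses_mul_card (↥N), Finset.sum_congr rfl fun x _ => hcent x, Finset.sum_ite,
    Finset.sum_ite, Finset.sum_const, Finset.sum_const, Finset.sum_const, hN, smul_eq_mul, smul_eq_mul, smul_eq_mul,
    Finset.filter_filter, Finset.filter_filter] at hpairs
  have hnmem : (negS : S2) ∈ N := hTN (negS_mem hT hodd)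
  have c1 : (Finset.univ.filter S).card = 2 := by
    rw [show Finset.univ.filter S = {1, ⟨negS, hnmem⟩} by
      ext y
      simp only [S, Finset.mem_filter, Finset.mem_univ, true_and, Finset.mem_insert, Finset.mem_singleton, Subtype.ext_iff]
      exact ⟨scalar_cases, fun h => by rcases h with h | h <;> rw [h] <;> first | exact scalar_negS | simp [TwoClasses.IsScalar2]⟩]
    exact Finset.card_pair fun h => negS_ne_one hodd (congrArg Subtype.val h).symm
  have c2 : (Finset.univ.filter fun x : N => (x : S2) ∈ T).card = qF + 1 := by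
    rw [← Fintype.card_subtype, ← Nat.card_eq_fintype_card, ← hT]
    exact Nat.card_congr ⟨fun y => ⟨y.1.1, y.2⟩, fun y => ⟨⟨y.1, hTN y.2⟩, y.2⟩, fun _ => rfl, fun _ => rfl⟩
  have c3 : (Finset.univ.filter fun x : N => ¬ S x ∧ (x : S2) ∈ T).card + 2 = qF + 1 := by
    have hu := Finset.card_union_of_disjoint (Finset.disjoint_filter.2 fun x (_ : x ∈ (Finset.univ : Finset N)) (h : ¬ S x ∧ (x : S2) ∈ T) (h' : S x) => h.1 h')
    rw [c1] at hu
    rw [← hu]
    refine Eq.trans ?_ c2
    congr 1
    ext x
    simp only [Finset.mem_union, Finset.mem_filter, Finset.mem_univ, true_and]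
    exact ⟨fun h => h.elim And.right fun h => scalar_mem hT hodd h,
      fun h => (em (S x)).elim Or.inr fun h' => Or.inl ⟨h', h⟩⟩
  have c4 : (Finset.univ.filter fun x : N => ¬ S x ∧ ¬ (x : S2) ∈ T).card = qF + 1 := by
    have h := Finset.card_filter_add_card_filter_not (s := (Finset.univ : Finset N)) (p := fun x => (x : S2) ∈ T)
    rw [c2, Finset.card_univ] at h
    have hN2 : Fintype.card N = 2 * (qF + 1) := Nat.card_eq_fintype_card.symm.trans hN
    rw [show (Finset.univ.filter fun x : N => ¬ S x ∧ ¬ (x : S2) ∈ T) = Finset.univ.filter fun x : N => ¬ (x : S2) ∈ T by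
      ext x; simp only [Finset.mem_filter, Finset.mem_univ, true_and]
      exact ⟨And.right, fun h => ⟨fun h' => h (scalar_mem hT hodd h'), h⟩⟩]
    omega
  obtain ⟨k, hk⟩ := hodd
  rw [c1, c4, show (Finset.univ.filter fun x : N => ¬ S x ∧ (x : S2) ∈ T).card = qF - 1 by omega] at hpairs
  set K := Nat.card (ConjClasses N)
  rw [hk, show 2 * k + 1 - 1 = 2 * k by omega] at hpairs
  have : 2 * (2 * k + 1 + 1) * K = 2 * (2 * k + 1 + 1) * (k + 4) := by linarith
  have := Nat.eq_of_mul_eq_mul_left (by omega) this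
  omega

include hodd hA in
theorem exists_conj_of_ell {g : S2} (hg : TwoClasses.IsEll g.1) : ∃ h : S2, h * g * h⁻¹ ∈ Subgroup.zpowers A := by
  have hAe := torus_ell (card_tor hA) hodd (Subgroup.mem_zpowers A) (gen_not_scalar hodd hA)
  have h2 := TwoClasses.two_ne_zero_of_odd hodd
  have hsq : IsSquare (TwoClasses.dsc g.1.trace * (TwoClasses.dsc A.1.trace)⁻¹) := by
    have n1 := TwoClasses.isEll_dsc hodd hg
    have n2 := TwoClasses.isEll_dsc hodd hAe
    obtain ⟨ν, hν⟩ := FiniteField.exists_nonsquare (TwoClasses.ringChar_ne_two_of_odd hodd)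
    rw [← quadraticChar_one_iff_isSquare (mul_ne_zero (TwoClasses.isEll_dsc_ne hodd hg)
      (inv_ne_zero (TwoClasses.isEll_dsc_ne hodd hAe))), map_mul, quadraticChar_neg_one_iff_not_isSquare.2 n1,
      quadraticChar_neg_one_iff_not_isSquare.2 (fun h => n2 (by rw [← inv_inv (TwoClasses.dsc A.1.trace)]; exact h.inv))]
    rfl
  obtain ⟨b, hb⟩ := hsq
  have hbd : b * b * TwoClasses.dsc A.1.trace = TwoClasses.dsc g.1.trace := by
    rw [← hb, mul_assoc, inv_mul_cancel₀ (TwoClasses.isEll_dsc_ne hodd hAe), mul_one]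
  set τ := A.1.trace with hτ
  set t := g.1.trace with ht
  set a := (t - b * τ) / 2 with ha
  have hdA : A.1 0 0 * A.1 1 1 - A.1 0 1 * A.1 1 0 = 1 := by rw [← Matrix.det_fin_two]; exact A.det_coe
  have hτ' : τ = A.1 0 0 + A.1 1 1 := Matrix.trace_fin_two _
  have h2a : 2 * a = t - b * τ := by rw [ha]; field_simp
  have hdet : (a • (1 : Matrix (Fin 2) (Fin 2) F) + b • A.1).det = 1 := by
    refine mul_left_cancel₀ (mul_ne_zero h2 h2) ?_
    simp only [TwoClasses.dsc] at hbd
    simp [Matrix.det_fin_two]
    linear_combination (2 * a + (t - b * τ) + 2 * b * (A.1 0 0 + A.1 1 1)) * h2a + 4 * b * b * hdA - hbd -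
      2 * b * (t - b * τ) * hτ'
  let h' : S2 := ⟨_, hdet⟩
  have htr : h'.1.trace = t := by
    show (a • (1 : Matrix (Fin 2) (Fin 2) F) + b • A.1).trace = t
    rw [Matrix.trace_add, Matrix.trace_smul, Matrix.trace_smul, Matrix.trace_one, ← hτ, Fintype.card_fin]
    simp only [smul_eq_mul, Nat.cast_two]
    linear_combination h2a
  have hmem : h' ∈ Subgroup.zpowers A := by
    rw [← centralizer_gen hodd hA, Subgroup.mem_centralizer_singleton_iff]
    refine Subtype.ext ?_
    show (a • (1 : Matrix (Fin 2) (Fin 2) F) + b • A.1) * A.1 = A.1 * (a • (1 : Matrix (Fin 2) (Fin 2) F) + b • A.1)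
    simp [add_mul, mul_add]
  obtain ⟨c, hc⟩ := isConj_iff.1 (TwoClasses.sl_isConj_of_trace (TwoClasses.isEll_not_scalar hg)
    (fun hs => TwoClasses.isEll_not_scalar (isEll_congr hg htr) hs) htr.symm (Or.inl (TwoClasses.isEll_dsc_ne hodd hg)))
  exact ⟨c, hc ▸ hmem⟩

end CfsgLib.Classical.SL2EllTorus
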