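import Mathlib

/-!
# The normaliser of the split torus of `SL(2,q)`, `q` odd
-/

set_option autoImplicit false

namespace CfsgLib.Classical.SL2TorusNormalizer

open Matrix

variable {F : Type*} [Field F] [Fintype F]

local notation "S2" => Matrix.SpecialLinearGroup (Fin 2) F
local notation "qF" => Fintype.card F

/-- Parametrisation of the monomial group. -/
def mon : Bool × Fˣ → S2
  | (false, a) => ⟨!![(a : F), 0; 0, ((a⁻¹ : Fˣ) : F)], by simp [Matrix.det_fin_two]⟩
  | (true, a) => ⟨!![0, (a : F); -((a⁻¹ : Fˣ) : F), 0], by simp [Matrix.det_fin_two]⟩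

theorem mon_injective : Function.Injective (mon (F := F)) := by
  rintro ⟨x, a⟩ ⟨y, b⟩ h
  have h00 := congrArg (fun M : S2 => M.1 0 0) h
  have h01 := congrArg (fun M : S2 => M.1 0 1) h
  cases x <;> cases y <;> simp [mon] at h00 h01
  · rw [Units.ext h00]
  · rw [Units.ext h01]

theorem diag_iff (g : S2) : (g.1 0 1 = 0 ∧ g.1 1 0 = 0) ↔ ∃ a, mon (false, a) = g := by
  constructor
  · rintro ⟨h01, h10⟩
    have hd := g.det_coe
    rw [Matrix.det_fin_two, h01, zero_mul, sub_zero] at hd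
    refine ⟨Units.mk0 (g.1 0 0) (left_ne_zero_of_mul_eq_one hd), Subtype.ext ?_⟩
    ext i j
    fin_cases i <;> fin_cases j <;> simp [mon, h01, h10]
    exact inv_eq_of_mul_eq_one_right hd
  · rintro ⟨a, rfl⟩; simp [mon]

theorem anti_iff (g : S2) : (g.1 0 0 = 0 ∧ g.1 1 1 = 0) ↔ ∃ a, mon (true, a) = g := by
  constructor
  · rintro ⟨h00, h11⟩
    have hd := g.det_coe
    rw [Matrix.det_fin_two, h00, zero_mul, zero_sub] at hd
    have hd' : g.1 0 1 * -g.1 1 0 = 1 := by rw [mul_neg, hd]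
    refine ⟨Units.mk0 (g.1 0 1) (left_ne_zero_of_mul_eq_one hd'), Subtype.ext ?_⟩
    ext i j
    fin_cases i <;> fin_cases j <;> simp [mon, h00, h11]
    rw [inv_eq_of_mul_eq_one_right hd', neg_neg]
  · rintro ⟨a, rfl⟩; simp [mon]

variable (d : Matrix.SpecialLinearGroup (Fin 2) F) (h01 : d.1 0 1 = 0) (h10 : d.1 1 0 = 0)
  (ha : d.1 0 0 ^ 2 ≠ 1)

include h01 h10 ha

theorem diag_ne : d.1 0 0 ≠ d.1 1 1 := fun h => ha (by
  have hd := d.det_coe
  rw [Matrix.det_fin_two, h01, zero_mul, sub_zero, ← h] at hd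
  rw [pow_two, hd])

theorem centralizer_iff (g : S2) :
    g ∈ Subgroup.centralizer ({d} : Set S2) ↔ (g.1 0 1 = 0 ∧ g.1 1 0 = 0) := by
  rw [Subgroup.mem_centralizer_singleton_iff]
  have hne := diag_ne d h01 h10 ha
  constructor
  · intro h
    have e := congrArg (fun M : S2 => M.1) h
    simp only [Matrix.SpecialLinearGroup.coe_mul] at e
    have e01 := congrFun (congrFun e 0) 1
    have e10 := congrFun (congrFun e 1) 0
    simp [Matrix.mul_apply, Fin.sum_univ_two, h01, h10] at e01 e10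
    exact ⟨(mul_eq_zero.1 (show g.1 0 1 * (d.1 1 1 - d.1 0 0) = 0 by linear_combination e01)).resolve_right
        (sub_ne_zero.2 hne.symm),
      (mul_eq_zero.1 (show g.1 1 0 * (d.1 0 0 - d.1 1 1) = 0 by linear_combination e10)).resolve_right
        (sub_ne_zero.2 hne)⟩
  · rintro ⟨g01, g10⟩
    refine Subtype.ext ?_
    rw [Matrix.SpecialLinearGroup.coe_mul, Matrix.SpecialLinearGroup.coe_mul]
    ext i j
    fin_cases i <;> fin_cases j <;> simp [Matrix.mul_apply, Fin.sum_univ_two, h01, h10, g01, g10, mul_comm]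

theorem normalizer_iff (g : S2) :
    g ∈ Subgroup.normalizer ((Subgroup.centralizer ({d} : Set S2)) : Set S2) ↔ ∃ p, mon p = g := by
  have hne := diag_ne d h01 h10 ha
  constructor
  · intro hg
    have hd : g * d * g⁻¹ ∈ Subgroup.centralizer ({d} : Set S2) :=
      (Subgroup.mem_normalizer_iff.1 hg d).1 (Subgroup.mem_centralizer_singleton_iff.2 rfl)
    obtain ⟨e01, e10⟩ := (centralizer_iff d h01 h10 ha _).1 hd
    rw [Matrix.SpecialLinearGroup.coe_mul, Matrix.SpecialLinearGroup.coe_mul,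
      Matrix.SpecialLinearGroup.coe_inv, Matrix.adjugate_fin_two] at e01 e10
    simp [Matrix.mul_apply, Fin.sum_univ_two, h01, h10] at e01 e10
    have hs := sub_ne_zero.2 hne
    have f01 : g.1 0 0 * g.1 0 1 = 0 :=
      (mul_eq_zero.1 (show g.1 0 0 * g.1 0 1 * (d.1 0 0 - d.1 1 1) = 0 by linear_combination -e01)).resolve_right hs
    have f10 : g.1 1 0 * g.1 1 1 = 0 :=
      (mul_eq_zero.1 (show g.1 1 0 * g.1 1 1 * (d.1 0 0 - d.1 1 1) = 0 by linear_combination e10)).resolve_right hs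
    have hdet := g.det_coe
    rw [Matrix.det_fin_two] at hdet
    rcases mul_eq_zero.1 f01 with h | h
    · have h10' : g.1 1 0 ≠ 0 := fun h0 => by simp [h, h0] at hdet
      obtain ⟨a, ha⟩ := (anti_iff g).1 ⟨h, (mul_eq_zero.1 f10).resolve_left h10'⟩
      exact ⟨_, ha⟩
    · have h11' : g.1 1 1 ≠ 0 := fun h0 => by simp [h, h0] at hdet
      obtain ⟨a, ha⟩ := (diag_iff g).1 ⟨h, (mul_eq_zero.1 f10).resolve_right h11'⟩
      exact ⟨_, ha⟩
  · rintro ⟨⟨s, a⟩, rfl⟩
    classical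
    refine Subgroup.mem_normalizer_fintype (fun n hn => ?_)
    obtain ⟨n01, n10⟩ := (centralizer_iff d h01 h10 ha n).1 hn
    refine (centralizer_iff d h01 h10 ha _).2 ?_
    rw [Matrix.SpecialLinearGroup.coe_mul, Matrix.SpecialLinearGroup.coe_mul,
      Matrix.SpecialLinearGroup.coe_inv, Matrix.adjugate_fin_two]
    cases s <;> simp [mon, Matrix.mul_apply, Fin.sum_univ_two, Matrix.vecMul, dotProduct, n01, n10]

/-- The parametrisation as an equivalence. -/
noncomputable def monEquiv :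
    Bool × Fˣ ≃ Subgroup.normalizer ((Subgroup.centralizer ({d} : Set S2)) : Set S2) :=
  Equiv.ofBijective (fun p => ⟨mon p, (normalizer_iff d h01 h10 ha _).2 ⟨p, rfl⟩⟩)
    ⟨fun p q h => mon_injective (congrArg Subtype.val h), fun g => by
      obtain ⟨p, hp⟩ := (normalizer_iff d h01 h10 ha _).1 g.2
      exact ⟨p, Subtype.ext hp⟩⟩

theorem card_normalizer :
    Nat.card (Subgroup.normalizer ((Subgroup.centralizer ({d} : Set S2)) : Set S2)) = 2 * (qF - 1) := by
  rw [← Nat.card_congr (monEquiv d h01 h10 ha), Nat.card_prod, Nat.card_eq_fintype_card, Fintype.card_bool,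
    Nat.card_units, Nat.card_eq_fintype_card]

theorem sq_outside (g : S2) (hg : g ∈ Subgroup.normalizer ((Subgroup.centralizer ({d} : Set S2)) : Set S2))
    (hn : g ∉ Subgroup.centralizer ({d} : Set S2)) : (g * g).1 = -1 := by
  obtain ⟨⟨s, a⟩, rfl⟩ := (normalizer_iff d h01 h10 ha g).1 hg
  cases s
  · exact absurd ((centralizer_iff d h01 h10 ha _).2 ((diag_iff _).2 ⟨a, rfl⟩)) hn
  · rw [Matrix.SpecialLinearGroup.coe_mul]
    ext i j
    fin_cases i <;> fin_cases j <;> simp [mon, Matrix.mul_apply, Fin.sum_univ_two]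

omit h01 h10 ha in
theorem mon_mul (p q : Bool × Fˣ) :
    mon p * mon q = mon (xor p.1 q.1, (if p.1 && q.1 then (-1 : Fˣ) else 1) * (p.2 * if p.1 then q.2⁻¹ else q.2)) := by
  obtain ⟨s, a⟩ := p
  obtain ⟨t, b⟩ := q
  refine Subtype.ext ?_
  rw [Matrix.SpecialLinearGroup.coe_mul]
  cases s <;> cases t <;>
    (ext i j; fin_cases i <;> fin_cases j <;> simp [mon, Matrix.mul_apply, Fin.sum_univ_two, mul_comm])

omit h01 h10 ha in
theorem mon_commute_iff (p q : Bool × Fˣ) :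
    Commute (mon p) (mon q) ↔ (p.1 = false ∧ q.1 = false) ∨ (p.1 = false ∧ p.2 ^ 2 = 1) ∨
      (q.1 = false ∧ q.2 ^ 2 = 1) ∨ (p.1 = true ∧ q.1 = true ∧ (p.2⁻¹ * q.2) ^ 2 = 1) := by
  obtain ⟨s, a⟩ := p
  obtain ⟨t, b⟩ := q
  rw [commute_iff_eq, mon_mul, mon_mul, mon_injective.eq_iff]
  cases s <;> cases t <;> simp [pow_two, mul_comm b a]
  · rw [mul_comm b a⁻¹, mul_left_inj, eq_inv_iff_mul_eq_one]
  · rw [inv_eq_iff_mul_eq_one]
  · rw [mul_inv_eq_iff_eq_mul, mul_comm b, mul_assoc, eq_comm (a := a)]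
    rw [inv_mul_eq_iff_eq_mul, mul_mul_mul_comm, ← mul_inv, inv_mul_eq_iff_eq_mul, mul_one]

theorem card_conjClasses (hodd : Odd qF) :
    Nat.card (ConjClasses (Subgroup.normalizer ((Subgroup.centralizer ({d} : Set S2)) : Set S2))) =
      (qF + 5) / 2 := by
  classical
  set N := Subgroup.normalizer ((Subgroup.centralizer ({d} : Set S2)) : Set S2)
  have h2 : (2 : F) ≠ 0 := Ring.two_ne_zero fun h => by
    have := FiniteField.even_card_of_char_two h
    rw [Nat.odd_iff] at hodd; omega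
  have hsq : ∀ c : Fˣ, Nat.card {b : Fˣ // (c * b) ^ 2 = 1} = 2 := fun c => by
    rw [Nat.card_congr (Equiv.subtypeEquiv (Equiv.mulLeft c) (p := fun b : Fˣ => (c * b) ^ 2 = 1) (q := fun b : Fˣ => b ^ 2 = 1) fun b => Iff.rfl)]
    refine Nat.card_eq_two_iff.2 ⟨⟨1, one_pow 2⟩, ⟨-1, neg_one_sq⟩, fun h => h2 ?_, ?_⟩
    · have := congrArg (fun z : {b : Fˣ // b ^ 2 = 1} => (z.1 : F)) h
      simp at this
      linear_combination this
    · refine Set.eq_univ_of_forall fun z => ?_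
      rcases sq_eq_one_iff.1 (show (z.1 : F) ^ 2 = 1 by rw [← Units.val_pow_eq_pow_val, z.2]; rfl) with h | h
      · exact Or.inl (Subtype.ext (Units.ext h))
      · exact Or.inr (Subtype.ext (Units.ext (by simpa using h)))
  have hsq1 : Nat.card {b : Fˣ // b ^ 2 = 1} = 2 := by
    simpa using hsq 1
  have hu : Nat.card Fˣ = qF - 1 := by rw [Nat.card_units, Nat.card_eq_fintype_card]
  have hpairs : Nat.card { p : N × N // Commute p.1 p.2 } = (qF - 1) * (qF + 5) := by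
    rw [← Nat.card_congr (Equiv.subtypeEquiv
      (p := fun p : (Bool × Fˣ) × (Bool × Fˣ) => Commute (mon p.1) (mon p.2))
      (q := fun p : N × N => Commute p.1 p.2)
      ((monEquiv d h01 h10 ha).prodCongr (monEquiv d h01 h10 ha))
      fun p => ⟨fun h => Subtype.ext h.eq, fun h => congrArg Subtype.val h.eq⟩)]
    refine (Nat.card_congr (Equiv.subtypeEquivRight fun (p : (Bool × Fˣ) × (Bool × Fˣ)) => mon_commute_iff p.1 p.2)).trans ?_
    let e : {p : (Bool × Fˣ) × (Bool × Fˣ) // (p.1.1 = false ∧ p.2.1 = false) ∨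
        (p.1.1 = false ∧ p.1.2 ^ 2 = 1) ∨ (p.2.1 = false ∧ p.2.2 ^ 2 = 1) ∨
        (p.1.1 = true ∧ p.2.1 = true ∧ (p.1.2⁻¹ * p.2.2) ^ 2 = 1)} ≃
        ((Fˣ × Fˣ) ⊕ ({a : Fˣ // a ^ 2 = 1} × Fˣ)) ⊕ ((Fˣ × {a : Fˣ // a ^ 2 = 1}) ⊕
          (Σ a : Fˣ, {b : Fˣ // (a⁻¹ * b) ^ 2 = 1})) :=
      { toFun := fun
          | ⟨((false, a), (false, b)), _⟩ => Sum.inl (Sum.inl (a, b))
          | ⟨((false, a), (true, b)), h⟩ => Sum.inl (Sum.inr (⟨a, by simpa using h⟩, b))
          | ⟨((true, a), (false, b)), h⟩ => Sum.inr (Sum.inl (a, ⟨b, by simpa using h⟩))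
          | ⟨((true, a), (true, b)), h⟩ => Sum.inr (Sum.inr ⟨a, ⟨b, by simpa using h⟩⟩)
        invFun := fun
          | Sum.inl (Sum.inl (a, b)) => ⟨((false, a), (false, b)), by simp⟩
          | Sum.inl (Sum.inr (a, b)) => ⟨((false, a.1), (true, b)), by simp [a.2]⟩
          | Sum.inr (Sum.inl (a, b)) => ⟨((true, a), (false, b.1)), by simp [b.2]⟩
          | Sum.inr (Sum.inr ⟨a, b⟩) => ⟨((true, a), (true, b.1)), by simp [b.2]⟩
        left_inv := by
          rintro ⟨⟨⟨s, a⟩, ⟨t, b⟩⟩, h⟩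
          cases s <;> cases t <;> rfl
        right_inv := by
          rintro ((⟨a, b⟩ | ⟨a, b⟩) | (⟨a, b⟩ | ⟨a, b⟩)) <;> rfl }
    rw [Nat.card_congr e]
    simp only [Nat.card_sum, Nat.card_prod, Nat.card_sigma, hsq, hsq1, hu, Finset.sum_const, Finset.card_univ,
      smul_eq_mul, Fintype.card_units]
    have := Fintype.card_pos (α := F)
    obtain ⟨k, hk⟩ : ∃ k, qF = k + 1 := ⟨qF - 1, by omega⟩
    rw [hk, Nat.add_sub_cancel]
    ring
  rw [card_comm_eq_card_conjClasses_mul_card (↥N), card_normalizer d h01 h10 ha] at hpairs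
  obtain ⟨k, hk⟩ := hodd
  have hpos : 0 < qF - 1 := by have : 1 < qF := Fintype.one_lt_card; omega
  have : Nat.card (ConjClasses N) * 2 = qF + 5 :=
    Nat.eq_of_mul_eq_mul_left hpos (by rw [← hpairs]; ring)
  omega

end CfsgLib.Classical.SL2TorusNormalizer
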