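import Cfsg.Agent.Lib.Classical.SL2EllTorus
import Cfsg.Agent.Lib.Classical.SL2TorusNormalizer
import Cfsg.Agent.Lib.Classical.SL2Sylow

/-!
# Odd Sylow subgroups inside tori
-/

set_option autoImplicit false
set_option linter.unusedSectionVars false

namespace CfsgLib.Classical.SL2OddSylow

open Matrix CfsgLib.Char CfsgLib.Char.TwoChars

theorem sylow_in_torus {G : Type*} [Group G] [Finite G] (ℓ : ℕ) [Fact ℓ.Prime] (P : Sylow ℓ G) (T : Subgroup G)
    [IsCyclic T] {m N : ℕ} (hm : Nat.card T = m) (hdvd : ℓ ∣ m)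
    (hpart : ℓ ^ (Nat.card G).factorization ℓ ∣ m)
    (hN : Nat.card (Subgroup.normalizer (T : Set G)) = N)
    (hC : ∀ x ∈ T, ∀ k, 1 ≤ k → orderOf x = ℓ ^ k → Subgroup.centralizer ({x} : Set G) = T) :
    Nat.card (Subgroup.centralizer ((P : Subgroup G) : Set G)) = m ∧
      IsCyclic (Subgroup.centralizer ((P : Subgroup G) : Set G)) ∧
      Nat.card (Subgroup.normalizer ((P : Subgroup G) : Set G)) = N := by
  classical
  obtain ⟨t, ht⟩ := IsCyclic.exists_generator (α := T)
  have hto : orderOf t = m := by rw [orderOf_eq_card_of_forall_mem_zpowers ht, hm]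
  set a := (Nat.card G).factorization ℓ with ha
  have ha1 : 1 ≤ a := (Fact.out : ℓ.Prime).factorization_pos_of_dvd Nat.card_pos.ne'
    (hdvd.trans (hm ▸ Subgroup.card_subgroup_dvd_card T))
  obtain ⟨c, hc⟩ := hpart
  let x : G := ((t ^ c : T) : G)
  have hm0 : m ≠ 0 := hm ▸ Nat.card_pos.ne'
  have hc0 : c ≠ 0 := fun h => hm0 (by rw [hc, h, mul_zero])
  have hx : orderOf x = ℓ ^ a := by
    rw [Subgroup.orderOf_coe, orderOf_pow_of_dvd hc0 (hto ▸ hc ▸ dvd_mul_left _ _), hto, hc,
      Nat.mul_div_cancel _ (Nat.pos_of_ne_zero hc0)]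
  let Q : Sylow ℓ G := Sylow.ofCard (Subgroup.zpowers x) (by rw [Nat.card_zpowers, hx])
  have hxT : x ∈ T := (t ^ c : T).2
  have hCQ : Subgroup.centralizer ((Q : Subgroup G) : Set G) = T := by
    show Subgroup.centralizer ((Subgroup.zpowers x : Subgroup G) : Set G) = T
    rw [Subgroup.zpowers_eq_closure, Subgroup.centralizer_closure]
    exact hC x hxT a ha1 hx
  have hNQ : Subgroup.normalizer ((Q : Subgroup G) : Set G) = Subgroup.normalizer (T : Set G) := by
    refine le_antisymm ?_ ?_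
    · intro g hg
      rw [← hCQ, Subgroup.mem_normalizer_iff]
      intro y
      simp only [Subgroup.mem_centralizer_iff]
      have hg' := Subgroup.mem_normalizer_iff.1 hg
      constructor
      · intro h z hz
        have hz' : g⁻¹ * z * g ∈ (Q : Subgroup G) := (hg' _).2 (by
          rw [show g * (g⁻¹ * z * g) * g⁻¹ = z by group]
          exact hz)
        calc z * (g * y * g⁻¹) = g * ((g⁻¹ * z * g) * y) * g⁻¹ := by group
          _ = g * (y * (g⁻¹ * z * g)) * g⁻¹ := by rw [h _ hz']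
          _ = g * y * g⁻¹ * z := by group
      · intro h z hz
        calc z * y = g⁻¹ * ((g * z * g⁻¹) * (g * y * g⁻¹)) * g := by group
          _ = g⁻¹ * ((g * y * g⁻¹) * (g * z * g⁻¹)) * g := by rw [h _ ((hg' z).1 hz)]
          _ = y * z := by group
    · intro g hg
      have hg' := Subgroup.mem_normalizer_iff.1 hg
      have hmap : (Subgroup.zpowers x).map (MulAut.conj g).toMonoidHom = Subgroup.zpowers x := by
        obtain ⟨j, hj⟩ := Subgroup.mem_zpowers_iff.1 (ht ⟨g * (t : G) * g⁻¹, (hg' _).1 t.2⟩)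
        have hj' : g * (t : G) * g⁻¹ = (t : G) ^ j := by
          have := congrArg Subtype.val hj
          simpa using this.symm
        rw [MonoidHom.map_zpowers]
        refine Subgroup.eq_of_le_of_card_ge (Subgroup.zpowers_le.2 ⟨j, ?_⟩) (le_of_eq ?_)
        · show x ^ j = g * x * g⁻¹
          simp only [x, SubgroupClass.coe_pow]
          rw [← conj_pow, hj', ← zpow_natCast, ← zpow_natCast, ← _root_.zpow_mul, ← _root_.zpow_mul, mul_comm]
        · rw [Nat.card_zpowers, Nat.card_zpowers]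
          exact ((MulAut.conj g).orderOf_eq x).symm
      refine Subgroup.mem_normalizer_iff.2 fun y => ?_
      show y ∈ Subgroup.zpowers x ↔ g * y * g⁻¹ ∈ Subgroup.zpowers x
      rw [← MulAut.conj_apply, ← MulEquiv.coe_toMonoidHom]
      conv_rhs => rw [← hmap]
      exact (Subgroup.mem_map_iff_mem (MulEquiv.injective _)).symm
  obtain ⟨g, hg⟩ := MulAction.exists_smul_eq G Q P
  have hP : (P : Subgroup G) = (Q : Subgroup G).map (MulAut.conj g).toMonoidHom := by rw [← hg]; rfl
  have hCP : Subgroup.centralizer ((P : Subgroup G) : Set G) = T.map (MulAut.conj g).toMonoidHom := by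
    rw [← hCQ, hP, Subgroup.coe_map]
    ext y
    rw [Subgroup.mem_map_equiv, Subgroup.mem_centralizer_iff, Subgroup.mem_centralizer_iff, Set.forall_mem_image]
    refine forall₂_congr fun z hz => ⟨fun h => (MulAut.conj g).injective ?_, fun h => ?_⟩
    · simp only [MulAut.conj_apply, MulEquiv.coe_toMonoidHom, MulAut.conj_symm_apply] at h ⊢
      calc g * (z * (g⁻¹ * y * g)) * g⁻¹ = g * z * g⁻¹ * y := by group
        _ = y * (g * z * g⁻¹) := h
        _ = g * (g⁻¹ * y * g * z) * g⁻¹ := by group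
    · simp only [MulAut.conj_apply, MulEquiv.coe_toMonoidHom, MulAut.conj_symm_apply] at h ⊢
      calc g * z * g⁻¹ * y = g * (z * (g⁻¹ * y * g)) * g⁻¹ := by group
        _ = g * (g⁻¹ * y * g * z) * g⁻¹ := by rw [h]
        _ = y * (g * z * g⁻¹) := by group
  have hNP : Subgroup.normalizer ((P : Subgroup G) : Set G) =
      (Subgroup.normalizer (T : Set G)).map (MulAut.conj g).toMonoidHom := by
    rw [← hNQ, hP, Subgroup.map_equiv_normalizer_eq]
  rw [hCP, hNP]
  refine ⟨?_, ?_, ?_⟩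
  · rw [Subgroup.card_map_of_injective (MulEquiv.injective _), hm]
  · exact isCyclic_of_surjective (T.equivMapOfInjective _ (MulEquiv.injective _)).toMonoidHom (MulEquiv.surjective _)
  · rw [Subgroup.card_map_of_injective (MulEquiv.injective _), hN]

variable {F : Type*} [Field F] [Fintype F]

local notation "S2" => Matrix.SpecialLinearGroup (Fin 2) F
local notation "qF" => Fintype.card F

theorem part_dvd {ℓ : ℕ} [Fact ℓ.Prime] (hℓ : ℓ ≠ 2) {m n : ℕ} (hd : ℓ ∣ m) (hmn : m = n + 2 ∨ n = m + 2)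
    (hprod : qF - 1 = m ∧ qF + 1 = n ∨ qF - 1 = n ∧ qF + 1 = m) :
    ℓ ^ (Nat.card S2).factorization ℓ ∣ m := by
  have hp : ℓ.Prime := Fact.out
  have h := Nat.ordProj_dvd (Nat.card S2) ℓ
  have h2 : ¬ ℓ ∣ 2 := fun h => hℓ ((Nat.prime_dvd_prime_iff_eq hp Nat.prime_two).1 h)
  have hn : ¬ ℓ ∣ n := fun hn => h2 (by
    rcases hmn with e | e
    · have := Nat.dvd_sub hd hn; rwa [e, Nat.add_sub_cancel_left] at this
    · have := Nat.dvd_sub hn hd; rwa [e, Nat.add_sub_cancel_left] at this)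
  have hq : ¬ ℓ ∣ qF := fun hq => by
    have := Fintype.one_lt_card (α := F)
    rcases hprod with ⟨e1, e2⟩ | ⟨e1, e2⟩
    · have := Nat.dvd_sub hq hd; rw [← e1, show qF - (qF - 1) = 1 by omega] at this; exact hp.ne_one (Nat.dvd_one.1 this)
    · have := Nat.dvd_sub hd hq; rw [← e2, show qF + 1 - qF = 1 by omega] at this; exact hp.ne_one (Nat.dvd_one.1 this)
  generalize (Nat.card S2).factorization ℓ = a at h ⊢
  rw [card_sl2] at h
  rcases hprod with ⟨e1, e2⟩ | ⟨e1, e2⟩ <;> rw [e1, e2] at h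
  · exact (((hp.coprime_iff_not_dvd.2 hn).pow_left _).dvd_of_dvd_mul_right
      (((hp.coprime_iff_not_dvd.2 hq).pow_left _).dvd_of_dvd_mul_left h))
  · exact (((hp.coprime_iff_not_dvd.2 hn).pow_left _).dvd_of_dvd_mul_left
      (((hp.coprime_iff_not_dvd.2 hq).pow_left _).dvd_of_dvd_mul_left h))

theorem not_scalar_of_order [DecidableEq F] {ℓ k : ℕ} [Fact ℓ.Prime] (hℓ : ℓ ≠ 2) (hk : 1 ≤ k) {x : S2}
    (hx : orderOf x = ℓ ^ k) : ¬ TwoClasses.IsScalar2 x.1 := fun h => by
  have h2 : x ^ 2 = 1 := by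
    rcases scalar_cases h with rfl | rfl
    · exact one_pow 2
    · exact Subtype.ext (by simp [negS_val, pow_two])
  have hd : ℓ ∣ 2 := (dvd_pow_self ℓ (by omega : k ≠ 0)).trans (hx ▸ orderOf_dvd_of_pow_eq_one h2)
  exact hℓ ((Nat.prime_dvd_prime_iff_eq Fact.out Nat.prime_two).1 hd)

theorem diag_torus (d : S2) (hd01 : d.1 0 1 = 0) (hd10 : d.1 1 0 = 0) (hda : d.1 0 0 ^ 2 ≠ 1) :
    IsCyclic (Subgroup.centralizer ({d} : Set S2)) ∧ Nat.card (Subgroup.centralizer ({d} : Set S2)) = qF - 1 := by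
  classical
  set T := Subgroup.centralizer ({d} : Set S2) with hT
  haveI : IsCyclic T := isCyclic_of_injective_ringHom (R := F)
    { toFun := fun g => g.1.1 0 0
      map_one' := by simp
      map_mul' := fun g h => by
        have h1 := (SL2TorusNormalizer.centralizer_iff d hd01 hd10 hda g.1).1 g.2
        simp [Matrix.mul_apply, Fin.sum_univ_two, h1.1] } fun g h e => by
    change g.1.1 0 0 = h.1.1 0 0 at e
    have h1 := (SL2TorusNormalizer.centralizer_iff d hd01 hd10 hda g.1).1 g.2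
    have h2 := (SL2TorusNormalizer.centralizer_iff d hd01 hd10 hda h.1).1 h.2
    have d1 := g.1.det_coe
    have d2 := h.1.det_coe
    rw [Matrix.det_fin_two, h1.1, zero_mul, sub_zero] at d1
    rw [Matrix.det_fin_two, h2.1, zero_mul, sub_zero, ← e] at d2
    refine Subtype.ext (Subtype.ext (Matrix.ext fun i j => ?_))
    fin_cases i <;> fin_cases j
    · exact e
    · exact h1.1.trans h2.1.symm
    · exact h1.2.trans h2.2.symm
    · exact mul_left_cancel₀ (fun h0 => by rw [h0, zero_mul] at d1; exact zero_ne_one d1) (d1.trans d2.symm)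
  have hcT : Nat.card T = qF - 1 := by
    rw [← Fintype.card_units, ← Nat.card_eq_fintype_card]
    refine (Nat.card_eq_of_bijective (fun a : Fˣ => (⟨SL2TorusNormalizer.mon (false, a),
      (SL2TorusNormalizer.centralizer_iff d hd01 hd10 hda _).2 ((SL2TorusNormalizer.diag_iff _).2 ⟨a, rfl⟩)⟩ : T)) ⟨?_, ?_⟩).symm
    · exact fun a b h => congrArg Prod.snd (SL2TorusNormalizer.mon_injective (a₁ := (false, a)) (a₂ := (false, b)) (congrArg Subtype.val h))
    · intro g
      obtain ⟨a, ha⟩ := (SL2TorusNormalizer.diag_iff g.1).1 ((SL2TorusNormalizer.centralizer_iff d hd01 hd10 hda g.1).1 g.2)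
      exact ⟨a, Subtype.ext ha⟩
  exact ⟨inferInstance, hcT⟩

theorem odd_sylow (hodd : Odd qF) (ℓ : ℕ) [Fact ℓ.Prime] (hℓ : ℓ ≠ 2) (P : Sylow ℓ S2) :
    (ℓ ∣ qF - 1 → Nat.card (Subgroup.centralizer ((P : Subgroup S2) : Set S2)) = qF - 1 ∧
      IsCyclic (Subgroup.centralizer ((P : Subgroup S2) : Set S2)) ∧
      Nat.card (Subgroup.normalizer ((P : Subgroup S2) : Set S2)) = 2 * (qF - 1)) ∧
    (ℓ ∣ qF + 1 → Nat.card (Subgroup.centralizer ((P : Subgroup S2) : Set S2)) = qF + 1 ∧
      IsCyclic (Subgroup.centralizer ((P : Subgroup S2) : Set S2)) ∧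
      Nat.card (Subgroup.normalizer ((P : Subgroup S2) : Set S2)) = 2 * (qF + 1)) := by
  classical
  have hq := Fintype.one_lt_card (α := F)
  refine ⟨fun hd => ?_, fun hd => ?_⟩
  · obtain ⟨u, hu⟩ := IsCyclic.exists_ofOrder_eq_natCard (α := Fˣ)
    rw [Nat.card_units, Nat.card_eq_fintype_card] at hu
    have h3 : 3 ≤ qF - 1 := by
      have := (Fact.out : ℓ.Prime).two_le
      have := Nat.le_of_dvd (by omega) hd
      omega
    let d : S2 := elS u 0
    have hd01 : d.1 0 1 = 0 := by simp [d, elS_val]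
    have hd10 : d.1 1 0 = 0 := by simp [d, elS_val]
    have hda : d.1 0 0 ^ 2 ≠ 1 := fun h => by
      have h' : u ^ 2 = 1 := Units.ext (by simpa [d, elS_val] using h)
      have := Nat.le_of_dvd two_pos (hu ▸ orderOf_dvd_of_pow_eq_one h')
      omega
    set T := Subgroup.centralizer ({d} : Set S2) with hT
    obtain ⟨hcyc, hcT⟩ := diag_torus d hd01 hd10 hda
    haveI : IsCyclic T := hcyc
    refine sylow_in_torus ℓ P T hcT hd (part_dvd hℓ hd (n := qF + 1) (Or.inr (by omega)) (Or.inl ⟨rfl, rfl⟩))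
      (SL2TorusNormalizer.card_normalizer d hd01 hd10 hda) fun x hx k hk hxo => ?_
    obtain ⟨hx1, hx2⟩ := (SL2TorusNormalizer.centralizer_iff d hd01 hd10 hda x).1 hx
    have hns := not_scalar_of_order hℓ hk hxo
    have hxa : x.1 0 0 ^ 2 ≠ 1 := fun h => hns ⟨hx1, hx2, by
      have dx := x.det_coe
      rw [Matrix.det_fin_two, hx1, zero_mul, sub_zero] at dx
      linear_combination (x.1 1 1) * h - (x.1 0 0) * dx⟩
    ext g
    rw [SL2TorusNormalizer.centralizer_iff x hx1 hx2 hxa, SL2TorusNormalizer.centralizer_iff d hd01 hd10 hda]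
  · obtain ⟨A, hA⟩ := PSL2Spectrum.exists_order_add_one (F := F)
    exact sylow_in_torus ℓ P (Subgroup.zpowers A) (SL2EllTorus.card_tor hA) hd
      (part_dvd hℓ hd (n := qF - 1) (Or.inl (by omega)) (Or.inr ⟨rfl, rfl⟩))
      (SL2EllTorus.card_normalizer hodd hA) fun x hx k hk hxo =>
      SL2EllTorus.centralizer_elem hodd hA hx (not_scalar_of_order hℓ hk hxo)

end CfsgLib.Classical.SL2OddSylow
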