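import Mathlib
import Cfsg.Agent.Lib.Classical.SLBasic

/-!
# Elements of order three of `SL(2,5)` inside `Sp(4,3)`
-/

set_option autoImplicit false
set_option linter.style.haveILetI false
set_option linter.unusedSimpArgs false

open Matrix

namespace CfsgLib.SLFiveInSp

variable {F : Type*} [Field F] [Fintype F] {K : Type*} [Field K] [Fintype K]

theorem char_three (hF : Fintype.card F = 3) : (3 : F) = 0 := by
  have h := Nat.cast_card_eq_zero F
  rw [hF] at h
  exact_mod_cast h

theorem char_five (hK : Fintype.card K = 5) : (5 : K) = 0 := by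
  have h := Nat.cast_card_eq_zero K
  rw [hK] at h
  exact_mod_cast h

/-- An element of order three and a conjugate of it have product of order four. -/
theorem exists_conj_square_neg (hK : Fintype.card K = 5) {x : Matrix.SpecialLinearGroup (Fin 2) K}
    (hx : orderOf x = 3) : ∃ g, (x * (g * x * g⁻¹)) ^ 2 = -1 := by
  classical
  have h5 := char_five hK
  have h2 : (2 : K) ≠ 0 := fun h => one_ne_zero (show (1 : K) = 0 by linear_combination h5 - 2 * h)
  have h3 : (3 : K) ≠ 0 := fun h => one_ne_zero (show (1 : K) = 0 by linear_combination 2 * h - h5)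
  set a := x.1 0 0
  set b := x.1 0 1
  set c := x.1 1 0
  set d := x.1 1 1
  have hd : a * d - b * c = 1 := by rw [← Matrix.det_fin_two]; exact x.2
  set t := a + d with ht
  -- Cayley–Hamilton gives the trace
  have hch : x.1 * x.1 = t • x.1 - 1 := by
    ext i j
    fin_cases i <;> fin_cases j <;> simp [Matrix.mul_apply, Fin.sum_univ_two, a, b, c, d, t] <;>
      first
        | linear_combination -hd
        | linear_combination hd
        | ring
  have hx3 : x.1 * x.1 * x.1 = 1 := by
    have h := congrArg Subtype.val (pow_orderOf_eq_one x)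
    rw [hx, pow_succ, sq] at h
    exact h
  have hlin : (t ^ 2 - 1) • x.1 = (t + 1) • (1 : Matrix (Fin 2) (Fin 2) K) := by
    have h1 : x.1 * x.1 * x.1 = (t ^ 2 - 1) • x.1 - t • 1 := by
      rw [hch, sub_mul, smul_mul_assoc, hch, one_mul, smul_sub, smul_smul, sub_smul, sq, one_smul]
      abel
    rw [hx3] at h1
    rw [add_smul, one_smul]
    nth_rw 2 [h1]
    abel
  have e00 := congrFun (congrFun hlin 0) 0
  have e01 := congrFun (congrFun hlin 0) 1
  have e10 := congrFun (congrFun hlin 1) 0
  have e11 := congrFun (congrFun hlin 1) 1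
  simp at e00 e01 e10 e11
  have htr : t = -1 := by
    by_contra htn
    have ht1 : t + 1 ≠ 0 := fun h => htn (by linear_combination h)
    have f00 : (t - 1) * a = 1 := mul_left_cancel₀ ht1 (by linear_combination e00)
    have f11 : (t - 1) * d = 1 := mul_left_cancel₀ ht1 (by linear_combination e11)
    have hq : (t - 2) * (t + 1) = 0 := by linear_combination f00 + f11
    have ht2 : t = 2 := by
      rcases mul_eq_zero.1 hq with h | h
      · linear_combination h
      · exact absurd h ht1
    have ha : a = 1 := by rw [ht2] at f00; linear_combination f00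
    have hd1 : d = 1 := by rw [ht2] at f11; linear_combination f11
    have hb : b = 0 := by
      rcases e01 with h | h
      · rw [ht2] at h; exact absurd (show (3 : K) = 0 by linear_combination h) h3
      · exact h
    have hc : c = 0 := by
      rcases e10 with h | h
      · rw [ht2] at h; exact absurd (show (3 : K) = 0 by linear_combination h) h3
      · exact h
    have : x = 1 := Subtype.ext (by
      ext i j
      fin_cases i <;> fin_cases j <;>
        first
          | exact ha
          | exact hb
          | exact hc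
          | exact hd1)
    rw [this, orderOf_one] at hx
    exact absurd hx (by norm_num)
  have hc : c ≠ 0 := by
    intro hc
    have had : a * d = 1 := by rw [hc, mul_zero, sub_zero] at hd; exact hd
    have h : a ^ 2 + a + 1 = 0 := by rw [ht] at htr; linear_combination a * htr - had
    -- no cube roots of unity in the field with five elements
    have h4 : a ^ 4 = 1 := by
      have ha : a ≠ 0 := left_ne_zero_of_mul_eq_one had
      have := FiniteField.pow_card_sub_one_eq_one a ha
      rwa [hK] at this
    have ha1 : a = 1 := by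
      have : a ^ 3 = 1 := by linear_combination (a - 1) * h
      calc a = a * a ^ 3 := by rw [this, mul_one]
        _ = a ^ 4 := by ring
        _ = 1 := h4
    rw [ha1] at h
    exact h3 (by linear_combination h)
  set s : K := 2 / c with hs
  let g : Matrix.SpecialLinearGroup (Fin 2) K := ⟨!![1, s; 0, 1], by simp [Matrix.det_fin_two]⟩
  refine ⟨g, ?_⟩
  set w := x * (g * x * g⁻¹) with hw
  have hgi : (g⁻¹).1 = !![1, -s; 0, 1] := by
    rw [Matrix.SpecialLinearGroup.coe_inv, Matrix.adjugate_fin_two]
    simp [g]
  have hgv : g.1 = !![1, s; 0, 1] := rfl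
  have hwv : w.1 = x.1 * (g.1 * x.1 * (g⁻¹).1) := rfl
  have htw : w.1 0 0 + w.1 1 1 = 0 := by
    rw [hwv, hgi, hgv, Matrix.eta_fin_two x.1, Matrix.mul_fin_two, Matrix.mul_fin_two, Matrix.mul_fin_two]
    simp
    have hsc : s * c = 2 := by rw [hs, div_mul_cancel₀ _ hc]
    have hde : d = -1 - a := by rw [ht] at htr; linear_combination htr
    show _ = (0 : K)
    rw [show x.1 0 0 = a from rfl, show x.1 0 1 = b from rfl, show x.1 1 0 = c from rfl,
      show x.1 1 1 = d from rfl]
    rw [hde] at hd ⊢
    linear_combination (-1 : K) * h5 - 2 * hd - (s * c + 2) * hsc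
  have hwdet : w.1 0 0 * w.1 1 1 - w.1 0 1 * w.1 1 0 = 1 := by rw [← Matrix.det_fin_two]; exact w.2
  refine Subtype.ext ?_
  rw [Matrix.SpecialLinearGroup.coe_pow, sq, Matrix.SpecialLinearGroup.coe_neg,
    Matrix.SpecialLinearGroup.coe_one]
  have h11 : w.1 1 1 = -w.1 0 0 := by linear_combination htw
  rw [h11] at hwdet
  ext i j
  fin_cases i <;> fin_cases j <;> simp [Matrix.mul_apply, Fin.sum_univ_two, h11] <;>
    first
      | linear_combination -hwdet
      | linear_combination hwdet
      | ring

variable (φ : Matrix.SpecialLinearGroup (Fin 2) K →* ↥(Matrix.symplecticGroup (Fin 2) F))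

local notation "V" => (Fin 2 ⊕ Fin 2 → F)

/-- The operator of an element. -/
noncomputable def op (g : Matrix.SpecialLinearGroup (Fin 2) K) : V →ₗ[F] V :=
  Matrix.toLin' ((φ g : Matrix (Fin 2 ⊕ Fin 2) (Fin 2 ⊕ Fin 2) F))

theorem op_mul (g h : Matrix.SpecialLinearGroup (Fin 2) K) (v : V) :
    op φ (g * h) v = op φ g (op φ h v) := by
  simp [op, Matrix.mulVec_mulVec]

theorem op_one (v : V) : op φ 1 v = v := by simp [op]

theorem finrank_ker_comp_le (f g : V →ₗ[F] V) : Module.finrank F (LinearMap.ker (f ∘ₗ g)) ≤
    Module.finrank F (LinearMap.ker f) + Module.finrank F (LinearMap.ker g) := by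
  let r : LinearMap.ker (f ∘ₗ g) →ₗ[F] LinearMap.ker f :=
    (g.domRestrict _).codRestrict _ fun v => LinearMap.mem_ker.2 (LinearMap.mem_ker.1 v.2)
  have h := LinearMap.finrank_range_add_finrank_ker r
  have h1 := Submodule.finrank_le (LinearMap.range r)
  let e : LinearMap.ker r →ₗ[F] LinearMap.ker g :=
    ((LinearMap.ker (f ∘ₗ g)).subtype ∘ₗ (LinearMap.ker r).subtype).codRestrict _ fun v =>
      LinearMap.mem_ker.2 (congrArg Subtype.val (LinearMap.mem_ker.1 v.2))
  have hi : Function.Injective e := fun u v huv =>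
    Subtype.ext (Subtype.ext (congrArg (fun w : LinearMap.ker g => (w : V)) huv))
  have h2 := LinearMap.finrank_le_finrank_of_injective hi
  omega

theorem finrank_inf_ge (S T : Submodule F V) :
    Module.finrank F S + Module.finrank F T ≤ 4 + Module.finrank F (S ⊓ T : Submodule F V) := by
  have h := Submodule.finrank_sup_add_finrank_inf_eq S T
  have h2 := Submodule.finrank_le (S ⊔ T)
  rw [Module.finrank_fintype_fun_eq_card, Fintype.card_sum, Fintype.card_fin] at h2
  omega

theorem not_five_dvd {d : ℕ} (hd : d ≤ 2) (hF : Fintype.card F = 3) : ¬ 5 ∣ Nat.card (GL (Fin d) F) := by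
  rw [Matrix.card_GL_field, hF]
  interval_cases d <;> norm_num [Fin.prod_univ_one, Fin.prod_univ_two]

/-- Two conjugate elements of order three cannot both be transvections. -/
theorem ker_ne_three (hF : Fintype.card F = 3) (hK : Fintype.card K = 5) (hφ : Function.Injective φ)
    {x : Matrix.SpecialLinearGroup (Fin 2) K} (hx : orderOf x = 3) :
    Module.finrank F (LinearMap.ker (op φ x - LinearMap.id)) ≠ 3 := by
  classical
  have h2 : (2 : F) ≠ 0 := fun h => one_ne_zero (show (1 : F) = 0 by linear_combination char_three hF - h)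
  intro h3
  obtain ⟨g, hg⟩ := exists_conj_square_neg hK hx
  set y := g * x * g⁻¹ with hy
  set S := LinearMap.ker (op φ x - LinearMap.id) with hS
  set T := LinearMap.ker (op φ y - LinearMap.id) with hT
  have hfix : ∀ {h : Matrix.SpecialLinearGroup (Fin 2) K} {v : V},
      v ∈ LinearMap.ker (op φ h - LinearMap.id) ↔ op φ h v = v := by
    intro h v
    rw [LinearMap.mem_ker, LinearMap.sub_apply, LinearMap.id_apply, sub_eq_zero]
  have hT3 : 3 ≤ Module.finrank F T := by
    let m : S →ₗ[F] T := ((op φ g).domRestrict S).codRestrict T fun v => hfix.2 (by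
      show op φ y (op φ g v) = op φ g v
      rw [← op_mul, hy, inv_mul_cancel_right, op_mul, hfix.1 v.2])
    refine h3.ge.trans (LinearMap.finrank_le_finrank_of_injective (f := m) fun u v huv => ?_)
    have h1 : op φ g (u : V) = op φ g v := congrArg (fun w : T => (w : V)) huv
    have h2 := congrArg (op φ g⁻¹) h1
    rw [← op_mul, ← op_mul, inv_mul_cancel, op_one, op_one] at h2
    exact Subtype.ext h2
  set z : Matrix.SpecialLinearGroup (Fin 2) K := -1 with hz
  have hzz : z * z = 1 := by rw [hz]; simp
  have hzne : z ≠ 1 := by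
    intro e
    have h' : (-1 : K) = 1 := by
      simpa [hz] using congrArg (fun m : Matrix.SpecialLinearGroup (Fin 2) K => m.1 0 0) e
    exact one_ne_zero (show (1 : K) = 0 by linear_combination char_five hK + 2 * h')
  have hzfix : ∀ v ∈ S ⊓ T, op φ z v = v := by
    rintro v ⟨h1, h2⟩
    rw [← hg, sq, op_mul φ (x * y) (x * y) v, op_mul φ x y v, hfix.1 h2, hfix.1 h1, op_mul φ x y v, hfix.1 h2, hfix.1 h1]
  set E := LinearMap.ker (op φ z + LinearMap.id) with hE
  have hmemE : ∀ v, v ∈ E ↔ op φ z v = -v := by
    intro v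
    rw [hE, LinearMap.mem_ker, LinearMap.add_apply, LinearMap.id_apply, add_eq_zero_iff_eq_neg]
  have hdisj : (S ⊓ T) ⊓ E = ⊥ := by
    rw [eq_bot_iff]
    rintro v ⟨h1, h4⟩
    have e1 := hzfix v h1
    rw [(hmemE v).1 h4] at e1
    rw [Submodule.mem_bot]
    have h5 : (2 : F) • v = 0 := by
      rw [two_smul]; nth_rw 1 [← e1]; exact neg_add_cancel v
    exact (smul_eq_zero.1 h5).resolve_left h2
  have hE2 : Module.finrank F E ≤ 2 := by
    have a1 := finrank_inf_ge (S) T
    have a2 := finrank_inf_ge (S ⊓ T) E
    rw [hdisj, finrank_bot] at a2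
    omega
  have hEne : E ≠ ⊥ := by
    intro hb
    refine hzne (hφ ?_)
    refine Subtype.ext (Matrix.toLin'.injective (LinearMap.ext fun v => ?_))
    show op φ z v = Matrix.toLin' ((φ 1 : Matrix (Fin 2 ⊕ Fin 2) (Fin 2 ⊕ Fin 2) F)) v
    rw [show Matrix.toLin' ((φ 1 : Matrix (Fin 2 ⊕ Fin 2) (Fin 2 ⊕ Fin 2) F)) v = v from op_one φ v]
    have : op φ z v - v ∈ E := by
      rw [hmemE, map_sub, ← op_mul, hzz, op_one, neg_sub]
    rw [hb, Submodule.mem_bot, sub_eq_zero] at this
    exact this
  have hEinv : ∀ (h : Matrix.SpecialLinearGroup (Fin 2) K), ∀ v ∈ E, op φ h v ∈ E := by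
    intro h v hv
    rw [hmemE, ← op_mul, show z * h = h * z by rw [hz]; simp, op_mul, (hmemE v).1 hv, map_neg]
  let bE := Module.finBasis F E
  let ρ₀ : Matrix.SpecialLinearGroup (Fin 2) K →* (Module.End F E) :=
    { toFun := fun h => (op φ h).restrict (hEinv h)
      map_one' := LinearMap.ext fun v => Subtype.ext (op_one φ v)
      map_mul' := fun h h' => LinearMap.ext fun v => Subtype.ext (op_mul φ h h' v) }
  let ρ : Matrix.SpecialLinearGroup (Fin 2) K →* GL (Fin (Module.finrank F E)) F :=
    (Units.map (LinearMap.toMatrixAlgEquiv bE).toRingEquiv.toMonoidHom).comp ρ₀.toHomUnits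
  have htop : ρ.ker = ⊤ := by
    refine CfsgLib.Classical.sl_eq_top _ fun i j hij c => ?_
    set u := Matrix.SpecialLinearGroup.transvection hij c with hu
    have hu5 : u ^ 5 = 1 := by
      have key : ∀ k : ℕ, u.1 ^ k = Matrix.transvection i j ((k : K) * c) := by
        intro k
        induction k with
        | zero => simp
        | succ k ih =>
          rw [pow_succ, ih, show u.1 = Matrix.transvection i j c from rfl,
            Matrix.transvection_mul_transvection_same i j hij, Nat.cast_succ, add_mul, one_mul]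
      refine Subtype.ext ?_
      rw [Matrix.SpecialLinearGroup.coe_pow, key 5]
      push_cast
      rw [char_five hK, zero_mul, Matrix.transvection_zero]
      rfl
    have hρ5 : ρ u ^ 5 = 1 := by rw [← map_pow, hu5, map_one]
    rw [MonoidHom.mem_ker]
    rcases (Nat.dvd_prime (by norm_num : Nat.Prime 5)).1 (orderOf_dvd_of_pow_eq_one hρ5) with h | h
    · exact orderOf_eq_one_iff.1 h
    · exact absurd (h ▸ orderOf_dvd_natCard (ρ u)) (not_five_dvd hE2 hF)
  obtain ⟨v, hv, hv0⟩ := Submodule.exists_mem_ne_zero_of_ne_bot hEne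
  have h6 : ρ z = 1 := MonoidHom.mem_ker.1 (htop ▸ Subgroup.mem_top z)
  have h7 : LinearMap.toMatrixAlgEquiv bE (ρ₀ z) = 1 := congrArg Units.val h6
  rw [← map_one (LinearMap.toMatrixAlgEquiv bE)] at h7
  have h8 := congrArg (fun f : Module.End F E => (f ⟨v, hv⟩ : E).1) ((LinearMap.toMatrixAlgEquiv bE).injective h7)
  have h9 : op φ z v = v := h8
  rw [(hmemE v).1 hv] at h9
  have h10 : (2 : F) • v = 0 := by
    rw [two_smul]; nth_rw 1 [← h9]; exact neg_add_cancel v
  exact hv0 ((smul_eq_zero.1 h10).resolve_left h2)

theorem main (hF : Fintype.card F = 3) (hK : Fintype.card K = 5) (hφ : Function.Injective φ)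
    (x : Matrix.SpecialLinearGroup (Fin 2) K) (hx : orderOf x = 3) :
    Module.finrank F ↥(LinearMap.ker (op φ x - LinearMap.id)) = 2 ∧
      ∀ v w : V, op φ x v = v → op φ x w = w → dotProduct v ((Matrix.J (Fin 2) F).mulVec w) = 0 := by
  classical
  have c3 := char_three hF
  have h2 : (2 : F) ≠ 0 := fun h => one_ne_zero (show (1 : F) = 0 by linear_combination c3 - h)
  set N := op φ x - LinearMap.id with hN
  set B : V → V → F := fun u v => dotProduct u ((Matrix.J (Fin 2) F).mulVec v) with hB
  have hinv : ∀ u v, B (op φ x u) (op φ x v) = B u v := by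
    intro u v
    have h := SymplecticGroup.mem_iff'.1 (φ x).2
    simp only [hB, op, Matrix.toLin'_apply]
    rw [dotProduct_comm, ← Matrix.dotProduct_transpose_mulVec, Matrix.mulVec_mulVec, Matrix.mulVec_mulVec,
      h]
  have hrel : ∀ u v, B (N u) (N v) + B (N u) v + B u (N v) = 0 := by
    intro u v
    have h := hinv u v
    have e : ∀ w, op φ x w = N w + w := fun w => by simp [hN]
    simp only [hB] at h ⊢
    rw [e u, e v, Matrix.mulVec_add, add_dotProduct, dotProduct_add, dotProduct_add] at h
    linear_combination h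
  have hN3 : ∀ u, N (N (N u)) = 0 := by
    intro u
    have h3 : op φ x (op φ x (op φ x u)) = u := by
      rw [← op_mul, ← op_mul, show x * x * x = 1 by rw [← sq, ← pow_succ, ← (pow_orderOf_eq_one x), hx],
        op_one]
    simp only [hN, LinearMap.sub_apply, LinearMap.id_apply, map_sub]
    rw [h3]
    have key : ∀ a b : V, u - a - (a - b) - (a - b - (b - u)) = (3 : F) • b - (3 : F) • a := by
      intro a b; ext i; simp; ring
    rw [key, c3, zero_smul, zero_smul, sub_zero]
  have hlow : 2 ≤ Module.finrank F (LinearMap.ker N) := by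
    have h1 := finrank_ker_comp_le N (N ∘ₗ N)
    have h2 := finrank_ker_comp_le N N
    have h3 : LinearMap.ker (N ∘ₗ N ∘ₗ N) = ⊤ := LinearMap.ker_eq_top.2 (LinearMap.ext hN3)
    rw [show N ∘ₗ (N ∘ₗ N) = N ∘ₗ N ∘ₗ N from rfl, h3, finrank_top, Module.finrank_fintype_fun_eq_card,
      Fintype.card_sum, Fintype.card_fin] at h1
    omega
  have hhigh : Module.finrank F (LinearMap.ker N) ≠ 4 := by
    intro h4
    have htop : LinearMap.ker N = ⊤ := Submodule.eq_top_of_finrank_eq (by
      rw [h4, Module.finrank_fintype_fun_eq_card, Fintype.card_sum, Fintype.card_fin])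
    have hx1 : x = 1 := hφ (Subtype.ext (Matrix.toLin'.injective (LinearMap.ext fun v => by
      have hv : v ∈ LinearMap.ker N := htop.symm ▸ Submodule.mem_top
      rw [LinearMap.mem_ker, hN, LinearMap.sub_apply, LinearMap.id_apply, sub_eq_zero] at hv
      exact hv.trans (op_one φ v).symm)))
    rw [hx1, orderOf_one] at hx
    exact absurd hx (by norm_num)
  have hle : Module.finrank F (LinearMap.ker N) ≤ 4 := by
    have := Submodule.finrank_le (LinearMap.ker N)
    rwa [Module.finrank_fintype_fun_eq_card, Fintype.card_sum, Fintype.card_fin] at this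
  have hdim : Module.finrank F (LinearMap.ker N) = 2 := by
    have hk : Module.finrank F (LinearMap.ker N) ≠ 3 := ker_ne_three φ hF hK hφ hx
    omega
  refine ⟨hdim, fun v w hv hw => ?_⟩
  have hrange : Module.finrank F (LinearMap.range N) = 2 := by
    have h := LinearMap.finrank_range_add_finrank_ker N
    rw [Module.finrank_fintype_fun_eq_card, Fintype.card_sum, Fintype.card_fin] at h
    omega
  set R := (LinearMap.range N).map N with hR
  have hR1 : Module.finrank F R ≤ 1 := by
    by_contra hgt
    have hsub : R ≤ LinearMap.range N := LinearMap.map_le_range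
    have heq : R = LinearMap.range N := Submodule.eq_of_le_of_finrank_le hsub (by omega)
    have hz : R = ⊥ := by
      rw [eq_bot_iff]
      intro a ha
      rw [hR] at ha
      obtain ⟨b, hb, rfl⟩ := ha
      rw [← heq, hR] at hb
      obtain ⟨_, ⟨c, rfl⟩, rfl⟩ := hb
      rw [Submodule.mem_bot]
      exact hN3 c
    rw [hz, finrank_bot] at hgt
    omega
  have hskew : ∀ a b, B a b = -B b a := by
    intro a b
    simp only [hB]
    rw [dotProduct_comm, ← Matrix.dotProduct_transpose_mulVec, Matrix.J_transpose, Matrix.neg_mulVec,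
      dotProduct_neg]
    first | done | (rw [neg_neg]; exact dotProduct_comm _ _) | exact dotProduct_comm _ _
  have hC : ∀ a b, B a (N (N b)) = -B (N a) (N b) := by
    intro a b
    have h1 := hrel a (N b)
    have h2' := hrel a (N (N b))
    rw [hN3] at h2'
    simp [hB] at h2' h1 ⊢
    linear_combination h1 - h2'
  have hsq : ∀ a, N (N a) = 0 := by
    intro a
    by_contra hne
    have haR : ∀ b, ∃ k : F, k • N (N a) = N (N b) := by
      intro b
      have hmem : ∀ c, N (N c) ∈ R := fun c => ⟨N c, ⟨c, rfl⟩, rfl⟩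
      have hspan : Submodule.span F {N (N a)} = R := Submodule.eq_of_le_of_finrank_le
        ((Submodule.span_singleton_le_iff_mem _ _).2 (hmem a)) (by rw [finrank_span_singleton hne]; exact hR1)
      exact Submodule.mem_span_singleton.1 (hspan.symm ▸ hmem b)
    have haa : B a (N (N a)) = 0 := by
      rw [hC]
      have := hskew (N a) (N a)
      have h' : 2 * B (N a) (N a) = 0 := by linear_combination this
      rw [(mul_eq_zero.1 h').resolve_left h2, neg_zero]
    have hrad : ∀ u, B u (N (N a)) = 0 := by
      intro u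
      obtain ⟨k, hk⟩ := haR u
      rw [hC, hskew, neg_neg]
      have := hC a u
      rw [← hk] at this
      have e : B a (k • N (N a)) = k * B a (N (N a)) := by simp [hB, Matrix.mulVec_smul]
      rw [e, haa, mul_zero] at this
      linear_combination this
    apply hne
    have h0 : (Matrix.J (Fin 2) F) *ᵥ (N (N a)) = 0 := by
      funext i
      have := hrad (Pi.single i 1)
      simpa [hB] using this
    have := congrArg ((Matrix.J (Fin 2) F) *ᵥ ·) h0
    simpa [Matrix.mulVec_mulVec, Matrix.J_squared, Matrix.neg_mulVec] using this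
  have hsub : LinearMap.range N = LinearMap.ker N := by
    refine Submodule.eq_of_le_of_finrank_le ?_ (by omega)
    rintro _ ⟨c, rfl⟩
    exact LinearMap.mem_ker.2 (hsq c)
  have hvm : v ∈ LinearMap.range N := by
    rw [hsub, LinearMap.mem_ker, hN, LinearMap.sub_apply, LinearMap.id_apply, hv, sub_self]
  obtain ⟨u, rfl⟩ := hvm
  have hw0 : N w = 0 := by rw [hN, LinearMap.sub_apply, LinearMap.id_apply, hw, sub_self]
  have h := hrel u w
  rw [hw0] at h
  simpa [hB] using h

end CfsgLib.SLFiveInSp
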