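import Cfsg.Agent.Lib.Sp.Basic
import Cfsg.Agent.Lib.GLClass.Unipotent
import Cfsg.Agent.Lib.Classical.SympCount

/-!
# Semisimple parts of symplectic elements of odd order
-/

set_option autoImplicit false

namespace CfsgLib.Classical.SpSemisimple

open Polynomial Matrix Module CfsgLib.Sp CfsgLib.Classical.SympCount

section linear

variable {F W : Type*} [Field F] [AddCommGroup W] [Module F W] [FiniteDimensional F W]

/-- Maps commuting with a map killed by an irreducible polynomial. -/
theorem nilpotent_bound (S N : Module.End F W) {P : F[X]} (hPm : P.Monic) (hP : Irreducible P) (hS : aeval S P = 0)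
    (hN : IsNilpotent N) (hc : Commute S N) : ∃ a, finrank F W = P.natDegree * a ∧ N ^ a = 0 := by
  classical
  haveI := Fact.mk hP
  let φ : AdjoinRoot P →+* Module.End F W :=
    Ideal.Quotient.lift (Ideal.span {P}) (aeval S).toRingHom (fun a ha => by
      obtain ⟨c, rfl⟩ := Ideal.mem_span_singleton.1 ha
      show aeval S (P * c) = 0
      rw [map_mul, hS, zero_mul])
  letI : Module (AdjoinRoot P) W := Module.compHom W φ
  haveI : IsScalarTower F (AdjoinRoot P) W := ⟨fun c k w => by
    show φ (c • k) w = c • φ k w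
    have : φ (c • k) = c • φ k := by
      rw [Algebra.smul_def, map_mul, Algebra.smul_def]
      congr 1
      show aeval S (C c) = _
      rw [aeval_C]
    rw [this]; rfl⟩
  haveI : Module.Finite F (AdjoinRoot P) := hPm.finite_adjoinRoot
  haveI : Module.Finite (AdjoinRoot P) W := Module.Finite.of_restrictScalars_finite F _ _
  have hlin : ∀ (k : AdjoinRoot P) w, N (k • w) = k • N w := by
    intro k w
    obtain ⟨g, rfl⟩ := AdjoinRoot.mk_surjective k
    show N (φ (AdjoinRoot.mk P g) w) = φ (AdjoinRoot.mk P g) (N w)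
    have hφ : φ (AdjoinRoot.mk P g) = aeval S g := rfl
    rw [hφ]
    have hcg : Commute (aeval S g) N :=
      Commute.symm (Algebra.commute_of_mem_adjoin_singleton_of_commute (aeval_mem_adjoin_singleton F S) hc.symm)
    exact (LinearMap.congr_fun hcg.eq w).symm
  let N' : W →ₗ[AdjoinRoot P] W := { toFun := N, map_add' := map_add N, map_smul' := hlin }
  refine ⟨finrank (AdjoinRoot P) W, ?_, ?_⟩
  · rw [← Module.finrank_mul_finrank F (AdjoinRoot P) W, (AdjoinRoot.powerBasis hPm.ne_zero).finrank, AdjoinRoot.powerBasis_dim]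
  · have hpow : ∀ k w, (N' ^ k) w = (N ^ k) w := fun k => by
      induction k with
      | zero => exact fun w => rfl
      | succ k ih => intro w; rw [pow_succ', pow_succ', Module.End.mul_apply, Module.End.mul_apply, ih]; rfl
    obtain ⟨k, hk⟩ := hN
    have hn : IsNilpotent N' := ⟨k, LinearMap.ext fun w => by rw [hpow, hk]; rfl⟩
    have h2 := LinearMap.aeval_self_charpoly N'
    rw [hn.charpoly_eq_X_pow_finrank, map_pow, aeval_X] at h2
    exact LinearMap.ext fun w => by rw [← hpow, h2]; rfl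

end linear

variable {F : Type*} [Field F] {n : ℕ}

local notation "In" => (Fin n ⊕ Fin n)
local notation "Mn" => Matrix (Fin n ⊕ Fin n) (Fin n ⊕ Fin n) F
local notation "Spn" => Matrix.symplecticGroup (Fin n) F

/-- adjoint pairs -/
def Adj (M M' : Mn) : Prop := ∀ u v, sf (M *ᵥ u) v = sf u (M' *ᵥ v)

theorem Adj.unique {M M' M'' : Mn} (h : Adj M M') (h' : Adj M M'') : M' = M'' :=
  Matrix.ext_iff_mulVec.2 fun v => sub_eq_zero.1 (eq_zero_of_sf' fun u => by
    rw [show M' *ᵥ v - M'' *ᵥ v = M' *ᵥ v + (-1 : F) • (M'' *ᵥ v) by simp [sub_eq_add_neg], sf_add_right,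
      sf_smul_right, ← h, ← h']
    ring)

theorem Adj.mul {M M' L L' : Mn} (h : Adj M M') (k : Adj L L') : Adj (M * L) (L' * M') := fun u v => by
  rw [← Matrix.mulVec_mulVec, h, k, Matrix.mulVec_mulVec]

theorem Adj.add {M M' L L' : Mn} (h : Adj M M') (k : Adj L L') : Adj (M + L) (M' + L') := fun u v => by
  rw [Matrix.add_mulVec, Matrix.add_mulVec, sf_add_left, sf_add_right, h, k]

theorem adj_one : Adj (1 : Mn) 1 := fun u v => by rw [Matrix.one_mulVec, Matrix.one_mulVec]

theorem adj_scalar (c : F) : Adj (algebraMap F Mn c) (algebraMap F Mn c) := fun u v => by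
  rw [Algebra.algebraMap_eq_smul_one, Matrix.smul_mulVec, Matrix.smul_mulVec, Matrix.one_mulVec, Matrix.one_mulVec,
    sf_smul_left, sf_smul_right]

theorem adj_sp (X : Spn) : Adj X.1 (X⁻¹).1 := fun u v => by
  have h1 : sf (X.1 *ᵥ u) (X.1 *ᵥ ((X⁻¹).1 *ᵥ v)) = sf u ((X⁻¹).1 *ᵥ v) := sf_sp X _ _
  rwa [← sp_mul_mulVec, mul_inv_cancel, show (1 : Spn).1 = 1 from rfl, Matrix.one_mulVec] at h1

theorem Adj.pow {M M' : Mn} (h : Adj M M') : ∀ k, Adj (M ^ k) (M' ^ k)
  | 0 => by simpa using adj_one
  | k + 1 => by rw [pow_succ, pow_succ']; exact (Adj.pow h k).mul h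

theorem adj_aeval (X : Spn) (g : F[X]) : Adj (aeval X.1 g) (aeval (X⁻¹).1 g) := by
  induction g using Polynomial.induction_on with
  | C a => simpa using adj_scalar a
  | add f g hf hg => rw [map_add, map_add]; exact hf.add hg
  | monomial k a _ =>
    rw [map_mul, map_mul, aeval_C, aeval_C, map_pow, map_pow, aeval_X, aeval_X]
    have h := (adj_scalar (n := n) a).mul ((adj_sp X).pow (k + 1))
    rwa [← Algebra.commutes a ((X⁻¹).1 ^ (k + 1))] at h

theorem finrank_isotropic {U : Submodule F (In → F)} (h : ∀ u ∈ U, ∀ v ∈ U, sf u v = 0) : finrank F U ≤ n := by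
  have hle : U ≤ (sB n F).orthogonal U := fun v hv => LinearMap.BilinForm.mem_orthogonal_iff.2 fun u hu => h u hu v hv
  have h1 := Submodule.finrank_mono hle
  rw [LinearMap.BilinForm.finrank_orthogonal sB_nondegenerate] at h1
  simp at h1
  omega

variable [Fintype F]

/-- A root of an irreducible polynomial whose inverse is a conjugate. -/
theorem selfdual_root {P : F[X]} (hPm : P.Monic) (hP : Irreducible P) {r : ℕ} (hr : Odd r) (hdvd : P ∣ X ^ r - 1)
    (hne : ¬ P ∣ X - 1) (hdual : P ∣ P.comp (X ^ (r - 1))) :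
    ∃ i, 1 ≤ i ∧ P.natDegree = 2 * i ∧ P ∣ X ^ (Fintype.card F ^ i + 1) - 1 := by
  classical
  haveI := Fact.mk hP
  haveI : Module.Finite F (AdjoinRoot P) := hPm.finite_adjoinRoot
  haveI : Finite (AdjoinRoot P) := Module.finite_of_finite F
  set α := AdjoinRoot.root P
  have hmk : ∀ g : F[X], P ∣ g ↔ aeval α g = 0 := fun g => by
    rw [AdjoinRoot.aeval_eq, AdjoinRoot.mk_eq_zero]
  have h1 : α ^ r = 1 := by
    have := (hmk _).1 hdvd
    simpa [sub_eq_zero] using this
  have hα0 : α ≠ 0 := fun h => by rw [h, zero_pow (Nat.ne_zero_of_lt hr.pos)] at h1; exact zero_ne_one h1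
  have hinv : α ^ (r - 1) = α⁻¹ := eq_inv_of_mul_eq_one_left (by rw [← pow_succ, Nat.sub_add_cancel hr.pos, h1])
  have h2 : aeval α⁻¹ P = 0 := by
    have := (hmk _).1 hdual
    rwa [aeval_comp, map_pow, aeval_X, hinv] at this
  have hmin : minpoly F α = P := (minpoly.eq_of_irreducible_of_monic hP ((hmk P).1 dvd_rfl) hPm).symm
  have hconj : IsConjRoot F α α⁻¹ := isConjRoot_iff_aeval_eq_zero (Algebra.IsIntegral.isIntegral α) |>.2 (hmin.symm ▸ h2)
  obtain ⟨σ, hσ⟩ := isConjRoot_iff_exists_algEquiv.1 hconj.symm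
  obtain ⟨⟨i, hi⟩, hi'⟩ := (FiniteField.bijective_frobeniusAlgEquivOfAlgebraic_pow F (AdjoinRoot P)).2 σ
  have hdim : finrank F (AdjoinRoot P) = P.natDegree := by
    rw [(AdjoinRoot.powerBasis hPm.ne_zero).finrank, AdjoinRoot.powerBasis_dim]
  have hfr : ∀ j x, (FiniteField.frobeniusAlgEquivOfAlgebraic F (AdjoinRoot P) ^ j) x = x ^ Fintype.card F ^ j := fun j => by
    induction j with
    | zero => intro x; simp
    | succ j ih =>
      intro x
      rw [pow_succ', AlgEquiv.mul_apply, ih, FiniteField.coe_frobeniusAlgEquivOfAlgebraic]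
      show (x ^ Fintype.card F ^ j) ^ Fintype.card F = _
      rw [← pow_mul, ← pow_succ]
  have hσ' : α ^ Fintype.card F ^ i = α⁻¹ := by rw [← hfr, ← hσ, ← hi']
  have hi0 : i ≠ 0 := by
    rintro rfl
    rw [pow_zero, pow_one] at hσ'
    have hsq : α ^ 2 = 1 := by rw [pow_two]; nth_rewrite 2 [hσ']; exact mul_inv_cancel₀ hα0
    obtain ⟨c, hc⟩ := hr
    rw [hc, pow_succ, pow_mul, hsq, one_pow, one_mul] at h1
    exact hne ((hmk _).2 (by simp [h1]))
  have h2i : FiniteField.frobeniusAlgEquivOfAlgebraic F (AdjoinRoot P) ^ (2 * i) = 1 := by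
    have h3 : (FiniteField.frobeniusAlgEquivOfAlgebraic F (AdjoinRoot P) ^ (2 * i)).toAlgHom = AlgHom.id F _ := by
      refine AdjoinRoot.algHom_ext ?_
      show (FiniteField.frobeniusAlgEquivOfAlgebraic F (AdjoinRoot P) ^ (2 * i)) α = α
      rw [hfr, two_mul, pow_add, pow_mul, hσ', inv_pow, hσ', inv_inv]
    exact AlgEquiv.ext fun x => DFunLike.congr_fun h3 x
  have hd : finrank F (AdjoinRoot P) ∣ 2 * i :=
    FiniteField.orderOf_frobeniusAlgEquivOfAlgebraic F (AdjoinRoot P) ▸ orderOf_dvd_of_pow_eq_one h2i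
  rw [hdim] at hd hi
  obtain ⟨c, hc⟩ := hd
  have hc1 : c = 1 := by
    rcases c with _ | _ | c
    · omega
    · rfl
    · have : P.natDegree * 2 ≤ P.natDegree * (c + 1 + 1) := Nat.mul_le_mul_left _ (by omega)
      omega
  subst hc1
  refine ⟨i, by omega, by omega, (hmk _).2 ?_⟩
  rw [map_sub, map_pow, aeval_X, map_one, pow_succ, hσ', inv_mul_cancel₀ hα0, sub_self]

theorem irred_dvd_pow_card {P : F[X]} (hPm : P.Monic) (hP : Irreducible P) (h0 : ¬ P ∣ X) :
    P ∣ X ^ (Fintype.card F ^ P.natDegree - 1) - 1 := by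
  classical
  haveI := Fact.mk hP
  haveI : Module.Finite F (AdjoinRoot P) := hPm.finite_adjoinRoot
  haveI : Finite (AdjoinRoot P) := Module.finite_of_finite F
  letI : Fintype (AdjoinRoot P) := Fintype.ofFinite _
  have hcard : Fintype.card (AdjoinRoot P) = Fintype.card F ^ P.natDegree := by
    rw [Module.card_eq_pow_finrank (K := F), (AdjoinRoot.powerBasis hPm.ne_zero).finrank, AdjoinRoot.powerBasis_dim]
  have hne : AdjoinRoot.root P ≠ 0 := fun h => h0 (by rw [← AdjoinRoot.mk_eq_zero, AdjoinRoot.mk_X, h])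
  rw [← AdjoinRoot.mk_eq_zero, map_sub, map_pow, AdjoinRoot.mk_X, map_one, ← hcard,
    FiniteField.pow_card_sub_one_eq_one _ hne, sub_self]

/-- The three cases. -/
theorem trichotomy (p : ℕ) [Fact p.Prime] [CharP F p] (h2 : (2 : F) ≠ 0) (X : Spn) (hX : Odd (orderOf X)) :
    (∃ ε : Spn, ε * ε = 1 ∧ ε.1 ≠ 1 ∧ ε.1 ≠ -1 ∧ Commute ε X) ∨
    (∃ d a r e : ℕ, n = d * a ∧ orderOf X = r * p ^ e ∧ (Odd r ∧ ¬ p ∣ r) ∧
      (r ∣ Fintype.card F ^ d - 1 ∨ r ∣ Fintype.card F ^ d + 1) ∧ 1 ≤ d ∧ 1 ≤ a ∧ p ^ e ∣ p ^ Nat.clog p a) ∨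
    orderOf X ∣ p ^ Nat.clog p (2 * n) := by
  classical
  have hp : p.Prime := Fact.out
  haveI : Finite Spn := Subtype.finite
  have ho0 : orderOf X ≠ 0 := (orderOf_pos X).ne'
  obtain ⟨e, r, hr, hXo⟩ := Nat.exists_eq_pow_mul_and_not_dvd ho0 p hp.ne_one
  have hro : Odd r := (Nat.odd_mul.1 (hXo ▸ hX)).2
  set s := X ^ p ^ e with hs_def
  set u := X ^ r with hu_def
  have hso : orderOf s = r := by
    rw [hs_def, orderOf_pow_of_dvd (pow_ne_zero _ hp.ne_zero) (hXo ▸ dvd_mul_right _ _), hXo,
      Nat.mul_div_cancel_left _ (pow_pos hp.pos e)]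
  have hr0 : 0 < r := hro.pos
  have huo : orderOf u = p ^ e := by
    rw [hu_def, orderOf_pow_of_dvd hr0.ne' (hXo ▸ dvd_mul_left _ _), hXo, Nat.mul_div_cancel _ hr0]
  set N : Mn := u.1 - 1 with hN_def
  have hNn : IsNilpotent N := ⟨p ^ e, by
    rw [hN_def, ← CfsgLib.GLClass.pow_prime_pow_sub_one p, ← SubmonoidClass.coe_pow, ← huo, pow_orderOf_eq_one]
    exact sub_self 1⟩
  have hNpow : ∀ k, N ^ k = 0 → p ^ e ∣ p ^ Nat.clog p k := fun k hk => by
    rw [← huo]
    refine orderOf_dvd_of_pow_eq_one (Subtype.ext ?_)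
    rw [SubmonoidClass.coe_pow]
    show u.1 ^ p ^ Nat.clog p k = 1
    rw [CfsgLib.GLClass.pow_prime_pow_eq_one_iff p]
    exact pow_eq_zero_of_le (Nat.le_pow_clog hp.one_lt _) hk
  by_cases hs1 : s = 1
  · right; right
    have hr1 : r = 1 := by rw [← hso, hs1, orderOf_one]
    rw [hXo, hr1, mul_one]
    refine hNpow (2 * n) ?_
    have := CfsgLib.GLClass.pow_eq_zero_of_isNilpotent hNn
    rwa [show Fintype.card In = 2 * n by simp; omega] at this
  have hsr : s ^ r = 1 := hso ▸ pow_orderOf_eq_one s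
  have hsr' : s.1 ^ r = 1 := by rw [← SubmonoidClass.coe_pow, hsr]; rfl
  set f := minpoly F s.1 with hf
  haveI : Nontrivial Mn := by
    rcases subsingleton_or_nontrivial Mn with h | h
    · exact absurd (Subtype.ext (Subsingleton.elim s.1 _)) hs1
    · exact h
  have hint : IsIntegral F s.1 := Algebra.IsIntegral.isIntegral _
  have hfdvd : f ∣ Polynomial.X ^ r - 1 := minpoly.dvd F _ (by simp [hsr'])
  have hsq : Squarefree f := Squarefree.squarefree_of_dvd hfdvd
    ((X_pow_sub_one_separable_iff.2 (by rw [Ne, CharP.cast_eq_zero_iff F p]; exact hr)).squarefree)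
  obtain ⟨P, hPi, hPm, hPf, hP1⟩ : ∃ P : F[X], Irreducible P ∧ P.Monic ∧ P ∣ f ∧ ¬ P ∣ Polynomial.X - 1 := by
    have hnu : ¬ f ∣ Polynomial.X - 1 := fun h => hs1 (Subtype.ext (by
      have := aeval_eq_zero_of_dvd_aeval_eq_zero h (minpoly.aeval F s.1)
      simpa [sub_eq_zero] using this))
    have hf0 : f ≠ 0 := minpoly.ne_zero hint
    by_contra hcon
    push Not at hcon
    refine hnu ((UniqueFactorizationMonoid.dvd_iff_normalizedFactors_le_normalizedFactors hf0 (X_sub_C_ne_zero (1 : F))).2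
      (Multiset.le_iff_count.2 fun P => ?_))
    by_cases hP : P ∈ UniqueFactorizationMonoid.normalizedFactors f
    · have hi := UniqueFactorizationMonoid.irreducible_of_normalized_factor _ hP
      have hn := UniqueFactorizationMonoid.normalize_normalized_factor _ hP
      have hd := hcon P hi (hn ▸ monic_normalize hi.ne_zero) (UniqueFactorizationMonoid.dvd_of_mem_normalizedFactors hP)
      rw [← map_one (C : F →+* F[X])] at hd
      have hmem : P ∈ UniqueFactorizationMonoid.normalizedFactors (Polynomial.X - C (1 : F)) := by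
        obtain ⟨Q, hQ, hPQ⟩ := UniqueFactorizationMonoid.exists_mem_normalizedFactors_of_dvd (X_sub_C_ne_zero (1 : F)) hi hd
        rwa [← hn, normalize_eq_normalize_iff_associated.2 hPQ, UniqueFactorizationMonoid.normalize_normalized_factor Q hQ]
      have h1 := Multiset.nodup_iff_count_le_one.1
        ((UniqueFactorizationMonoid.squarefree_iff_nodup_normalizedFactors hf0).1 hsq) P
      have h2 := Multiset.count_pos.2 hmem
      omega
    · simp [Multiset.count_eq_zero_of_notMem hP]
  obtain ⟨R, hR⟩ := hPf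
  have hcop : IsCoprime P R := by
    exact hPi.coprime_iff_not_dvd.2 fun h => hPi.not_isUnit (hsq P (hR ▸ mul_dvd_mul_left P h))
  obtain ⟨ca, cb, hab⟩ := hcop
  set g := cb * R with hg
  set E : Mn := aeval s.1 g with hE
  set E' : Mn := aeval (s⁻¹).1 g with hE'
  have hzero : ∀ h : F[X], f ∣ h → aeval s.1 h = 0 := fun h hh => aeval_eq_zero_of_dvd_aeval_eq_zero hh (minpoly.aeval F _)
  have hdvd0 : ∀ h : F[X], aeval s.1 h = 0 → f ∣ h := fun h hh => minpoly.dvd F _ hh
  have hEE : E * E = E := by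
    rw [hE, ← map_mul, ← sub_eq_zero, ← map_sub]
    exact hzero _ ⟨-(ca * cb), by rw [hR, hg]; linear_combination (cb * R) * hab⟩
  have hPE : aeval s.1 P * E = 0 := by
    rw [hE, ← map_mul]; exact hzero _ ⟨cb, by rw [hR, hg]; ring⟩
  have hadj : Adj E E' := adj_aeval s g
  have hadj' : Adj E' E := by
    have := adj_aeval s⁻¹ g
    rwa [inv_inv] at this
  have hinvs : (s⁻¹).1 = s.1 ^ (r - 1) := by
    have h1 : s⁻¹ = s ^ (r - 1) := inv_eq_of_mul_eq_one_right (by rw [← pow_succ', Nat.sub_add_cancel hr0, hsr])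
    rw [h1, SubmonoidClass.coe_pow]
  have hE'poly : E' = aeval s.1 (g.comp (Polynomial.X ^ (r - 1))) := by
    rw [hE', aeval_comp, map_pow, aeval_X, hinvs]
  have hEc : ∀ h : F[X], Commute (aeval s.1 h) E := fun h => (Commute.all h g).map (aeval s.1)
  have hEE'c : Commute E' E := hE'poly ▸ hEc _
  have hE'E' : E' * E' = E' := (hadj.mul hadj).unique (hEE.symm ▸ hadj)
  have hprim : E * E' = E ∨ E * E' = 0 := by
    have hP2 : P ∣ (g.comp (Polynomial.X ^ (r - 1))) * (g.comp (Polynomial.X ^ (r - 1)) - 1) := by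
      refine dvd_trans ⟨R, hR⟩ (hdvd0 _ ?_)
      rw [map_mul, map_sub, map_one, ← hE'poly, mul_sub, mul_one, hE'E', sub_self]
    rcases hPi.prime.dvd_or_dvd hP2 with ⟨w, hw⟩ | ⟨w, hw⟩
    · right
      rw [hE, hE'poly, ← map_mul]
      exact hzero _ ⟨cb * w, by rw [hw, hg, hR]; ring⟩
    · left
      rw [hE, hE'poly, ← map_mul, ← sub_eq_zero, ← map_sub]
      exact hzero _ ⟨cb * w, by rw [hg, hR]; linear_combination (cb * R) * hw⟩
  have hXE : Commute E X.1 := by
    have : Commute X.1 s.1 := by rw [hs_def, SubmonoidClass.coe_pow]; exact (Commute.refl _).pow_right _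
    exact Commute.symm (Algebra.commute_of_mem_adjoin_singleton_of_commute (aeval_mem_adjoin_singleton F s.1) this)
  -- an involution from a self-adjoint projector
  have mkinv : ∀ G : Mn, Adj G G → G * G = G → G ≠ 0 → G ≠ 1 → Commute G X.1 →
      ∃ ε : Spn, ε * ε = 1 ∧ ε.1 ≠ 1 ∧ ε.1 ≠ -1 ∧ Commute ε X := by
    intro G hG hGG hG0 hG1 hGX
    set Z : Mn := 1 - (2 : F) • G with hZ
    have hZZ : Z * Z = 1 := by
      rw [hZ]
      simp only [sub_mul, mul_sub, one_mul, mul_one, Matrix.smul_mul, Matrix.mul_smul, hGG]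
      module
    have hZadj : Adj Z Z := fun a b => by
      simp only [hZ, Matrix.sub_mulVec, Matrix.smul_mulVec, Matrix.one_mulVec]
      rw [show a - (2 : F) • (G *ᵥ a) = a + (-(2 : F)) • (G *ᵥ a) by rw [neg_smul, sub_eq_add_neg],
        show b - (2 : F) • (G *ᵥ b) = b + (-(2 : F)) • (G *ᵥ b) by rw [neg_smul, sub_eq_add_neg],
        sf_add_left, sf_add_right, sf_smul_left, sf_smul_right, hG]
    have hmem : Z ∈ Spn := mem_sp_iff.2 fun a b => by rw [hZadj, Matrix.mulVec_mulVec, hZZ, Matrix.one_mulVec]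
    refine ⟨⟨Z, hmem⟩, Subtype.ext hZZ, fun h => hG0 ?_, fun h => hG1 ?_, Subtype.ext ?_⟩
    · have h' : (2 : F) • G = 0 := by change Z = _ at h; rw [hZ, sub_eq_self] at h; exact h
      exact (smul_eq_zero.1 h').resolve_left h2
    · have h' : (2 : F) • G = (2 : F) • (1 : Mn) := by
        change Z = _ at h; rw [hZ] at h; rw [two_smul F (1 : Mn)]; linear_combination (norm := abel) -h
      exact smul_right_injective _ h2 h'
    · show Z * X.1 = X.1 * Z
      rw [hZ, sub_mul, mul_sub, one_mul, mul_one, Matrix.smul_mul, Matrix.mul_smul, hGX.eq]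
  have hE'X : Commute E' X.1 := by
    rw [hE'poly]
    exact Commute.symm (Algebra.commute_of_mem_adjoin_singleton_of_commute (aeval_mem_adjoin_singleton F s.1)
      (by rw [hs_def, SubmonoidClass.coe_pow]; exact (Commute.refl _).pow_right _))
  have hE0 : E ≠ 0 := fun h => hPi.not_isUnit (isUnit_of_dvd_one (by
    have h1 : P ∣ g := dvd_trans ⟨R, hR⟩ (hdvd0 g h)
    rw [← hab]; exact dvd_add (dvd_mul_left P ca) h1))
  have hus : Commute s.1 N := by
    rw [hN_def, hs_def, hu_def, SubmonoidClass.coe_pow, SubmonoidClass.coe_pow]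
    exact ((Commute.refl _).pow_pow _ _).sub_right (Commute.one_right _)
  rcases hprim with hcase | hcase
  · have hself : E = E' := by
      have h3 := hadj.mul hadj'
      rw [hcase] at h3
      exact h3.unique hadj
    by_cases hE1 : E = 1
    · right; left
      have hP0 : aeval s.1 P = 0 := by rw [← mul_one (aeval s.1 P), ← hE1, hPE]
      have hfP : f = P := (minpoly.eq_of_irreducible_of_monic hPi hP0 hPm).symm
      obtain ⟨i, hi1, hdeg, hdiv⟩ := selfdual_root hPm hPi hro (hfP ▸ hfdvd) hP1 (by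
        conv_lhs => rw [← hfP]
        refine hdvd0 _ ?_
        rw [aeval_comp, map_pow, aeval_X, ← hinvs]
        exact (adj_aeval s P).unique (by rw [hP0]; exact fun a b => by simp [sf_eq]))
      obtain ⟨a, ha, hNa⟩ := nilpotent_bound (Matrix.toLinAlgEquiv' s.1) (Matrix.toLinAlgEquiv' N) hPm hPi
        (by rw [aeval_algHom_apply, hP0, map_zero]) (hNn.map _) (hus.map _)
      rw [Module.finrank_pi, Fintype.card_sum, Fintype.card_fin, hdeg] at ha
      have hna : n = i * a := by
        have h4 : 2 * n = 2 * (i * a) := by rw [← mul_assoc, ← ha]; ring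
        omega
      refine ⟨i, a, r, e, hna, by rw [hXo, mul_comm], ⟨hro, hr⟩, Or.inr (hso ▸ orderOf_dvd_of_pow_eq_one (Subtype.ext ?_)), hi1, ?_, hNpow a ?_⟩
      · rw [SubmonoidClass.coe_pow]
        have := hzero _ (hfP ▸ hdiv)
        simpa [sub_eq_zero] using this
      · rcases Nat.eq_zero_or_pos a with rfl | h
        · exfalso
          refine hs1 (Subtype.ext (Matrix.ext fun x => ?_))
          rw [mul_zero] at hna
          exact x.elim (fun j => absurd j.isLt (by omega)) fun j => absurd j.isLt (by omega)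
        · exact h
      · rw [← map_pow] at hNa
        exact (map_eq_zero_iff _ Matrix.toLinAlgEquiv'.injective).1 hNa
    · exact Or.inl (mkinv E (hself ▸ hadj) hEE hE0 hE1 hXE)
  · by_cases hsum : E + E' = 1
    · right; left
      let U := LinearMap.range E.mulVecLin
      let U' := LinearMap.range E'.mulVecLin
      have hiso : ∀ x ∈ U, ∀ y ∈ U, sf x y = 0 := by
        rintro _ ⟨a, rfl⟩ _ ⟨b, rfl⟩
        show sf (E *ᵥ a) (E *ᵥ b) = 0
        rw [hadj, Matrix.mulVec_mulVec, hEE'c.eq, hcase, Matrix.zero_mulVec]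
        simp [sf_eq]
      have hiso' : ∀ x ∈ U', ∀ y ∈ U', sf x y = 0 := by
        rintro _ ⟨a, rfl⟩ _ ⟨b, rfl⟩
        show sf (E' *ᵥ a) (E' *ᵥ b) = 0
        rw [hadj', Matrix.mulVec_mulVec, hcase, Matrix.zero_mulVec]
        simp [sf_eq]
      have htop : U ⊔ U' = ⊤ := eq_top_iff.2 fun x _ => Submodule.mem_sup.2
        ⟨E *ᵥ x, ⟨x, rfl⟩, E' *ᵥ x, ⟨x, rfl⟩, by rw [← Matrix.add_mulVec, hsum, Matrix.one_mulVec]⟩
      have hUn : finrank F U = n := by
        have h1 := finrank_isotropic hiso
        have h2 := finrank_isotropic hiso'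
        have h3 := Submodule.finrank_sup_add_finrank_inf_eq U U'
        rw [htop, finrank_top, Module.finrank_pi, Fintype.card_sum, Fintype.card_fin] at h3
        omega
      have hinvar : ∀ M : Mn, Commute M E → ∀ x ∈ U, M.mulVecLin x ∈ U := by
        rintro M hM _ ⟨a, rfl⟩
        exact ⟨M *ᵥ a, by simp only [Matrix.mulVecLin_apply, Matrix.mulVec_mulVec, hM.eq]⟩
      have hNE : Commute N E := Commute.symm (by
        have hX' : Commute E u.1 := by rw [hu_def, SubmonoidClass.coe_pow]; exact hXE.pow_right r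
        rw [hN_def]; exact hX'.sub_right (Commute.one_right _))
      let S1 : Module.End F U := s.1.mulVecLin.restrict (hinvar _ (by have := hEc Polynomial.X; rwa [aeval_X] at this))
      let N1 : Module.End F U := N.mulVecLin.restrict (hinvar _ hNE)
      have hN1pow : ∀ k (x : U), ((N1 ^ k) x : In → F) = (N ^ k) *ᵥ (x : In → F) := by
        intro k
        induction k with
        | zero => intro x; simp
        | succ k ih => intro x; rw [pow_succ', pow_succ', Module.End.mul_apply, ← Matrix.mulVec_mulVec, ← ih]; rfl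
      have hS1 : ∀ (h : F[X]) (x : U), ((aeval S1 h) x : In → F) = aeval s.1 h *ᵥ (x : In → F) := by
        intro h
        induction h using Polynomial.induction_on with
        | C a => intro x; simp [Matrix.algebraMap_eq_diagonal, Matrix.mulVec_diagonal]; ext; simp [Matrix.mulVec_diagonal]
        | add f g hf hg => intro x; simp [hf, hg, Matrix.add_mulVec]
        | monomial k a ih =>
          intro x
          rw [pow_succ, ← mul_assoc, map_mul (aeval S1), map_mul (aeval s.1), aeval_X, aeval_X, Module.End.mul_apply, ih,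
            ← Matrix.mulVec_mulVec]
          rfl
      obtain ⟨a, ha, hNa⟩ := nilpotent_bound S1 N1 hPm hPi (LinearMap.ext fun x => Subtype.ext (by
          rw [hS1]
          obtain ⟨y, hy⟩ := x.2
          rw [← hy, Matrix.mulVecLin_apply, Matrix.mulVec_mulVec, hPE, Matrix.zero_mulVec]
          rfl))
        (by obtain ⟨k, hk⟩ := hNn; exact ⟨k, LinearMap.ext fun x => Subtype.ext (by rw [hN1pow, hk, Matrix.zero_mulVec]; rfl)⟩)
        (LinearMap.ext fun x => Subtype.ext (by
          show s.1 *ᵥ (N *ᵥ (x : In → F)) = N *ᵥ (s.1 *ᵥ (x : In → F))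
          rw [Matrix.mulVec_mulVec, Matrix.mulVec_mulVec, hus.eq]))
      rw [hUn] at ha
      have hNEa : N ^ a * E = 0 := Matrix.ext_iff_mulVec.2 fun y => by
        rw [← Matrix.mulVec_mulVec, Matrix.zero_mulVec]
        have := congrArg (fun T : Module.End F U => ((T ⟨E *ᵥ y, ⟨y, rfl⟩⟩ : U) : In → F)) hNa
        simpa [hN1pow] using this
      have hNa' : N ^ a = 0 := by
        have hadjN : Adj N ((u⁻¹).1 - 1) := fun a b => by
          have h5 := (adj_sp u).add (adj_scalar (n := n) (-1 : F))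
          have h6 := h5 a b
          simp only [map_neg, map_one, ← sub_eq_add_neg] at h6
          exact h6
        have h7 : Adj (N ^ a * E) (E' * ((u⁻¹).1 - 1) ^ a) := (hadjN.pow a).mul hadj
        rw [hNEa] at h7
        have h8 : E' * ((u⁻¹).1 - 1) ^ a = 0 := h7.unique (fun x y => by simp [sf_eq])
        have h9 : (u⁻¹).1 - 1 = -((u⁻¹).1 * N) := by
          rw [hN_def, mul_sub, ← Submonoid.coe_mul, inv_mul_cancel, mul_one, neg_sub]
          rfl
        have hc' : Commute (u⁻¹).1 N := by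
          rw [hN_def]
          refine Commute.sub_right ?_ (Commute.one_right _)
          show (u⁻¹).1 * u.1 = u.1 * (u⁻¹).1
          rw [← Submonoid.coe_mul, ← Submonoid.coe_mul, inv_mul_cancel, mul_inv_cancel]
        rw [h9, neg_pow, hc'.mul_pow, ← mul_assoc, ← mul_assoc] at h8
        have h10 : E' * N ^ a = 0 := by
          have hU : ((u.1) ^ a) * ((u⁻¹).1 ^ a) = 1 := by
            rw [← SubmonoidClass.coe_pow, ← SubmonoidClass.coe_pow, ← Submonoid.coe_mul, inv_pow, mul_inv_cancel]; rfl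
          have hcu : Commute (u.1 ^ a) E' := by
            refine Commute.symm ?_
            rw [hu_def, SubmonoidClass.coe_pow, ← pow_mul]
            exact hE'X.pow_right _
          have key : E' * (u⁻¹).1 ^ a * N ^ a = 0 → E' * N ^ a = 0 := fun h => by
            calc E' * N ^ a = u.1 ^ a * (E' * (u⁻¹).1 ^ a * N ^ a) := by
                  rw [← mul_assoc, ← mul_assoc, hcu.eq, mul_assoc E', hU, mul_one]
              _ = 0 := by rw [h, mul_zero]
          rcases neg_one_pow_eq_or Mn a with h11 | h11 <;> rw [h11] at h8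
          · rw [mul_one] at h8
            exact key h8
          · rw [mul_neg, mul_one, neg_mul, neg_mul, neg_eq_zero] at h8
            exact key h8
        have h12 : N ^ a = N ^ a * (E + E') := by rw [hsum, mul_one]
        rw [h12, mul_add, hNEa, zero_add]
        have hcNE' : Commute N E' := by
          rw [hN_def]
          refine Commute.sub_left ?_ (Commute.one_left _)
          rw [hu_def, SubmonoidClass.coe_pow]; exact (hE'X.pow_right r).symm
        rw [(hcNE'.pow_left a).eq, h10]
      have hP0' : ¬ P ∣ Polynomial.X := fun hd => by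
        have h1 : P ∣ Polynomial.X ^ r - 1 := dvd_trans ⟨R, hR⟩ hfdvd
        have h3 : P ∣ Polynomial.X ^ r := hd.trans (dvd_pow_self _ hr0.ne')
        exact hPi.not_isUnit (isUnit_of_dvd_one (by simpa using dvd_sub h3 h1))
      set k := Fintype.card F ^ P.natDegree - 1 with hk
      have hkE : (s.1 ^ k - 1) * E = 0 := by
        obtain ⟨w, hw⟩ := irred_dvd_pow_card hPm hPi hP0'
        rw [← hk] at hw
        have := congrArg (fun z => aeval s.1 z * E) hw
        rw [mul_comm P w] at this
        simpa [map_mul, mul_assoc, hPE] using this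
      have hkE' : E' * ((s⁻¹).1 ^ k - 1) = 0 := by
        have h5 : Adj (s.1 ^ k - 1) ((s⁻¹).1 ^ k - 1) := by
          have := adj_aeval s (Polynomial.X ^ k - 1)
          simpa using this
        have h6 := h5.mul hadj
        rw [hkE] at h6
        exact h6.unique (fun x y => by simp [sf_eq])
      have hsk : s ^ k = 1 := Subtype.ext (by
        rw [SubmonoidClass.coe_pow]
        show s.1 ^ k = 1
        have hsi : (s⁻¹).1 ^ k * s.1 ^ k = 1 := by
          rw [← SubmonoidClass.coe_pow, ← SubmonoidClass.coe_pow, ← Submonoid.coe_mul, inv_pow, inv_mul_cancel]; rfl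
        have h7 : E' * (1 - s.1 ^ k) = 0 := by
          have := congrArg (· * s.1 ^ k) hkE'
          simpa [mul_assoc, sub_mul, hsi] using this
        have h8 : E' * (s.1 ^ k - 1) = 0 := by rw [← neg_sub, mul_neg, h7, neg_zero]
        have h9 : Commute (s.1 ^ k - 1) E' := by
          rw [hE'poly]
          have := (Commute.all (Polynomial.X ^ k - 1) (g.comp (Polynomial.X ^ (r - 1)))).map (aeval s.1)
          simpa using this
        rw [← sub_eq_zero]
        calc s.1 ^ k - 1 = (s.1 ^ k - 1) * (E + E') := by rw [hsum, mul_one]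
          _ = 0 := by rw [mul_add, hkE, zero_add, h9.eq, h8])
      refine ⟨P.natDegree, a, r, e, ha, by rw [hXo, mul_comm], ⟨hro, hr⟩, Or.inl (hso ▸ orderOf_dvd_of_pow_eq_one hsk),
        hPi.natDegree_pos, ?_, hNpow a hNa'⟩
      rcases Nat.eq_zero_or_pos a with rfl | h
      · exfalso
        refine hs1 (Subtype.ext (Matrix.ext fun x => ?_))
        rw [mul_zero] at ha
        exact x.elim (fun j => absurd j.isLt (by omega)) fun j => absurd j.isLt (by omega)
      · exact h
    · refine Or.inl (mkinv (E + E') ?_ ?_ ?_ hsum (hXE.add_left hE'X))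
      · rw [add_comm E E']
        nth_rewrite 2 [add_comm E' E]
        exact hadj'.add hadj
      · rw [add_mul, mul_add, mul_add, hEE, hE'E', hEE'c.eq, hcase, add_zero, zero_add]
      · intro h
        have := congrArg (E * ·) h
        rw [mul_add, hEE, hcase, add_zero, mul_zero] at this
        exact hE0 this

end CfsgLib.Classical.SpSemisimple
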