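import Cfsg.Agent.Lib.Classical.HermTori
import Cfsg.Agent.Lib.Classical.SpSemisimple

/-!
# Semisimple parts of unitary elements
-/

set_option autoImplicit false

namespace CfsgLib.Classical.SUSemisimple

open Polynomial Matrix Module CfsgLib.SU

variable {F : Type*} [Field F] {q : ℕ} (C : UCtx F q) {n : ℕ}

local notation "Mn" => Matrix (Fin n) (Fin n) F

/-- adjoint pairs -/
def Adj (M M' : Matrix (Fin n) (Fin n) F) : Prop := ∀ u v, C.form (M *ᵥ u) v = C.form u (M' *ᵥ v)

variable {C}

theorem Adj.unique {M M' M'' : Mn} (h : Adj C M M') (h' : Adj C M M'') : M' = M'' :=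
  Matrix.ext_iff_mulVec.2 fun v => sub_eq_zero.1 (C.eq_zero_of_form' fun u => by
    rw [C.form_sub_right, ← h, ← h', sub_self])

theorem Adj.mul {M M' L L' : Mn} (h : Adj C M M') (k : Adj C L L') : Adj C (M * L) (L' * M') := fun u v => by
  rw [← Matrix.mulVec_mulVec, h, k, Matrix.mulVec_mulVec]

theorem Adj.add {M M' L L' : Mn} (h : Adj C M M') (k : Adj C L L') : Adj C (M + L) (M' + L') := fun u v => by
  rw [Matrix.add_mulVec, Matrix.add_mulVec, C.form_add_left, C.form_add_right, h, k]

theorem adj_zero : Adj C (0 : Mn) 0 := fun u v => by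
  rw [Matrix.zero_mulVec, Matrix.zero_mulVec, C.form_zero_left, C.form_zero_right]

theorem adj_one : Adj C (1 : Mn) 1 := fun u v => by rw [Matrix.one_mulVec, Matrix.one_mulVec]

theorem adj_scalar (c : F) : Adj C (algebraMap F Mn c) (algebraMap F Mn (C.bar c)) := fun u v => by
  rw [Algebra.algebraMap_eq_smul_one, Algebra.algebraMap_eq_smul_one, Matrix.smul_mulVec, Matrix.smul_mulVec,
    Matrix.one_mulVec, Matrix.one_mulVec, C.form_smul_left, C.form_smul_right, C.bar_bar]

theorem adj_su (X : ↥(Cfsg.SU n F q)) : Adj C X.1.1 (X⁻¹).1.1 := fun u v => by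
  conv_lhs => rw [← su_mulVec_inv X v]
  rw [C.form_su]

theorem Adj.pow {M M' : Mn} (h : Adj C M M') : ∀ k, Adj C (M ^ k) (M' ^ k)
  | 0 => by simpa using adj_one (C := C) (n := n)
  | k + 1 => by rw [pow_succ, pow_succ']; exact (Adj.pow h k).mul h

theorem adj_aeval (X : ↥(Cfsg.SU n F q)) (g : F[X]) :
    Adj C (aeval X.1.1 g) (aeval (X⁻¹).1.1 (g.map (C.bar : F →+* F))) := by
  induction g using Polynomial.induction_on with
  | C a => simpa [Polynomial.map_C] using adj_scalar (C := C) (n := n) a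
  | add f g hf hg => rw [Polynomial.map_add, map_add, map_add]; exact hf.add hg
  | monomial k a _ =>
    rw [Polynomial.map_mul, Polynomial.map_C, Polynomial.map_pow, Polynomial.map_X, map_mul, map_mul, aeval_C,
      aeval_C, map_pow, map_pow, aeval_X, aeval_X]
    have h := (adj_scalar (C := C) (n := n) a).mul ((adj_su (C := C) X).pow (k + 1))
    rwa [← Algebra.commutes (C.bar a) ((X⁻¹).1.1 ^ (k + 1))] at h

theorem Adj.det {M M' : Mn} (h : Adj C M M') : M'.det = C.bar M.det := by
  have hM : M' = (M.map (C.bar : F →+* F))ᵀ := h.unique fun u v => by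
    simp only [UCtx.form, Matrix.mulVec, dotProduct, map_sum, map_mul, Finset.sum_mul, Finset.mul_sum,
      Matrix.transpose_apply, Matrix.map_apply, RingEquiv.coe_toRingHom, C.bar_bar]
    rw [Finset.sum_comm]
    exact Finset.sum_congr rfl fun i _ => Finset.sum_congr rfl fun j _ => by ring
  rw [hM, Matrix.det_transpose]
  exact ((C.bar : F →+* F).map_det M).symm

theorem finrank_le {U U' : Submodule F (Fin n → F)} (hU' : ∀ u ∈ U', ∀ v ∈ U', C.form u v = 0)
    (htop : U ⊔ U' = ⊤) : finrank F U' ≤ finrank F U := by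
  let b := Module.finBasis F U
  let Φ : U' →ₗ[F] (Fin (finrank F U) → F) :=
    { toFun := fun y j => C.form (y : Fin n → F) (b j : Fin n → F)
      map_add' := fun y z => funext fun j => C.form_add_left _ _ _
      map_smul' := fun c y => funext fun j => C.form_smul_left _ _ _ }
  have hΦ : Function.Injective Φ := by
    refine (injective_iff_map_eq_zero Φ).2 fun y hy => Subtype.ext (C.eq_zero_of_form fun v => ?_)
    obtain ⟨a, ha, c, hc, rfl⟩ := Submodule.mem_sup.1 (show v ∈ U ⊔ U' by rw [htop]; trivial)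
    rw [C.form_add_right, hU' _ y.2 _ hc, add_zero]
    refine C.form_swap_zero ?_
    rw [show a = ((⟨a, ha⟩ : U) : Fin n → F) from rfl, ← b.sum_repr ⟨a, ha⟩, Submodule.coe_sum, C.form_sum_left]
    refine Finset.sum_eq_zero fun j _ => ?_
    rw [Submodule.coe_smul, C.form_smul_left, C.form_swap_zero (congrFun hy j), mul_zero]
  simpa using LinearMap.finrank_le_finrank_of_injective hΦ

/-- The determinant of a map killed by an irreducible polynomial of full degree. -/
theorem det_eq_norm {W : Type*} [AddCommGroup W] [Module F W] [FiniteDimensional F W] (S : Module.End F W)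
    {P : F[X]} (hPm : P.Monic) (hP : Irreducible P) (hS : aeval S P = 0) (hd : finrank F W = P.natDegree) :
    LinearMap.det S = Algebra.norm F (AdjoinRoot.root P) := by
  haveI : Nontrivial W := nontrivial_of_finrank_pos (R := F) (by rw [hd]; exact hP.natDegree_pos)
  have hmin : minpoly F S = P := (minpoly.eq_of_irreducible_of_monic hP hS hPm).symm
  have hch : S.charpoly = P := Polynomial.eq_of_monic_of_dvd_of_natDegree_le hPm S.charpoly_monic
    (hmin ▸ LinearMap.minpoly_dvd_charpoly S) (by rw [S.charpoly_natDegree, hd])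
  have h := Algebra.PowerBasis.norm_gen_eq_coeff_zero_minpoly (AdjoinRoot.powerBasis hPm.ne_zero)
  rw [AdjoinRoot.powerBasis_gen, AdjoinRoot.powerBasis_dim, AdjoinRoot.minpoly_root hPm.ne_zero, hPm.leadingCoeff,
    inv_one, map_one, mul_one] at h
  rw [h, LinearMap.det_eq_sign_charpoly_coeff, hch, hd]

variable [Fintype F]

theorem mem_range_of_pow (hF : Fintype.card F = q ^ 2) {L : Type*} [Field L] [Finite L] [Algebra F L] {β : L}
    (h : β ^ (q + 1) = 1) : ∃ c : F, algebraMap F L c = β := by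
  have h2 : β ^ Fintype.card F = β := by
    have hq := two_le_q hF
    rw [hF]
    have h3 : q ^ 2 = (q + 1) * (q - 1) + 1 := by
      obtain ⟨w, rfl⟩ : ∃ w, q = w + 1 := ⟨q - 1, by omega⟩
      rw [Nat.add_sub_cancel]; ring
    rw [h3, pow_succ, pow_mul, h, one_pow, one_mul]
  by_contra hno
  push Not at hno
  classical
  letI : Fintype L := Fintype.ofFinite L
  set f : L[X] := X ^ Fintype.card F - X
  have hf : f ≠ 0 := FiniteField.X_pow_card_sub_X_ne_zero L Fintype.one_lt_card
  have hsub : insert β (Finset.univ.image (algebraMap F L)) ⊆ f.roots.toFinset := by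
    intro z hz
    rw [Multiset.mem_toFinset, mem_roots hf, IsRoot.def, eval_sub, eval_pow, eval_X, sub_eq_zero]
    rcases Finset.mem_insert.1 hz with rfl | hz
    · exact h2
    · obtain ⟨c, -, rfl⟩ := Finset.mem_image.1 hz
      rw [← map_pow, FiniteField.pow_card]
  have h4 := (Finset.card_le_card hsub).trans (f.roots.toFinset_card_le)
  rw [Finset.card_insert_of_notMem (by simpa using hno),
    Finset.card_image_of_injective _ (algebraMap F L).injective, Finset.card_univ] at h4
  have h5 := f.card_roots'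
  rw [FiniteField.X_pow_card_sub_X_natDegree_eq L Fintype.one_lt_card] at h5
  omega

/-- A root whose conjugate inverse is a conjugate. -/
theorem conj_inv_root (hF : Fintype.card F = q ^ 2) (C : UCtx F q) {P : F[X]} (hPm : P.Monic) (hP : Irreducible P)
    {r : ℕ} (hr : 0 < r) (hdvd : P ∣ X ^ r - 1) (hdual : P ∣ (P.map (C.bar : F →+* F)).comp (X ^ (r - 1))) :
    Odd P.natDegree ∧ AdjoinRoot.root P ^ (q ^ P.natDegree + 1) = 1 := by
  classical
  haveI := Fact.mk hP
  haveI : Module.Finite F (AdjoinRoot P) := hPm.finite_adjoinRoot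
  haveI : Finite (AdjoinRoot P) := Module.finite_of_finite F
  obtain ⟨p, a, hp, hq⟩ : ∃ p a : ℕ, p.Prime ∧ CharP F p ∧ q = p ^ a := by
    obtain ⟨p, hp⟩ := CharP.exists F
    obtain ⟨k, hpp, hk⟩ := FiniteField.card F p
    rw [hF] at hk
    obtain ⟨f, -, hq⟩ := (Nat.dvd_prime_pow hpp).1 (hk ▸ dvd_pow_self q two_ne_zero)
    exact ⟨p, f, hpp, hp, hq⟩
  obtain ⟨hpF, hq⟩ := hq
  haveI := Fact.mk hp
  haveI : CharP (AdjoinRoot P) p := charP_of_injective_algebraMap (algebraMap F (AdjoinRoot P)).injective p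
  set α := AdjoinRoot.root P with hαdef
  have hmk : ∀ g : F[X], P ∣ g ↔ aeval α g = 0 := fun g => by rw [AdjoinRoot.aeval_eq, AdjoinRoot.mk_eq_zero]
  have h1 : α ^ r = 1 := by simpa [sub_eq_zero] using (hmk _).1 hdvd
  have hα0 : α ≠ 0 := fun h => by rw [h, zero_pow hr.ne'] at h1; exact zero_ne_one h1
  have hinv : α ^ (r - 1) = α⁻¹ := eq_inv_of_mul_eq_one_left (by rw [← pow_succ, Nat.sub_add_cancel hr, h1])
  let ψ : AdjoinRoot P →+* AdjoinRoot P := iterateFrobenius (AdjoinRoot P) p a
  have hψ : ∀ y, ψ y = y ^ q := fun y => by show iterateFrobenius _ p a y = _; rw [iterateFrobenius_def, hq]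
  have h2 : aeval ((α⁻¹) ^ q) P = 0 := by
    have h := (hmk _).1 hdual
    rw [aeval_comp, map_pow, aeval_X, hinv] at h
    have h' := congrArg ψ h
    have hc : (ψ.comp ((algebraMap F (AdjoinRoot P)).comp (C.bar : F →+* F))) = algebraMap F (AdjoinRoot P) :=
      RingHom.ext fun c => by
        show ψ (algebraMap F _ (C.bar c)) = algebraMap F _ c
        rw [hψ, ← map_pow, ← C.bar_eq, C.bar_bar]
    rw [map_zero, aeval_def, eval₂_map, hom_eval₂, hc, hψ] at h'
    rw [aeval_def]
    exact h'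
  have hmin : minpoly F α = P := (minpoly.eq_of_irreducible_of_monic hP ((hmk P).1 dvd_rfl) hPm).symm
  have hconj : IsConjRoot F α ((α⁻¹) ^ q) :=
    isConjRoot_iff_aeval_eq_zero (Algebra.IsIntegral.isIntegral α) |>.2 (hmin.symm ▸ h2)
  obtain ⟨σ, hσ⟩ := isConjRoot_iff_exists_algEquiv.1 hconj.symm
  obtain ⟨⟨j, hj⟩, hj'⟩ := (FiniteField.bijective_frobeniusAlgEquivOfAlgebraic_pow F (AdjoinRoot P)).2 σ
  have hdim : finrank F (AdjoinRoot P) = P.natDegree := by
    rw [(AdjoinRoot.powerBasis hPm.ne_zero).finrank, AdjoinRoot.powerBasis_dim]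
  have hfr : ∀ j x, (FiniteField.frobeniusAlgEquivOfAlgebraic F (AdjoinRoot P) ^ j) x = x ^ Fintype.card F ^ j := fun j => by
    induction j with
    | zero => intro x; simp
    | succ j ih =>
      intro x
      rw [pow_succ', AlgEquiv.mul_apply, ih, FiniteField.coe_frobeniusAlgEquivOfAlgebraic]
      show (x ^ Fintype.card F ^ j) ^ Fintype.card F = _
      rw [← pow_mul, ← pow_succ]
  have hσ' : α ^ Fintype.card F ^ j = (α⁻¹) ^ q := by
    rw [← hfr]
    show (fun n : Fin _ => FiniteField.frobeniusAlgEquivOfAlgebraic F (AdjoinRoot P) ^ (n : ℕ)) ⟨j, hj⟩ α = _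
    rw [hj', hσ]
  have hσ2 : α ^ Fintype.card F ^ (j + j) = α ^ Fintype.card F ^ 1 := by
    calc α ^ Fintype.card F ^ (j + j) = ((α ^ Fintype.card F ^ j)⁻¹) ^ q := by
          rw [pow_add, pow_mul]
          conv_lhs => rw [hσ', ← pow_mul, mul_comm, pow_mul, inv_pow α]
      _ = (α ^ q) ^ q := by rw [hσ', inv_pow α, inv_inv]
      _ = _ := by rw [← pow_mul, pow_one, hF, pow_two]
  rw [hdim] at hj
  have hord : ∀ u v, α ^ Fintype.card F ^ u = α ^ Fintype.card F ^ v → u % P.natDegree = v % P.natDegree := by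
    intro u v huv
    have h3 : (FiniteField.frobeniusAlgEquivOfAlgebraic F (AdjoinRoot P) ^ u) =
        FiniteField.frobeniusAlgEquivOfAlgebraic F (AdjoinRoot P) ^ v := by
      refine AlgEquiv.ext fun x => DFunLike.congr_fun (AdjoinRoot.algHom_ext
        (g₁ := (FiniteField.frobeniusAlgEquivOfAlgebraic F (AdjoinRoot P) ^ u).toAlgHom)
        (g₂ := (FiniteField.frobeniusAlgEquivOfAlgebraic F (AdjoinRoot P) ^ v).toAlgHom) ?_) x
      show (FiniteField.frobeniusAlgEquivOfAlgebraic F (AdjoinRoot P) ^ u) α =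
        (FiniteField.frobeniusAlgEquivOfAlgebraic F (AdjoinRoot P) ^ v) α
      rw [hfr, hfr, huv]
    rwa [pow_inj_mod, FiniteField.orderOf_frobeniusAlgEquivOfAlgebraic, hdim] at h3
  have hmod := hord _ _ hσ2
  have hi := hP.natDegree_pos
  obtain ⟨hodd, hcase⟩ : Odd P.natDegree ∧ (P.natDegree = 2 * j - 1 ∧ 1 ≤ j ∨ P.natDegree = 1 ∧ j = 0) := by
    rcases Nat.lt_or_ge 1 P.natDegree with h | h
    · rw [Nat.mod_eq_of_lt h] at hmod
      rcases Nat.lt_or_ge (j + j) P.natDegree with h' | h'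
      · rw [Nat.mod_eq_of_lt h'] at hmod; omega
      · rw [Nat.mod_eq_sub_mod h', Nat.mod_eq_of_lt (by omega)] at hmod
        exact ⟨⟨j - 1, by omega⟩, Or.inl ⟨by omega, by omega⟩⟩
    · exact ⟨⟨0, by omega⟩, Or.inr ⟨by omega, by omega⟩⟩
  refine ⟨hodd, ?_⟩
  have hψinj : Function.Injective ψ := ψ.injective
  have hfix : α ^ q ^ P.natDegree = α⁻¹ := by
    rcases hcase with ⟨hd, hj1⟩ | ⟨hd, rfl⟩
    · refine hψinj ?_
      rw [hψ, hψ, ← pow_mul, ← pow_succ, show P.natDegree + 1 = 2 * j by omega, pow_mul q, ← hF, hσ']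
    · rw [pow_zero, pow_one, inv_pow] at hσ'
      rw [hd, pow_one]
      conv_rhs => rw [hσ', inv_inv]
  rw [pow_succ, hfix, inv_mul_cancel₀ hα0]

/-- The three cases. -/
theorem trichotomy (hF : Fintype.card F = q ^ 2) (p : ℕ) [Fact p.Prime] [CharP F p] (hn : 3 ≤ n) (X : ↥(Cfsg.SU n F q)) :
    (∃ G : Mn, Adj C G G ∧ G * G = G ∧ G ≠ 0 ∧ G ≠ 1 ∧ Commute G X.1.1) ∨
    ∃ m a : ℕ, n = m * a ∧ 1 ≤ m ∧ orderOf (pr X) ∣ HermTori.K q m * p ^ Nat.clog p a ∧
      (a = 1 → ∀ d, d ∣ HermTori.K q m → d ∣ q + 1 → orderOf (pr X) ∣ HermTori.K q m / d) := by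
  classical
  have hp : p.Prime := Fact.out
  haveI : NeZero n := ⟨by omega⟩
  have ho0 : orderOf X ≠ 0 := (orderOf_pos X).ne'
  obtain ⟨e, r, hr, hXo⟩ := Nat.exists_eq_pow_mul_and_not_dvd ho0 p hp.ne_one
  set s := X ^ p ^ e with hs_def
  set u := X ^ r with hu_def
  have hso : orderOf s = r := by
    rw [hs_def, orderOf_pow_of_dvd (pow_ne_zero _ hp.ne_zero) (hXo ▸ dvd_mul_right _ _), hXo,
      Nat.mul_div_cancel_left _ (pow_pos hp.pos e)]
  have hr0 : 0 < r := Nat.pos_of_ne_zero fun h => hr (h ▸ dvd_zero p)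
  have huo : orderOf u = p ^ e := by
    rw [hu_def, orderOf_pow_of_dvd hr0.ne' (hXo ▸ dvd_mul_left _ _), hXo, Nat.mul_div_cancel _ hr0]
  have coe_pow' : ∀ (Y : ↥(Cfsg.SU n F q)) (k : ℕ), (Y ^ k).1.1 = Y.1.1 ^ k := fun Y k => map_pow (Cfsg.slToMat n F |>.comp (Cfsg.SU n F q).subtype) Y k
  have hinj : ∀ {Y Z : ↥(Cfsg.SU n F q)}, Y.1.1 = Z.1.1 → Y = Z := fun h => Subtype.ext (Subtype.ext h)
  set N : Mn := u.1.1 - 1 with hN_def
  have hue : u.1.1 ^ p ^ e = 1 := by rw [← coe_pow', ← huo, pow_orderOf_eq_one]; rfl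
  have hNn : IsNilpotent N := ⟨p ^ e, (CfsgLib.GLClass.pow_prime_pow_eq_one_iff p u.1.1 e).1 hue⟩
  have hsr : s.1.1 ^ r = 1 := by rw [← coe_pow', ← hso, pow_orderOf_eq_one]; rfl
  set f := minpoly F s.1.1 with hf
  have hint : IsIntegral F s.1.1 := Algebra.IsIntegral.isIntegral _
  have hfdvd : f ∣ Polynomial.X ^ r - 1 := minpoly.dvd F _ (by simp [hsr])
  have hsq : Squarefree f := Squarefree.squarefree_of_dvd hfdvd
    ((X_pow_sub_one_separable_iff.2 (by rw [Ne, CharP.cast_eq_zero_iff F p]; exact hr)).squarefree)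
  obtain ⟨P, hPm, hPi, hPf⟩ := Polynomial.exists_monic_irreducible_factor f (minpoly.not_isUnit F s.1.1)
  obtain ⟨R, hR⟩ := hPf
  have hcop : IsCoprime P R := hPi.coprime_iff_not_dvd.2 fun h => hPi.not_isUnit (hsq P (hR ▸ mul_dvd_mul_left P h))
  obtain ⟨ca, cb, hab⟩ := hcop
  set g := cb * R with hg
  set E : Mn := aeval s.1.1 g with hE
  set E' : Mn := aeval (s⁻¹).1.1 (g.map (C.bar : F →+* F)) with hE'
  have hzero : ∀ h : F[X], f ∣ h → aeval s.1.1 h = 0 := fun h hh =>
    aeval_eq_zero_of_dvd_aeval_eq_zero hh (minpoly.aeval F _)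
  have hdvd0 : ∀ h : F[X], aeval s.1.1 h = 0 → f ∣ h := fun h hh => minpoly.dvd F _ hh
  have hEE : E * E = E := by
    rw [hE, ← map_mul, ← sub_eq_zero, ← map_sub]
    exact hzero _ ⟨-(ca * cb), by rw [hR, hg]; linear_combination (cb * R) * hab⟩
  have hPE : aeval s.1.1 P * E = 0 := by
    rw [hE, ← map_mul]; exact hzero _ ⟨cb, by rw [hR, hg]; ring⟩
  have hadj : Adj C E E' := adj_aeval s g
  have hadj' : Adj C E' E := by
    have := adj_aeval (C := C) s⁻¹ (g.map (C.bar : F →+* F))
    rwa [inv_inv, Polynomial.map_map, show (C.bar : F →+* F).comp (C.bar : F →+* F) = RingHom.id F from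
      RingHom.ext C.bar_bar, Polynomial.map_id] at this
  have hinvs : (s⁻¹).1.1 = s.1.1 ^ (r - 1) := by
    rw [← coe_pow', inv_eq_of_mul_eq_one_right (show s * s ^ (r - 1) = 1 by
      rw [← pow_succ', Nat.sub_add_cancel hr0, ← hso, pow_orderOf_eq_one])]
  have hbar : ∀ h : F[X], aeval (s⁻¹).1.1 (h.map (C.bar : F →+* F)) =
      aeval s.1.1 ((h.map (C.bar : F →+* F)).comp (Polynomial.X ^ (r - 1))) := fun h => by
    rw [aeval_comp, map_pow, aeval_X, hinvs]
  have hcomm : ∀ h k : F[X], Commute (aeval s.1.1 h) (aeval s.1.1 k) := fun h k => (Commute.all h k).map (aeval s.1.1)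
  have hE'poly : E' = aeval s.1.1 ((g.map (C.bar : F →+* F)).comp (Polynomial.X ^ (r - 1))) := hbar g
  have hEE'c : Commute E' E := hE'poly ▸ hcomm _ g
  have hE'E' : E' * E' = E' := (hadj.mul hadj).unique (hEE.symm ▸ hadj)
  have hXs : Commute X.1.1 s.1.1 := by rw [hs_def, coe_pow']; exact (Commute.refl _).pow_right _
  have hXh : ∀ h : F[X], Commute (aeval s.1.1 h) X.1.1 := fun h =>
    Commute.symm (Algebra.commute_of_mem_adjoin_singleton_of_commute (aeval_mem_adjoin_singleton F s.1.1) hXs)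
  have hXE : Commute E X.1.1 := hXh g
  have hE'X : Commute E' X.1.1 := hE'poly ▸ hXh _
  have hus : Commute s.1.1 N := by
    rw [hN_def, hs_def, hu_def, coe_pow', coe_pow']
    exact ((Commute.refl _).pow_pow _ _).sub_right (Commute.one_right _)
  have hprim : E * E' = E ∨ E * E' = 0 := by
    set g' := (g.map (C.bar : F →+* F)).comp (Polynomial.X ^ (r - 1)) with hg'
    have hP2 : P ∣ g' * (g' - 1) := by
      refine dvd_trans ⟨R, hR⟩ (hdvd0 _ ?_)
      rw [map_mul, map_sub, map_one, ← hE'poly, mul_sub, mul_one, hE'E', sub_self]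
    rcases hPi.prime.dvd_or_dvd hP2 with ⟨w, hw⟩ | ⟨w, hw⟩
    · right
      rw [hE, hE'poly, ← map_mul]
      exact hzero _ ⟨cb * w, by rw [hw, hg, hR]; ring⟩
    · left
      rw [hE, hE'poly, ← map_mul, ← sub_eq_zero, ← map_sub]
      exact hzero _ ⟨cb * w, by rw [hg, hR]; linear_combination (cb * R) * hw⟩
  have hE0 : E ≠ 0 := fun h => hPi.not_isUnit (isUnit_of_dvd_one (by
    have h1 : P ∣ g := dvd_trans ⟨R, hR⟩ (hdvd0 g h)
    rw [← hab]; exact dvd_add (dvd_mul_left P ca) h1))
  haveI := Fact.mk hPi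
  haveI : Module.Finite F (AdjoinRoot P) := hPm.finite_adjoinRoot
  haveI : Finite (AdjoinRoot P) := Module.finite_of_finite F
  set α := AdjoinRoot.root P with hα
  have hPr : P ∣ Polynomial.X ^ r - 1 := dvd_trans ⟨R, hR⟩ hfdvd
  have hα1 : α ^ r = 1 := by
    have := (AdjoinRoot.mk_eq_zero.2 hPr)
    simpa [sub_eq_zero] using this
  -- powers which are scalar on the component
  have hscalE : ∀ j, α ^ (j * (q + 1)) = 1 → ∃ c : F, s.1.1 ^ j * E = c • E ∧ c * C.bar c = 1 := by
    intro j hj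
    rw [pow_mul] at hj
    obtain ⟨c, hc⟩ := mem_range_of_pow hF hj
    refine ⟨c, ?_, ?_⟩
    · have hd : P ∣ Polynomial.X ^ j - Polynomial.C c := by
        rw [← AdjoinRoot.mk_eq_zero, map_sub, map_pow, AdjoinRoot.mk_X, AdjoinRoot.mk_C, ← AdjoinRoot.algebraMap_eq,
          hc, sub_self]
      obtain ⟨w, hw⟩ := hd
      have := congrArg (fun z => aeval s.1.1 z * E) hw
      rw [mul_comm P w] at this
      simp only [map_mul, mul_assoc, hPE, mul_zero, map_sub, map_pow, aeval_X, aeval_C] at this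
      rw [sub_mul, sub_eq_zero] at this
      rw [this, Algebra.smul_def]
    · refine (algebraMap F (AdjoinRoot P)).injective ?_
      rw [C.bar_eq, ← pow_succ', map_pow, hc, hj, map_one]
  have hscalE' : ∀ j (c : F), s.1.1 ^ j * E = c • E → c * C.bar c = 1 → s.1.1 ^ j * E' = c • E' := by
    intro j c h hc
    have h1 : Adj C (s.1.1 ^ j * E) (E' * (s⁻¹).1.1 ^ j) := ((adj_su s).pow j).mul hadj
    have h2 : Adj C (c • E) (C.bar c • E') := by
      have := (adj_scalar (C := C) (n := n) c).mul hadj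
      rwa [← Algebra.commutes, ← Algebra.smul_def, ← Algebra.smul_def] at this
    rw [h] at h1
    have h3 := h1.unique h2
    have h4 : (s⁻¹).1.1 ^ j * s.1.1 ^ j = 1 := by
      rw [← coe_pow', ← coe_pow', inv_pow]
      exact congrArg (fun Y : ↥(Cfsg.SU n F q) => Y.1.1) (inv_mul_cancel (s ^ j))
    calc s.1.1 ^ j * E' = E' * s.1.1 ^ j := by
          rw [hE'poly]
          have := hcomm (Polynomial.X ^ j) ((g.map (C.bar : F →+* F)).comp (Polynomial.X ^ (r - 1)))
          rwa [map_pow, aeval_X] at this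
      _ = c • (C.bar c • E') * s.1.1 ^ j := by rw [smul_smul, hc, one_smul]
      _ = c • E' := by rw [← h3, Matrix.smul_mul, mul_assoc, h4, mul_one]
  -- conclusion from the scalar powers
  have finish : ∀ m a, 1 ≤ m → n = m * a → α ^ (HermTori.K q m * (q + 1)) = 1 → u.1.1 ^ p ^ Nat.clog p a = 1 →
      (∀ j, α ^ (j * (q + 1)) = 1 → ∃ c : F, s.1.1 ^ j = c • 1) → (a = 1 → α ^ HermTori.K q m = 1) →
      ∃ m a : ℕ, n = m * a ∧ 1 ≤ m ∧ orderOf (pr X) ∣ HermTori.K q m * p ^ Nat.clog p a ∧
      (a = 1 → ∀ d, d ∣ HermTori.K q m → d ∣ q + 1 → orderOf (pr X) ∣ HermTori.K q m / d) := by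
    intro m a hm hna hαK huN hsc ha1
    have hpr : ∀ j l, α ^ (j * (q + 1)) = 1 → u.1.1 ^ l = 1 → orderOf (pr X) ∣ j * l := by
      intro j l hj hl
      refine orderOf_dvd_of_pow_eq_one ?_
      obtain ⟨c, hc⟩ := hsc j hj
      have h1 : (pr X ^ (j * l)) ^ p ^ e = 1 := by
        rw [← map_pow, ← map_pow, ← pow_mul, mul_comm, pow_mul, ← hs_def, pow_mul, map_pow]
        have : pr (s ^ j) = 1 := by
          rw [← map_one (pr (n := n) (F := F) (q := q)), eq_comm, C.pr_eq_iff hn]
          exact ⟨c, by rw [coe_pow', hc]; rfl⟩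
        rw [this, one_pow]
      have h2 : (pr X ^ (j * l)) ^ r = 1 := by
        rw [← map_pow, ← map_pow, ← pow_mul, mul_comm, pow_mul, ← hu_def, mul_comm, pow_mul,
          show u ^ l = 1 from hinj (by rw [coe_pow', hl]; rfl), one_pow, map_one]
      have h3 := Nat.dvd_gcd (orderOf_dvd_of_pow_eq_one h1) (orderOf_dvd_of_pow_eq_one h2)
      rw [((hp.coprime_iff_not_dvd.2 hr).pow_left e).gcd_eq_one, Nat.dvd_one, orderOf_eq_one_iff] at h3
      exact h3
    refine ⟨m, a, hna, hm, hpr _ _ hαK huN, fun ha d hdK hdq => ?_⟩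
    subst ha
    rw [Nat.clog_one_right, pow_zero, pow_one] at huN
    refine (mul_one (HermTori.K q m / d)) ▸ hpr _ _ ?_ (by rw [pow_one, huN])
    obtain ⟨c, hc⟩ := hdq
    rw [hc, ← mul_assoc, Nat.div_mul_cancel hdK, pow_mul, ha1 rfl, one_pow]
  obtain ⟨w, hw⟩ : ∃ w, q = w + 1 := ⟨q - 1, by have := two_le_q hF; omega⟩
  have hnorm : algebraMap F (AdjoinRoot P) (Algebra.norm F α) = α ^ HermTori.G q P.natDegree := by
    rw [FiniteField.algebraMap_norm_eq_pow_sum, Nat.card_eq_fintype_card, hF, (AdjoinRoot.powerBasis hPm.ne_zero).finrank,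
      AdjoinRoot.powerBasis_dim]
    rfl
  have hPN : ∀ a, N ^ a = 0 → u.1.1 ^ p ^ Nat.clog p a = 1 := fun a ha =>
    (CfsgLib.GLClass.pow_prime_pow_eq_one_iff p u.1.1 _).2 (pow_eq_zero_of_le (Nat.le_pow_clog hp.one_lt _) ha)
  rcases hprim with hcase | hcase
  · have hself : E = E' := by
      have h3 := hadj.mul hadj'
      rw [hcase] at h3
      exact h3.unique hadj
    by_cases hE1 : E = 1
    · right
      have hP0 : aeval s.1.1 P = 0 := by rw [← mul_one (aeval s.1.1 P), ← hE1, hPE]
      have hfP : f = P := (minpoly.eq_of_irreducible_of_monic hPi hP0 hPm).symm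
      obtain ⟨hodd, hroot⟩ := conj_inv_root hF C hPm hPi hr0 hPr (by
        conv_lhs => rw [← hfP]
        refine hdvd0 _ ?_
        rw [← hbar]
        exact (adj_aeval s P).unique (by rw [hP0]; exact adj_zero))
      obtain ⟨a, ha, hNa⟩ := SpSemisimple.nilpotent_bound (Matrix.toLinAlgEquiv' s.1.1) (Matrix.toLinAlgEquiv' N)
        hPm hPi (by rw [aeval_algHom_apply, hP0, map_zero]) (hNn.map _) (hus.map _)
      rw [Module.finrank_pi, Fintype.card_fin] at ha
      rw [← map_pow, map_eq_zero_iff _ Matrix.toLinAlgEquiv'.injective] at hNa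
      obtain ⟨b, hb⟩ := hodd
      have hK : α ^ (HermTori.K q P.natDegree * (q + 1)) = 1 := by
        rw [hb, hw, HermTori.K_odd_mul, ← hw, ← hb, hroot]
      refine finish _ a hPi.natDegree_pos ha hK (hPN a hNa) (fun j hj => ?_) fun ha1 => ?_
      · obtain ⟨c, hc, -⟩ := hscalE j hj
        exact ⟨c, by rwa [hE1, mul_one] at hc⟩
      · subst ha1
        rw [pow_one] at hNa
        have hu1 : u = 1 := hinj (sub_eq_zero.1 hNa)
        have hdet : Algebra.norm F α = 1 := by
          rw [hα, ← det_eq_norm (Matrix.toLinAlgEquiv' s.1.1) hPm hPi (by rw [aeval_algHom_apply, hP0, map_zero])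
            (by rw [Module.finrank_pi, Fintype.card_fin, ha, mul_one])]
          exact (LinearMap.det_toLin' s.1.1).trans s.1.2
        rw [hdet, map_one, hb, hw, HermTori.G_odd] at hnorm
        rw [hb, hw] at hK
        rw [hb, hw]
        calc α ^ HermTori.K (w + 1) (2 * b + 1) = α ^ HermTori.K (w + 1) (2 * b + 1) *
              (α ^ (HermTori.K (w + 1) (2 * b + 1) * (w + 1 + 1))) ^ ((w + 1) * HermTori.G (w + 1) b) := by
              rw [hK, one_pow, mul_one]
          _ = 1 := by rw [← pow_mul, ← pow_add, hnorm]; congr 1; ring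
    · exact Or.inl ⟨E, hself ▸ hadj, hEE, hE0, hE1, hXE⟩
  · by_cases hsum : E + E' = 1
    · right
      have hcase' : E' * E = 0 := hEE'c.eq.trans hcase
      set U := LinearMap.range E.mulVecLin with hUdef
      set U' := LinearMap.range E'.mulVecLin with hU'def
      have hEU : ∀ x ∈ U, E *ᵥ x = x ∧ E' *ᵥ x = 0 := by
        rintro _ ⟨y, rfl⟩
        simp only [Matrix.mulVecLin_apply, Matrix.mulVec_mulVec, hEE, hcase', Matrix.zero_mulVec, and_self]
      have hEU' : ∀ x ∈ U', E *ᵥ x = 0 ∧ E' *ᵥ x = x := by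
        rintro _ ⟨y, rfl⟩
        simp only [Matrix.mulVecLin_apply, Matrix.mulVec_mulVec, hE'E', hcase, Matrix.zero_mulVec, and_self]
      have hiso : ∀ x ∈ U, ∀ y ∈ U, C.form x y = 0 := fun x hx y hy => by
        rw [← (hEU x hx).1, hadj, (hEU y hy).2, C.form_zero_right]
      have hiso' : ∀ x ∈ U', ∀ y ∈ U', C.form x y = 0 := fun x hx y hy => by
        rw [← (hEU' x hx).2, hadj', (hEU' y hy).1, C.form_zero_right]
      have htop : U ⊔ U' = ⊤ := eq_top_iff.2 fun x _ => Submodule.mem_sup.2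
        ⟨E *ᵥ x, ⟨x, rfl⟩, E' *ᵥ x, ⟨x, rfl⟩, by rw [← Matrix.add_mulVec, hsum, Matrix.one_mulVec]⟩
      have hinf : Disjoint U U' := Submodule.disjoint_def.2 fun x h1 h2 => by
        rw [← (hEU x h1).1, (hEU' x h2).1]
      have hc : IsCompl U U' := ⟨hinf, codisjoint_iff.2 htop⟩
      have hdimU : finrank F U + finrank F U = n := by
        have h1 := Submodule.finrank_sup_add_finrank_inf_eq U U'
        rw [htop, hinf.eq_bot, finrank_top, finrank_bot, Module.finrank_pi, Fintype.card_fin] at h1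
        have h2 := finrank_le hiso' htop
        have h3 := finrank_le hiso (sup_comm U U' ▸ htop)
        omega
      have hinvar : ∀ M : Mn, Commute M E → ∀ x ∈ U, M.mulVecLin x ∈ U := by
        rintro M hM _ ⟨a, rfl⟩
        exact ⟨M *ᵥ a, by simp only [Matrix.mulVecLin_apply, Matrix.mulVec_mulVec, hM.eq]⟩
      have hsE : Commute s.1.1 E := by have := hcomm Polynomial.X g; rwa [aeval_X] at this
      have huE : Commute u.1.1 E := by rw [hu_def, coe_pow']; exact hXE.symm.pow_left r
      have huE' : Commute u.1.1 E' := by rw [hu_def, coe_pow']; exact hE'X.symm.pow_left r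
      let S1 : Module.End F U := s.1.1.mulVecLin.restrict (hinvar _ hsE)
      let N1 : Module.End F U := N.mulVecLin.restrict (hinvar _ (huE.sub_left (Commute.one_left _)))
      have hN1pow : ∀ k (x : U), ((N1 ^ k) x : Fin n → F) = (N ^ k) *ᵥ (x : Fin n → F) := by
        intro k
        induction k with
        | zero => intro x; simp
        | succ k ih => intro x; rw [pow_succ', pow_succ', Module.End.mul_apply, ← Matrix.mulVec_mulVec, ← ih]; rfl
      have hS1 : ∀ (h : F[X]) (x : U), ((aeval S1 h) x : Fin n → F) = aeval s.1.1 h *ᵥ (x : Fin n → F) := by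
        intro h
        induction h using Polynomial.induction_on with
        | C a => intro x; simp [Algebra.algebraMap_eq_smul_one, Matrix.smul_mulVec]
        | add f g hf hg => intro x; simp [hf, hg, Matrix.add_mulVec]
        | monomial k a ih =>
          intro x
          rw [pow_succ, ← mul_assoc, map_mul (aeval S1), map_mul (aeval s.1.1), aeval_X, aeval_X, Module.End.mul_apply,
            ih, ← Matrix.mulVec_mulVec]
          rfl
      have hS1P : aeval S1 P = 0 := LinearMap.ext fun x => Subtype.ext (by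
        rw [hS1, ← (hEU x x.2).1, Matrix.mulVec_mulVec, hPE, Matrix.zero_mulVec]; rfl)
      obtain ⟨a, ha, hNa⟩ := SpSemisimple.nilpotent_bound S1 N1 hPm hPi hS1P
        (by obtain ⟨k, hk⟩ := hNn; exact ⟨k, LinearMap.ext fun x => Subtype.ext (by rw [hN1pow, hk, Matrix.zero_mulVec]; rfl)⟩)
        (LinearMap.ext fun x => Subtype.ext (by
          show s.1.1 *ᵥ (N *ᵥ (x : Fin n → F)) = N *ᵥ (s.1.1 *ᵥ (x : Fin n → F))
          rw [Matrix.mulVec_mulVec, Matrix.mulVec_mulVec, hus.eq]))
      have hNaE : N ^ a * E = 0 := Matrix.ext_iff_mulVec.2 fun y => by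
        rw [← Matrix.mulVec_mulVec, Matrix.zero_mulVec]
        have := congrArg (fun T : Module.End F U => ((T ⟨E *ᵥ y, ⟨y, rfl⟩⟩ : U) : Fin n → F)) hNa
        simpa [hN1pow] using this
      have hu1 : u.1.1 ^ p ^ Nat.clog p a = 1 := by
        obtain ⟨c, hc⟩ : ∃ c, p ^ Nat.clog p a = a + c := ⟨_, (Nat.add_sub_cancel' (Nat.le_pow_clog hp.one_lt a)).symm⟩
        set W := u.1.1 ^ p ^ Nat.clog p a with hW
        have h1 : W * E = E := by
          rw [← sub_eq_zero]
          nth_rewrite 2 [← one_mul E]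
          rw [← sub_mul, hW, CfsgLib.GLClass.pow_prime_pow_sub_one p, ← hN_def, hc, pow_add, (Commute.pow_pow_self N a c).eq,
            mul_assoc, hNaE, mul_zero]
        have h2 : Adj C (W * E) (E' * (u⁻¹).1.1 ^ p ^ Nat.clog p a) := ((adj_su u).pow _).mul hadj
        rw [h1] at h2
        have h3 : W * E' = E' := by
          rw [(huE'.pow_left _).eq]
          nth_rewrite 1 [hadj.unique h2]
          rw [mul_assoc, ← coe_pow', ← coe_pow', inv_pow]
          exact (congrArg (E' * ·) (congrArg (fun Y : ↥(Cfsg.SU n F q) => Y.1.1) (inv_mul_cancel (u ^ p ^ Nat.clog p a)))).trans (mul_one E')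
        rw [← mul_one W, ← hsum, mul_add, h1, h3]
      have hna : n = 2 * P.natDegree * a := by rw [mul_assoc, ← ha]; omega
      have hP0 : α ≠ 0 := fun h => by rw [h, zero_pow hr0.ne'] at hα1; exact zero_ne_one hα1
      have hKeq : HermTori.K q (2 * P.natDegree) * (q + 1) + 1 = q ^ (2 * P.natDegree) := by
        rw [hw]; exact HermTori.K_even_mul w _
      have hK : α ^ (HermTori.K q (2 * P.natDegree) * (q + 1)) = 1 := by
        letI : Fintype (AdjoinRoot P) := Fintype.ofFinite _
        have h1 := FiniteField.pow_card α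
        rw [Module.card_eq_pow_finrank (K := F), (AdjoinRoot.powerBasis hPm.ne_zero).finrank, AdjoinRoot.powerBasis_dim,
          hF, ← pow_mul, ← hKeq, pow_succ] at h1
        exact mul_right_cancel₀ hP0 (h1.trans (one_mul α).symm)
      refine finish _ a (by have := hPi.natDegree_pos; omega) hna hK hu1 (fun j hj => ?_) fun ha1 => ?_
      · obtain ⟨c, hc1, hc2⟩ := hscalE j hj
        exact ⟨c, by rw [← mul_one (s.1.1 ^ j), ← hsum, mul_add, hc1, hscalE' j c hc1 hc2, ← smul_add]⟩
      · subst ha1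
        -- the determinant on the two halves
        set T : Mn := s.1.1 * E + E' with hT
        set T' : Mn := E + s.1.1 * E' with hT'
        have hsE' : Commute s.1.1 E' := by
          rw [hE'poly]
          have := hcomm Polynomial.X ((g.map (C.bar : F →+* F)).comp (Polynomial.X ^ (r - 1)))
          rwa [aeval_X] at this
        have hTT : T * T' = s.1.1 := by
          rw [hT, hT', add_mul, mul_add, mul_add, mul_assoc, mul_assoc, hEE, ← mul_assoc E, ← hsE.eq,
            mul_assoc, hcase, ← mul_assoc E', ← hsE'.eq, mul_assoc, hE'E', hcase']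
          simp only [mul_zero, add_zero, zero_add]
          rw [← mul_add, hsum, mul_one]
        have hadjT : Adj C T (E' * (s⁻¹).1.1 + E) := ((adj_su s).mul hadj).add hadj'
        have hT1 : T' * (E' * (s⁻¹).1.1 + E) = 1 := by
          rw [hT', add_mul, mul_add, mul_add, ← mul_assoc, hcase, zero_mul, hEE, mul_assoc, ← mul_assoc E', hE'E',
            mul_assoc, hcase', mul_zero, add_zero, zero_add, ← mul_assoc, hsE'.eq, mul_assoc,
            show s.1.1 * (s⁻¹).1.1 = 1 from congrArg (fun Y : ↥(Cfsg.SU n F q) => Y.1.1) (mul_inv_cancel s), mul_one, hsum]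
        have hd1 := congrArg Matrix.det hTT
        have hd2 := congrArg Matrix.det hT1
        rw [Matrix.det_mul, s.1.2] at hd1
        rw [Matrix.det_mul, hadjT.det, Matrix.det_one] at hd2
        have hbarδ : C.bar T.det = T.det := by
          calc C.bar T.det = C.bar T.det * (T.det * T'.det) := by rw [hd1, mul_one]
            _ = T.det * (T'.det * C.bar T.det) := by ring
            _ = T.det := by rw [hd2, mul_one]
        have hdetT : T.det = Algebra.norm F α := by
          rw [hα, ← det_eq_norm S1 hPm hPi hS1P (by rw [ha, mul_one]), ← LinearMap.det_toLin',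
            ← mul_one (LinearMap.det S1), ← LinearMap.det_id (M := U'), ← LinearMap.det_prodMap,
            ← LinearMap.det_conj _ (Submodule.prodEquivOfIsCompl U U' hc)]
          refine congrArg _ (LinearMap.ext fun z => ?_)
          obtain ⟨⟨x, y⟩, rfl⟩ := (Submodule.prodEquivOfIsCompl U U' hc).surjective z
          rw [LinearMap.comp_apply, LinearMap.comp_apply, LinearEquiv.coe_coe, LinearEquiv.coe_coe,
            LinearEquiv.symm_apply_apply]
          simp only [LinearMap.prodMap_apply, LinearMap.id_coe, id_eq, Submodule.coe_prodEquivOfIsCompl', Matrix.toLin'_apply,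
            hT, Matrix.add_mulVec, Matrix.mulVec_add, ← Matrix.mulVec_mulVec, (hEU x x.2).1, (hEU x x.2).2,
            (hEU' y y.2).1, (hEU' y y.2).2, Matrix.mulVec_zero, add_zero, zero_add]
          rfl
        have hδ : α ^ HermTori.G q P.natDegree ≠ 0 := pow_ne_zero _ hP0
        rw [hdetT, C.bar_eq] at hbarδ
        have h5 := congrArg (algebraMap F (AdjoinRoot P)) hbarδ
        rw [map_pow, hnorm, hw, pow_succ] at h5
        rw [hw, HermTori.K_even, Nat.add_sub_cancel, mul_comm, pow_mul]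
        rw [hw] at hδ
        exact mul_right_cancel₀ hδ (h5.trans (one_mul _).symm)
    · refine Or.inl ⟨E + E', ?_, ?_, ?_, hsum, hXE.add_left hE'X⟩
      · have := hadj.add hadj'
        rwa [add_comm E' E] at this
      · rw [add_mul, mul_add, mul_add, hEE, hE'E', hEE'c.eq, hcase, add_zero, zero_add]
      · intro h
        have := congrArg (E * ·) h
        rw [mul_add, hEE, hcase, add_zero, mul_zero] at this
        exact hE0 this

end CfsgLib.Classical.SUSemisimple
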