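import Cfsg.Agent.Lib.Classical.HermOrder
import Cfsg.Agent.Lib.Descent.FixedField

/-!
# The two dimensional unitary group
-/

set_option autoImplicit false

namespace CfsgLib.Classical.SUTwoSL

open Matrix CfsgLib.SU

variable {F : Type*} [Field F] [Fintype F] {q : ℕ} (C : UCtx F q)

omit [Fintype F] in
theorem su_iff_mat (X : Matrix.SpecialLinearGroup (Fin 2) F) :
    X ∈ Cfsg.SU 2 F q ↔ X.1ᵀ * X.1.map C.bar = 1 := by
  exact C.mem_gu_iff_mat (g := Matrix.SpecialLinearGroup.toGL X)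

include C in
theorem exists_frame : ∃ (P : Matrix (Fin 2) (Fin 2) F) (d : F), d ≠ 0 ∧ P.det ≠ 0 ∧
    Pᵀ * P.map C.bar = !![0, d; -d, 0] := by
  obtain ⟨a, ha⟩ := C.exists_norm (c := (-1 : F)) (by simp)
  obtain ⟨y, hy⟩ := C.exists_not_fixed
  have hy0 : y ≠ 0 := fun h => hy (by rw [h, map_zero])
  have hby : C.bar y ≠ 0 := by simpa using hy0
  obtain ⟨l, hl, hl1⟩ : ∃ l : F, l * C.bar l = 1 ∧ l ≠ 1 :=
    ⟨y / C.bar y, by
      rw [map_div₀, C.bar_bar, div_mul_div_comm, mul_comm, div_self (mul_ne_zero hby hy0)],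
      fun h => hy ((div_eq_one_iff_eq hby).1 h).symm⟩
  obtain ⟨d, hd0, hd⟩ := C.exists_trace_zero
  have hbd : C.bar d = -d := eq_neg_of_add_eq_zero_right hd
  have ha0 : a ≠ 0 := fun h => by simp [h] at ha
  -- second isotropic line
  set b := a * l with hbdef
  have hb : b * C.bar b = -1 := by rw [hbdef, map_mul]; linear_combination (a * C.bar a) * hl + ha
  have hab : a ≠ b := fun h => hl1 (mul_left_cancel₀ ha0 (h.symm.trans (mul_one a).symm))
  have hs : 1 + a * C.bar b ≠ 0 := by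
    intro h
    refine hab (C.bar.injective ?_).symm
    apply mul_left_cancel₀ ha0
    linear_combination h - ha
  set s := 1 + a * C.bar b with hsdef
  set c := C.bar (d / s) with hcdef
  have hbs : C.bar s = 1 + C.bar a * b := by rw [hsdef, map_add, map_one, map_mul, C.bar_bar]
  have hcs : C.bar c * s = d := by rw [hcdef, C.bar_bar, div_mul_cancel₀ _ hs]
  have hcs' : c * C.bar s = -d := by rw [← hbd, ← hcs, map_mul, C.bar_bar]
  have hc0 : c ≠ 0 := fun h => hd0 (by rw [← hcs, h, map_zero, zero_mul])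
  refine ⟨!![1, c; a, c * b], d, hd0, ?_, ?_⟩
  · rw [Matrix.det_fin_two_of, show (1 : F) * (c * b) - c * a = c * (b - a) by ring]
    exact mul_ne_zero hc0 (sub_ne_zero.2 hab.symm)
  · ext i j
    fin_cases i <;> fin_cases j <;> simp [Matrix.mul_apply, Fin.sum_univ_two]
    · linear_combination ha
    · rw [hsdef] at hcs; linear_combination hcs
    · rw [hbs] at hcs'; linear_combination hcs'
    · linear_combination (c * C.bar c) * hb

include C in
theorem main (hF : Fintype.card F = q ^ 2) {K : Type*} [Field K] [Fintype K] (hK : Fintype.card K = q) :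
    Nonempty (Cfsg.SU 2 F q ≃* Matrix.SpecialLinearGroup (Fin 2) K) := by
  classical
  obtain ⟨P, d, hd0, hP, hH⟩ := exists_frame C
  set H : Matrix (Fin 2) (Fin 2) F := !![0, d; -d, 0]
  let L := CfsgLib.Descent.fixedField C.bar
  have hL : Nat.card L = q := by
    have h := CfsgLib.Descent.card_fixedField_pow C.bar
    rw [C.order_two, hF] at h
    exact Nat.pow_left_injective two_ne_zero h
  haveI : Fintype L := Fintype.ofFinite L
  let e : K ≃+* L := FiniteField.ringEquivOfCardEq (by rw [hK, ← Nat.card_eq_fintype_card, hL])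
  let ι : K →+* F := L.subtype.comp e.toRingHom
  let Ps : GL (Fin 2) F := Matrix.GeneralLinearGroup.mkOfDetNeZero P hP
  have hconj : ∀ A : Matrix.SpecialLinearGroup (Fin 2) F,
      (P * A.1 * (Ps⁻¹).1).det = 1 := fun A => by
    rw [Matrix.det_mul, Matrix.det_mul, A.2, mul_one, ← Matrix.det_mul]
    exact (congrArg Matrix.det Ps.mul_inv).trans Matrix.det_one
  have hkey : ∀ A : Matrix.SpecialLinearGroup (Fin 2) F,
      (⟨_, hconj A⟩ : Matrix.SpecialLinearGroup (Fin 2) F) ∈ Cfsg.SU 2 F q ↔ A.1.map C.bar = A.1 := by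
    intro A
    refine (su_iff_mat C _).trans ?_
    show (P * A.1 * (Ps⁻¹).1)ᵀ * (P * A.1 * (Ps⁻¹).1).map C.bar = 1 ↔ _
    have hinv : (Ps⁻¹).1 * P = 1 := Ps.inv_mul
    have hinv' : P * (Ps⁻¹).1 = 1 := Ps.mul_inv
    have hJ : ∀ M : Matrix (Fin 2) (Fin 2) F, Mᵀ * H * M = M.det • H := fun M => by
      ext i j
      fin_cases i <;> fin_cases j <;> simp [H, Matrix.mul_apply, Fin.sum_univ_two, Matrix.det_fin_two] <;> ring
    have hexp : ((P * A.1 * (Ps⁻¹).1)ᵀ * (P * A.1 * (Ps⁻¹).1).map C.bar) =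
        ((Ps⁻¹).1)ᵀ * (A.1ᵀ * H * A.1.map C.bar) * ((Ps⁻¹).1).map C.bar := by
      rw [← hH]
      simp only [Matrix.transpose_mul, Matrix.map_mul, Matrix.mul_assoc]
    rw [hexp]
    have hAH : (A.1ᵀ * H).det ≠ 0 := by
      rw [Matrix.det_mul, Matrix.det_transpose, A.2, one_mul]
      simp [H, Matrix.det_fin_two, hd0]
    constructor
    · intro h
      have h1 : A.1ᵀ * H * A.1.map C.bar = A.1ᵀ * H * A.1 := by
        rw [hJ, A.2, one_smul, ← hH]
        calc A.1ᵀ * (Pᵀ * P.map C.bar) * A.1.map C.bar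
            = ((Ps⁻¹).1 * P)ᵀ * (A.1ᵀ * (Pᵀ * P.map C.bar) * A.1.map C.bar) * ((Ps⁻¹).1 * P).map C.bar := by
              rw [hinv, Matrix.transpose_one, Matrix.map_one _ (map_zero _) (map_one _), Matrix.one_mul, Matrix.mul_one]
          _ = Pᵀ * (((Ps⁻¹).1)ᵀ * (A.1ᵀ * H * A.1.map C.bar) * ((Ps⁻¹).1).map C.bar) * P.map C.bar := by
              rw [← hH]; simp only [Matrix.transpose_mul, Matrix.map_mul, Matrix.mul_assoc]
          _ = Pᵀ * P.map C.bar := by rw [h, Matrix.mul_one]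
      exact ((Matrix.isUnit_iff_isUnit_det _).2 (isUnit_iff_ne_zero.2 hAH)).mul_left_cancel h1
    · intro h
      rw [h, hJ, A.2, one_smul, ← hH]
      calc ((Ps⁻¹).1)ᵀ * (Pᵀ * P.map C.bar) * ((Ps⁻¹).1).map C.bar
          = (P * (Ps⁻¹).1)ᵀ * (P * (Ps⁻¹).1).map C.bar := by
            simp only [Matrix.transpose_mul, Matrix.map_mul, Matrix.mul_assoc]
        _ = 1 := by rw [hinv', Matrix.transpose_one, Matrix.map_one _ (map_zero _) (map_one _), Matrix.one_mul]
  let f : Matrix.SpecialLinearGroup (Fin 2) K →* Cfsg.SU 2 F q :=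
    { toFun := fun M => ⟨⟨_, hconj (Matrix.SpecialLinearGroup.map ι M)⟩, (hkey _).2 (by
        ext i j
        exact (e (M.1 i j)).2)⟩
      map_one' := Subtype.ext (Subtype.ext (by
        show P * (Matrix.SpecialLinearGroup.map ι 1).1 * (Ps⁻¹).1 = 1
        rw [map_one, Matrix.SpecialLinearGroup.coe_one, Matrix.mul_one]
        exact Ps.mul_inv))
      map_mul' := fun M N => Subtype.ext (Subtype.ext (by
        show P * (Matrix.SpecialLinearGroup.map ι (M * N)).1 * (Ps⁻¹).1 =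
          (P * (Matrix.SpecialLinearGroup.map ι M).1 * (Ps⁻¹).1) * (P * (Matrix.SpecialLinearGroup.map ι N).1 * (Ps⁻¹).1)
        have hinv : (Ps⁻¹).1 * P = 1 := Ps.inv_mul
        rw [map_mul, Matrix.SpecialLinearGroup.coe_mul]
        simp only [Matrix.mul_assoc]
        rw [← Matrix.mul_assoc (Ps⁻¹).1 P, hinv, Matrix.one_mul])) }
  refine ⟨(MulEquiv.ofBijective f ⟨fun M N h => ?_, fun X => ?_⟩).symm⟩
  · have h1 : P * (Matrix.SpecialLinearGroup.map ι M).1 * (Ps⁻¹).1 =
        P * (Matrix.SpecialLinearGroup.map ι N).1 * (Ps⁻¹).1 :=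
      congrArg (fun x : Cfsg.SU 2 F q => x.1.1) h
    have h2 := Ps.isUnit.mul_left_cancel ((Ps⁻¹).isUnit.mul_right_cancel h1)
    exact Subtype.ext (Matrix.ext fun i j => ι.injective (congrFun (congrFun h2 i) j))
  · have hA : ((Ps⁻¹).1 * X.1.1 * P).det = 1 := by
      rw [Matrix.det_mul, Matrix.det_mul, X.1.2, mul_one, ← Matrix.det_mul]
      exact (congrArg Matrix.det Ps.inv_mul).trans Matrix.det_one
    have hback : P * ((Ps⁻¹).1 * X.1.1 * P) * (Ps⁻¹).1 = X.1.1 := by
      have hinv' : P * (Ps⁻¹).1 = 1 := Ps.mul_inv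
      simp only [← Matrix.mul_assoc]
      rw [hinv', Matrix.one_mul, Matrix.mul_assoc, hinv', Matrix.mul_one]
    have hfix := (hkey ⟨_, hA⟩).1 (by
      rw [show (⟨_, hconj ⟨_, hA⟩⟩ : Matrix.SpecialLinearGroup (Fin 2) F) = X.1 from Subtype.ext hback]
      exact X.2)
    let M : Matrix (Fin 2) (Fin 2) K := fun i j =>
      e.symm ⟨((Ps⁻¹).1 * X.1.1 * P) i j, congrFun (congrFun hfix i) j⟩
    have hM : ι.mapMatrix M = (Ps⁻¹).1 * X.1.1 * P := by
      ext i j
      exact congrArg Subtype.val (e.apply_symm_apply ⟨((Ps⁻¹).1 * X.1.1 * P) i j, congrFun (congrFun hfix i) j⟩)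
    have hMd : M.det = 1 := ι.injective (by rw [RingHom.map_det, hM, hA, map_one])
    refine ⟨⟨M, hMd⟩, Subtype.ext (Subtype.ext ?_)⟩
    show P * ι.mapMatrix M * (Ps⁻¹).1 = X.1.1
    rw [hM, hback]

end CfsgLib.Classical.SUTwoSL
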