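import Cfsg.Agent.Lib.Classical.SylowTwoElemAb

/-!
# Block diagonal embeddings between symplectic groups
-/

set_option autoImplicit false

namespace CfsgLib.Classical.SpBlocks

open Matrix CfsgLib.Classical.SylowTwoElemAb

variable {ι κ ρ : Type} [Fintype ι] [DecidableEq ι] [Fintype κ] [DecidableEq κ] [Fintype ρ]
  [DecidableEq ρ] {F : Type*} [CommRing F]

/-- Block diagonal in each of the four corners. -/
def bd (M : κ → Matrix (ι ⊕ ι) (ι ⊕ ι) F) : Matrix ((ι × κ) ⊕ (ι × κ)) ((ι × κ) ⊕ (ι × κ)) F :=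
  fromBlocks (blockDiagonal fun k => (M k).toBlocks₁₁) (blockDiagonal fun k => (M k).toBlocks₁₂)
    (blockDiagonal fun k => (M k).toBlocks₂₁) (blockDiagonal fun k => (M k).toBlocks₂₂)

theorem bd_one : bd (1 : κ → Matrix (ι ⊕ ι) (ι ⊕ ι) F) = 1 := by
  rw [bd, show (1 : κ → Matrix (ι ⊕ ι) (ι ⊕ ι) F) = fun _ => fromBlocks 1 0 0 1 from
    funext fun _ => fromBlocks_one.symm]
  simp only [toBlocks_fromBlocks₁₁, toBlocks_fromBlocks₁₂, toBlocks_fromBlocks₂₁,
    toBlocks_fromBlocks₂₂]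
  rw [← fromBlocks_one]
  congr 1 <;> first | exact blockDiagonal_one | exact blockDiagonal_zero

theorem bd_mul (M N : κ → Matrix (ι ⊕ ι) (ι ⊕ ι) F) : bd (M * N) = bd M * bd N := by
  have h : ∀ k, (M * N) k = fromBlocks
      ((M k).toBlocks₁₁ * (N k).toBlocks₁₁ + (M k).toBlocks₁₂ * (N k).toBlocks₂₁)
      ((M k).toBlocks₁₁ * (N k).toBlocks₁₂ + (M k).toBlocks₁₂ * (N k).toBlocks₂₂)
      ((M k).toBlocks₂₁ * (N k).toBlocks₁₁ + (M k).toBlocks₂₂ * (N k).toBlocks₂₁)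
      ((M k).toBlocks₂₁ * (N k).toBlocks₁₂ + (M k).toBlocks₂₂ * (N k).toBlocks₂₂) := fun k => by
    rw [Pi.mul_apply, ← fromBlocks_multiply, fromBlocks_toBlocks, fromBlocks_toBlocks]
  simp only [bd, h, toBlocks_fromBlocks₁₁, toBlocks_fromBlocks₁₂, toBlocks_fromBlocks₂₁,
    toBlocks_fromBlocks₂₂, fromBlocks_multiply, ← blockDiagonal_mul, ← blockDiagonal_add]
  congr 1

theorem bd_transpose (M : κ → Matrix (ι ⊕ ι) (ι ⊕ ι) F) : (bd M)ᵀ = bd fun k => (M k)ᵀ := by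
  have h : ∀ k, (M k)ᵀ = fromBlocks (M k).toBlocks₁₁ᵀ (M k).toBlocks₂₁ᵀ (M k).toBlocks₁₂ᵀ
      (M k).toBlocks₂₂ᵀ := fun k => by
    rw [← fromBlocks_transpose, fromBlocks_toBlocks]
  simp only [bd, fromBlocks_transpose, blockDiagonal_transpose, h, toBlocks_fromBlocks₁₁,
    toBlocks_fromBlocks₁₂, toBlocks_fromBlocks₂₁, toBlocks_fromBlocks₂₂]

theorem bd_J : bd (fun _ : κ => J ι F) = J (ι × κ) F := by
  simp only [bd, J, toBlocks_fromBlocks₁₁, toBlocks_fromBlocks₁₂, toBlocks_fromBlocks₂₁,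
    toBlocks_fromBlocks₂₂]
  congr 1
  · exact blockDiagonal_zero
  · exact (blockDiagonal_neg _).trans (congrArg Neg.neg blockDiagonal_one)
  · exact blockDiagonal_one
  · exact blockDiagonal_zero

/-- The product of symplectic groups inside a larger one. -/
def dProd : (κ → Matrix.symplecticGroup ι F) →* Matrix.symplecticGroup (ι × κ) F where
  toFun f := ⟨bd fun k => (f k).1, by
    rw [SymplecticGroup.mem_iff, bd_transpose, ← bd_J, ← bd_mul, ← bd_mul]
    congr 1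
    funext k
    exact SymplecticGroup.mem_iff.1 (f k).2⟩
  map_one' := Subtype.ext bd_one
  map_mul' f g := Subtype.ext (bd_mul _ _)

/-- Permutations of the factors. -/
def pProd : Equiv.Perm κ →* Matrix.symplecticGroup (ι × κ) F :=
  pSp'.comp
    { toFun := fun σ => Equiv.prodCongr (Equiv.refl ι) σ
      map_one' := Equiv.ext fun _ => rfl
      map_mul' := fun _ _ => Equiv.ext fun _ => rfl }
where
  pSp' : Equiv.Perm (ι × κ) →* Matrix.symplecticGroup (ι × κ) F :=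
    { toFun := fun σ => ⟨pHom σ, mem_symplectic_perm σ⟩
      map_one' := Subtype.ext (map_one (pHom (ι := ι × κ) (F := F)))
      map_mul' := fun σ τ => Subtype.ext (map_mul (pHom (ι := ι × κ) (F := F)) σ τ) }

theorem pMat_blockDiagonal (σ : Equiv.Perm κ) (A : κ → Matrix ι ι F) :
    pMat (Equiv.prodCongr (Equiv.refl ι) σ) * blockDiagonal A =
      blockDiagonal (fun k => A (σ.symm k)) * pMat (Equiv.prodCongr (Equiv.refl ι) σ) := by
  ext ⟨a, k⟩ ⟨b, l⟩
  rw [Matrix.mul_apply, Matrix.mul_apply, Finset.sum_eq_single (a, σ.symm k),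
    Finset.sum_eq_single (b, σ l)]
  · simp only [pMat, of_apply, Equiv.prodCongr_apply, Prod.map_apply, Equiv.refl_apply,
      Equiv.apply_symm_apply, if_true, one_mul, mul_one, blockDiagonal_apply]
    by_cases h : σ.symm k = l
    · rw [if_pos h, if_pos ((Equiv.symm_apply_eq σ).1 h)]
    · rw [if_neg h, if_neg fun h' => h ((Equiv.symm_apply_eq σ).2 h')]
  · intro x _ hx
    have h : Prod.map (Equiv.refl ι) σ (b, l) ≠ x := fun h => hx h.symm
    simp [pMat, h]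
    intro h'
    exact absurd h' h
  · exact fun h => absurd (Finset.mem_univ _) h
  · rintro ⟨x, m⟩ _ hx
    have h : Equiv.prodCongr (Equiv.refl ι) σ (x, m) ≠ (a, k) := fun h => hx (by
      obtain ⟨rfl, rfl⟩ := Prod.mk.injEq _ _ _ _ ▸ h
      simp)
    show (if Equiv.prodCongr (Equiv.refl ι) σ (x, m) = (a, k) then (1 : F) else 0) * _ = 0
    exact (congrArg (· * _) (if_neg h)).trans (zero_mul _)
  · exact fun h => absurd (Finset.mem_univ _) h

theorem monomial_prod [Nontrivial F] [Nonempty ι] :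
    Monomial (dProd (ι := ι) (κ := κ) (F := F)) pProd := by
  refine ⟨fun f σ h => ?_, fun σ f => ?_⟩
  · have h' : bd (fun k => (f k).1) = fromBlocks (pMat (Equiv.prodCongr (Equiv.refl ι) σ)) 0 0
        (pMat (Equiv.prodCongr (Equiv.refl ι) σ)) := congrArg Subtype.val h
    obtain ⟨h11, h12, h21, h22⟩ := fromBlocks_inj.1 h'
    obtain ⟨a⟩ := (inferInstance : Nonempty ι)
    have hσ : σ = 1 := by
      refine Equiv.ext fun l => ?_
      by_contra hne
      rw [Equiv.Perm.one_apply] at hne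
      have := congrFun (congrFun h11 (a, σ l)) (a, l)
      rw [blockDiagonal_apply_ne _ _ _ hne] at this
      simp [pMat] at this
    subst hσ
    have e1 : Equiv.prodCongr (Equiv.refl ι) (1 : Equiv.Perm κ) = 1 := Equiv.ext fun _ => rfl
    rw [e1, pMat_one, ← blockDiagonal_one] at h11 h22
    refine ⟨funext fun k => Subtype.ext ?_, rfl⟩
    rw [← fromBlocks_toBlocks (f k).1]
    show _ = (1 : Matrix (ι ⊕ ι) (ι ⊕ ι) F)
    rw [← fromBlocks_one]
    congr 1
    · exact congrFun (blockDiagonal_injective h11) k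
    · exact congrFun (blockDiagonal_injective (h12.trans blockDiagonal_zero.symm)) k
    · exact congrFun (blockDiagonal_injective (h21.trans blockDiagonal_zero.symm)) k
    · exact congrFun (blockDiagonal_injective h22) k
  · rw [mul_inv_eq_iff_eq_mul]
    refine Subtype.ext ?_
    show fromBlocks (pMat (Equiv.prodCongr (Equiv.refl ι) σ)) 0 0
        (pMat (Equiv.prodCongr (Equiv.refl ι) σ)) * bd (fun k => (f k).1) =
      bd (fun k => (f (σ.symm k)).1) * fromBlocks (pMat (Equiv.prodCongr (Equiv.refl ι) σ)) 0 0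
        (pMat (Equiv.prodCongr (Equiv.refl ι) σ))
    simp only [bd, fromBlocks_multiply, Matrix.zero_mul, Matrix.mul_zero, add_zero, zero_add,
      pMat_blockDiagonal]

/-- Two diagonal corners. -/
def bd₂ (A : Matrix (ι ⊕ ι) (ι ⊕ ι) F) (B : Matrix (ρ ⊕ ρ) (ρ ⊕ ρ) F) :
    Matrix ((ι ⊕ ρ) ⊕ (ι ⊕ ρ)) ((ι ⊕ ρ) ⊕ (ι ⊕ ρ)) F :=
  fromBlocks (fromBlocks A.toBlocks₁₁ 0 0 B.toBlocks₁₁) (fromBlocks A.toBlocks₁₂ 0 0 B.toBlocks₁₂)
    (fromBlocks A.toBlocks₂₁ 0 0 B.toBlocks₂₁) (fromBlocks A.toBlocks₂₂ 0 0 B.toBlocks₂₂)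

theorem bd₂_mul (A A' : Matrix (ι ⊕ ι) (ι ⊕ ι) F) (B B' : Matrix (ρ ⊕ ρ) (ρ ⊕ ρ) F) :
    bd₂ (A * A') (B * B') = bd₂ A B * bd₂ A' B' := by
  obtain ⟨a, b, c, d, rfl⟩ : ∃ a b c d, A = fromBlocks a b c d :=
    ⟨_, _, _, _, (fromBlocks_toBlocks A).symm⟩
  obtain ⟨a', b', c', d', rfl⟩ : ∃ a b c d, A' = fromBlocks a b c d :=
    ⟨_, _, _, _, (fromBlocks_toBlocks A').symm⟩
  obtain ⟨x, y, z, w, rfl⟩ : ∃ a b c d, B = fromBlocks a b c d :=
    ⟨_, _, _, _, (fromBlocks_toBlocks B).symm⟩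
  obtain ⟨x', y', z', w', rfl⟩ : ∃ a b c d, B' = fromBlocks a b c d :=
    ⟨_, _, _, _, (fromBlocks_toBlocks B').symm⟩
  simp [bd₂, fromBlocks_multiply, fromBlocks_add]

theorem bd₂_transpose (A : Matrix (ι ⊕ ι) (ι ⊕ ι) F) (B : Matrix (ρ ⊕ ρ) (ρ ⊕ ρ) F) :
    (bd₂ A B)ᵀ = bd₂ Aᵀ Bᵀ := by
  rw [← fromBlocks_toBlocks A, ← fromBlocks_toBlocks B]
  simp [bd₂, fromBlocks_transpose]

theorem bd₂_one : bd₂ (1 : Matrix (ι ⊕ ι) (ι ⊕ ι) F) (1 : Matrix (ρ ⊕ ρ) (ρ ⊕ ρ) F) = 1 := by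
  simp only [bd₂, ← (fromBlocks_one (l := ι) (m := ι) (α := F)),
    ← (fromBlocks_one (l := ρ) (m := ρ) (α := F)), toBlocks_fromBlocks₁₁, toBlocks_fromBlocks₁₂,
    toBlocks_fromBlocks₂₁, toBlocks_fromBlocks₂₂]
  simp

/-- A symplectic group inside a larger one, fixing the rest. -/
def sumEmb (ρ : Type) [Fintype ρ] [DecidableEq ρ] :
    Matrix.symplecticGroup ι F →* Matrix.symplecticGroup (ι ⊕ ρ) F where
  toFun A := ⟨bd₂ A.1 (1 : Matrix (ρ ⊕ ρ) (ρ ⊕ ρ) F), by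
    have hJ : bd₂ (J ι F) (J ρ F) = J (ι ⊕ ρ) F := by
      simp [bd₂, J, ← fromBlocks_one, fromBlocks_neg]
    rw [SymplecticGroup.mem_iff, bd₂_transpose, ← hJ, ← bd₂_mul, ← bd₂_mul,
      SymplecticGroup.mem_iff.1 A.2, Matrix.one_mul, Matrix.transpose_one, Matrix.mul_one]⟩
  map_one' := Subtype.ext bd₂_one
  map_mul' A B := Subtype.ext (by
    show bd₂ (A.1 * B.1) 1 = bd₂ A.1 1 * bd₂ B.1 1
    rw [← bd₂_mul, Matrix.mul_one])

theorem sumEmb_injective : Function.Injective (sumEmb (ι := ι) (F := F) ρ) := by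
  intro A B h
  obtain ⟨h1, h2, h3, h4⟩ := fromBlocks_inj.1 (congrArg Subtype.val h)
  refine Subtype.ext ?_
  rw [← fromBlocks_toBlocks A.1, ← fromBlocks_toBlocks B.1, (fromBlocks_inj.1 h1).1,
    (fromBlocks_inj.1 h2).1, (fromBlocks_inj.1 h3).1, (fromBlocks_inj.1 h4).1]

/-- Renaming the index type. -/
def spReindex (e : ι ≃ ρ) : Matrix.symplecticGroup ι F →* Matrix.symplecticGroup ρ F where
  toFun A := ⟨A.1.submatrix (Equiv.sumCongr e.symm e.symm) (Equiv.sumCongr e.symm e.symm), by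
    have hJ : (J ι F).submatrix (Equiv.sumCongr e.symm e.symm) (Equiv.sumCongr e.symm e.symm) =
        J ρ F := by
      ext (a | a) (b | b) <;> simp [J, Matrix.one_apply]
    rw [SymplecticGroup.mem_iff, transpose_submatrix, ← hJ, submatrix_mul_equiv, submatrix_mul_equiv,
      SymplecticGroup.mem_iff.1 A.2]⟩
  map_one' := Subtype.ext (submatrix_one_equiv _)
  map_mul' A B := Subtype.ext (submatrix_mul_equiv A.1 B.1 _ (Equiv.sumCongr e.symm e.symm) _).symm

theorem spReindex_injective (e : ι ≃ ρ) : Function.Injective (spReindex (F := F) e) := by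
  intro A B h
  refine Subtype.ext (Matrix.ext fun a b => ?_)
  have := congrFun (congrFun (congrArg Subtype.val h) (Equiv.sumCongr e e a)) (Equiv.sumCongr e e b)
  simpa [spReindex, Sum.map_map] using this

end CfsgLib.Classical.SpBlocks
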