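import Cfsg.Agent.Lib.Classical.SpOrder

/-!
`Sp_4(2) ≅ S_6` through even subsets of six points modulo the whole set.
-/

set_option autoImplicit false

namespace CfsgLib.Classical

open Matrix

/-- A symplectic basis of even subsets of six points. -/
def evenBasis : Fin 2 ⊕ Fin 2 → Fin 6 → ZMod 2
  | .inl 0 => ![1, 1, 0, 0, 0, 0]
  | .inr 0 => ![0, 1, 1, 0, 0, 0]
  | .inl 1 => ![0, 0, 0, 1, 1, 0]
  | .inr 1 => ![0, 0, 0, 0, 1, 1]

/-- The matrix of a permutation of six points on the module. -/
def sixMat (π : Equiv.Perm (Fin 6)) : Matrix (Fin 2 ⊕ Fin 2) (Fin 2 ⊕ Fin 2) (ZMod 2) :=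
  Matrix.of fun a b => ∑ i, evenBasis b (π.symm i) * evenBasis a.swap i

theorem sixMat_decomp : ∀ x : Fin 6 → ZMod 2, ∑ i, x i = 0 → ∃ e : ZMod 2, ∀ i,
    x i = (∑ c, (∑ j, x j * evenBasis (Sum.swap c) j) * evenBasis c i) + e := by
  decide +kernel

theorem evenBasis_sum : ∀ a, ∑ i, evenBasis a i = 0 := by decide +kernel

theorem sixMat_mul (π σ : Equiv.Perm (Fin 6)) : sixMat (π * σ) = sixMat π * sixMat σ := by
  ext a b
  obtain ⟨e, he⟩ := sixMat_decomp (fun i => evenBasis b (σ.symm i))
    ((Equiv.sum_comp σ.symm (evenBasis b)).trans (evenBasis_sum b))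
  simp only [sixMat, Matrix.mul_apply, Matrix.of_apply]
  calc ∑ i, evenBasis b ((π * σ).symm i) * evenBasis a.swap i
      = ∑ i, ((∑ c, (∑ j, evenBasis b (σ.symm j) * evenBasis c.swap j) * evenBasis c (π.symm i)) + e) *
          evenBasis a.swap i := Finset.sum_congr rfl fun i _ => by
        rw [show (π * σ).symm i = σ.symm (π.symm i) from rfl]; exact congrArg (· * _) (he (π.symm i))
    _ = (∑ i, (∑ c, (∑ j, evenBasis b (σ.symm j) * evenBasis c.swap j) * evenBasis c (π.symm i)) *
          evenBasis a.swap i) + e * ∑ i, evenBasis a.swap i := by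
        rw [Finset.mul_sum, ← Finset.sum_add_distrib]
        exact Finset.sum_congr rfl fun i _ => add_mul _ _ _
    _ = _ := by
        rw [evenBasis_sum, mul_zero, add_zero]
        simp only [Finset.sum_mul]
        rw [Finset.sum_comm]
        refine Finset.sum_congr rfl fun c _ => ?_
        refine Finset.sum_congr rfl fun i _ => ?_
        rw [Finset.mul_sum]
        exact Finset.sum_congr rfl fun j _ => by ring

theorem sixMat_one : sixMat 1 = 1 := by decide +kernel

theorem sixMat_swap_mem : ∀ x y : Fin 6,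
    sixMat (Equiv.swap x y) * Matrix.J (Fin 2) (ZMod 2) * (sixMat (Equiv.swap x y))ᵀ =
      Matrix.J (Fin 2) (ZMod 2) := by
  decide +kernel

theorem sixMat_mem (π : Equiv.Perm (Fin 6)) : sixMat π ∈ Matrix.symplecticGroup (Fin 2) (ZMod 2) := by
  induction π using Equiv.Perm.swap_induction_on with
  | one => rw [sixMat_one]; exact one_mem _
  | swap_mul f x y _ ih => rw [sixMat_mul]; exact mul_mem (SymplecticGroup.mem_iff.2 (sixMat_swap_mem x y)) ih

theorem eq_one_of_sixMat : ∀ π : Equiv.Perm (Fin 6), sixMat π = 1 → π = 1 := by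
  decide +kernel

attribute [local irreducible] sixMat

/-- The isomorphism over a field with two elements. -/
theorem sp_four_two_equiv_perm {F : Type*} [Field F] [Fintype F] (hF : Fintype.card F = 2) :
    Nonempty (Matrix.symplecticGroup (Fin 2) F ≃* Equiv.Perm (Fin 6)) := by
  classical
  let j : ZMod 2 →+* F := (ZMod.ringEquivOfPrime F Nat.prime_two hF).toRingHom
  let f : Equiv.Perm (Fin 6) →* Matrix.symplecticGroup (Fin 2) F :=
    { toFun := fun π => (⟨(sixMat π).map j, SymplecticGroup.map_mem (sixMat_mem π) j⟩ : Matrix.symplecticGroup (Fin 2) F)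
      map_one' := Subtype.ext (by
        show (sixMat 1).map j = 1
        rw [sixMat_one, Matrix.map_one j (map_zero j) (map_one j)])
      map_mul' := fun π σ => Subtype.ext (by
        show (sixMat (π * σ)).map j = (sixMat π).map j * (sixMat σ).map j
        rw [sixMat_mul, Matrix.map_mul]) }
  have hinj : Function.Injective f := by
    refine (injective_iff_map_eq_one f).2 fun π h => eq_one_of_sixMat π ?_
    apply Matrix.map_injective j.injective
    have h' : (sixMat π).map j = 1 := congrArg Subtype.val h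
    show (sixMat π).map j = Matrix.map 1 j
    rw [h']
    exact (Matrix.map_one j (map_zero j) (map_one j)).symm
  haveI : Finite (Matrix.symplecticGroup (Fin 2) F) := Finite.of_injective (fun A => A.1) Subtype.val_injective
  refine ⟨(MulEquiv.ofBijective f ((Nat.bijective_iff_injective_and_card f).2 ⟨hinj, ?_⟩)).symm⟩
  rw [card_symplectic, hF, Nat.card_perm, Nat.card_fin]
  rfl

end CfsgLib.Classical
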