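import Cfsg.Agent.Lib.Classical.SympSplit

/-!
# Involutions of `PSp` in odd characteristic
-/

set_option autoImplicit false

namespace CfsgLib.Classical.SpInvolClasses

open Matrix Module CfsgLib.Sp CfsgLib.Classical.SympCount

variable {F : Type*} [Field F] [Fintype F] {m : ℕ}

local notation "Vm" => Fin m ⊕ Fin m → F
local notation "Spm" => Matrix.symplecticGroup (Fin m) F

theorem exists_two_sq (h2 : (2 : F) ≠ 0) (c : F) : ∃ a b : F, a ^ 2 + b ^ 2 = c := by
  open Polynomial in
  obtain ⟨a, b, hab⟩ := FiniteField.exists_root_sum_quadratic (R := F)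
    (f := C 1 * X ^ 2 + C 0 * X + C (-c)) (g := C 1 * X ^ 2 + C 0 * X + C 0)
    (Polynomial.degree_quadratic one_ne_zero) (Polynomial.degree_quadratic one_ne_zero)
    (FiniteField.odd_card_of_char_ne_two (fun h => h2 (by
      haveI := ringChar.of_eq h; exact CharTwo.two_eq_zero)))
  simp only [Polynomial.eval_add, Polynomial.eval_mul, Polynomial.eval_C, Polynomial.eval_pow, Polynomial.eval_X] at hab
  exact ⟨a, b, by linear_combination hab⟩

omit [Fintype F] in
theorem neg_sq_mulVec (X : Spm) (hX : X.1 * X.1 = -1) (v : Vm) : X.1 *ᵥ (X.1 *ᵥ v) = -v := by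
  rw [Matrix.mulVec_mulVec, hX, Matrix.neg_mulVec, Matrix.one_mulVec]

omit [Fintype F] in
theorem sf_neg_left (u v : Vm) : sf (-u) v = -sf u v := by
  rw [← neg_one_smul F u, sf_smul_left, neg_one_mul]

omit [Fintype F] in
theorem sf_neg_right (u v : Vm) : sf u (-v) = -sf u v := by
  rw [← neg_one_smul F v, sf_smul_right, neg_one_mul]

omit [Fintype F] in
theorem sf_sum_left {α : Type*} (s : Finset α) (f : α → Vm) (v : Vm) :
    sf (∑ a ∈ s, f a) v = ∑ a ∈ s, sf (f a) v := map_sum (sfLin v) f s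

omit [Fintype F] in
theorem sf_sub_left (u u' v : Vm) : sf (u - u') v = sf u v - sf u' v := map_sub (sfLin v) u u'

omit [Fintype F] in
/-- Independence of the paired family. -/
theorem li_pairs (X : Spm) (hX : X.1 * X.1 = -1) {k : ℕ} (v : Fin k → Vm) (h0 : ∀ i j, sf (v i) (v j) = 0)
    (h1 : ∀ i j, sf (v i) (X.1 *ᵥ v j) = if i = j then 1 else 0) :
    LinearIndependent F (Sum.elim v fun i => X.1 *ᵥ v i) := by
  rw [Fintype.linearIndependent_iff]
  intro c hc
  have hz : ∀ z : Vm, (∑ i, c (.inl i) * sf (v i) z) + ∑ i, c (.inr i) * sf (X.1 *ᵥ v i) z = 0 := fun z => by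
    have h := congrArg (sfLin z) hc
    rw [map_sum, map_zero, Fintype.sum_sum_type] at h
    simpa using h
  rintro (j | j)
  · have := hz (X.1 *ᵥ v j)
    simpa [h1, sf_sp X, h0] using this
  · have := hz (v j)
    simpa [h0, fun i => sf_swap (X.1 *ᵥ v i) (v j), h1, eq_comm] using this

theorem exists_pairs (h2 : (2 : F) ≠ 0) (X : Spm) (hX : X.1 * X.1 = -1) : ∀ k ≤ m, ∃ v : Fin k → Vm,
    (∀ i j, sf (v i) (v j) = 0) ∧ ∀ i j, sf (v i) (X.1 *ᵥ v j) = if i = j then 1 else 0 := by
  intro k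
  induction k with
  | zero => exact fun _ => ⟨fun i => i.elim0, fun i => i.elim0, fun i => i.elim0⟩
  | succ k ih =>
    intro hk
    obtain ⟨v, h0, h1⟩ := ih (by omega)
    classical
    -- projection to the orthogonal
    let pr : Vm → Vm := fun y => y - ∑ i, (sf y (X.1 *ᵥ v i) • v i + (-sf y (v i)) • (X.1 *ᵥ v i))
    let P : Vm → Prop := fun z => ∀ i, sf z (v i) = 0 ∧ sf z (X.1 *ᵥ v i) = 0
    have hpr : ∀ y, P (pr y) := by
      intro y j
      constructor
      · simp only [pr, sf_sub_left, sf_sum_left, sf_add_left, sf_smul_left, h0, fun i => sf_swap (X.1 *ᵥ v i) (v j), h1]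
        simp [eq_comm]
      · simp only [pr, sf_sub_left, sf_sum_left, sf_add_left, sf_smul_left, h1, sf_sp X, h0]
        simp
    have hz0 : ∀ z, P z → ∀ y, sf z (pr y) = sf z y := by
      intro z hz y
      have e : sf z (∑ i, (sf y (X.1 *ᵥ v i) • v i + (-sf y (v i)) • (X.1 *ᵥ v i))) = 0 := by
        rw [sf_swap, sf_sum_left, Finset.sum_eq_zero, neg_zero]
        intro i _
        rw [sf_add_left, sf_smul_left, sf_smul_left, sf_swap (v i), sf_swap (X.1 *ᵥ v i), (hz i).1, (hz i).2]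
        ring
      rw [show pr y = y + -(∑ i, (sf y (X.1 *ᵥ v i) • v i + (-sf y (v i)) • (X.1 *ᵥ v i))) from sub_eq_add_neg _ _,
        sf_add_right, sf_neg_right, e, neg_zero, add_zero]
    have hPX : ∀ z, P z → P (X.1 *ᵥ z) := fun z hz j => by
      constructor
      · have := sf_sp X (X.1 *ᵥ z) (v j)
        rw [neg_sq_mulVec X hX, sf_neg_left, (hz j).2, neg_zero] at this
        exact this.symm
      · rw [sf_sp X]; exact (hz j).1
    obtain ⟨y, hy⟩ : ∃ y, y ∉ Submodule.span F (Set.range (Sum.elim v fun i => X.1 *ᵥ v i)) := by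
      by_contra hc
      push Not at hc
      have h := finrank_span_eq_card (li_pairs X hX v h0 h1)
      rw [Submodule.eq_top_iff'.2 hc, finrank_top] at h
      simp at h
      omega
    have hz : pr y ≠ 0 := fun h => hy (by
      rw [sub_eq_zero.1 h]
      refine Submodule.sum_mem _ fun i _ => Submodule.add_mem _ (Submodule.smul_mem _ _ ?_) (Submodule.smul_mem _ _ ?_)
      · exact Submodule.subset_span ⟨.inl i, rfl⟩
      · exact Submodule.subset_span ⟨.inr i, rfl⟩)
    obtain ⟨u, hu, hu0⟩ : ∃ u, P u ∧ sf u (X.1 *ᵥ u) ≠ 0 := by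
      by_contra hc
      push Not at hc
      obtain ⟨t, ht⟩ : ∃ t, sf (pr y) t ≠ 0 := by
        by_contra hc'
        push Not at hc'
        exact hz (eq_zero_of_sf hc')
      set a := pr y
      set b := -(X.1 *ᵥ pr t)
      have hb : P b := fun i => by
        simp only [b, sf_neg_left, neg_eq_zero]
        exact hPX _ (hpr t) i
      have hab : P (a + b) := fun i => by
        simp [sf_add_left, (hpr y i).1, (hpr y i).2, (hb i).1, (hb i).2, a]
      have h3 := hc _ hab
      rw [Matrix.mulVec_add, sf_add_left, sf_add_right, sf_add_right, hc _ (hpr y), hc _ hb] at h3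
      have h4 : sf b (X.1 *ᵥ a) = sf a (X.1 *ᵥ b) := by
        rw [← sf_sp X b, neg_sq_mulVec X hX, sf_neg_right, ← sf_swap]
      have h5 : X.1 *ᵥ b = pr t := by
        simp only [b, Matrix.mulVec_neg, neg_sq_mulVec X hX, neg_neg]
      rw [h4, h5, hz0 _ (hpr y)] at h3
      exact ht (mul_left_cancel₀ h2 (by linear_combination h3))
    obtain ⟨p, r, hpr2⟩ := exists_two_sq h2 (sf u (X.1 *ᵥ u))⁻¹
    set w := p • u + r • (X.1 *ᵥ u)
    have hw : P w := fun i => by
      simp [w, sf_add_left, sf_smul_left, (hu i).1, (hu i).2, (hPX u hu i).1, (hPX u hu i).2]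
    have hww : sf w (X.1 *ᵥ w) = 1 := by
      have h := inv_mul_cancel₀ hu0
      simp only [w, Matrix.mulVec_add, Matrix.mulVec_smul, neg_sq_mulVec X hX, sf_add_left, sf_add_right,
        sf_smul_left, sf_smul_right, sf_neg_right, sf_self, sf_swap (X.1 *ᵥ u) u]
      linear_combination h + (sf u (X.1 *ᵥ u)) * hpr2
    refine ⟨Fin.snoc v w, fun i j => ?_, fun i j => ?_⟩
    · induction i using Fin.lastCases with
      | last =>
        induction j using Fin.lastCases with
        | last => simp [sf_self]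
        | cast j => simp [(hw j).1]
      | cast i =>
        induction j using Fin.lastCases with
        | last => simp [sf_swap (v i) w, (hw i).1]
        | cast j => simp [h0]
    · induction i using Fin.lastCases with
      | last =>
        induction j using Fin.lastCases with
        | last => simp [hww]
        | cast j => simp [(hw j).2, (Fin.castSucc_lt_last j).ne']
      | cast i =>
        induction j using Fin.lastCases with
        | last => simp [sf_swap (v i), (hPX w hw i).1, (Fin.castSucc_lt_last i).ne]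
        | cast j => simp [h1, Fin.castSucc_inj]

/-- All elements squaring to `-1` are conjugate. -/
theorem conj_of_sq_neg (h2 : (2 : F) ≠ 0) (X Y : Spm) (hX : X.1 * X.1 = -1) (hY : Y.1 * Y.1 = -1) :
    ∃ A : Spm, A.1 * X.1 = Y.1 * A.1 := by
  classical
  obtain ⟨v, v0, v1⟩ := exists_pairs h2 X hX m le_rfl
  obtain ⟨w, w0, w1⟩ := exists_pairs h2 Y hY m le_rfl
  have hv := li_pairs X hX v v0 v1
  obtain ⟨A, hA⟩ := exists_move_tuple hv (li_pairs Y hY w w0 w1) (by
    rintro (i | i) (j | j)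
    · simp [v0, w0]
    · simp [v1, w1]
    · simp [sf_swap (X.1 *ᵥ v i), sf_swap (Y.1 *ᵥ w i), v1, w1]
    · simp [sf_sp X, sf_sp Y, v0, w0])
  refine ⟨A, Matrix.toLin'.injective ?_⟩
  have hb : Submodule.span F (Set.range (Sum.elim v fun i => X.1 *ᵥ v i)) = ⊤ :=
    Submodule.eq_top_of_finrank_eq (by rw [finrank_span_eq_card hv]; simp)
  refine LinearMap.ext_on_range hb ?_
  rintro (i | i)
  · have a := hA (.inl i)
    have b := hA (.inr i)
    simp only [Sum.elim_inl, Sum.elim_inr] at a b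
    simp only [Matrix.toLin'_apply, Sum.elim_inl, ← Matrix.mulVec_mulVec]
    rw [b, a]
  · have a := hA (.inl i)
    have b := hA (.inr i)
    simp only [Sum.elim_inl, Sum.elim_inr] at a b
    simp only [Matrix.toLin'_apply, Sum.elim_inr, ← Matrix.mulVec_mulVec]
    rw [neg_sq_mulVec X hX, Matrix.mulVec_neg, a, b, neg_sq_mulVec Y hY]

omit [Fintype F] in
/-- The fixed space. -/
def fixSp (X : Spm) : Submodule F (Fin m ⊕ Fin m → F) := LinearMap.ker (X.1 - 1).mulVecLin

omit [Fintype F] in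
theorem mem_fixSp {X : Spm} {v : Vm} : v ∈ fixSp X ↔ X.1 *ᵥ v = v := by
  simp [fixSp, Matrix.sub_mulVec, sub_eq_zero]

omit [Fintype F] in
theorem sq_one_split (h2 : (2 : F) ≠ 0) (X : Spm) (hX : X.1 * X.1 = 1) (v : Vm) :
    (2 : F)⁻¹ • (v + X.1 *ᵥ v) ∈ fixSp X ∧ X.1 *ᵥ ((2 : F)⁻¹ • (v - X.1 *ᵥ v)) = -((2 : F)⁻¹ • (v - X.1 *ᵥ v)) ∧
      v = (2 : F)⁻¹ • (v + X.1 *ᵥ v) + (2 : F)⁻¹ • (v - X.1 *ᵥ v) := by
  have h : X.1 *ᵥ (X.1 *ᵥ v) = v := by rw [Matrix.mulVec_mulVec, hX, Matrix.one_mulVec]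
  refine ⟨?_, ?_, ?_⟩
  · rw [mem_fixSp, Matrix.mulVec_smul, Matrix.mulVec_add, h, add_comm]
  · rw [Matrix.mulVec_smul, Matrix.mulVec_sub, h, ← smul_neg, neg_sub]
  · rw [← smul_add, show v + X.1 *ᵥ v + (v - X.1 *ᵥ v) = (2 : F) • v by rw [two_smul]; abel, inv_smul_smul₀ h2]

omit [Fintype F] in
theorem eigen_orth (h2 : (2 : F) ≠ 0) (X : Spm) {v z : Vm} (hv : X.1 *ᵥ v = v) (hz : X.1 *ᵥ z = -z) :
    sf z v = 0 := by
  have h := sf_sp X z v
  rw [hv, hz, sf_neg_left] at h
  exact mul_left_cancel₀ h2 (by linear_combination -h)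

omit [Fintype F] in
theorem fixSp_nondeg (h2 : (2 : F) ≠ 0) (X : Spm) (hX : X.1 * X.1 = 1) :
    ∀ u ∈ fixSp X, (∀ v ∈ fixSp X, sf u v = 0) → u = 0 := by
  intro u hu h
  refine eq_zero_of_sf fun v => ?_
  obtain ⟨a, b, c⟩ := sq_one_split h2 X hX v
  rw [c, sf_add_right, h _ a, sf_swap, eigen_orth h2 X (mem_fixSp.1 hu) b, neg_zero, add_zero]

omit [Fintype F] in
theorem exists_fix_basis (h2 : (2 : F) ≠ 0) (X : Spm) (hX : X.1 * X.1 = 1) :
    ∃ (k : ℕ) (b : Basis (Fin k ⊕ Fin k) F (fixSp X)),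
      ∀ i j, sf (b i : Vm) (b j : Vm) = Matrix.J (Fin k) F i j := by
  classical
  set W := fixSp X
  let B := (sB m F).compl₁₂ W.subtype W.subtype
  have hA : B.IsAlt := fun w => sf_self _
  have hnd : ∀ u, (∀ v, B u v = 0) → u = 0 := fun u hu =>
    Subtype.ext (fixSp_nondeg h2 X hX u u.2 fun v hv => hu ⟨v, hv⟩)
  obtain ⟨n, r, b, -, -, -, hb4⟩ := Alt.exists_sympBasis (finrank F W) rfl B hA
  have hr : r = 0 := by
    by_contra hr
    exact b.ne_zero (Sum.inr ⟨0, Nat.pos_of_ne_zero hr⟩) (hnd _ (hb4 _))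
  subst hr
  obtain ⟨c, hc⟩ := SympSplit.exists_basis_J B hA hnd (k := n) (by
    rw [Module.finrank_eq_card_basis b]; simp; omega)
  exact ⟨n, c, fun i j => hc i j⟩

/-- Conjugacy from the dimension of the fixed space. -/
theorem conj_of_sq_one (h2 : (2 : F) ≠ 0) (X Y : Spm) (hX : X.1 * X.1 = 1) (hY : Y.1 * Y.1 = 1)
    (hd : finrank F (fixSp X) = finrank F (fixSp Y)) : ∃ A : Spm, A.1 * X.1 = Y.1 * A.1 := by
  classical
  obtain ⟨k, b, hb⟩ := exists_fix_basis h2 X hX
  obtain ⟨l, c, hc⟩ := exists_fix_basis h2 Y hY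
  obtain rfl : k = l := by
    rw [Module.finrank_eq_card_basis b, Module.finrank_eq_card_basis c] at hd
    simp at hd
    omega
  obtain ⟨A, hA⟩ := exists_move_tuple (b.linearIndependent.map' (fixSp X).subtype (Submodule.ker_subtype _))
    (c.linearIndependent.map' (fixSp Y).subtype (Submodule.ker_subtype _)) (fun i j => (hb i j).trans (hc i j).symm)
  simp only [Function.comp_apply, Submodule.subtype_apply] at hA
  refine ⟨A, Matrix.ext_iff_mulVec.2 fun v => ?_⟩
  obtain ⟨ha, hz, he⟩ := sq_one_split h2 X hX v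
  set a := (2 : F)⁻¹ • (v + X.1 *ᵥ v)
  set z := (2 : F)⁻¹ • (v - X.1 *ᵥ v)
  have hmem : ∀ x : fixSp X, A.1 *ᵥ (x : Vm) ∈ fixSp Y := fun x => by
    rw [← b.sum_repr x]
    simp only [Submodule.coe_sum, Submodule.coe_smul, Matrix.mulVec_sum, Matrix.mulVec_smul, hA]
    exact Submodule.sum_mem _ fun i _ => Submodule.smul_mem _ _ (c i).2
  have haY := mem_fixSp.1 (hmem ⟨a, ha⟩)
  have hzY : Y.1 *ᵥ (A.1 *ᵥ z) = -(A.1 *ᵥ z) := by
    -- orthogonal to the fixed space of `Y`
    obtain ⟨p, q, r⟩ := sq_one_split h2 Y hY (A.1 *ᵥ z)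
    set s := (2 : F)⁻¹ • (A.1 *ᵥ z + Y.1 *ᵥ (A.1 *ᵥ z))
    have hs : s = 0 := by
      refine fixSp_nondeg h2 Y hY s p fun t ht => ?_
      have h1 : sf (A.1 *ᵥ z) t = 0 := by
        obtain ⟨u, hu, rfl⟩ : ∃ u ∈ fixSp X, A.1 *ᵥ u = t := by
          refine ⟨∑ i, c.repr ⟨t, ht⟩ i • (b i : Vm),
            Submodule.sum_mem _ fun i _ => Submodule.smul_mem _ _ (b i).2, ?_⟩
          rw [Matrix.mulVec_sum]
          simp only [Matrix.mulVec_smul, hA]
          have := congrArg (fixSp Y).subtype (c.sum_repr ⟨t, ht⟩)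
          simp only [map_sum, map_smul, Submodule.subtype_apply] at this
          exact this
        rw [sf_sp]
        exact eigen_orth h2 X (mem_fixSp.1 hu) hz
      rw [r, sf_add_left, eigen_orth h2 Y (mem_fixSp.1 ht) q, add_zero] at h1
      exact h1
    rw [r, hs, zero_add, q]
  rw [← Matrix.mulVec_mulVec, ← Matrix.mulVec_mulVec, he, Matrix.mulVec_add, Matrix.mulVec_add, Matrix.mulVec_add,
    mem_fixSp.1 ha, hz, Matrix.mulVec_neg, Matrix.mulVec_add, haY, hzY]

/-- The number of involution classes of `PSp` is at most `m / 2 + 1`. -/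
theorem exists_invariant (h2 : (2 : F) ≠ 0) (hm : 1 ≤ m) :
    ∃ f : Cfsg.PSp m F → Fin (m / 2 + 1), ∀ x y, orderOf x = 2 → orderOf y = 2 → f x = f y → IsConj x y := by
  classical
  let inv : Cfsg.PSp m F → ℕ := fun x =>
    if x.out.1 * x.out.1 = 1 then min (finrank F (fixSp x.out) / 2) (m - finrank F (fixSp x.out) / 2) else 0
  have hlt : ∀ x, inv x < m / 2 + 1 := fun x => by
    simp only [inv]
    split_ifs <;> omega
  refine ⟨fun x => ⟨inv x, hlt x⟩, fun x y hx hy hxy => ?_⟩
  have hxy' : inv x = inv y := congrArg Fin.val hxy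
  -- negation
  have hneg : ((-1 : Matrix (Fin m ⊕ Fin m) (Fin m ⊕ Fin m) F)) ∈ Matrix.symplecticGroup (Fin m) F :=
    mem_sp_iff.2 fun u v => by simp [Matrix.neg_mulVec, sf_neg_left, sf_neg_right]
  let Z : Spm := ⟨-1, hneg⟩
  have hZ : Z ∈ Subgroup.center Spm := Subgroup.mem_center_iff.2 fun g => Subtype.ext (by simp [Z])
  have hlift : ∀ w : Cfsg.PSp m F, orderOf w = 2 →
      (w.out.1 * w.out.1 = -1) ∨ (w.out.1 * w.out.1 = 1 ∧ ∃ k, 1 ≤ k ∧ k < m ∧ finrank F (fixSp w.out) = 2 * k ∧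
        finrank F (fixSp (Z * w.out)) = 2 * (m - k)) := by
    intro w hw
    have h1 : pr (w.out * w.out) = pr (1 : Spm) := by
      rw [map_mul, map_one, QuotientGroup.mk'_apply, QuotientGroup.out_eq', ← sq, ← hw, pow_orderOf_eq_one]
    rcases (pr_eq_iff hm).1 h1.symm with h | h
    · refine Or.inr ⟨h, ?_⟩
      obtain ⟨k, b, hb⟩ := exists_fix_basis h2 w.out h
      have hk : finrank F (fixSp w.out) = 2 * k := by rw [Module.finrank_eq_card_basis b]; simp; omega
      have hw1 : w ≠ 1 := fun h0 => by rw [h0, orderOf_one] at hw; omega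
      have hsum : finrank F (fixSp w.out) + finrank F (fixSp (Z * w.out)) = 2 * m := by
        have hc : IsCompl (fixSp w.out) (fixSp (Z * w.out)) := by
          have hZw : ∀ v, v ∈ fixSp (Z * w.out) ↔ w.out.1 *ᵥ v = -v := fun v => by
            rw [mem_fixSp, sp_mul_mulVec]
            simp [Z, Matrix.neg_mulVec, neg_eq_iff_eq_neg]
          refine ⟨Submodule.disjoint_def.2 fun v hv hv' => ?_, codisjoint_iff.2 (Submodule.eq_top_iff'.2 fun v => ?_)⟩
          · have := (hZw v).1 hv'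
            rw [mem_fixSp.1 hv] at this
            rcases smul_eq_zero.1 (show (2 : F) • v = 0 by rw [two_smul]; exact eq_neg_iff_add_eq_zero.1 this) with h' | h'
            · exact absurd h' h2
            · exact h'
          · obtain ⟨a, b', c⟩ := sq_one_split h2 w.out h v
            rw [c]
            exact Submodule.add_mem_sup a ((hZw _).2 b')
        rw [Submodule.finrank_add_eq_of_isCompl hc]
        simp; omega
      refine ⟨k, ?_, ?_, hk, by omega⟩
      · by_contra h0
        have hbot : fixSp w.out = ⊥ := Submodule.finrank_eq_zero.1 (by omega)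
        refine hw1 ?_
        rw [← QuotientGroup.out_eq' w, QuotientGroup.eq_one_iff]
        have : w.out = Z := Subtype.ext (Matrix.ext_iff_mulVec.2 fun v => by
          obtain ⟨a, b', c⟩ := sq_one_split h2 w.out h v
          rw [hbot, Submodule.mem_bot] at a
          rw [a, zero_add] at c
          rw [← c] at b'
          simp [Z, Matrix.neg_mulVec, b'])
        rwa [this]
      · by_contra h0
        have htop : fixSp w.out = ⊤ := Submodule.eq_top_of_finrank_eq (by
          have := Submodule.finrank_le (fixSp w.out)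
          simp at this ⊢
          omega)
        refine hw1 ?_
        rw [← QuotientGroup.out_eq' w, QuotientGroup.eq_one_iff]
        have : w.out = 1 := Subtype.ext (Matrix.ext_iff_mulVec.2 fun v => by
          have hv : v ∈ fixSp w.out := htop ▸ trivial
          rw [sp_one_mulVec]
          exact mem_fixSp.1 hv)
        rw [this]
        exact one_mem _
    · exact Or.inl h
  have hmk : ∀ a b : Spm, (∃ A : Spm, A.1 * a.1 = b.1 * A.1) → IsConj (pr a) (pr b) := fun a b ⟨A, hA⟩ =>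
    isConj_iff.2 ⟨pr A, by
      rw [← map_mul, ← map_inv, ← map_mul]
      congr 1
      rw [mul_inv_eq_iff_eq_mul]
      exact Subtype.ext hA⟩
  have hox : pr x.out = x := QuotientGroup.out_eq' x
  have hoy : pr y.out = y := QuotientGroup.out_eq' y
  have hne : (1 : Matrix (Fin m ⊕ Fin m) (Fin m ⊕ Fin m) F) ≠ -1 := fun h => h2 (by
    have := congrFun (congrFun h (.inl ⟨0, hm⟩)) (.inl ⟨0, hm⟩)
    simp at this
    linear_combination this)
  rw [← hox, ← hoy]
  rcases hlift x hx with hX | ⟨hX, k, hk1, hkm, hkx, hkx'⟩ <;> rcases hlift y hy with hY | ⟨hY, l, hl1, hlm, hly, hly'⟩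
  · exact hmk _ _ (conj_of_sq_neg h2 _ _ hX hY)
  · simp [inv, hX, hY, hne.symm, hly] at hxy'
    omega
  · simp [inv, hX, hY, hne.symm, hkx] at hxy'
    omega
  · simp [inv, hX, hY, hkx, hly] at hxy'
    rcases (show k = l ∨ k = m - l by omega) with hkl | hkl
    · exact hmk _ _ (conj_of_sq_one h2 _ _ hX hY (by rw [hkx, hly, hkl]))
    · have hY' : (Z * y.out).1 * (Z * y.out).1 = 1 := by
        simpa [Z] using hY
      have h := hmk _ _ (conj_of_sq_one h2 _ _ hX hY' (by rw [hkx, hly', hkl]))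
      rwa [map_mul, show pr Z = 1 from (QuotientGroup.eq_one_iff Z).2 hZ, one_mul] at h

end CfsgLib.Classical.SpInvolClasses
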