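import Mathlib
import Cfsg.Agent.Lib.Lie.PSL2Two

/-!
# The least faithful degree of `Sp(2n,q)` over its field
-/

set_option autoImplicit false

namespace CfsgLib.Classical.SpMinDegree

variable {F : Type*} [Field F]

/-- A nonzero copy of `M₂` given by its two off-diagonal units. -/
structure IsPair {A : Type*} [Ring A] (x y : A) : Prop where
  sqx : x * x = 0
  sqy : y * y = 0
  xyx : x * y * x = x
  yxy : y * x * y = y
  ne : x ≠ 0

section Dim

variable {V : Type*} [AddCommGroup V] [Module F V] [FiniteDimensional F V]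
  {ι : Type*} (x y : ι → Module.End F V)

theorem dim_ge (hp : ∀ i, IsPair (x i) (y i))
    (hc : ∀ i j, i ≠ j → Commute (x i) (x j) ∧ Commute (x i) (y j) ∧ Commute (y i) (y j))
    (s : Finset ι) (U : Submodule F V) (hU : ∀ i ∈ s, ∀ u ∈ U, x i u ∈ U ∧ y i u ∈ U)
    (hne : ∀ i ∈ s, ∃ u ∈ U, x i u ≠ 0) : 2 * s.card ≤ Module.finrank F U := by
  classical
  induction s using Finset.strongInduction generalizing U with
  | _ s ih =>
  rcases s.eq_empty_or_nonempty with rfl | ⟨a, ha⟩
  · simp
  set e := x a * y a with he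
  set f := y a * x a with hf
  let U0 : Submodule F V := U ⊓ LinearMap.ker e ⊓ LinearMap.ker f
  let W : Submodule F V := U.map e
  have hee : ∀ v, e (e v) = e v := fun v => by
    change (e * e) v = e v
    rw [he, ← mul_assoc, (hp a).xyx]
  have hff : ∀ v, f (f v) = f v := fun v => by
    change (f * f) v = f v
    rw [hf, ← mul_assoc, (hp a).yxy]
  have hef : ∀ v, e (f v) = 0 := fun v => by
    change (e * f) v = 0
    rw [he, hf, mul_assoc, ← mul_assoc (y a), (hp a).sqy, zero_mul, mul_zero]; rfl
  have hfe : ∀ v, f (e v) = 0 := fun v => by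
    change (f * e) v = 0
    rw [he, hf, mul_assoc, ← mul_assoc (x a), (hp a).sqx, zero_mul, mul_zero]; rfl
  have hex : ∀ v, e (x a v) = x a v := fun v => by
    change (e * x a) v = x a v
    rw [he, (hp a).xyx]
  have hW : ∀ w ∈ W, e w = w := by
    rintro _ ⟨u, -, rfl⟩; exact hee u
  have hWU : ∀ w ∈ W, w ∈ U := by
    rintro _ ⟨u, hu, rfl⟩; exact (hU a ha _ (hU a ha u hu).2).1
  -- `dim U ≥ dim U0 + 2 dim W`
  let g : (U0 × W) × W →ₗ[F] U := LinearMap.codRestrict U
    (((U0.subtype.coprod W.subtype)).coprod ((y a).comp W.subtype))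
    fun p => by
      simp only [LinearMap.coprod_apply, Submodule.coe_subtype, LinearMap.comp_apply]
      exact U.add_mem (U.add_mem p.1.1.2.1.1 (hWU _ p.1.2.2)) (hU a ha _ (hWU _ p.2.2)).2
  have hg : Function.Injective g := by
    rw [← LinearMap.ker_eq_bot, LinearMap.ker_eq_bot']
    rintro ⟨⟨u, v⟩, w⟩ h
    have h0 : (u : V) + v + y a w = 0 := congrArg Subtype.val h
    have hu1 : e u = 0 := u.2.1.2
    have hu2 : f u = 0 := u.2.2
    have hey : e (y a w) = 0 := by
      change (e * y a) (w : V) = 0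
      rw [he, mul_assoc, (hp a).sqy, mul_zero]; rfl
    have hv : (v : V) = 0 := by
      have := congrArg e h0
      rwa [map_add, map_add, hu1, hW _ v.2, hey, map_zero, zero_add, add_zero] at this
    have hfy : f (y a w) = y a w := by
      change (f * y a) (w : V) = y a (w : V)
      rw [hf, (hp a).yxy]
    have hyw : y a (w : V) = 0 := by
      have := congrArg f h0
      rwa [hv, add_zero, map_add, hu2, hfy, map_zero, zero_add] at this
    have hw : (w : V) = 0 := by
      rw [← hW _ w.2]
      change x a (y a w) = 0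
      rw [hyw, map_zero]
    have hu : (u : V) = 0 := by rwa [hv, hyw, add_zero, add_zero] at h0
    ext <;> simp [hu, hv, hw]
  have hdim : Module.finrank F U0 + 2 * Module.finrank F W ≤ Module.finrank F U := by
    have := LinearMap.finrank_le_finrank_of_injective hg
    rw [Module.finrank_prod, Module.finrank_prod] at this
    omega
  have hcomm : ∀ i, i ≠ a → ∀ v, (x i (e v) = e (x i v) ∧ y i (e v) = e (y i v)) ∧
      (x i (f v) = f (x i v) ∧ y i (f v) = f (y i v)) := fun i hi v => by
    obtain ⟨h1, h2, h3⟩ := hc i a hi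
    obtain ⟨-, h4, -⟩ := hc a i (Ne.symm hi)
    exact ⟨⟨LinearMap.congr_fun (h1.mul_right h2).eq v, LinearMap.congr_fun (h4.symm.mul_right h3).eq v⟩,
      ⟨LinearMap.congr_fun (h2.mul_right h1).eq v, LinearMap.congr_fun (h3.mul_right h4.symm).eq v⟩⟩
  have hU0inv : ∀ i ∈ s.erase a, ∀ u ∈ U0, x i u ∈ U0 ∧ y i u ∈ U0 := by
    intro i hi u hu
    obtain ⟨hne', his⟩ := Finset.mem_erase.1 hi
    obtain ⟨⟨a1, a2⟩, a3, a4⟩ := hcomm i hne' u
    have hu1 : e u = 0 := hu.1.2
    have hu2 : f u = 0 := hu.2
    refine ⟨⟨⟨(hU i his u hu.1.1).1, ?_⟩, ?_⟩, ⟨(hU i his u hu.1.1).2, ?_⟩, ?_⟩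
    · change e (x i u) = 0; rw [← a1, hu1, map_zero]
    · change f (x i u) = 0; rw [← a3, hu2, map_zero]
    · change e (y i u) = 0; rw [← a2, hu1, map_zero]
    · change f (y i u) = 0; rw [← a4, hu2, map_zero]
  have hWinv : ∀ i ∈ s.erase a, ∀ u ∈ W, x i u ∈ W ∧ y i u ∈ W := by
    rintro i hi _ ⟨u, hu, rfl⟩
    obtain ⟨hne', his⟩ := Finset.mem_erase.1 hi
    exact ⟨⟨x i u, (hU i his u hu).1, (hcomm i hne' u).1.1.symm⟩,
      ⟨y i u, (hU i his u hu).2, (hcomm i hne' u).1.2.symm⟩⟩
  set s0 := (s.erase a).filter fun i => ∃ u ∈ U0, x i u ≠ 0 with hs0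
  set s1 := (s.erase a).filter fun i => ∃ u ∈ W, x i u ≠ 0 with hs1
  have hcov : s.erase a ⊆ s0 ∪ s1 := by
    intro i hi
    by_contra hcon
    simp only [hs0, hs1, Finset.mem_union, Finset.mem_filter, not_or, not_and, not_exists, not_not] at hcon
    obtain ⟨hne', his⟩ := Finset.mem_erase.1 hi
    obtain ⟨u, hu, hxu⟩ := hne i his
    have h0 := hcon.1 hi
    have h1 := hcon.2 hi
    have hd : u = (u - e u - f u) + e u + f u := by abel
    have hm : u - e u - f u ∈ U0 := by
      have heU : e u ∈ U := hWU _ (Submodule.mem_map_of_mem hu)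
      have hfU : f u ∈ U := (hU a ha _ (hU a ha u hu).1).2
      refine ⟨⟨U.sub_mem (U.sub_mem hu heU) hfU, ?_⟩, ?_⟩
      · change e _ = 0; simp [map_sub, hee, hef]
      · change f _ = 0; simp [map_sub, hff, hfe]
    have hfu : x i (f u) = 0 := by
      have hxW : x a u ∈ W := ⟨x a u, (hU a ha u hu).1, hex u⟩
      change x i (y a (x a u)) = 0
      rw [show x i (y a (x a u)) = y a (x i (x a u)) from LinearMap.congr_fun (hc i a hne').2.1.eq _,
        h1 _ hxW, map_zero]
    refine hxu ?_
    rw [hd, map_add, map_add, h0 _ hm, h1 _ (Submodule.mem_map_of_mem hu), hfu]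
    simp
  have hlt : ∀ t, t ⊆ s.erase a → t ⊂ s := fun t ht => lt_of_le_of_lt ht (Finset.erase_ssubset ha)
  have h0 := ih s0 (hlt _ (Finset.filter_subset _ _)) U0
    (fun i hi => hU0inv i (Finset.mem_filter.1 hi).1) fun i hi => (Finset.mem_filter.1 hi).2
  have h1 := ih s1 (hlt _ (Finset.filter_subset _ _)) W
    (fun i hi => hWinv i (Finset.mem_filter.1 hi).1) fun i hi => (Finset.mem_filter.1 hi).2
  have hWpos : 0 < Module.finrank F W := by
    obtain ⟨u, hu, hxu⟩ := hne a ha
    rw [Module.finrank_pos_iff_exists_ne_zero]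
    exact ⟨⟨x a u, x a u, (hU a ha u hu).1, hex u⟩, fun h => hxu (congrArg Subtype.val h)⟩
  have hcard := (Finset.card_le_card hcov).trans (Finset.card_union_le _ _)
  rw [Finset.card_erase_of_mem ha] at hcard
  omega

end Dim

/-! ### matrix units from `SL(2,q)` -/

theorem isPair_of_quaternion {A : Type*} [Ring A] [Algebra F A] (h2 : (2 : F) ≠ 0) {Z I J : A} {α β : F}
    (hab : α ^ 2 + β ^ 2 = -1) (hZ : Z * Z = 1) (hZ1 : Z ≠ 1) (hII : I * I = Z) (hJJ : J * J = Z)
    (hJI : J * I = Z * (I * J)) :
    IsPair (A := A)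
      (((2⁻¹ : F) • ((2⁻¹ : F) • (1 - Z) + (2⁻¹ : F) • (1 - Z) * (α • I + β • J))) *
        ((2⁻¹ : F) • (1 - Z) * (I * J)))
      (-(((2⁻¹ : F) • (1 - Z) * (I * J)) *
        ((2⁻¹ : F) • ((2⁻¹ : F) • (1 - Z) + (2⁻¹ : F) • (1 - Z) * (α • I + β • J))))) := by
  set P := (2⁻¹ : F) • (1 - Z) with hP
  set k := P * (I * J) with hk
  set u := P * (α • I + β • J) with hu
  have hZI : Commute Z I := by rw [← hII]; exact (Commute.refl I).mul_left (Commute.refl I)
  have hZJ : Commute Z J := by rw [← hJJ]; exact (Commute.refl J).mul_left (Commute.refl J)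
  have hPI : Commute P I := ((Commute.one_left I).sub_left hZI).smul_left _
  have hPJ : Commute P J := ((Commute.one_left J).sub_left hZJ).smul_left _
  have hPZ : P * Z = -P := by rw [hP, smul_mul_assoc, sub_mul, one_mul, hZ, ← smul_neg, neg_sub]
  have hPP : P * P = P := by
    rw [hP, smul_mul_assoc, mul_smul_comm, smul_smul, sub_mul, one_mul, mul_sub, mul_one, hZ]
    match_scalars <;> field_simp <;> norm_num
  have hPIJ : ∀ a b : A, Commute P a → P * a * (P * b) = P * (a * b) := fun a b ha => by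
    rw [mul_assoc, ← mul_assoc a, ← ha.eq, mul_assoc P a, ← mul_assoc P P, hPP]
  have hJI' : P * (J * I) = -(P * (I * J)) := by rw [hJI, ← mul_assoc, hPZ, neg_mul]
  have hII' : P * (I * I) = -P := by rw [hII, hPZ]
  have hJJ' : P * (J * J) = -P := by rw [hJJ, hPZ]
  have hkk : k * k = -P := by
    rw [hk, hPIJ _ _ (hPI.mul_right hPJ), show I * J * (I * J) = I * (J * I) * J by simp only [mul_assoc],
      ← mul_assoc, ← mul_assoc, hPI.eq, mul_assoc I P, hJI', mul_neg, neg_mul, ← mul_assoc I P, ← hPI.eq]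
    rw [show P * I * (I * J) * J = P * (I * I) * (J * J) by simp only [mul_assoc], hII', neg_mul, hJJ', neg_neg]
  have huk : u * k = -(k * u) := by
    have ha : Commute P (α • I + β • J) := (hPI.smul_right _).add_right (hPJ.smul_right _)
    rw [hu, hk, hPIJ _ _ ha, hPIJ _ _ (hPI.mul_right hPJ)]
    simp only [add_mul, mul_add, smul_mul_assoc, mul_smul_comm]
    have e1 : P * (I * (I * J)) = -(P * J) := by rw [← mul_assoc I, ← mul_assoc, hII', neg_mul]
    have e2 : P * (I * J * I) = P * J := by
      rw [mul_assoc I, ← mul_assoc, hPI.eq, mul_assoc I P, hJI', mul_neg, ← mul_assoc I P, ← hPI.eq,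
        mul_assoc, e1, neg_neg]
    have e3 : P * (J * (I * J)) = P * I := by
      rw [← mul_assoc J, ← mul_assoc, hJI', neg_mul, mul_assoc, mul_assoc, ← mul_assoc P, hPI.eq,
        mul_assoc, hJJ', mul_neg, neg_neg]
    have e4 : P * (I * J * J) = -(P * I) := by
      rw [mul_assoc I, ← mul_assoc, hPI.eq, mul_assoc, hJJ', mul_neg]
    rw [e1, e2, e3, e4]
    module
  clear_value P
  have huu : u * u = P := by
    rw [hu, hPIJ _ _ ((hPI.smul_right _).add_right (hPJ.smul_right _))]
    simp only [add_mul, mul_add, smul_mul_assoc, mul_smul_comm, hII', hJJ', hJI']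
    match_scalars
    · linear_combination -hab
    · ring
  have hPu : P * u = u := by rw [hu, ← mul_assoc, hPP]
  have hPk : P * k = k := by rw [hk, ← mul_assoc, hPP]
  have huP : u * P = u := by
    rw [hu, mul_assoc, ← ((hPI.smul_right _).add_right (hPJ.smul_right _)).eq, ← mul_assoc, hPP]
  have hkP : k * P = k := by rw [hk, mul_assoc, ← (hPI.mul_right hPJ).eq, ← mul_assoc, hPP]
  set e := (2⁻¹ : F) • (P + u) with he
  set f := (2⁻¹ : F) • (P - u) with hf
  have hek : e * k = k * f := by
    rw [he, hf, smul_mul_assoc, mul_smul_comm, add_mul, mul_sub, hPk, hkP, huk, sub_eq_add_neg]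
  have hee : e * e = e := by
    rw [he, smul_mul_assoc, mul_smul_comm, add_mul, mul_add, mul_add, hPP, hPu, huP, huu]
    match_scalars <;> field_simp <;> norm_num
  have hef : e * f = 0 := by
    rw [he, hf, smul_mul_assoc, mul_smul_comm, add_mul, mul_sub, mul_sub, hPP, hPu, huP, huu]
    match_scalars <;> ring
  have hff : f * f = f := by
    rw [hf, smul_mul_assoc, mul_smul_comm, sub_mul, mul_sub, mul_sub, hPP, hPu, huP, huu]
    match_scalars <;> field_simp <;> norm_num
  have hfe : f * e = 0 := by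
    rw [he, hf, smul_mul_assoc, mul_smul_comm, sub_mul, mul_add, mul_add, hPP, hPu, huP, huu]
    match_scalars <;> ring
  have hPe : P * e = e := by rw [he, mul_smul_comm, mul_add, hPP, hPu]
  have hPf : P * f = f := by rw [hf, mul_smul_comm, mul_sub, hPP, hPu]
  have heP : e * P = e := by rw [he, smul_mul_assoc, add_mul, hPP, huP]
  have hxy : e * k * (-(k * e)) = e := by
    rw [mul_neg, mul_assoc, ← mul_assoc k k, hkk, neg_mul, mul_neg, neg_neg, hPe, hee]
  have hyx : -(k * e) * (e * k) = f := by
    rw [neg_mul, mul_assoc, ← mul_assoc e e, hee, hek, ← mul_assoc, hkk, neg_mul, neg_neg, hPf]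
  refine ⟨?_, ?_, ?_, ?_, ?_⟩
  · rw [mul_assoc, ← mul_assoc k e, ← mul_assoc e (k * e), ← mul_assoc e k e, hek, mul_assoc k f e, hfe,
      mul_zero, zero_mul]
  · rw [neg_mul_neg, mul_assoc, ← mul_assoc e k e, hek, mul_assoc k f e, hfe, mul_zero, mul_zero]
  · rw [hxy, ← mul_assoc, hee]
  · rw [mul_assoc, hxy, neg_mul, mul_assoc, hee]
  · intro h
    have he0 : e = 0 := by rw [← hxy, h, zero_mul]
    have hf0 : f = 0 := by rw [← hyx, h, mul_zero]
    have hP0 : P = 0 := by
      have hs : P = e + f := by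
        rw [he, hf]
        match_scalars <;> field_simp <;> norm_num
      rw [hs, he0, hf0, add_zero]
    rw [hP, smul_eq_zero] at hP0
    exact hZ1 (sub_eq_zero.1 (hP0.resolve_left (inv_ne_zero h2))).symm

theorem isPair_of_sym_three {A : Type*} [Ring A] (h2 : (2 : A) = 0) {C T : A} (hC : C * C * C = 1)
    (hC1 : C ≠ 1) (hT : T * T = 1) (hTC : T * C = C * C * T) :
    IsPair ((C + C * C) * (1 + T * C)) ((C + C * C) * (1 + C * T)) := by
  have haa : ∀ a : A, a + a = 0 := fun a => by rw [← two_mul, h2, zero_mul]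
  set P := C + C * C with hP
  have hCT : C * T = T * (C * C) := by
    rw [← mul_assoc T, hTC, mul_assoc (C * C) T, hTC, ← mul_assoc, ← mul_assoc (C * C) C C, hC, one_mul]
  have hPC : Commute P C := (Commute.refl C).add_left ((Commute.refl C).mul_left (Commute.refl C))
  have hPT : Commute P T := by
    change (C + C * C) * T = T * (C + C * C)
    rw [add_mul, mul_add, hTC, hCT, add_comm]
  have hPP : P * P = P := by
    rw [hP, add_mul, mul_add, mul_add, show C * C * (C * C) = C * C * C * C by simp only [mul_assoc],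
      show C * (C * C) = C * C * C by simp only [mul_assoc], hC, one_mul]
    linear_combination (norm := abel) haa (1 : A)
  obtain ⟨u, hu⟩ : ∃ u, T * C = u := ⟨_, rfl⟩
  obtain ⟨v, hv⟩ : ∃ v, C * T = v := ⟨_, rfl⟩
  have huu : u * u = 1 := by
    rw [← hu]
    nth_rewrite 1 [hTC]
    rw [mul_assoc (C * C), ← mul_assoc T T, hT, one_mul, hC]
  have hvv : v * v = 1 := by
    rw [← hv, mul_assoc C T, ← mul_assoc T C, hTC, mul_assoc (C * C), hT, mul_one, ← mul_assoc, hC]
  have huv : u * v = C := by
    rw [← hu, ← hv, show T * C * (C * T) = T * (C * C) * T by simp only [mul_assoc], ← hCT, mul_assoc, hT, mul_one]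
  have hvu : v * u = C * C := by
    rw [← hu, ← hv, mul_assoc, ← mul_assoc T T, hT, one_mul]
  have hPu : Commute P (1 + u) := (Commute.one_right P).add_right (hu ▸ hPT.mul_right hPC)
  have hPv : Commute P (1 + v) := (Commute.one_right P).add_right (hv ▸ hPC.mul_right hPT)
  have hsq : ∀ w : A, w * w = 1 → (1 + w) * (1 + w) = 0 := fun w hw => by
    rw [add_mul, mul_add, one_mul, mul_add, mul_one, hw, one_mul]
    linear_combination (norm := abel) haa (1 : A) + haa w
  have h3 : ∀ a b c : A, Commute P a → Commute P b → P * a * (P * b) * (P * c) = P * (a * b * c) :=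
    fun a b c ha hb => by
      rw [mul_assoc P a, ← mul_assoc a P, ← ha.eq, mul_assoc P a b, ← mul_assoc P P, hPP,
        mul_assoc P (a * b), ← mul_assoc (a * b) P, ← (ha.mul_right hb).eq, mul_assoc P (a * b) c,
        ← mul_assoc P P, hPP]
  have key : ∀ a b : A, a * a = 1 → (a * b = C ∧ b * a = C * C ∨ a * b = C * C ∧ b * a = C) →
      P * ((1 + a) * (1 + b) * (1 + a)) = P * (1 + a) := by
    intro a b ha hab
    have hexp : (1 + a) * (1 + b) * (1 + a) = a * b + b * a + a * b * a + b := by
      simp only [add_mul, mul_add, one_mul, mul_one, ha]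
      linear_combination (norm := abel) haa a + haa (1 : A)
    have hb : b * a * a = b := by rw [mul_assoc, ha, mul_one]
    have hs : a * b + b * a = P := by
      rcases hab with ⟨h1, h2'⟩ | ⟨h1, h2'⟩
      · rw [h1, h2', hP]
      · rw [h1, h2', hP, add_comm]
    have hsplit : a * b + b * a + a * b * a + b = (a * b + b * a) * (1 + a) := by
      rw [mul_add, mul_one, add_mul (a * b), hb]
      abel
    rw [hexp, hsplit, hs, ← mul_assoc, hPP]
  rw [hu, hv]
  refine ⟨?_, ?_, ?_, ?_, ?_⟩
  · rw [mul_assoc, ← mul_assoc (1 + u) P, ← hPu.eq, mul_assoc P (1 + u), hsq u huu, mul_zero, mul_zero]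
  · rw [mul_assoc, ← mul_assoc (1 + v) P, ← hPv.eq, mul_assoc P (1 + v), hsq v hvv, mul_zero, mul_zero]
  · rw [h3 _ _ _ hPu hPv, key u v huu (Or.inl ⟨huv, hvu⟩)]
  · rw [h3 _ _ _ hPv hPu, key v u hvv (Or.inr ⟨hvu, huv⟩)]
  · intro h
    have e1 : P * u = P := by
      rw [mul_add, mul_one] at h
      linear_combination (norm := abel) h - haa P
    have e2 : P * v = P := by
      have hy : P * (1 + v) = 0 := by
        have := key v u hvv (Or.inr ⟨hvu, huv⟩)
        rw [← this, ← h3 _ _ _ hPv hPu, h, mul_zero, zero_mul]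
      rw [mul_add, mul_one] at hy
      linear_combination (norm := abel) hy - haa P
    have e3 : P * C = P := by rw [← huv, ← mul_assoc, e1, e2]
    refine hC1 ?_
    rw [hP, add_mul, hC] at e3
    linear_combination (norm := abel) (-1 : ℤ) • e3

/-! ### the commuting copies of `SL(2,q)` -/

section Embed

open Matrix

variable {l : Type*} [Fintype l] [DecidableEq l]

/-- The block matrix of the `j`-th copy. -/
def emb (j : l) (M : Matrix (Fin 2) (Fin 2) F) : Matrix (l ⊕ l) (l ⊕ l) F :=
  fromBlocks (diagonal (Function.update 1 j (M 0 0))) (diagonal (Pi.single j (M 0 1)))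
    (diagonal (Pi.single j (M 1 0))) (diagonal (Function.update 1 j (M 1 1)))

theorem emb_mul (j : l) (M N : Matrix (Fin 2) (Fin 2) F) : emb j (M * N) = emb j M * emb j N := by
  simp only [emb, fromBlocks_multiply, diagonal_mul_diagonal, diagonal_add]
  congr 2 <;> ext i <;> rcases eq_or_ne i j with rfl | h <;>
    simp [*, Matrix.mul_apply, Fin.sum_univ_two]

theorem emb_one (j : l) : emb j (1 : Matrix (Fin 2) (Fin 2) F) = 1 := by
  simp only [emb]
  conv_rhs => rw [← fromBlocks_one]
  congr 1 <;> (ext i k; rcases eq_or_ne i k with rfl | h <;> rcases eq_or_ne i j with rfl | h' <;> simp [*])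

theorem emb_comm {i j : l} (hij : i ≠ j) (M N : Matrix (Fin 2) (Fin 2) F) :
    emb i M * emb j N = emb j N * emb i M := by
  simp only [emb, fromBlocks_multiply, diagonal_mul_diagonal, diagonal_add]
  congr 2 <;> ext k <;> rcases eq_or_ne k i with rfl | h <;> rcases eq_or_ne k j with rfl | h' <;>
    simp_all [eq_comm]

theorem emb_mem (j : l) (M : Matrix.SpecialLinearGroup (Fin 2) F) :
    emb j M.1 ∈ Matrix.symplecticGroup l F := by
  have hd := M.det_coe
  rw [Matrix.det_fin_two] at hd
  rw [SymplecticGroup.mem_iff, Matrix.J, emb, fromBlocks_transpose, fromBlocks_multiply]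
  simp only [diagonal_transpose, Matrix.mul_zero, Matrix.zero_mul, add_zero, zero_add, Matrix.mul_one,
    Matrix.mul_neg, Matrix.neg_mul]
  rw [fromBlocks_multiply]
  simp only [diagonal_transpose, Matrix.neg_mul, diagonal_mul_diagonal, diagonal_neg, diagonal_add]
  rw [← diagonal_zero, ← diagonal_one, diagonal_neg]
  congr 2 <;> ext k <;> rcases eq_or_ne k j with rfl | h <;> simp [*]
  · ring
  · linear_combination -hd
  · linear_combination hd
  · ring

/-- The `j`-th copy of `SL(2,q)` inside `Sp(2n,q)`. -/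
def embHom (j : l) : Matrix.SpecialLinearGroup (Fin 2) F →* ↥(Matrix.symplecticGroup l F) where
  toFun M := ⟨emb j M.1, emb_mem j M⟩
  map_one' := Subtype.ext (emb_one j)
  map_mul' M N := Subtype.ext (emb_mul j M.1 N.1)

theorem embHom_injective (j : l) : Function.Injective (embHom (F := F) j) := by
  intro M N h
  have h' : emb j M.1 = emb j N.1 := congrArg Subtype.val h
  refine Subtype.ext (Matrix.ext fun a b => ?_)
  fin_cases a <;> fin_cases b
  · simpa [emb] using congrFun (congrFun h' (Sum.inl j)) (Sum.inl j)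
  · simpa [emb] using congrFun (congrFun h' (Sum.inl j)) (Sum.inr j)
  · simpa [emb] using congrFun (congrFun h' (Sum.inr j)) (Sum.inl j)
  · simpa [emb] using congrFun (congrFun h' (Sum.inr j)) (Sum.inr j)

end Embed

/-- A copy of `M₂` in every faithful linear image of `SL(2,q)`. -/
theorem exists_pair [Fintype F] {A : Type*} [Ring A] [Algebra F A]
    (φ : Matrix.SpecialLinearGroup (Fin 2) F →* A) (hφ : Function.Injective φ) :
    ∃ x ∈ Algebra.adjoin F (Set.range φ), ∃ y ∈ Algebra.adjoin F (Set.range φ), IsPair x y := by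
  classical
  have hm : ∀ g, φ g ∈ Algebra.adjoin F (Set.range φ) := fun g => Algebra.subset_adjoin ⟨g, rfl⟩
  have hne : ∀ {g}, g ≠ 1 → φ g ≠ 1 := fun hg e => hg (hφ (e.trans φ.map_one.symm))
  rcases Nat.mod_two_eq_zero_or_one (Fintype.card F) with he | ho
  · have h2F : (2 : F) = 0 := by
      obtain ⟨p, hc⟩ := CharP.exists F
      obtain ⟨n, hp, hn⟩ := FiniteField.card F p
      have hp2 : p = 2 := ((Nat.prime_dvd_prime_iff_eq Nat.prime_two hp).1
        (Nat.prime_two.dvd_of_dvd_pow (hn ▸ Nat.dvd_of_mod_eq_zero he))).symm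
      simpa [hp2] using CharP.cast_eq_zero F p
    have h2A : (2 : A) = 0 := by rw [← map_ofNat (algebraMap F A) 2, h2F, map_zero]
    have hneg : ∀ a : F, -a = a := fun a => by linear_combination -a * h2F
    let c : Matrix.SpecialLinearGroup (Fin 2) F := ⟨!![0, 1; 1, 1], by simp [Matrix.det_fin_two, hneg]⟩
    let t : Matrix.SpecialLinearGroup (Fin 2) F := ⟨!![0, 1; 1, 0], by simp [Matrix.det_fin_two, hneg]⟩
    have h11 : (1 : F) + 1 = 0 := by linear_combination h2F
    refine ⟨_, ?_, _, ?_, isPair_of_sym_three h2A (C := φ c) (T := φ t) ?_ (hne ?_) ?_ ?_⟩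
    · exact mul_mem (add_mem (hm c) (mul_mem (hm c) (hm c))) (add_mem (one_mem _) (mul_mem (hm t) (hm c)))
    · exact mul_mem (add_mem (hm c) (mul_mem (hm c) (hm c))) (add_mem (one_mem _) (mul_mem (hm c) (hm t)))
    · rw [← map_mul, ← map_mul, show c * c * c = 1 from Subtype.ext (by
        repeat rw [Matrix.SpecialLinearGroup.coe_mul];
       
        ext i j; fin_cases i <;> fin_cases j <;> simp [c, Matrix.mul_apply, Fin.sum_univ_two, h11]), map_one]
    · intro h; simpa [c] using congrArg (fun z : Matrix.SpecialLinearGroup (Fin 2) F => z.1 0 1) h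
    · rw [← map_mul, show t * t = 1 from Subtype.ext (by
        repeat rw [Matrix.SpecialLinearGroup.coe_mul];
       
        ext i j; fin_cases i <;> fin_cases j <;> simp [t, Matrix.mul_apply, Fin.sum_univ_two]), map_one]
    · rw [← map_mul, ← map_mul, ← map_mul]
      exact congrArg φ (Subtype.ext (by
        repeat rw [Matrix.SpecialLinearGroup.coe_mul];
       
        ext i j; fin_cases i <;> fin_cases j <;> simp [t, c, Matrix.mul_apply, Fin.sum_univ_two, h11]))
  · have h2 := CfsgLib.PSL2Two.two_ne_zero_of_odd (F := F) ho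
    obtain ⟨α, β, hab⟩ := CfsgLib.PSL2Two.exists_sq_add_sq ho (-1 : F)
    let i : Matrix.SpecialLinearGroup (Fin 2) F := ⟨!![0, -1; 1, 0], by simp [Matrix.det_fin_two]⟩
    let j : Matrix.SpecialLinearGroup (Fin 2) F :=
      ⟨!![α, β; β, -α], by simp [Matrix.det_fin_two]; linear_combination -hab⟩
    let z : Matrix.SpecialLinearGroup (Fin 2) F :=
      ⟨-1, by rw [Matrix.det_neg, Matrix.det_one, Fintype.card_fin]; norm_num⟩
    refine ⟨_, ?_, _, ?_, isPair_of_quaternion (F := F) h2 (Z := φ z) (I := φ i) (J := φ j) hab ?_ (hne ?_) ?_ ?_ ?_⟩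
    rotate_left 2
    · rw [← map_mul, show z * z = 1 from Subtype.ext (by
        repeat rw [Matrix.SpecialLinearGroup.coe_mul];
        simp [z]), map_one]
    · intro h
      have h' := congrArg (fun w : Matrix.SpecialLinearGroup (Fin 2) F => w.1 0 0) h
      simp [z] at h'
      exact h2 (by linear_combination -h')
    · rw [← map_mul, show i * i = z from Subtype.ext (by
        repeat rw [Matrix.SpecialLinearGroup.coe_mul];
       
        ext a b; fin_cases a <;> fin_cases b <;> simp [i, z, Matrix.mul_apply, Fin.sum_univ_two])]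
    · rw [← map_mul, show j * j = z from Subtype.ext (by
        repeat rw [Matrix.SpecialLinearGroup.coe_mul];
       
        ext a b; fin_cases a <;> fin_cases b <;> simp [j, z, Matrix.mul_apply, Fin.sum_univ_two] <;>
          (first | linear_combination hab | linear_combination -hab | ring))]
    · rw [← map_mul, ← map_mul, ← map_mul]
      exact congrArg φ (Subtype.ext (by
        repeat rw [Matrix.SpecialLinearGroup.coe_mul];
       
        ext a b; fin_cases a <;> fin_cases b <;> simp [i, j, z, Matrix.mul_apply, Fin.sum_univ_two]))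
    all_goals
      have hP : (2⁻¹ : F) • (1 - φ z) ∈ Algebra.adjoin F (Set.range φ) :=
        Subalgebra.smul_mem _ (sub_mem (one_mem _) (hm z)) _
      have he := Subalgebra.smul_mem _ (add_mem hP
        (mul_mem hP (add_mem (Subalgebra.smul_mem _ (hm i) α) (Subalgebra.smul_mem _ (hm j) β)))) (2⁻¹ : F)
      have hk := mul_mem hP (mul_mem (hm i) (hm j))
      first
        | exact mul_mem he hk
        | exact neg_mem (mul_mem hk he)

/-- A faithful representation of `Sp(2n,q)` over `F_q` has degree at least `2n`. -/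
theorem two_mul_le [Fintype F] {n d : ℕ} (ρ : ↥(Matrix.symplecticGroup (Fin n) F) →* GL (Fin d) F)
    (hρ : Function.Injective ρ) : 2 * n ≤ d := by
  classical
  let lift : GL (Fin d) F →* Module.End F (Fin d → F) :=
    (Matrix.toLinAlgEquiv' (R := F) (n := Fin d)).toRingEquiv.toMonoidHom.comp (Units.coeHom _)
  have hlift : Function.Injective lift := fun a b h => Units.ext (Matrix.toLinAlgEquiv'.injective h)
  let φ : Fin n → Matrix.SpecialLinearGroup (Fin 2) F →* Module.End F (Fin d → F) :=
    fun j => (lift.comp ρ).comp (embHom j)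
  choose x hx y hy hp using fun j => exists_pair (F := F) (φ j) (hlift.comp (hρ.comp (embHom_injective j)))
  have hcomm : ∀ i j, i ≠ j → ∀ a ∈ Algebra.adjoin F (Set.range (φ i)),
      ∀ b ∈ Algebra.adjoin F (Set.range (φ j)), Commute a b := by
    intro i j hij a ha b hb
    refine Algebra.commute_of_mem_adjoin_of_forall_mem_commute hb fun g hg => ?_
    obtain ⟨N, rfl⟩ := hg
    refine (Algebra.commute_of_mem_adjoin_of_forall_mem_commute ha fun g' hg' => ?_).symm
    obtain ⟨M, rfl⟩ := hg'
    exact ((show Commute (embHom i M) (embHom j N) from Subtype.ext (emb_comm hij M.1 N.1)).map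
      (lift.comp ρ)).symm
  have h := dim_ge x y hp
    (fun i j hij => ⟨hcomm i j hij _ (hx i) _ (hx j), hcomm i j hij _ (hx i) _ (hy j),
      hcomm i j hij _ (hy i) _ (hy j)⟩) Finset.univ ⊤ (fun _ _ _ _ => ⟨trivial, trivial⟩)
    (fun i _ => by
      by_contra hc
      push Not at hc
      exact (hp i).ne (LinearMap.ext fun v => hc v trivial))
  simpa using h

end CfsgLib.Classical.SpMinDegree
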