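import Cfsg.Agent.Lib.Classical.SympCount

/-!
# Every symplectic transformation in characteristic two fixes a quadratic form
-/

set_option autoImplicit false

namespace CfsgLib.Classical.SpQuadInvariant

open Matrix Module CfsgLib.Sp CfsgLib.Classical.SympCount

variable {F : Type*} [Field F] [Fintype F] [CharP F 2] {m : ℕ}

local notation "V" => Fin m ⊕ Fin m → F

theorem exists_sqrt (c : F) : ∃ r : F, r * r = c := by
  have := FiniteField.isSquare_of_char_two (F := F) (ringChar.eq F 2) c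
  obtain ⟨r, hr⟩ := this
  exact ⟨r, hr.symm⟩

omit [Fintype F] in
theorem sq_inj {a b : F} (h : a * a = b * b) : a = b := by
  have : (a + b) * (a + b) = 0 := by
    linear_combination h + (a * b + b * b) * (CharTwo.two_eq_zero : (2 : F) = 0)
  exact CharTwo.add_eq_zero.1 (mul_self_eq_zero.1 this)

theorem exists_invariant (A : Matrix.symplecticGroup (Fin m) F) :
    ∃ Q : QuadraticForm F (Fin m ⊕ Fin m → F),
      (∀ u v : Fin m ⊕ Fin m → F, QuadraticMap.polar ⇑Q u v = Cfsg.sympForm m F u v) ∧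
      ∀ v : Fin m ⊕ Fin m → F, Q ((A : Matrix (Fin m ⊕ Fin m) (Fin m ⊕ Fin m) F).mulVec v) = Q v := by
  classical
  let Q0 : QuadraticForm F V := ∑ i, QuadraticMap.linMulLin (LinearMap.proj (Sum.inl i)) (LinearMap.proj (Sum.inr i))
  have hQ0 : ∀ v, Q0 v = ∑ i, v (Sum.inl i) * v (Sum.inr i) := fun v => by simp [Q0, QuadraticMap.sum_apply]
  have hpol : ∀ u v : V, Q0 (u + v) = Q0 u + Q0 v + sf u v := by
    intro u v
    rw [hQ0, hQ0, hQ0, sf_eq]
    simp only [Pi.add_apply, ← Finset.sum_add_distrib]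
    refine Finset.sum_congr rfl fun i _ => ?_
    linear_combination (u (.inl i) * v (.inr i)) * (CharTwo.two_eq_zero : (2 : F) = 0)
  -- the square root of the defect is linear
  choose sq hsq using exists_sqrt (F := F)
  let d : V → F := fun v => Q0 (A.1 *ᵥ v) + Q0 v
  have hd_add : ∀ u v, d (u + v) = d u + d v := by
    intro u v
    simp only [d, Matrix.mulVec_add, hpol, sf_sp A]
    linear_combination (sf u v) * (CharTwo.two_eq_zero : (2 : F) = 0)
  have hd_smul : ∀ (c : F) v, d (c • v) = c * c * d v := by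
    intro c v
    simp only [d, Matrix.mulVec_smul, QuadraticMap.map_smul, smul_eq_mul]
    ring
  let l : V →ₗ[F] F :=
    { toFun := fun v => sq (d v)
      map_add' := fun u v => sq_inj (by
        rw [hsq, hd_add]
        linear_combination -(hsq (d u)) - hsq (d v) - (sq (d u) * sq (d v)) * (CharTwo.two_eq_zero : (2 : F) = 0))
      map_smul' := fun c v => sq_inj (by
        rw [hsq, hd_smul, RingHom.id_apply, smul_eq_mul]
        linear_combination -(c * c) * hsq (d v)) }
  have hker : LinearMap.ker (Matrix.toLin' (A.1 - 1)) ≤ LinearMap.ker l := by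
    intro v hv
    rw [LinearMap.mem_ker, Matrix.toLin'_apply, Matrix.sub_mulVec, Matrix.one_mulVec, sub_eq_zero] at hv
    refine LinearMap.mem_ker.2 (sq_inj ?_)
    show sq (d v) * sq (d v) = 0 * 0
    rw [hsq, mul_zero]
    show Q0 (A.1 *ᵥ v) + Q0 v = 0
    rw [hv, CharTwo.add_self_eq_zero]
  obtain ⟨f, hf⟩ : l ∈ LinearMap.range (Matrix.toLin' (A.1 - 1)).dualMap := by
    rw [LinearMap.range_dualMap_eq_dualAnnihilator_ker, Submodule.mem_dualAnnihilator]
    exact fun v hv => hker hv
  refine ⟨Q0 + QuadraticMap.linMulLin f f, fun u v => ?_, fun v => ?_⟩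
  · simp only [QuadraticMap.polar, _root_.QuadraticMap.add_apply, QuadraticMap.linMulLin_apply, hpol, map_add]
    linear_combination (f u * f v) * (CharTwo.two_eq_zero : (2 : F) = 0)
  · have h1 : f (A.1 *ᵥ v) + f v = l v := by
      rw [← hf, LinearMap.dualMap_apply, Matrix.toLin'_apply, Matrix.sub_mulVec, Matrix.one_mulVec, map_sub,
        CharTwo.sub_eq_add]
    have h2 : l v * l v = Q0 (A.1 *ᵥ v) + Q0 v := hsq (d v)
    simp only [_root_.QuadraticMap.add_apply, QuadraticMap.linMulLin_apply]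
    rw [← h1] at h2
    linear_combination -h2 + (f (A.1 *ᵥ v) * f (A.1 *ᵥ v) + f (A.1 *ᵥ v) * f v - Q0 v) * 0 +
      (Q0 (A.1 *ᵥ v) - f (A.1 *ᵥ v) * f v - f v * f v) * (0 : F) +
      (f (A.1 *ᵥ v) * f (A.1 *ᵥ v) + f (A.1 *ᵥ v) * f v - Q0 v) * (CharTwo.two_eq_zero : (2 : F) = 0)

end CfsgLib.Classical.SpQuadInvariant
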