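import Cfsg.Agent.Lib.Classical.SylowTwoElemAb
import Mathlib.Algebra.CharP.Two
import Mathlib.GroupTheory.PGroup
import Mathlib.LinearAlgebra.Matrix.ToLin

/-!
# Sylow two-subgroups of isometry groups in characteristic two

An induction along singular vectors fixed by a two-group: such a group is generated by a group of
flag unipotent elements and the stabilizer of a hyperbolic pair.
-/

set_option autoImplicit false
set_option linter.unusedSectionVars false

namespace CfsgLib.Classical.SylowCharTwo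

open scoped commutatorElement
open Matrix CfsgLib.Classical.SylowTwoElemAb

/-- A maximal two-subgroup of `H`. -/
def MaxTwo {G : Type*} [Group G] (H T : Subgroup G) : Prop :=
  T ≤ H ∧ IsPGroup 2 T ∧ ∀ T' : Subgroup G, T ≤ T' → T' ≤ H → IsPGroup 2 T' → T' ≤ T

theorem good_mono {G : Type*} [Group G] {A B : Subgroup G} (h : A ≤ B) : good A ≤ good B := fun x hx => by
  obtain ⟨h1, h2⟩ := mem_good.1 hx
  exact mem_good.2 ⟨h h1, Subgroup.commutator_mono h h h2⟩

/-- If a maximal two-subgroup meets a normal subgroup well, so does every Sylow subgroup of the latter. -/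
theorem sylow_inf_of_maxTwo {G : Type*} [Group G] [Finite G] (H N : Subgroup G)
    (h : ∀ T : Subgroup G, MaxTwo H T → ElemAb (T ⊓ N)) (P : Sylow 2 ↥(H ⊓ N)) :
    ∀ x : (P : Subgroup ↥(H ⊓ N)), x ^ 2 ∈ commutator (P : Subgroup ↥(H ⊓ N)) := by
  haveI : Fact (Nat.Prime 2) := ⟨Nat.prime_two⟩
  rw [← elemAb_sylow_iff]
  obtain ⟨S, hS⟩ := ((P.isPGroup'.map (Subgroup.inclusion (inf_le_left : H ⊓ N ≤ H))) :
    IsPGroup 2 ↥((P : Subgroup ↥(H ⊓ N)).map (Subgroup.inclusion (inf_le_left : H ⊓ N ≤ H)))).exists_le_sylow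
  have hT : MaxTwo H ((S : Subgroup H).map H.subtype) := by
    refine ⟨Subgroup.map_subtype_le _, S.isPGroup'.map _, fun T' h1 h2 h3 => ?_⟩
    have h4 : T'.subgroupOf H = S := S.is_maximal' (h3.comap_of_injective _ H.subtype_injective)
      fun x hx => h1 ⟨x, hx, rfl⟩
    intro x hx
    exact ⟨⟨x, h2 hx⟩, h4 ▸ (hx : (⟨x, h2 hx⟩ : H) ∈ T'.subgroupOf H), rfl⟩
  set W := (S : Subgroup H).map H.subtype ⊓ N with hW
  have hWle : W ≤ H ⊓ N := le_inf (le_trans inf_le_left (Subgroup.map_subtype_le _)) inf_le_right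
  have hPW : (P : Subgroup ↥(H ⊓ N)).map (H ⊓ N).subtype = W := by
    refine le_antisymm ?_ fun x hx => ?_
    · rintro _ ⟨y, hy, rfl⟩
      exact ⟨⟨_, hS ⟨y, hy, rfl⟩, rfl⟩, y.2.2⟩
    · have h1 : W.subgroupOf (H ⊓ N) = P := by
        refine P.is_maximal' (((S.isPGroup'.map H.subtype).to_le inf_le_left).comap_of_injective _
          (H ⊓ N).subtype_injective) fun y hy => ?_
        exact ⟨⟨_, hS ⟨y, hy, rfl⟩, rfl⟩, y.2.2⟩
      exact ⟨⟨x, hWle hx⟩, h1 ▸ (hx : (⟨x, hWle hx⟩ : ↥(H ⊓ N)) ∈ W.subgroupOf (H ⊓ N)), rfl⟩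
  intro x hx
  have h5 := (hW ▸ h _ hT : ElemAb W).sq_mem (show (H ⊓ N).subtype x ∈ W from hPW.le ⟨x, hx, rfl⟩)
  clear_value W
  subst hPW
  rw [← Subgroup.map_commutator, ← map_pow] at h5
  obtain ⟨y, hy, hxy⟩ := h5
  exact mem_good.2 ⟨hx, (H ⊓ N).subtype_injective hxy ▸ hy⟩

variable {ι : Type} [Fintype ι] [DecidableEq ι] {F : Type*} [Field F]

/-- A hermitian, symmetric or alternating form. -/
structure Form (σ : F →+* F) (h : (ι → F) → (ι → F) → F) : Prop where
  add_left : ∀ u v w, h (u + v) w = h u w + h v w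
  smul_left : ∀ (c : F) u w, h (c • u) w = c * h u w
  herm : ∀ u v, h v u = σ (h u v)
  invol : ∀ x, σ (σ x) = x
  nd : ∀ x, (∀ y, h x y = 0) → x = 0

section Forms

variable {σ : F →+* F} {h : (ι → F) → (ι → F) → F} (hh : Form σ h)
include hh

theorem Form.add_right (u v w : ι → F) : h w (u + v) = h w u + h w v := by
  rw [hh.herm, hh.add_left, map_add, ← hh.herm, ← hh.herm]

theorem Form.smul_right (c : F) (u w : ι → F) : h w (c • u) = σ c * h w u := by
  rw [hh.herm, hh.smul_left, map_mul, ← hh.herm]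

theorem Form.symm_zero {u v : ι → F} (h0 : h u v = 0) : h v u = 0 := by rw [hh.herm, h0, map_zero]

theorem Form.zero_left (w : ι → F) : h 0 w = 0 := by
  rw [← zero_smul F (0 : ι → F), hh.smul_left, zero_mul]

theorem Form.zero_right (w : ι → F) : h w 0 = 0 := hh.symm_zero (hh.zero_left w)

theorem Form.sub_left (u v w : ι → F) : h (u - v) w = h u w - h v w := by
  rw [sub_eq_add_neg, hh.add_left, show -v = (-1 : F) • v by simp, hh.smul_left]
  ring

theorem Form.sub_right (u v w : ι → F) : h w (u - v) = h w u - h w v := by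
  rw [hh.herm, hh.sub_left, map_sub, ← hh.herm, ← hh.herm]

/-- The linear map of a flag unipotent element. -/
def qLin (e a : ι → F) (c : F) : (ι → F) →ₗ[F] (ι → F) where
  toFun x := x + h x e • a + (h x a + c * h x e) • e
  map_add' x y := by
    simp only [hh.add_left, mul_add]
    module
  map_smul' r x := by
    simp only [hh.smul_left, RingHom.id_apply]
    module

variable [CharP F 2]

theorem qLin_comp {e a b : ι → F} (he : h e e = 0) (ha : h a e = 0) (hb : h b e = 0) (c d : F) :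
    (qLin hh e a c).comp (qLin hh e b d) = qLin hh e (a + b) (c + d + h b a) := by
  refine LinearMap.ext fun x => ?_
  simp only [qLin, LinearMap.comp_apply, LinearMap.coe_mk, AddHom.coe_mk, hh.add_left, hh.smul_left, he, hb,
    hh.symm_zero ha, hh.add_right]
  module

theorem qLin_zero (e : ι → F) : qLin hh e 0 0 = LinearMap.id := by
  refine LinearMap.ext fun x => ?_
  simp [qLin, hh.zero_right]

/-- The flag unipotent element attached to `e`, `a` and `c`. -/
def qG (e a : ι → F) (c : F) (he : h e e = 0) (ha : h a e = 0) : GL ι F where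
  val := LinearMap.toMatrix' (qLin hh e a c)
  inv := LinearMap.toMatrix' (qLin hh e a (c + h a a))
  val_inv := by
    rw [← LinearMap.toMatrix'_comp, qLin_comp hh he ha ha, show a + a = 0 by ext; simp [CharTwo.add_self_eq_zero],
      show c + (c + h a a) + h a a = 0 by
        linear_combination (c + h a a) * (CharTwo.two_eq_zero : (2 : F) = 0),
      qLin_zero, LinearMap.toMatrix'_id]
  inv_val := by
    rw [← LinearMap.toMatrix'_comp, qLin_comp hh he ha ha, show a + a = 0 by ext; simp [CharTwo.add_self_eq_zero],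
      show c + h a a + c + h a a = 0 by
        linear_combination (c + h a a) * (CharTwo.two_eq_zero : (2 : F) = 0),
      qLin_zero, LinearMap.toMatrix'_id]

theorem qG_mulVec {e a : ι → F} (c : F) (he : h e e = 0) (ha : h a e = 0) (x : ι → F) :
    (qG hh e a c he ha).1 *ᵥ x = x + h x e • a + (h x a + c * h x e) • e :=
  LinearMap.toMatrix'_mulVec _ _

theorem qG_congr {e a a' : ι → F} {c c' : F} (he : h e e = 0) (ha : h a e = 0) (ha' : h a' e = 0)
    (h1 : a = a') (h2 : c = c') : qG hh e a c he ha = qG hh e a' c' he ha' := by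
  subst h1 h2
  rfl

theorem qG_mul {e a b : ι → F} {c d : F} (he : h e e = 0) (ha : h a e = 0) (hb : h b e = 0) :
    qG hh e a c he ha * qG hh e b d he hb =
      qG hh e (a + b) (c + d + h b a) he (by rw [hh.add_left, ha, hb, add_zero]) := by
  refine Units.ext ?_
  show LinearMap.toMatrix' _ * LinearMap.toMatrix' _ = LinearMap.toMatrix' _
  rw [← LinearMap.toMatrix'_comp, qLin_comp hh he ha hb]

theorem qG_one {e : ι → F} (he : h e e = 0) : qG hh e 0 0 he (hh.zero_left e) = 1 := by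
  refine Units.ext ?_
  show LinearMap.toMatrix' _ = 1
  rw [qLin_zero, LinearMap.toMatrix'_id]

end Forms

/-- The data of the induction: an isometry group, a normal part and the singular vectors. -/
structure Ctx (σ : F →+* F) (h : (ι → F) → (ι → F) → F) (Γ N : Subgroup (GL ι F))
    (Sg : (ι → F) → Prop) : Prop where
  form : Form σ h
  iso : ∀ g ∈ Γ, ∀ u v, h (g.1 *ᵥ u) (g.1 *ᵥ v) = h u v
  sing : ∀ e, Sg e → h e e = 0
  sing_map : ∀ g ∈ Γ, ∀ e, Sg e → Sg (g.1 *ᵥ e)
  partner : ∀ e y, Sg e → h y e = 1 → ∃ μ : F, Sg (y + μ • e)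
  fixed_field : ∀ k : F, σ k = k → (∃ x, k = x + σ x) ∨ ∀ v, h v v = 0
  mem : ∀ (hh : Form σ h) [CharP F 2] (e f a : ι → F) (he : h e e = 0) (ha : h a e = 0),
    Sg e → Sg f → h f e = 1 → Sg (f + a) → qG hh e a (h f a) he ha ∈ Γ ⊓ N

section Induction

variable {σ : F →+* F} {h : (ι → F) → (ι → F) → F} {Γ N : Subgroup (GL ι F)} {Sg : (ι → F) → Prop}

/-- The pointwise stabilizer in `Γ` of a subspace. -/
def fixU (Γ : Subgroup (GL ι F)) (U : Submodule F (ι → F)) : Subgroup (GL ι F) where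
  carrier := {g | g ∈ Γ ∧ ∀ u ∈ U, g.1 *ᵥ u = u}
  one_mem' := ⟨Γ.one_mem, fun u _ => by simp⟩
  mul_mem' := fun {a b} ha hb => ⟨Γ.mul_mem ha.1 hb.1, fun u hu => by
    rw [Units.val_mul, ← Matrix.mulVec_mulVec, hb.2 u hu, ha.2 u hu]⟩
  inv_mem' := fun {a} ha => ⟨Γ.inv_mem ha.1, fun u hu => by
    conv_lhs => rw [← ha.2 u hu]
    rw [Matrix.mulVec_mulVec, ← Units.val_mul, inv_mul_cancel, Units.val_one, Matrix.one_mulVec]⟩

theorem mem_fixU {U : Submodule F (ι → F)} {g : GL ι F} :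
    g ∈ fixU Γ U ↔ g ∈ Γ ∧ ∀ u ∈ U, g.1 *ᵥ u = u := Iff.rfl

theorem fixU_bot : fixU Γ (⊥ : Submodule F (ι → F)) = Γ := by
  ext g
  refine ⟨fun hg => hg.1, fun hg => ⟨hg, fun u hu => ?_⟩⟩
  rw [(Submodule.mem_bot F).1 hu, Matrix.mulVec_zero]

theorem inv_mulVec_self (g : GL ι F) (x : ι → F) : g.1 *ᵥ ((g⁻¹).1 *ᵥ x) = x := by
  rw [Matrix.mulVec_mulVec, ← Units.val_mul, mul_inv_cancel, Units.val_one, Matrix.one_mulVec]

/-- The flag unipotent subgroup. -/
def flagU (C : Ctx σ h Γ N Sg) (U : Submodule F (ι → F)) (e : ι → F) : Subgroup (GL ι F) where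
  carrier := {g | g ∈ fixU Γ U ∧ g.1 *ᵥ e = e ∧ ∀ x, h x e = 0 → ∃ r : F, g.1 *ᵥ x = x + r • e}
  one_mem' := ⟨(fixU Γ U).one_mem, by simp, fun x _ => ⟨0, by simp⟩⟩
  mul_mem' := fun {a b} ha hb => ⟨(fixU Γ U).mul_mem ha.1 hb.1,
    by rw [Units.val_mul, ← Matrix.mulVec_mulVec, hb.2.1, ha.2.1], fun x hx => by
      obtain ⟨r, hr⟩ := hb.2.2 x hx
      obtain ⟨s, hs⟩ := ha.2.2 x hx
      refine ⟨s + r, ?_⟩
      rw [Units.val_mul, ← Matrix.mulVec_mulVec, hr, Matrix.mulVec_add, Matrix.mulVec_smul, hs, ha.2.1]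
      module⟩
  inv_mem' := fun {a} ha => by
    have he : (a⁻¹).1 *ᵥ e = e := by
      conv_lhs => rw [← ha.2.1]
      rw [Matrix.mulVec_mulVec, ← Units.val_mul, inv_mul_cancel, Units.val_one, Matrix.one_mulVec]
    refine ⟨(fixU Γ U).inv_mem ha.1, he, fun x hx => ?_⟩
    have hy : h ((a⁻¹).1 *ᵥ x) e = 0 := by
      have := C.iso _ (Γ.inv_mem ha.1.1) x e
      rwa [he, hx] at this
    obtain ⟨r, hr⟩ := ha.2.2 _ hy
    rw [inv_mulVec_self] at hr
    exact ⟨-r, by rw [eq_sub_of_add_eq hr.symm]; module⟩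

/-- A subspace with an orthogonal complement. -/
def Split (h : (ι → F) → (ι → F) → F) (U : Submodule F (ι → F)) : Prop :=
  ∀ y, ∃ z ∈ U, ∀ u ∈ U, h (y - z) u = 0

theorem split_bot (hh : Form σ h) : Split h (⊥ : Submodule F (ι → F)) :=
  fun y => ⟨0, Submodule.zero_mem _, fun u hu => by rw [(Submodule.mem_bot F).1 hu, hh.zero_right]⟩

theorem eq_zero_of_split (hh : Form σ h) {U : Submodule F (ι → F)} (hU : Split h U) {e : ι → F}
    (he : ∀ u ∈ U, h e u = 0) (hp : ∀ y, (∀ u ∈ U, h y u = 0) → h e y = 0) : e = 0 := by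
  refine hh.nd e fun y => ?_
  obtain ⟨z, hz, hw⟩ := hU y
  rw [show y = z + (y - z) by abel, hh.add_right, he z hz, hp _ hw, add_zero]

variable (C : Ctx σ h Γ N Sg) [CharP F 2]
include C

theorem flagU_isPGroup (U : Submodule F (ι → F)) (e : ι → F) : IsPGroup 2 (flagU C U e) := by
  rintro ⟨g, hg, hge, hgx⟩
  refine ⟨2, Subtype.ext (Units.ext (Matrix.ext_iff_mulVec.2 fun x => ?_))⟩
  have h2 : ∀ x, ∃ r : F, g.1 *ᵥ (g.1 *ᵥ x) = x + r • e := by
    intro x
    have hy : h (g.1 *ᵥ x + x) e = 0 := by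
      have h1 := C.iso g hg.1 x e
      rw [hge] at h1
      rw [C.form.add_left, h1, CharTwo.add_self_eq_zero]
    obtain ⟨r, hr⟩ := hgx _ hy
    rw [Matrix.mulVec_add] at hr
    refine ⟨r, ?_⟩
    rw [eq_sub_of_add_eq hr]
    module
  obtain ⟨r, hr⟩ := h2 x
  show ((g ^ (2 ^ 2) : GL ι F)).1 *ᵥ x = (1 : Matrix ι ι F) *ᵥ x
  rw [show g ^ (2 ^ 2) = g * g * (g * g) by simp [pow_succ, mul_assoc], Units.val_mul, Units.val_mul,
    ← Matrix.mulVec_mulVec, ← Matrix.mulVec_mulVec, ← Matrix.mulVec_mulVec, Matrix.one_mulVec, hr,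
    Matrix.mulVec_add, Matrix.mulVec_smul, hge, Matrix.mulVec_add, Matrix.mulVec_smul, hge, hr,
    add_assoc, ← add_smul, CharTwo.add_self_eq_zero, zero_smul, add_zero]

theorem le_normalizer {U : Submodule F (ι → F)} {e : ι → F} {T : Subgroup (GL ι F)} (hT : T ≤ fixU Γ U)
    (he : ∀ g ∈ T, g.1 *ᵥ e = e) : T ≤ Subgroup.normalizer (flagU C U e : Set (GL ι F)) := by
  have key : ∀ g ∈ T, ∀ r ∈ flagU C U e, g * r * g⁻¹ ∈ flagU C U e := by
    intro g hg r ⟨hr, hre, hrx⟩
    refine ⟨(fixU Γ U).mul_mem ((fixU Γ U).mul_mem (hT hg) hr) ((fixU Γ U).inv_mem (hT hg)), ?_, fun x hx => ?_⟩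
    · rw [Units.val_mul, Units.val_mul, ← Matrix.mulVec_mulVec, ← Matrix.mulVec_mulVec, he _ (T.inv_mem hg),
        hre, he g hg]
    · have hy : h ((g⁻¹).1 *ᵥ x) e = 0 := by
        have := C.iso _ (Γ.inv_mem (hT hg).1) x e
        rwa [he _ (T.inv_mem hg), hx] at this
      obtain ⟨s, hs⟩ := hrx _ hy
      refine ⟨s, ?_⟩
      rw [Units.val_mul, Units.val_mul, ← Matrix.mulVec_mulVec, ← Matrix.mulVec_mulVec, hs, Matrix.mulVec_add,
        Matrix.mulVec_smul, he g hg, inv_mulVec_self]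
  intro g hg
  rw [Subgroup.mem_normalizer_iff]
  intro r
  refine ⟨fun hr => key g hg r hr, fun hr => ?_⟩
  have := key _ (T.inv_mem hg) _ hr
  rwa [show g⁻¹ * (g * r * g⁻¹) * g⁻¹⁻¹ = r by group] at this

theorem q_mem_flagU (hh : Form σ h) {U : Submodule F (ι → F)} {e f a : ι → F} (he : h e e = 0) (ha : h a e = 0)
    (heU : ∀ u ∈ U, h e u = 0) (haU : ∀ u ∈ U, h a u = 0) (hse : Sg e) (hsf : Sg f) (hfe : h f e = 1)
    (hsa : Sg (f + a)) :
    qG hh e a (h f a) he ha ∈ flagU C U e ⊓ N := by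
  obtain ⟨hΓ, hN⟩ := Subgroup.mem_inf.1 (C.mem hh e f a he ha hse hsf hfe hsa)
  refine Subgroup.mem_inf.2 ⟨⟨⟨hΓ, fun u hu => ?_⟩, ?_, fun x hx => ?_⟩, hN⟩
  · rw [qG_mulVec, hh.symm_zero (heU u hu), hh.symm_zero (haU u hu)]
    simp
  · rw [qG_mulVec, he, hh.symm_zero ha]
    simp
  · refine ⟨h x a, ?_⟩
    rw [qG_mulVec, hx]
    simp

theorem elemAb_maxTwo [Finite F]
    (hbase : ∀ (U : Submodule F (ι → F)) (T : Subgroup (GL ι F)), Split h U → T ≤ fixU Γ U → IsPGroup 2 T →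
      (∀ e, e ≠ 0 → (∀ u ∈ U, h e u = 0) → (∀ g ∈ T, g.1 *ᵥ e = e) → ¬ Sg e) → ∀ x ∈ T ⊓ N, x * x = 1) :
    ∀ (d : ℕ) (U : Submodule F (ι → F)), Module.finrank F (ι → F) - Module.finrank F U ≤ d → Split h U →
      ∀ T, MaxTwo (fixU Γ U) T → ElemAb (T ⊓ N) := by
  haveI : Fact (Nat.Prime 2) := ⟨Nat.prime_two⟩
  have hh := C.form
  intro d
  induction d using Nat.strong_induction_on with
  | _ d ih =>
  intro U hd hU T ⟨hTle, hTp, hTmax⟩
  by_cases hex : ∀ e, e ≠ 0 → (∀ u ∈ U, h e u = 0) → (∀ g ∈ T, g.1 *ᵥ e = e) → ¬ Sg e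
  · intro x hx
    exact mem_good.2 ⟨hx, by rw [pow_two, hbase U T hU hTle hTp hex x hx]; exact one_mem _⟩
  push Not at hex
  obtain ⟨e, he0, heU, hTe, hse⟩ := hex
  have hee := C.sing e hse
  -- the partner
  obtain ⟨y, hyU, hye⟩ : ∃ y, (∀ u ∈ U, h y u = 0) ∧ h y e = 1 := by
    by_contra hc
    push Not at hc
    refine he0 (eq_zero_of_split hh hU heU fun y hy => hh.symm_zero ?_)
    by_contra hne
    refine hc ((h y e)⁻¹ • y) (fun u hu => by rw [hh.smul_left, hy u hu, mul_zero]) ?_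
    rw [hh.smul_left, inv_mul_cancel₀ hne]
  obtain ⟨μ, hsf⟩ := C.partner e y hse hye
  set f := y + μ • e with hf
  have hfU : ∀ u ∈ U, h f u = 0 := fun u hu => by
    rw [hf, hh.add_left, hh.smul_left, hyU u hu, heU u hu, mul_zero, add_zero]
  have hfe : h f e = 1 := by rw [hf, hh.add_left, hh.smul_left, hye, hee, mul_zero, add_zero]
  have hef : h e f = 1 := by rw [hh.herm, hfe, map_one]
  have hff := C.sing f hsf
  -- the larger subspace
  set U' := U ⊔ Submodule.span F {e, f} with hU'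
  have hU'le : U ≤ U' := le_sup_left
  have heU' : e ∈ U' := Submodule.mem_sup_right (Submodule.subset_span (by simp))
  have hfU' : f ∈ U' := Submodule.mem_sup_right (Submodule.subset_span (by simp))
  have horth : ∀ v, (∀ u ∈ U, h v u = 0) → h v e = 0 → h v f = 0 → ∀ u ∈ U', h v u = 0 := by
    intro v h1 h2 h3 u hu
    obtain ⟨u1, hu1, u2, hu2, rfl⟩ := Submodule.mem_sup.1 hu
    obtain ⟨r, s, rfl⟩ := Submodule.mem_span_pair.1 hu2
    rw [hh.add_right, hh.add_right, hh.smul_right, hh.smul_right, h1 u1 hu1, h2, h3]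
    ring
  have hfix : ∀ g ∈ fixU Γ U, g.1 *ᵥ e = e → g.1 *ᵥ f = f → g ∈ fixU Γ U' := by
    intro g hg h1 h2
    refine ⟨hg.1, fun u hu => ?_⟩
    obtain ⟨u1, hu1, u2, hu2, rfl⟩ := Submodule.mem_sup.1 hu
    obtain ⟨r, s, rfl⟩ := Submodule.mem_span_pair.1 hu2
    rw [Matrix.mulVec_add, Matrix.mulVec_add, Matrix.mulVec_smul, Matrix.mulVec_smul, hg.2 u1 hu1, h1, h2]
  have hsplit' : Split h U' := by
    intro v
    obtain ⟨z, hz, hw⟩ := hU v
    refine ⟨z + (h (v - z) f • e + h (v - z) e • f), Submodule.add_mem _ (hU'le hz)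
      (Submodule.add_mem _ (Submodule.smul_mem _ _ heU') (Submodule.smul_mem _ _ hfU')), ?_⟩
    rw [show v - (z + (h (v - z) f • e + h (v - z) e • f)) = v - z - (h (v - z) f • e + h (v - z) e • f) by abel]
    refine horth _ (fun u hu => ?_) ?_ ?_
    · rw [hh.sub_left, hh.add_left, hh.smul_left, hh.smul_left, hw u hu, heU u hu, hfU u hu]
      ring
    · rw [hh.sub_left (v - z), hh.add_left, hh.smul_left, hh.smul_left, hee, hfe]
      ring
    · rw [hh.sub_left (v - z), hh.add_left, hh.smul_left, hh.smul_left, hef, hff]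
      ring
  have heU0 : e ∉ U := fun hin => he0 (eq_zero_of_split hh hU heU fun y hy => hh.symm_zero (hy e hin))
  have hlt : Module.finrank F U < Module.finrank F U' :=
    Submodule.finrank_lt_finrank_of_lt (lt_of_le_not_ge hU'le fun hle => heU0 (hle heU'))
  have hle' : Module.finrank F U' ≤ Module.finrank F (ι → F) := Submodule.finrank_le _
  -- the flag group lies in `T`
  have hR : flagU C U e ≤ T := by
    refine le_trans le_sup_right (hTmax (T ⊔ flagU C U e) le_sup_left (sup_le hTle fun r hr => hr.1) ?_)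
    exact hTp.to_sup_of_normal_right' (flagU_isPGroup C U e) (le_normalizer C hTle hTe)
  have hfixle : fixU Γ U' ≤ fixU Γ U := fun g hg => ⟨hg.1, fun u hu => hg.2 u (hU'le hu)⟩
  -- the smaller Sylow subgroup
  set T1 := T ⊓ fixU Γ U' with hT1
  have hT1max : MaxTwo (fixU Γ U') T1 := by
    refine ⟨inf_le_right, hTp.to_le inf_le_left, fun T' h1 h2 h3 => le_inf ?_ h2⟩
    have hn : T' ≤ Subgroup.normalizer (flagU C U e : Set (GL ι F)) :=
      le_normalizer C (h2.trans hfixle) fun g hg => (h2 hg).2 e heU'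
    refine le_trans le_sup_left (hTmax (T' ⊔ flagU C U e) ?_ (sup_le (h2.trans hfixle) fun r hr => hr.1)
      (h3.to_sup_of_normal_right' (flagU_isPGroup C U e) hn))
    intro x hx
    set a := x.1 *ᵥ f - f with ha
    have hxU : ∀ u ∈ U, h (x.1 *ᵥ f) u = 0 := fun u hu => by
      have := C.iso x (hTle hx).1 f u
      rwa [(hTle hx).2 u hu, hfU u hu] at this
    have haU : ∀ u ∈ U, h a u = 0 := fun u hu => by rw [ha, hh.sub_left, hxU u hu, hfU u hu, sub_zero]
    have hae : h a e = 0 := by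
      have := C.iso x (hTle hx).1 f e
      rw [hTe x hx] at this
      rw [ha, hh.sub_left, this, sub_self]
    have hsa : Sg (f + a) := by
      rw [ha, add_sub_cancel]; exact C.sing_map x (hTle hx).1 f hsf
    obtain ⟨hq, -⟩ := Subgroup.mem_inf.1 (q_mem_flagU C hh hee hae heU haU hse hsf hfe hsa)
    set q := qG hh e a (h f a) hee hae with hqd
    have hqe : (q⁻¹).1 *ᵥ e = e := ((flagU C U e).inv_mem hq).2.1
    have hqf : q.1 *ᵥ f = x.1 *ᵥ f := by
      rw [qG_mulVec, hfe, mul_one, CharTwo.add_self_eq_zero, zero_smul, add_zero, one_smul, ha, add_sub_cancel]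
    have hl : q⁻¹ * x ∈ T1 := by
      refine ⟨T.mul_mem (T.inv_mem (hR hq)) hx, hfix _ ((fixU Γ U).mul_mem ((fixU Γ U).inv_mem hq.1) (hTle hx)) ?_ ?_⟩
      · rw [Units.val_mul, ← Matrix.mulVec_mulVec, hTe x hx, hqe]
      · rw [Units.val_mul, ← Matrix.mulVec_mulVec, ← hqf, Matrix.mulVec_mulVec, ← Units.val_mul, inv_mul_cancel,
          Units.val_one, Matrix.one_mulVec]
    rw [show x = q * (q⁻¹ * x) by group]
    exact Subgroup.mul_mem _ (Subgroup.mem_sup_right hq) (Subgroup.mem_sup_left (h1 hl))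
  have hE1 : ElemAb (T1 ⊓ N) := ih (Module.finrank F (ι → F) - Module.finrank F U') (by omega) U' le_rfl
    hsplit' T1 hT1max
  -- flag elements are good
  have hqgood : ∀ a, (∀ u ∈ U, h a u = 0) → (hae : h a e = 0) → Sg (f + a) →
      qG hh e a (h f a) hee hae ∈ good (T ⊓ N) := by
    intro a haU hae hsa
    have hmem : ∀ a', (∀ u ∈ U, h a' u = 0) → (hae' : h a' e = 0) → Sg (f + a') →
        qG hh e a' (h f a') hee hae' ∈ T ⊓ N := fun a' h1 h2 h3 =>
      Subgroup.mem_inf.2 ⟨hR (Subgroup.mem_inf.1 (q_mem_flagU C hh hee h2 heU h1 hse hsf hfe h3)).1,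
        (Subgroup.mem_inf.1 (q_mem_flagU C hh hee h2 heU h1 hse hsf hfe h3)).2⟩
    refine mem_good.2 ⟨hmem a haU hae hsa, ?_⟩
    have hk : σ (h a a) = h a a := (hh.herm a a).symm
    have hsq : qG hh e a (h f a) hee hae ^ 2 = qG hh e 0 (h a a) hee (hh.zero_left e) := by
      rw [pow_two, qG_mul]
      exact qG_congr hh _ _ _ (by ext; simp [CharTwo.add_self_eq_zero])
        (by rw [CharTwo.add_self_eq_zero, zero_add])
    by_cases hk0 : h a a = 0
    · rw [hsq, qG_congr hh hee (hh.zero_left e) (hh.zero_left e) rfl hk0, qG_one]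
      exact one_mem _
    obtain ⟨l, hl⟩ : ∃ x, (1 : F) = x + σ x := by
      rcases C.fixed_field 1 (map_one σ) with h1 | h1
      · exact h1
      · exact absurd (h1 a) hk0
    -- two elements with prescribed products
    set p := h a f with hp
    set b := a - p • e with hb
    have hbU : ∀ u ∈ U, h b u = 0 := fun u hu => by
      rw [hb, hh.sub_left, hh.smul_left, haU u hu, heU u hu, mul_zero, sub_zero]
    have hbe : h b e = 0 := by rw [hb, hh.sub_left, hh.smul_left, hae, hee, mul_zero, sub_zero]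
    have hbb : h b b = h a a := by
      rw [hb, hh.sub_left, hh.sub_right, hh.sub_right, hh.smul_left, hh.smul_left, hh.smul_right, hh.smul_right,
        hae, hh.symm_zero hae, hee]
      ring
    have hlift : ∀ v, (∀ u ∈ U, h v u = 0) → h v e = 0 → ∃ ν : F, Sg (f + (v + ν • e)) := by
      intro v _ h2
      obtain ⟨ν, hν⟩ := C.partner e (f + v) hse (by rw [hh.add_left, hfe, h2, add_zero])
      exact ⟨ν, by rwa [← add_assoc]⟩
    obtain ⟨ν1, hν1⟩ := hlift b hbU hbe
    obtain ⟨ν2, hν2⟩ := hlift (l • b) (fun u hu => by rw [hh.smul_left, hbU u hu, mul_zero])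
      (by rw [hh.smul_left, hbe, mul_zero])
    set a1 := b + ν1 • e with ha1
    set a2 := l • b + ν2 • e with ha2
    have ha1U : ∀ u ∈ U, h a1 u = 0 := fun u hu => by
      rw [ha1, hh.add_left, hh.smul_left, hbU u hu, heU u hu, mul_zero, add_zero]
    have ha2U : ∀ u ∈ U, h a2 u = 0 := fun u hu => by
      rw [ha2, hh.add_left, hh.smul_left, hh.smul_left, hbU u hu, heU u hu]
      ring
    have ha1e : h a1 e = 0 := by rw [ha1, hh.add_left, hh.smul_left, hbe, hee, mul_zero, add_zero]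
    have ha2e : h a2 e = 0 := by
      rw [ha2, hh.add_left, hh.smul_left, hh.smul_left, hbe, hee]
      ring
    set q1 := qG hh e a1 (h f a1) hee ha1e with hq1
    set q2 := qG hh e a2 (h f a2) hee ha2e with hq2
    have h12 : h a2 a1 + h a1 a2 = h a a := by
      have hbe' : h e b = 0 := hh.symm_zero hbe
      rw [ha1, ha2]
      simp only [hh.add_left, hh.add_right, hh.smul_left, hh.smul_right, hbe, hbe', hee, hbb, mul_zero, add_zero]
      linear_combination -(h a a) * hl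
    have key : q1 * q2 = qG hh e 0 (h a a) hee (hh.zero_left e) * (q2 * q1) := by
      rw [hq1, hq2, qG_mul, qG_mul, qG_mul]
      refine qG_congr hh _ _ _ (by rw [zero_add, add_comm]) ?_
      rw [hh.zero_right, add_zero, ← h12]
      linear_combination (-(h a1 a2)) * (CharTwo.two_eq_zero : (2 : F) = 0)
    have hcomm : ⁅q1, q2⁆ = qG hh e a (h f a) hee hae ^ 2 := by
      rw [hsq, commutatorElement_def, key]
      group
    rw [← hcomm]
    exact Subgroup.commutator_mem_commutator (hmem a1 ha1U ha1e hν1) (hmem a2 ha2U ha2e hν2)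
  -- conclusion
  intro x hx
  obtain ⟨hxT, hxN⟩ := Subgroup.mem_inf.1 hx
  set a := x.1 *ᵥ f - f with ha
  have haU : ∀ u ∈ U, h a u = 0 := fun u hu => by
    have := C.iso x (hTle hxT).1 f u
    rw [(hTle hxT).2 u hu] at this
    rw [ha, hh.sub_left, this, sub_self]
  have hae : h a e = 0 := by
    have := C.iso x (hTle hxT).1 f e
    rw [hTe x hxT] at this
    rw [ha, hh.sub_left, this, sub_self]
  have hsa : Sg (f + a) := by
    rw [ha, add_sub_cancel]; exact C.sing_map x (hTle hxT).1 f hsf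
  obtain ⟨hq, hqN⟩ := Subgroup.mem_inf.1 (q_mem_flagU C hh hee hae heU haU hse hsf hfe hsa)
  set q := qG hh e a (h f a) hee hae with hqd
  have hqf : q.1 *ᵥ f = x.1 *ᵥ f := by
    rw [qG_mulVec, hfe, mul_one, CharTwo.add_self_eq_zero, zero_smul, add_zero, one_smul, ha, add_sub_cancel]
  have hl : q⁻¹ * x ∈ T1 ⊓ N := by
    refine ⟨⟨T.mul_mem (T.inv_mem (hR hq)) hxT, hfix _ ((fixU Γ U).mul_mem ((fixU Γ U).inv_mem hq.1) (hTle hxT)) ?_ ?_⟩,
      N.mul_mem (N.inv_mem hqN) hxN⟩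
    · rw [Units.val_mul, ← Matrix.mulVec_mulVec, hTe x hxT, ((flagU C U e).inv_mem hq).2.1]
    · rw [Units.val_mul, ← Matrix.mulVec_mulVec, ← hqf, Matrix.mulVec_mulVec, ← Units.val_mul, inv_mul_cancel,
        Units.val_one, Matrix.one_mulVec]
  rw [show x = q * (q⁻¹ * x) by group]
  exact mul_mem (hqgood a haU hae hsa) (good_mono (inf_le_inf_right N inf_le_left) (hE1 hl))

/-- The consequence for the Sylow subgroups. -/
theorem sylow_elemAb [Finite F]
    (hbase : ∀ (U : Submodule F (ι → F)) (T : Subgroup (GL ι F)), Split h U → T ≤ fixU Γ U → IsPGroup 2 T →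
      (∀ e, e ≠ 0 → (∀ u ∈ U, h e u = 0) → (∀ g ∈ T, g.1 *ᵥ e = e) → ¬ Sg e) → ∀ x ∈ T ⊓ N, x * x = 1)
    (P : Sylow 2 ↥(Γ ⊓ N)) :
    ∀ x : (P : Subgroup ↥(Γ ⊓ N)), x ^ 2 ∈ commutator (P : Subgroup ↥(Γ ⊓ N)) := by
  refine sylow_inf_of_maxTwo Γ N (fun T hT => ?_) P
  exact elemAb_maxTwo C hbase (Module.finrank F (ι → F)) ⊥ (Nat.sub_le _ _) (split_bot C.form) T
    (by rwa [fixU_bot])

end Induction

end CfsgLib.Classical.SylowCharTwo
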