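import Cfsg.Agent.Lib.Classical.SylowCharTwo
import Mathlib.FieldTheory.Finite.Basic

/-!
# Base of the induction and isometry properties of the flag elements
-/

set_option autoImplicit false
set_option linter.unusedSectionVars false

namespace CfsgLib.Classical.SylowCharTwo

open Matrix

variable {ι : Type} [Fintype ι] [DecidableEq ι] {F : Type*} [Field F] [CharP F 2]

/-- A two-group fixing a point of an invariant set of even order fixes another one. -/
theorem exists_fixed [Finite F] {T : Subgroup (GL ι F)} (hT : IsPGroup 2 T) (S : Set (ι → F)) (h0 : (0 : ι → F) ∈ S)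
    (hinv : ∀ g ∈ T, ∀ s ∈ S, g.1 *ᵥ s ∈ S) (hcard : 2 ∣ Nat.card S) :
    ∃ v ∈ S, v ≠ 0 ∧ ∀ g ∈ T, g.1 *ᵥ v = v := by
  haveI : Fact (Nat.Prime 2) := ⟨Nat.prime_two⟩
  letI : MulAction T S :=
    { smul := fun g s => ⟨g.1.1 *ᵥ s.1, hinv _ g.2 _ s.2⟩
      one_smul := fun s => Subtype.ext (Matrix.one_mulVec _)
      mul_smul := fun g g' s => Subtype.ext (Matrix.mulVec_mulVec s.1 g.1.1 g'.1.1).symm }
  obtain ⟨b, hb, hne⟩ := hT.exists_fixed_point_of_prime_dvd_card_of_fixed_point S hcard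
    (a := ⟨0, h0⟩) (fun g => Subtype.ext (Matrix.mulVec_zero _))
  exact ⟨b, b.2, fun hc => hne (Subtype.ext hc.symm), fun g hg => congrArg Subtype.val (hb ⟨g, hg⟩)⟩

theorem even_card_of_ne_zero {V : Type*} [AddCommGroup V] [Finite V] (h2 : ∀ x : V, x + x = 0) {v : V} (hv : v ≠ 0) :
    2 ∣ Nat.card V := by
  haveI : Fact (Nat.Prime 2) := ⟨Nat.prime_two⟩
  rw [← addOrderOf_eq_prime (p := 2) (by rw [two_nsmul]; exact h2 v) hv]
  exact addOrderOf_dvd_natCard v

variable {σ : F →+* F} {h : (ι → F) → (ι → F) → F} (hh : Form σ h)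
include hh

/-- The left orthogonal of a set. -/
def perp (S : Set (ι → F)) : Submodule F (ι → F) where
  carrier := {v | ∀ u ∈ S, h v u = 0}
  add_mem' := fun {a b} ha hb u hu => by rw [hh.add_left, ha u hu, hb u hu, add_zero]
  zero_mem' := fun u _ => hh.zero_left u
  smul_mem' := fun c a ha u hu => by rw [hh.smul_left, ha u hu, mul_zero]

/-- The vectors orthogonal to `U` and fixed by `T`. -/
def fixSet (T : Subgroup (GL ι F)) (U : Submodule F (ι → F)) : Set (ι → F) :=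
  {v | v ∈ perp hh (U : Set (ι → F)) ∧ ∀ g ∈ T, g.1 *ᵥ v = v}

/-- The space orthogonal to `U` and to the fixed vectors. -/
def restSpace (T : Subgroup (GL ι F)) (U : Submodule F (ι → F)) : Submodule F (ι → F) :=
  perp hh (U : Set (ι → F)) ⊓ perp hh (fixSet hh T U)

variable {Γ : Subgroup (GL ι F)} (hiso : ∀ g ∈ Γ, ∀ u v, h (g.1 *ᵥ u) (g.1 *ᵥ v) = h u v)
  {U : Submodule F (ι → F)} {T : Subgroup (GL ι F)} (hT : T ≤ fixU Γ U)
include hiso hT

theorem restSpace_invariant {g : GL ι F} (hg : g ∈ T) {v : ι → F} (hv : v ∈ restSpace hh T U) :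
    g.1 *ᵥ v ∈ restSpace hh T U := by
  refine ⟨fun u hu => ?_, fun u hu => ?_⟩
  · have := hiso g (hT hg).1 v u
    rw [(hT hg).2 u hu] at this
    rw [this]; exact hv.1 u hu
  · have := hiso g (hT hg).1 v u
    rw [hu.2 g hg] at this
    rw [this]; exact hv.2 u hu

theorem sq_eq_one (hU : Split h U) (hfix : ∀ g ∈ T, ∀ v ∈ restSpace hh T U, g.1 *ᵥ v = v) {g : GL ι F}
    (hg : g ∈ T) : g * g = 1 := by
  refine Units.ext (Matrix.ext_iff_mulVec.2 fun y => ?_)
  obtain ⟨z, hz, hw⟩ := hU y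
  have hd : g.1 *ᵥ (y - z) - (y - z) ∈ restSpace hh T U := by
    refine ⟨fun u hu => ?_, fun u hu => ?_⟩
    · have h1 := hiso g (hT hg).1 (y - z) u
      rw [(hT hg).2 u hu] at h1
      rw [hh.sub_left, h1, sub_self]
    · have h1 := hiso g (hT hg).1 (y - z) u
      rw [hu.2 g hg] at h1
      rw [hh.sub_left, h1, sub_self]
  have h2 : g.1 *ᵥ (g.1 *ᵥ (y - z) - (y - z)) = g.1 *ᵥ (y - z) - (y - z) := hfix g hg _ hd
  rw [Units.val_mul, ← Matrix.mulVec_mulVec, Units.val_one, Matrix.one_mulVec]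
  have h4 : ∀ a : ι → F, a + a = 0 := fun a => funext fun i => CharTwo.add_self_eq_zero _
  obtain ⟨w, rfl⟩ : ∃ w, y = z + w := ⟨y - z, by abel⟩
  rw [add_sub_cancel_left, Matrix.mulVec_sub, ] at h2
  rw [Matrix.mulVec_add, Matrix.mulVec_add, (hT hg).2 z hz, (hT hg).2 z hz]
  congr 1
  rw [sub_eq_iff_eq_add.1 h2]
  have := h4 (g.1 *ᵥ w)
  calc g.1 *ᵥ w - w + g.1 *ᵥ w = (g.1 *ᵥ w + g.1 *ᵥ w) - w := by abel
    _ = w := by rw [this, zero_sub, neg_eq_iff_add_eq_zero, h4]

theorem base_sing [Finite F] (hTp : IsPGroup 2 T) (hU : Split h U)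
    (hex : ∀ e, e ≠ 0 → (∀ u ∈ U, h e u = 0) → (∀ g ∈ T, g.1 *ᵥ e = e) → ¬ h e e = 0) :
    ∀ x ∈ T, x * x = 1 := fun x hx => sq_eq_one hh hiso hT hU (fun g hg v hv => by
  by_contra hne
  have hv0 : v ≠ 0 := fun hc => hne (by rw [hc, Matrix.mulVec_zero])
  obtain ⟨w, hw, hw0, hwf⟩ := exists_fixed hTp (restSpace hh T U : Set (ι → F)) (Submodule.zero_mem _)
    (fun g hg s hs => restSpace_invariant hh hiso hT hg hs)
    (even_card_of_ne_zero (V := restSpace hh T U) (fun x => Subtype.ext (funext fun i => CharTwo.add_self_eq_zero _))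
      (v := ⟨v, hv⟩) (fun hc => hv0 (congrArg Subtype.val hc)))
  exact hex w hw0 hw.1 hwf (hw.2 w ⟨hw.1, hwf⟩)) hx

theorem base_quad [Finite F] (Q : (ι → F) → F) (hadd : ∀ x y, Q (x + y) = Q x + Q y + h x y)
    (hsmul : ∀ (c : F) x, Q (c • x) = c ^ 2 * Q x) (hTp : IsPGroup 2 T) (hU : Split h U)
    (hex : ∀ e, e ≠ 0 → (∀ u ∈ U, h e u = 0) → (∀ g ∈ T, g.1 *ᵥ e = e) → ¬ Q e = 0)
    (hQiso : ∀ g ∈ T, ∀ x, Q (g.1 *ᵥ x) = Q x) :
    ∀ x ∈ T, x * x = 1 := fun x hx => sq_eq_one hh hiso hT hU (fun g hg v hv => by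
  by_contra hne
  have hv0 : v ≠ 0 := fun hc => hne (by rw [hc, Matrix.mulVec_zero])
  have h4 : ∀ a : ι → F, a + a = 0 := fun a => funext fun i => CharTwo.add_self_eq_zero _
  obtain ⟨w0, hw0, hw00, hwf0⟩ := exists_fixed hTp (restSpace hh T U : Set (ι → F)) (Submodule.zero_mem _)
    (fun g hg s hs => restSpace_invariant hh hiso hT hg hs)
    (even_card_of_ne_zero (V := restSpace hh T U) (fun x => Subtype.ext (funext fun i => CharTwo.add_self_eq_zero _))
      (v := ⟨v, hv⟩) (fun hc => hv0 (congrArg Subtype.val hc)))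
  obtain ⟨c, hc⟩ := FiniteField.isSquare_of_char_two (ringChar.eq F 2) (Q w0)⁻¹
  have hQw0 : Q w0 ≠ 0 := hex w0 hw00 hw0.1 hwf0
  set w := c • w0 with hwd
  have hw : w ∈ restSpace hh T U := Submodule.smul_mem _ c hw0
  have hwf : ∀ g ∈ T, g.1 *ᵥ w = w := fun g hg => by rw [hwd, Matrix.mulVec_smul, hwf0 g hg]
  have hQw : Q w = 1 := by rw [hwd, hsmul, pow_two, ← hc, inv_mul_cancel₀ hQw0]
  -- singular vectors in `w`-cosets
  have hlift : ∀ a ∈ restSpace hh T U, ∃ r : F, Q (a + r • w) = 0 := by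
    intro a ha
    obtain ⟨r, hr⟩ := FiniteField.isSquare_of_char_two (ringChar.eq F 2) (Q a)
    refine ⟨r, ?_⟩
    rw [hadd, hsmul, hQw, hh.smul_right, ha.2 w ⟨hw.1, hwf⟩, hr]
    linear_combination (r * r) * (CharTwo.two_eq_zero : (2 : F) = 0)
  set S : Set (ι → F) := {s | s ∈ restSpace hh T U ∧ Q s = 0} with hS
  set R := (Submodule.span F {w}).comap (restSpace hh T U).subtype with hR
  let f : S → (restSpace hh T U) ⧸ R := fun s => Submodule.Quotient.mk ⟨s.1, s.2.1⟩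
  have hbij : Function.Bijective f := by
    refine ⟨fun s t hst => ?_, fun q => ?_⟩
    · obtain ⟨r, hr⟩ := Submodule.mem_span_singleton.1 ((Submodule.Quotient.eq R).1 hst)
      have hr' : r • w = s.1 - t.1 := hr
      have hst' : s.1 = t.1 + r • w := by rw [hr', add_sub_cancel]
      have h1 := s.2.2
      rw [hst', hadd, hsmul, hQw, t.2.2, hh.smul_right, t.2.1.2 w ⟨hw.1, hwf⟩, mul_zero, zero_add, add_zero,
        mul_one] at h1
      refine Subtype.ext ?_
      rw [hst', eq_zero_of_pow_eq_zero h1, zero_smul, add_zero]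
    · obtain ⟨⟨a, ha⟩, rfl⟩ := Submodule.Quotient.mk_surjective R q
      obtain ⟨r, hr⟩ := hlift a ha
      refine ⟨⟨a + r • w, Submodule.add_mem _ ha (Submodule.smul_mem _ r hw), hr⟩,
        (Submodule.Quotient.eq R).2 (Submodule.mem_span_singleton.2 ⟨r, ?_⟩)⟩
      exact (add_sub_cancel_left a (r • w)).symm
  have hvR : (⟨v, hv⟩ : restSpace hh T U) ∉ R := fun hc => by
    obtain ⟨r, hr⟩ := Submodule.mem_span_singleton.1 hc
    exact hne (by rw [show v = r • w from hr.symm, Matrix.mulVec_smul, hwf g hg])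
  have heven : 2 ∣ Nat.card S := by
    rw [Nat.card_congr (Equiv.ofBijective f hbij)]
    haveI : Finite ((restSpace hh T U) ⧸ R) := Finite.of_surjective _ (Submodule.Quotient.mk_surjective R)
    refine even_card_of_ne_zero (v := Submodule.Quotient.mk ⟨v, hv⟩) (fun q => ?_)
      fun hc => hvR ((Submodule.Quotient.mk_eq_zero R).1 hc)
    obtain ⟨a, rfl⟩ := Submodule.Quotient.mk_surjective R q
    rw [← Submodule.Quotient.mk_add, show a + a = 0 from Subtype.ext (h4 _), Submodule.Quotient.mk_zero]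
  obtain ⟨s, hs, hs0, hsf⟩ := exists_fixed hTp S ⟨Submodule.zero_mem _, by simpa using hsmul 0 0⟩
    (fun g hg s hs => ⟨restSpace_invariant hh hiso hT hg hs.1, by rw [hQiso g hg, hs.2]⟩) heven
  exact hex s hs0 hs.1.1 hsf hs.2) hx

omit hiso hT

theorem qG_iso {e a : ι → F} {c : F} (he : h e e = 0) (ha : h a e = 0) (hc : σ c + c + h a a = 0) (x y : ι → F) :
    h ((qG hh e a c he ha).1 *ᵥ x) ((qG hh e a c he ha).1 *ᵥ y) = h x y := by
  simp only [qG_mulVec, hh.add_left, hh.add_right, hh.smul_left, hh.smul_right, he, ha, hh.symm_zero ha,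
    map_add, map_mul, hh.invol, ← hh.herm]
  linear_combination (h x e * h e y) * hc + (h x a * h e y + h x e * h a y) * (CharTwo.two_eq_zero : (2 : F) = 0)

theorem qG_quad (Q : (ι → F) → F) (hadd : ∀ x y, Q (x + y) = Q x + Q y + h x y)
    (hsmul : ∀ (c : F) x, Q (c • x) = c ^ 2 * Q x) (hid : σ = RingHom.id F) {e a : ι → F} {c : F} (he : h e e = 0)
    (ha : h a e = 0) (hQe : Q e = 0) (hc : c + Q a = 0) (x : ι → F) :
    Q ((qG hh e a c he ha).1 *ᵥ x) = Q x := by
  subst hid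
  simp only [qG_mulVec, hadd, hsmul, hh.add_left, hh.smul_left, hh.smul_right, hh.add_right, RingHom.id_apply, hQe, ha]
  linear_combination (h x e ^ 2) * hc + (h x e * h x a) * (CharTwo.two_eq_zero : (2 : F) = 0)

theorem det_qG {e a : ι → F} {c : F} (he : h e e = 0) (ha : h a e = 0) : (qG hh e a c he ha).1.det = 1 := by
  haveI : Fact (Nat.Prime 2) := ⟨Nat.prime_two⟩
  have h4 : qG hh e a c he ha ^ 4 = 1 := by
    rw [show qG hh e a c he ha ^ 4 = qG hh e a c he ha * qG hh e a c he ha * (qG hh e a c he ha * qG hh e a c he ha) by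
      simp [pow_succ, mul_assoc], qG_mul, qG_mul,
      qG_congr hh he _ (hh.zero_left e) (a := a + a + (a + a)) (a' := 0) (c' := 0)
        (by ext i; simp [CharTwo.add_self_eq_zero])
        (by rw [show a + a = 0 by ext i; simp [CharTwo.add_self_eq_zero], hh.zero_left, add_zero,
          CharTwo.add_self_eq_zero]), qG_one]
  have hd : (qG hh e a c he ha).1.det ^ 4 = 1 := by
    rw [← Matrix.det_pow, ← Units.val_pow_eq_pow_val, h4, Units.val_one, Matrix.det_one]
  have h5 : ((qG hh e a c he ha).1.det - 1) ^ (2 ^ 2) = 0 := by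
    rw [sub_pow_char_pow, one_pow, show (2 : ℕ) ^ 2 = 4 from rfl, hd, sub_self]
  exact sub_eq_zero.1 (eq_zero_of_pow_eq_zero h5)

end CfsgLib.Classical.SylowCharTwo
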