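import Cfsg.Agent.Lib.Classical.SylowCharTwoBase
import Cfsg.Agent.Lib.Orth.Facts
import Cfsg.Agent.Lib.Fusion.ClassicalCharP.LinearSetup
import Cfsg.Agent.Lib.Perm.Trans.QuadStd
import Cfsg.Prelude.Def_Classical

/-!
# Sylow two-subgroups of the symplectic, unitary and orthogonal groups in characteristic two
-/

set_option autoImplicit false
set_option linter.unusedSectionVars false

namespace CfsgLib.Classical.SylowCharTwo

open Matrix

/-- The property passes to epimorphic images. -/
theorem sylow_of_surjective {X G : Type*} [Group X] [Group G] [Finite X] (f : X →* G) (hf : Function.Surjective f)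
    (h : ∀ P : Sylow 2 X, ∀ x : (P : Subgroup X), x ^ 2 ∈ commutator (P : Subgroup X)) (Q : Sylow 2 G) :
    ∀ x : (Q : Subgroup G), x ^ 2 ∈ commutator (Q : Subgroup G) := by
  haveI : Fact (Nat.Prime 2) := ⟨Nat.prime_two⟩
  obtain ⟨P, rfl⟩ := Sylow.mapSurjective_surjective hf 2 Q
  rw [← SylowTwoElemAb.elemAb_sylow_iff, Sylow.coe_mapSurjective]
  exact ((SylowTwoElemAb.elemAb_sylow_iff _).2 (h P)).map f

variable {ι : Type} [Fintype ι] [DecidableEq ι] {F : Type*} [Field F]

/-- The general linear isometry group of a form. -/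
abbrev isoGroup (h : (ι → F) → (ι → F) → F) : Subgroup (GL ι F) :=
  Cfsg.preserving (Units.coeHom (Matrix ι ι F)) h

/-- The special linear group inside the general linear group. -/
abbrev detOne (ι : Type) [Fintype ι] [DecidableEq ι] (F : Type*) [Field F] : Subgroup (GL ι F) :=
  (Matrix.GeneralLinearGroup.det : GL ι F →* Fˣ).ker

/-! ### Symplectic groups -/

section Symplectic

variable {l : Type} [Fintype l] [DecidableEq l]

/-- The alternating form of the symplectic group. -/
def sympH (l : Type) [Fintype l] [DecidableEq l] (F : Type*) [Field F] (u v : l ⊕ l → F) : F :=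
  u ⬝ᵥ (Matrix.J l F *ᵥ v)

theorem sympH_sum (u v : l ⊕ l → F) :
    sympH l F u v = ∑ i, (u (.inr i) * v (.inl i) - u (.inl i) * v (.inr i)) := by
  simp [sympH, Matrix.J, Matrix.fromBlocks_mulVec, dotProduct, Fintype.sum_sum_type, Matrix.neg_mulVec,
    Finset.sum_sub_distrib, neg_add_eq_sub]

variable [CharP F 2]

theorem sympH_form : Form (RingHom.id F) (sympH l F) where
  add_left u v w := by simp [sympH, add_dotProduct]
  smul_left c u w := by simp [sympH, smul_dotProduct]
  herm u v := by
    rw [RingHom.id_apply, sympH_sum, sympH_sum]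
    refine Finset.sum_congr rfl fun i _ => ?_
    linear_combination (u (.inl i) * v (.inr i) - u (.inr i) * v (.inl i)) * (CharTwo.two_eq_zero : (2 : F) = 0)
  invol _ := rfl
  nd x hx := by
    refine funext fun a => ?_
    rcases a with i | i
    · have := hx (Pi.single (.inr i) 1)
      rw [sympH_sum] at this
      simpa [Pi.single_apply] using this
    · have := hx (Pi.single (.inl i) 1)
      rw [sympH_sum] at this
      simpa [Pi.single_apply] using this

theorem sympH_self (v : l ⊕ l → F) : sympH l F v v = 0 := by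
  rw [sympH_sum]
  exact Finset.sum_eq_zero fun i _ => by ring

/-- The map onto the symplectic group. -/
def toSymp : isoGroup (sympH l F) →* Matrix.symplecticGroup l F where
  toFun g := ⟨g.1.1, SymplecticGroup.mem_iff'.2 (Matrix.ext fun i j => by
    have := g.2 (Pi.single i 1) (Pi.single j 1)
    simp only [sympH, Units.coeHom_apply] at this
    simp only [Matrix.mulVec_mulVec, Matrix.mulVec_single_one, single_dotProduct, one_mul] at this
    rw [Matrix.mul_assoc]
    exact this)⟩
  map_one' := Subtype.ext Units.val_one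
  map_mul' _ _ := Subtype.ext (Units.val_mul _ _)

theorem toSymp_surjective : Function.Surjective (toSymp (l := l) (F := F)) := by
  intro A
  refine ⟨⟨⟨A.1, (A⁻¹).1, congrArg Subtype.val (mul_inv_cancel A), congrArg Subtype.val (inv_mul_cancel A)⟩,
    fun u v => ?_⟩, rfl⟩
  simp only [sympH, Units.coeHom_apply]
  rw [Matrix.dotProduct_mulVec, ← Matrix.vecMul_transpose, Matrix.vecMul_vecMul, ← Matrix.dotProduct_mulVec,
    Matrix.mulVec_mulVec, SymplecticGroup.mem_iff'.1 A.2]

theorem psp [Finite F] (m : ℕ) (P : Sylow 2 (Cfsg.PSp m F)) :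
    ∀ x : (P : Subgroup (Cfsg.PSp m F)), x ^ 2 ∈ commutator (P : Subgroup (Cfsg.PSp m F)) := by
  have hh := sympH_form (l := Fin m) (F := F)
  have C : Ctx (RingHom.id F) (sympH (Fin m) F) (isoGroup (sympH (Fin m) F)) ⊤
      (fun e => sympH (Fin m) F e e = 0) :=
    { form := hh
      iso := fun g hg u v => hg u v
      sing := fun _ he => he
      sing_map := fun g _ e _ => sympH_self _
      partner := fun e y _ _ => ⟨0, sympH_self _⟩
      fixed_field := fun k _ => Or.inr sympH_self
      mem := fun hh' _ e f a he ha _ _ _ _ => Subgroup.mem_inf.2 ⟨fun u v => qG_iso hh' he ha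
        (by rw [RingHom.id_apply, sympH_self, CharTwo.add_self_eq_zero, zero_add]) u v, Subgroup.mem_top _⟩ }
  have hS := fun Q => sylow_elemAb C (fun U T hU hT hTp hex x hx =>
    base_sing hh C.iso hT hTp hU hex x hx.1) Q
  exact sylow_of_surjective
    ((QuotientGroup.mk' _).comp (toSymp.comp (Subgroup.inclusion inf_le_left)))
    ((QuotientGroup.mk'_surjective _).comp (toSymp_surjective.comp fun g =>
      ⟨⟨g.1, g.2, Subgroup.mem_top _⟩, rfl⟩)) hS P

end Symplectic

/-! ### Unitary groups -/

section Unitary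

variable [Fintype F] [CharP F 2] {n q : ℕ}

theorem exists_conj (hq : Fintype.card F = q ^ 2) : ∃ σ : F →+* F, (∀ x, σ x = x ^ q) ∧ (∀ x, σ (σ x) = x) ∧ ∃ l, (1 : F) = l + σ l := by
  haveI : Fact (Nat.Prime 2) := ⟨Nat.prime_two⟩
  obtain ⟨k, hk2, hk⟩ := FiniteField.card F 2
  obtain ⟨j, -, rfl⟩ : ∃ j ≤ (k : ℕ), q = 2 ^ j := (Nat.dvd_prime_pow Nat.prime_two).1 (hk ▸ hq ▸ dvd_pow_self q two_ne_zero)
  refine ⟨iterateFrobenius F 2 j, fun x => rfl, fun x => ?_, ?_⟩
  · rw [iterateFrobenius_def, iterateFrobenius_def, ← pow_mul, ← pow_two, ← hq, FiniteField.pow_card]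
  obtain ⟨x, hx⟩ : ∃ x : F, x ^ 2 ^ j ≠ x := by
    by_contra hc
    push Not at hc
    have h1 : 2 ≤ Fintype.card F := Fintype.one_lt_card
    have hlt : 2 ^ j < Fintype.card F := by rw [hq] at h1 ⊢; nlinarith
    have h2 : 1 < 2 ^ j := by
      rw [hq] at h1
      by_contra hle
      have := Nat.pow_le_pow_left (show 2 ^ j ≤ 1 by omega) 2
      rw [one_pow] at this
      omega
    classical
    have := Polynomial.card_le_degree_of_subset_roots (p := (Polynomial.X ^ 2 ^ j - Polynomial.X : Polynomial F))
      (Z := Finset.univ) fun y _ => by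
        rw [Polynomial.mem_roots (FiniteField.X_pow_card_sub_X_ne_zero F h2)]
        simp [hc y]
    rw [FiniteField.X_pow_card_sub_X_natDegree_eq F h2, Finset.card_univ] at this
    omega
  have hτ : x + x ^ 2 ^ j ≠ 0 := fun h0 => hx (CharTwo.add_eq_zero.1 h0).symm
  refine ⟨x / (x + x ^ 2 ^ j), ?_⟩
  rw [map_div₀, map_add, iterateFrobenius_def, iterateFrobenius_def, ← pow_mul, ← pow_two, ← hq,
    FiniteField.pow_card, add_comm (x ^ 2 ^ j) x, ← add_div, div_self hτ]

/-- The map onto the special unitary group. -/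
def toSU : (isoGroup (Cfsg.hermForm n F q) ⊓ detOne (Fin n) F : Subgroup (GL (Fin n) F)) →* Cfsg.SU n F q where
  toFun g := ⟨⟨g.1.1, congrArg Units.val (MonoidHom.mem_ker.1 g.2.2)⟩, g.2.1⟩
  map_one' := rfl
  map_mul' _ _ := rfl

theorem psu (hq : Fintype.card F = q ^ 2) (P : Sylow 2 (Cfsg.PSU n F q)) :
    ∀ x : (P : Subgroup (Cfsg.PSU n F q)), x ^ 2 ∈ commutator (P : Subgroup (Cfsg.PSU n F q)) := by
  obtain ⟨σ, hσ, hσ2, l, hl⟩ := exists_conj hq
  have hform : Form σ (Cfsg.hermForm n F q) :=
    { add_left := fun u v w => by simp [Cfsg.hermForm, add_mul, Finset.sum_add_distrib]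
      smul_left := fun c u w => by simp [Cfsg.hermForm, Finset.mul_sum, mul_assoc]
      herm := fun u v => by
        simp only [Cfsg.hermForm, map_sum, map_mul, ← hσ, hσ2]
        exact Finset.sum_congr rfl fun i _ => mul_comm _ _
      invol := hσ2
      nd := fun x hx => funext fun i => by
        have h1 : σ (1 : F) = 1 := map_one σ
        rw [hσ] at h1
        have h2 : (0 : F) ^ q = 0 := by rw [← hσ, map_zero]
        simpa [Cfsg.hermForm, Pi.single_apply, apply_ite (fun t : F => t ^ q), h1, h2] using hx (Pi.single i 1) }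
  have hfix : ∀ k : F, σ k = k → k = k * l + σ (k * l) := fun k hk => by
    rw [map_mul, hk, ← mul_add, ← hl, mul_one]
  have C : Ctx σ (Cfsg.hermForm n F q) (isoGroup (Cfsg.hermForm n F q)) (detOne (Fin n) F)
      (fun e => Cfsg.hermForm n F q e e = 0) :=
    { form := hform
      iso := fun g hg u v => hg u v
      sing := fun _ he => he
      sing_map := fun g hg e he => (hg e e).trans he
      partner := fun e y he hye => by
        set k := Cfsg.hermForm n F q y y with hk
        refine ⟨k * l, ?_⟩
        have hey : Cfsg.hermForm n F q e y = 1 := by rw [hform.herm, hye, map_one]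
        simp only [hform.add_left, hform.add_right, hform.smul_left, hform.smul_right, he, hye, hey, ← hk]
        linear_combination -(hfix k (hform.herm y y).symm) + k * (CharTwo.two_eq_zero : (2 : F) = 0)
      fixed_field := fun k hk => Or.inl ⟨_, hfix k hk⟩
      mem := fun hh' _ e f a he ha _ hsf _ hsa => Subgroup.mem_inf.2 ⟨fun u v => qG_iso hh' he ha (by
          simp only [hh'.add_left, hh'.add_right, hsf, zero_add] at hsa
          rw [← hh'.herm]
          linear_combination hsa) u v,
        MonoidHom.mem_ker.2 (Units.ext (det_qG hh' he ha))⟩ }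
  have hS := fun Q => sylow_elemAb C (fun U T hU hT hTp hex x hx =>
    base_sing hform C.iso hT hTp hU hex x hx.1) Q
  exact sylow_of_surjective ((QuotientGroup.mk' _).comp toSU)
    ((QuotientGroup.mk'_surjective _).comp fun A =>
      ⟨⟨Matrix.SpecialLinearGroup.toGL A.1, A.2, MonoidHom.mem_ker.2 (Units.ext A.1.2)⟩, rfl⟩) hS P

end Unitary

/-! ### Orthogonal groups -/

section Orthogonal

open Cfsg.Geo CfsgLib.Perm.Asch CfsgLib.Perm.Trans CfsgLib.Perm.Trans.Quad

variable [Fintype F] [CharP F 2] {Q : (ι → F) → F}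

/-- The map onto `Omega`. -/
def toOmega (Q : (ι → F) → F) : (Cfsg.isometryGroup F Q ⊓ (Cfsg.Omega F Q).map (Cfsg.isometryGroup F Q).subtype :
    Subgroup (GL ι F)) →* Cfsg.Omega F Q where
  toFun g := ⟨⟨g.1, g.2.1⟩, by
    obtain ⟨y, hy, he⟩ := g.2.2
    rwa [show (⟨g.1, g.2.1⟩ : Cfsg.isometryGroup F Q) = y from Subtype.ext he.symm]⟩
  map_one' := rfl
  map_mul' _ _ := rfl

theorem pomega (hQ : IsNondegenerateQuadraticForm Q) (hn : 2 ≤ Fintype.card ι)
    (hex : Fintype.card F ≠ 2 ∨ Fintype.card ι ≠ 4) (P : Sylow 2 (Cfsg.POmega F Q)) :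
    ∀ x : (P : Subgroup (Cfsg.POmega F Q)), x ^ 2 ∈ commutator (P : Subgroup (Cfsg.POmega F Q)) := by
  have h20 : (2 : F) = 0 := CharTwo.two_eq_zero
  have hadd : ∀ x y, Q (x + y) = Q x + Q y + QuadraticMap.polar Q x y := fun x y => by
    rw [QuadraticMap.polar]; ring
  have hform : Form (RingHom.id F) (fun u v => QuadraticMap.polar Q u v) :=
    { add_left := hQ.polar_bilinear.add_left
      smul_left := hQ.polar_bilinear.smul_left
      herm := fun u v => QuadraticMap.polar_comm Q v u
      invol := fun _ => rfl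
      nd := fun x hx => by
        by_contra hne
        obtain ⟨⟨y, hy⟩, -⟩ := hQ.nondegenerate x hne
        exact hy (by rw [QuadraticMap.polar_comm]; exact hx y) }
  have hpolar : ∀ g ∈ Cfsg.isometryGroup F Q, ∀ u v,
      QuadraticMap.polar Q (g.1 *ᵥ u) (g.1 *ᵥ v) = QuadraticMap.polar Q u v := fun g hg u v => by
    simp only [QuadraticMap.polar, ← Matrix.mulVec_add]
    rw [show Q (g.1 *ᵥ (u + v)) = Q (u + v) from hg (u + v) 0, show Q (g.1 *ᵥ u) = Q u from hg u 0,
      show Q (g.1 *ᵥ v) = Q v from hg v 0]
  have hself : ∀ v, QuadraticMap.polar Q v v = 0 := fun v => by rw [pself hQ, h20, zero_mul]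
  have C : Ctx (RingHom.id F) (fun u v => QuadraticMap.polar Q u v) (Cfsg.isometryGroup F Q)
      ((Cfsg.Omega F Q).map (Cfsg.isometryGroup F Q).subtype) (fun e => Q e = 0) :=
    { form := hform
      iso := hpolar
      sing := fun e _ => hself e
      sing_map := fun g hg e he => (hg e 0).trans he
      partner := fun e y he hye => ⟨Q y, by
        rw [hadd, qsmul hQ, he, hform.smul_right, RingHom.id_apply, hye]
        linear_combination Q y * h20⟩
      fixed_field := fun k _ => Or.inr hself
      mem := fun hh' _ e f a he ha hse hsf hfe hsa => by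
        have hc : QuadraticMap.polar Q f a + Q a = 0 := by
          rw [hadd, hsf] at hsa
          linear_combination hsa
        have hiso : qG hh' e a (QuadraticMap.polar Q f a) he ha ∈ Cfsg.isometryGroup F Q := fun x _ =>
          qG_quad hh' Q hadd hQ.smul rfl he ha hse hc x
        refine Subgroup.mem_inf.2 ⟨hiso, ⟨⟨_, hiso⟩, ?_, rfl⟩⟩
        rw [SetLike.mem_coe, CfsgLib.Orth.mem_omega_iff hQ hn hex]
        refine ⟨?_, ?_⟩
        · obtain ⟨u, hu⟩ : ∃ u : Fˣ, CfsgLib.Orth.sqMk F u =
              CfsgLib.Orth.spn Q (qG hh' e a (QuadraticMap.polar Q f a) he ha) := QuotientGroup.mk'_surjective _ _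
          rw [← hu, CfsgLib.Orth.sqMk_eq_one_iff]
          obtain ⟨r, hr⟩ := CfsgLib.Orth.isSquare_of_two h20 (u : F)
          refine ⟨Units.mk0 r fun h0 => u.ne_zero (by rw [hr, h0, mul_zero]), Units.ext ?_⟩
          simp [pow_two, hr]
        set g := qG hh' e a (QuadraticMap.polar Q f a) he ha with hg
        have hdisp : ∀ x, CfsgLib.Orth.disp g x = -(QuadraticMap.polar Q x e • a +
            (QuadraticMap.polar Q x a + QuadraticMap.polar Q f a * QuadraticMap.polar Q x e) • e) := fun x => by
          rw [CfsgLib.Orth.disp_apply, hg, qG_mulVec]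
          module
        show Even (Module.finrank F (CfsgLib.Orth.moved g))
        by_cases hspan : ∃ r : F, r • e = a
        · obtain ⟨r, rfl⟩ := hspan
          have hr : r = 0 := by
            rw [hform.smul_right, RingHom.id_apply, hfe, qsmul hQ, show Q e = 0 from hse] at hc
            linear_combination hc
          have : CfsgLib.Orth.disp g = 0 := LinearMap.ext fun x => by
            rw [hdisp, hr]
            simp [hform.zero_right]
          rw [CfsgLib.Orth.moved, LinearMap.range_eq_bot.2 this, finrank_bot]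
          exact ⟨0, rfl⟩
        push Not at hspan
        have he0 : e ≠ 0 := fun hc => by
          rw [hc, hform.zero_right] at hfe
          exact zero_ne_one hfe
        have hrange : CfsgLib.Orth.moved g = Submodule.span F (Set.range ![e, a]) := by
          refine le_antisymm ?_ (Submodule.span_le.2 ?_)
          · rintro _ ⟨x, rfl⟩
            rw [hdisp]
            exact Submodule.neg_mem _ (Submodule.add_mem _
              (Submodule.smul_mem _ _ (Submodule.subset_span ⟨1, rfl⟩))
              (Submodule.smul_mem _ _ (Submodule.subset_span ⟨0, rfl⟩)))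
          have hamem : a ∈ CfsgLib.Orth.moved g := ⟨-f, by
            rw [map_neg, hdisp, hfe, mul_one, CharTwo.add_self_eq_zero, zero_smul, add_zero, one_smul, neg_neg]⟩
          obtain ⟨x, hx1, hx2⟩ : ∃ x, QuadraticMap.polar Q x e = 0 ∧ QuadraticMap.polar Q x a ≠ 0 := by
            by_contra hc
            push Not at hc
            refine hspan (QuadraticMap.polar Q f a) (sub_eq_zero.1 (hform.nd _ fun z => ?_)).symm.symm
            have h1 := hc (z - QuadraticMap.polar Q z e • f) (by
              rw [hform.sub_left, hform.smul_left, hfe, mul_one, sub_self])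
            rw [hform.sub_left, hform.smul_left] at h1
            rw [hform.sub_left, hform.smul_left, hform.herm z e, hform.herm z a]
            simp only [RingHom.id_apply]
            linear_combination -h1
          have hemem : e ∈ CfsgLib.Orth.moved g := ⟨(-(QuadraticMap.polar Q x a)⁻¹) • x, by
            rw [map_smul, hdisp, hx1, mul_zero, add_zero, zero_smul, zero_add, smul_neg, neg_smul, neg_neg, smul_smul,
              inv_mul_cancel₀ hx2, one_smul]⟩
          rintro _ ⟨i, rfl⟩
          fin_cases i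
          · exact hemem
          · exact hamem
        rw [hrange, finrank_span_eq_card ((LinearIndependent.pair_iff' he0).2 hspan), Fintype.card_fin]
        exact ⟨1, rfl⟩ }
  have hS := fun R => sylow_elemAb C (fun U T hU hT hTp hex' x hx =>
    base_quad hform hpolar hT Q hadd hQ.smul hTp hU hex' (fun g hg y => (hT hg).1 y 0) x hx.1) R
  exact sylow_of_surjective ((QuotientGroup.mk' _).comp (toOmega Q))
    ((QuotientGroup.mk'_surjective _).comp fun A =>
      ⟨⟨A.1.1, A.1.2, ⟨A.1, A.2, rfl⟩⟩, rfl⟩) hS P

end Orthogonal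

/-! ### Linear groups -/

section Linear

variable [Fintype F] [CharP F 2]

/-- A Sylow subgroup determines the property for all of them. -/
theorem sylow_of_sylow {G : Type*} [Group G] [Finite G] (S : Sylow 2 G) (hS : SylowTwoElemAb.ElemAb (S : Subgroup G))
    (P : Sylow 2 G) : ∀ x : (P : Subgroup G), x ^ 2 ∈ commutator (P : Subgroup G) := by
  haveI : Fact (Nat.Prime 2) := ⟨Nat.prime_two⟩
  obtain ⟨g, hg⟩ := MulAction.exists_smul_eq G S P
  rw [← SylowTwoElemAb.elemAb_sylow_iff, ← hg]
  exact hS.map (MulAut.conj g).toMonoidHom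

theorem psl {n : ℕ} (hn : n ≠ 0) (P : Sylow 2 (Matrix.ProjectiveSpecialLinearGroup (Fin n) F)) :
    ∀ x : (P : Subgroup (Matrix.ProjectiveSpecialLinearGroup (Fin n) F)),
      x ^ 2 ∈ commutator (P : Subgroup (Matrix.ProjectiveSpecialLinearGroup (Fin n) F)) := by
  haveI : NeZero n := ⟨hn⟩
  haveI : Fact (Nat.Prime 2) := ⟨Nat.prime_two⟩
  have hU : SylowTwoElemAb.ElemAb (CfsgLib.AutPSL.unitri (n := n) (F := F)) :=
    CfsgLib.FusionCharP.Linear.unitri_le fun i j hij s => by
      have hm : CfsgLib.FusionCharP.Linear.el i j hij.ne s ∈ CfsgLib.AutPSL.unitri :=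
        CfsgLib.AutPSL.tv_mem_unitri hij s
      refine SylowTwoElemAb.mem_good.2 ⟨hm, ?_⟩
      have h2 : CfsgLib.FusionCharP.Linear.el i j hij.ne s ^ 2 = 1 := Subtype.ext (by
        have hz : Matrix.single i j s * Matrix.single i j s = 0 :=
          Matrix.single_mul_single_of_ne s i j i hij.ne' s
        rw [Matrix.SpecialLinearGroup.coe_pow, Matrix.SpecialLinearGroup.coe_one,
          CfsgLib.FusionCharP.Linear.el_val, pow_two,
          show (1 + Matrix.single i j s) * (1 + Matrix.single i j s) =
            1 + (Matrix.single i j s + Matrix.single i j s) + Matrix.single i j s * Matrix.single i j s by noncomm_ring,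
          hz, ← Matrix.single_add, CharTwo.add_self_eq_zero, Matrix.single_zero, add_zero, add_zero])
      rw [h2]
      exact one_mem _
  exact sylow_of_sylow (CfsgLib.AutPSL.sylowU (p := 2)) (hU.map CfsgLib.AutPSL.proj) P

end Linear

end CfsgLib.Classical.SylowCharTwo
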