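import Cfsg.Agent.Lib.Classical.SylowCharTwoInst
import Cfsg.Agent.Lib.Lie.Chev.SylowU
import Cfsg.Agent.Lib.Lie.Chev.FullAll
import Cfsg.Agent.Lib.Lie.Chev.Tw.Out.Base
import Cfsg.Agent.Lib.Lie.Chev.Tw.E6Gp
import Cfsg.Agent.Lib.Lie.Chev.Tw.D4Gp
import Cfsg.Agent.Lib.Lie.Chev.Tw.F4Gp
import Cfsg.Agent.Lib.Lie.Suz.Group
import Cfsg.Agent.Lib.Lie.Suz.Twisted

/-!
# Sylow two-subgroups of exceptional and twisted groups in characteristic two
-/

set_option autoImplicit false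
set_option linter.unusedSectionVars false
set_option maxRecDepth 100000

namespace CfsgLib.Classical.SylowCharTwo

open Cfsg.Lie CfsgLib.Lie.Chev CfsgLib.Classical.SylowTwoElemAb
open scoped MatrixGroups commutatorElement

theorem elemAb_of_sq {G : Type*} [Group G] {A : Subgroup G} (h : ∀ g ∈ A, g ^ 2 = 1) : ElemAb A :=
  fun g hg => mem_good.2 ⟨hg, by rw [h g hg]; exact one_mem _⟩

theorem elemAb_of_map {X G : Type*} [Group X] [Group G] {f : X →* G} (hf : Function.Injective f) {S : Subgroup X}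
    (h : ElemAb (S.map f)) : ElemAb S := fun x hx => by
  have h1 := h.sq_mem ⟨x, hx, rfl⟩
  rw [← Subgroup.map_commutator, ← map_pow] at h1
  obtain ⟨y, hy, e⟩ := h1
  exact mem_good.2 ⟨hx, hf e ▸ hy⟩

theorem elemAb_subgroupOf {G : Type*} [Group G] {A Γ : Subgroup G} (h : ElemAb (A ⊓ Γ)) :
    ElemAb (A.subgroupOf Γ) :=
  elemAb_of_map (f := Γ.subtype) Γ.subtype_injective (by rwa [Subgroup.subgroupOf_map_subtype])

theorem sylow_of_equiv {X G : Type*} [Group X] [Group G] [Finite X] (e : G ≃* X)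
    (h : ∀ P : Sylow 2 X, ∀ x : (P : Subgroup X), x ^ 2 ∈ commutator (P : Subgroup X)) (P : Sylow 2 G) :
    ∀ x : (P : Subgroup G), x ^ 2 ∈ commutator (P : Subgroup G) :=
  sylow_of_surjective e.symm.toMonoidHom e.symm.surjective h P

/-! ### Chevalley groups -/

theorem chev {D : ChevalleyDatum} (C : Full D) {F : Type*} [Field F] [Fintype F] [CharP F 2]
    (P : Sylow 2 ↥(D.group F)) : ∀ x : (P : Subgroup ↥(D.group F)), x ^ 2 ∈ commutator (P : Subgroup ↥(D.group F)) := by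
  haveI : Fact (Nat.Prime 2) := ⟨Nat.prime_two⟩
  obtain ⟨S, hS⟩ := C.exists_sylow (F := F) 2
  refine sylow_of_sylow S (hS ▸ elemAb_subgroupOf ?_) P
  rw [inf_eq_left.2 C.G.posUnipotent_le_group]
  intro g hg
  have hg' := hg
  rw [C.G.posUnipotent_eq_closure] at hg
  induction hg using Subgroup.closure_induction with
  | one => exact one_mem _
  | mul a b ha hb iha ihb =>
    rw [← C.G.posUnipotent_eq_closure] at ha hb
    exact mul_mem (iha ha) (ihb hb)
  | inv a ha iha =>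
    rw [← C.G.posUnipotent_eq_closure] at ha
    exact inv_mem (iha ha)
  | mem y hy =>
    obtain ⟨r, t, -, rfl⟩ := hy
    refine mem_good.2 ⟨hg', ?_⟩
    rw [pow_two, ← C.G.xu_add, CharTwo.add_self_eq_zero, C.G.xu_zero]
    exact one_mem _

/-! ### Twisted groups -/

section Twisted

variable {D : ChevalleyDatum} {K : Type*} [Field K] {C : Full D} {T : Twist C.G K} {ι : Type}
  {O : Orbits C.G T.p ι} {Γ : Subgroup (GL D.Idx K)}

theorem twisted_inv (P : TwGp O Γ) (hX : ∀ k, ElemAb (T.Fix ⊓ Uinv C.G (O.wO k)))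
    {π : Equiv.Perm (Fin D.nroots)} (hπ : π ∈ Wp C.G T.p) : ElemAb (T.Fix ⊓ Uinv C.G π) := by
  refine O.induction_on (P := fun π => ElemAb (T.Fix ⊓ Uinv C.G π)) hπ ?_ ?_
  · refine elemAb_of_sq ?_
    rintro g ⟨-, hg⟩
    have h := C.G.conj_Uinv (Good.NPerm.one C.G) g hg
    simp only [one_mul, inv_one, mul_one] at h
    have h0 : g = 1 := Subgroup.mem_bot.1 (C.G.U_inf_V_eq (K := K) ▸ Subgroup.mem_inf.2 ⟨C.G.Uinv_le _ hg, h⟩)
    rw [h0, one_pow]
  · intro π' hπ' k hk _ ih g hg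
    obtain ⟨n, hn, hnπ⟩ := P.toPre.exists_n hπ'
    obtain ⟨hs1, hs2, -⟩ := P.toPre.step_bij hπ' hk ((P.toPre.closure_nk_le hn).1) hnπ
    obtain ⟨x, hx, b, hb, rfl⟩ := hs1 g hg
    refine mul_mem (map_le_good (MulAut.conj (P.toPre.nk k)⁻¹).toMonoidHom ih ?_ ⟨x, hx, by simp⟩)
      (good_mono (fun y hy => by simpa using hs2 1 (one_mem _) y hy) (hX k hb))
    rintro _ ⟨y, hy, rfl⟩
    simpa using hs2 y hy 1 (one_mem _)

theorem twisted (P : TwGp O Γ) (hX : ∀ k, ElemAb (T.Fix ⊓ Uinv C.G (O.wO k))) [Fintype K] [CharP K 2]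
    (R : Sylow 2 ↥Γ) : ∀ x : (R : Subgroup ↥Γ), x ^ 2 ∈ commutator (R : Subgroup ↥Γ) := by
  haveI : Fact (Nat.Prime 2) := ⟨Nat.prime_two⟩
  obtain ⟨S, hS⟩ := P.exists_sylow 2
  refine sylow_of_sylow S (hS ▸ elemAb_subgroupOf ?_) R
  obtain ⟨π, hπ, hneg⟩ := T.exists_longest_Wp
  have h1 : (Uinv C.G π : Subgroup (GL D.Idx K)) = D.posUnipotent K := by
    refine le_antisymm (C.G.Uinv_le π) ?_
    rw [C.G.posUnipotent_eq_closure]
    refine Subgroup.closure_mono ?_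
    rintro x ⟨r, t, hr, hx⟩
    exact ⟨r, t, ⟨hr, hneg r hr⟩, hx⟩
  have h2 : D.posUnipotent K ⊓ Γ = T.Fix ⊓ Uinv C.G π := by rw [h1, P.U_eq]
  rw [h2]
  exact twisted_inv P hX hπ

end Twisted

theorem sq_of_commute_two {D : ChevalleyDatum} (C : Full D) {K : Type*} [Field K] [CharP K 2] {a b : Fin D.nroots}
    {t u : K} (h : Commute (C.G.xu a t) (C.G.xu b u)) : (C.G.xu a t * C.G.xu b u) ^ 2 = 1 := by
  rw [h.mul_pow, pow_two, pow_two, ← C.G.xu_add, ← C.G.xu_add, CharTwo.add_self_eq_zero, CharTwo.add_self_eq_zero,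
    C.G.xu_zero, C.G.xu_zero, mul_one]

theorem twistedE6 {K : Type*} [Field K] [Fintype K] [CharP K 2] {q : ℕ} (hq : IsPrimePow q)
    (hK : Fintype.card K = q ^ 2) (R : Sylow 2 ↥(Cfsg.Lie.twistedE6 K q)) :
    ∀ x : (R : Subgroup ↥(Cfsg.Lie.twistedE6 K q)), x ^ 2 ∈ commutator (R : Subgroup ↥(Cfsg.Lie.twistedE6 K q)) := by
  obtain ⟨θ, hθ⟩ := Frob.exists_powEquiv (K := K) hq hK
  have h2 : ∀ t : K, θ (θ t) = t := fun t => by
    rw [hθ, hθ, ← pow_mul, show q * q = q ^ 2 from (pow_two q).symm, ← hK, FiniteField.pow_card]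
  refine twisted (TE6.twGp θ hθ h2) (fun k => elemAb_of_sq fun g hg => ?_) R
  obtain ⟨o1, o2⟩ := TE6.orth_pairs
  rcases TE6.o_cases k with rfl | rfl | rfl | rfl
  · obtain ⟨t, -, rfl⟩ := TE6.X_single θ (a := TE6.rt 46) rfl (by decide +kernel) hg
    rw [pow_two, ← TE6.C.G.xu_add, CharTwo.add_self_eq_zero, TE6.C.G.xu_zero]
  · obtain ⟨t, -, rfl⟩ := TE6.X_single θ (a := TE6.rt 39) rfl (by decide +kernel) hg
    rw [pow_two, ← TE6.C.G.xu_add, CharTwo.add_self_eq_zero, TE6.C.G.xu_zero]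
  · obtain ⟨t, rfl⟩ := TE6.X_pair θ (a := TE6.rt 42) (b := TE6.rt 37) rfl (by decide +kernel) (by decide +kernel)
      (fun t u => TE6.C.orth_commute o1 (by simp) (by simp) t u) hg
    exact sq_of_commute_two TE6.C (TE6.C.orth_commute o1 (by simp) (by simp) _ _)
  · obtain ⟨t, rfl⟩ := TE6.X_pair θ (a := TE6.rt 56) (b := TE6.rt 36) rfl (by decide +kernel) (by decide +kernel)
      (fun t u => TE6.C.orth_commute o2 (by simp) (by simp) t u) hg
    exact sq_of_commute_two TE6.C (TE6.C.orth_commute o2 (by simp) (by simp) _ _)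

theorem twistedD4 {K : Type*} [Field K] [Fintype K] [CharP K 2] {q : ℕ} (hq : IsPrimePow q)
    (hK : Fintype.card K = q ^ 3) (R : Sylow 2 ↥(Cfsg.Lie.twistedD4 K q)) :
    ∀ x : (R : Subgroup ↥(Cfsg.Lie.twistedD4 K q)), x ^ 2 ∈ commutator (R : Subgroup ↥(Cfsg.Lie.twistedD4 K q)) := by
  obtain ⟨θ, hθ⟩ := Frob.exists_powEquiv (K := K) hq hK
  have h3 : ∀ t : K, θ (θ (θ t)) = t := fun t => by
    rw [hθ, hθ, hθ, ← pow_mul, ← pow_mul, show q * (q * q) = q ^ 3 by ring, ← hK, FiniteField.pow_card]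
  refine twisted (TD4.twGp θ hθ h3) (fun k => elemAb_of_sq fun g hg => ?_) R
  rcases TD4.o_cases k with rfl | rfl
  · obtain ⟨t, -, rfl⟩ := TD4.X_zero θ hg
    rw [pow_two, ← TD4.C.G.xu_add, CharTwo.add_self_eq_zero, TD4.C.G.xu_zero]
  · obtain ⟨t, rfl⟩ := TD4.X_one θ h3 hg
    obtain ⟨o1, o2, o3⟩ := TD4.orth_135
    have hs : ∀ (r : Fin chevD4.nroots) (v : K), TD4.C.G.xu r v ^ 2 = 1 := fun r v => by
      rw [pow_two, ← TD4.C.G.xu_add, CharTwo.add_self_eq_zero, TD4.C.G.xu_zero]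
    rw [TD4.x3, Commute.mul_pow, Commute.mul_pow, hs, hs, hs, mul_one, mul_one]
    · exact TD4.C.orth_commute o1 (by simp) (by simp) _ _
    · exact Commute.mul_left (TD4.C.orth_commute o2 (by simp) (by simp) _ _)
        (TD4.C.orth_commute o3 (by simp) (by simp) _ _)

/-! ### The Ree groups -/

section ReeTwo

open TF4

variable {K : Type*} [Field K] [CharP K 2]

theorem comm_even {a b : Fin chevF4.nroots}
    (h : a.val ≠ b.val ∧ a.val ≠ chevF4.neg b.val ∧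
      ∀ z ∈ chevF4.commTerms b.val a.val, z.2.1 % 2 = (0 : ℤ)) (A B : K) :
    Commute (TF4.C.G.xu a A) (TF4.C.G.xu b B) := by
  obtain ⟨h1, h2, h3⟩ := h
  have hc := TF4.C.commAt b a (fun e => h1 (congrArg Fin.val e))
    (fun e => h2 ((congrArg Fin.val e).trans (TF4.C.G.negr_val b))) B A
  have hw : ∀ w ∈ cwR chevF4 b.val a.val B A, w.2 = 0 := by
    intro w hw
    rw [cwR, List.mem_map] at hw
    obtain ⟨z, hz, rfl⟩ := hw
    have : ((z.2.1 : ℤ) : K) = 0 := (CharP.intCast_eq_zero_iff K 2 _).2 (Int.dvd_of_emod_eq_zero (h3 z hz))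
    simp [this]
  have hone : ∀ l : List (ℕ × K), (∀ w ∈ l, w.2 = 0) →
      wordR K chevF4 l = (1 : Matrix chevF4.Idx chevF4.Idx K) := by
    intro l
    induction l with
    | nil => intro _; exact wordR_nil ..
    | cons w l ihl =>
      intro hl
      rw [wordR_cons, ihl (fun x hx => hl x (List.mem_cons_of_mem _ hx)), mul_one, hl w List.mem_cons_self, xN]
      split
      · exact congrArg Units.val (TF4.C.G.xu_zero _)
      · rfl
  unfold CommAt at hc
  rw [hone _ hw, mul_one] at hc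
  exact Units.ext hc

/-- The root element of the short simple root. -/
noncomputable def eA (x : K) : GL chevF4.Idx K := TF4.C.G.xu (TF4.rt 27) x

/-- The root element of the long simple root. -/
noncomputable def eB (x : K) : GL chevF4.Idx K := TF4.C.G.xu (TF4.rt 25) x

/-- The central elements of the class of type B₂. -/
noncomputable def eW (p q : K) : GL chevF4.Idx K :=
  TF4.C.G.xu (TF4.rt 28) p * TF4.C.G.xu (TF4.rt 30) q

theorem eW_add (p q p' q' : K) : eW p q * eW p' q' = eW (p + p') (q + q') := by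
  have h : Commute (TF4.C.G.xu (TF4.rt 30) q) (TF4.C.G.xu (TF4.rt 28) p') :=
    TF4.comm_of TF4.dat.1.2.2.2.2 _ _
  rw [eW, eW, eW, h.mul_mul_mul_comm, ← TF4.C.G.xu_add, ← TF4.C.G.xu_add]

theorem eW_zero : eW (0 : K) 0 = 1 := by rw [eW, TF4.C.G.xu_zero, TF4.C.G.xu_zero, mul_one]

theorem eW_self (p q : K) : eW p q * eW p q = 1 := by
  rw [eW_add, CharTwo.add_self_eq_zero, CharTwo.add_self_eq_zero, eW_zero]

theorem eW_comm (p q x : K) : Commute (eW p q) (eA x) ∧ Commute (eW p q) (eB x) :=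
  ⟨(comm_even (a := TF4.rt 28) (b := TF4.rt 27) (by decide +kernel) _ _).mul_left
      (comm_even (a := TF4.rt 30) (b := TF4.rt 27) (by decide +kernel) _ _),
    (comm_even (a := TF4.rt 28) (b := TF4.rt 25) (by decide +kernel) _ _).mul_left
      (comm_even (a := TF4.rt 30) (b := TF4.rt 25) (by decide +kernel) _ _)⟩

variable (θ : K ≃+* K)

/-- The first factor of an element of the class of type B₂. -/
noncomputable def eG (t : K) : GL chevF4.Idx K := eA (θ t) * eB t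

theorem eG_comm (p q t : K) : Commute (eW p q) (eG θ t) := (eW_comm p q _).1.mul_right (eW_comm p q _).2

theorem b2_eq (t v : K) :
    TF4.b2 θ (TF4.rt 27) (TF4.rt 25) (TF4.rt 28) (TF4.rt 30) t v = eG θ t * eW (θ t * t + v) (θ.symm v) := by
  simp only [TF4.b2, eG, eA, eB, eW, mul_assoc]

variable (hsq : ∀ x, θ.symm x = θ x ^ 2)
include hsq

theorem eG_mul (t s : K) :
    eG θ t * eG θ s = eA (θ (t + s)) * eB (t + s) * eW (θ s * t) (θ.symm s * t) := by
  have e : eA (θ s) * eB t = eB t * eA (θ s) * eW (θ s * t) (θ.symm s * t) := by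
    have e2 : θ s * θ s * t = θ.symm s * t := by rw [hsq, pow_two]
    rw [← e2]
    exact TF4.b2_comm TF4.dat.1.2.2.2.1 (θ s) t
  have e' : eB t * eA (θ s) = eA (θ s) * eB t * eW (θ s * t) (θ.symm s * t) := by
    rw [e, mul_assoc, eW_self, mul_one]
  calc eG θ t * eG θ s = eA (θ t) * (eB t * eA (θ s)) * eB s := by simp only [eG, mul_assoc]
    _ = eA (θ t) * eA (θ s) * eB t * (eW (θ s * t) (θ.symm s * t) * eB s) := by rw [e']; simp only [mul_assoc]
    _ = eA (θ t) * eA (θ s) * (eB t * eB s) * eW (θ s * t) (θ.symm s * t) := by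
      rw [(eW_comm _ _ s).2.eq]; simp only [mul_assoc]
    _ = _ := by
      simp only [eA, eB]
      rw [← TF4.C.G.xu_add, ← TF4.C.G.xu_add, map_add]

theorem eG_sq (t : K) : eG θ t * eG θ t = eW (θ t * t) (θ.symm (θ t * t)) := by
  rw [eG_mul θ hsq, CharTwo.add_self_eq_zero, map_zero, eA, eB, TF4.C.G.xu_zero, TF4.C.G.xu_zero, one_mul, one_mul,
    map_mul, RingEquiv.symm_apply_apply, mul_comm t]

theorem eG_commutator (t s : K) :
    ⁅eG θ t, eG θ s⁆ = eW (θ s * t + θ t * s) (θ.symm (θ s * t + θ t * s)) := by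
  have hq : θ.symm (θ s * t + θ t * s) + θ.symm t * s = θ.symm s * t := by
    rw [map_add, map_mul, map_mul, RingEquiv.symm_apply_apply, RingEquiv.symm_apply_apply]
    linear_combination (θ.symm t * s) * (CharTwo.two_eq_zero : (2 : K) = 0)
  have hp : θ s * t + θ t * s + θ t * s = θ s * t := by
    rw [add_assoc, CharTwo.add_self_eq_zero, add_zero]
  have e : eG θ t * eG θ s =
      eW (θ s * t + θ t * s) (θ.symm (θ s * t + θ t * s)) * (eG θ s * eG θ t) := by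
    rw [eG_mul θ hsq t s, eG_mul θ hsq s t, add_comm s t, ← mul_assoc (eW _ _),
      ((eW_comm _ _ _).1.mul_right (eW_comm _ _ _).2).eq, mul_assoc _ (eW _ _), eW_add, hp, hq]
  rw [commutatorElement_def, e]
  group

theorem elemAb_b2 [Fintype K] (h2 : 2 < Fintype.card K) :
    ElemAb ((TF4.twist θ hsq).Fix ⊓ Uinv TF4.C.G ((TF4.orbits θ hsq).wO TF4.o1)) := by
  have hmul : Function.Surjective fun x : K => θ x * x := by
    intro k
    rcases eq_or_ne k 0 with rfl | hk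
    · exact ⟨0, by simp⟩
    let φ : Kˣ →* Kˣ := (Units.map (θ : K →* K)) * MonoidHom.id Kˣ
    have hφ : Function.Injective φ := by
      rw [injective_iff_map_eq_one]
      intro x hx
      have h1 : θ (x : K) * x = 1 := congrArg Units.val hx
      have h3 : (θ (x : K)) = (x : K)⁻¹ := eq_inv_of_mul_eq_one_left h1
      have h4 : θ.symm (x : K) = θ x := by rw [RingEquiv.symm_apply_eq θ, h3, map_inv₀, h3, inv_inv]
      rw [hsq, pow_two] at h4
      have h5 : θ (x : K) = 1 := mul_left_cancel₀ (left_ne_zero_of_mul_eq_one h1) (h4.trans (mul_one _).symm)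
      exact Units.ext (θ.injective (by rw [h5, Units.val_one, map_one]))
    obtain ⟨x, hx⟩ := (Finite.injective_iff_surjective.1 hφ) (Units.mk0 k hk)
    exact ⟨x, congrArg Units.val hx⟩
  obtain ⟨s, hs⟩ : ∃ s : K, s + θ s ≠ 0 := by
    by_contra hcon
    push Not at hcon
    have hid : ∀ x, θ x = x := fun x => (CharTwo.add_eq_zero.1 (hcon x)).symm
    have hsq' : ∀ x : K, x = 0 ∨ x = 1 := fun x => by
      have h1 := hsq x
      rw [(RingEquiv.symm_apply_eq θ).2 (hid x).symm, hid, pow_two] at h1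
      rcases eq_or_ne x 0 with h | h
      · exact Or.inl h
      · exact Or.inr (mul_left_cancel₀ h (by rw [mul_one, ← h1]))
    classical
    have : (Finset.univ : Finset K) ⊆ {0, 1} := fun x _ => by simpa using hsq' x
    have h := (Finset.card_le_card this).trans Finset.card_le_two
    rw [Finset.card_univ] at h
    omega
  have hmem : ∀ t v : K, TF4.b2 θ (TF4.rt 27) (TF4.rt 25) (TF4.rt 28) (TF4.rt 30) t v ∈
      (TF4.twist θ hsq).Fix ⊓ Uinv TF4.C.G ((TF4.orbits θ hsq).wO TF4.o1) := fun t v => by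
    refine Subgroup.mem_inf.2 ⟨TF4.b2_fix θ hsq TF4.dat.1 t v, ?_⟩
    have hr : ∀ r ∈ [TF4.rt 25, TF4.rt 27, TF4.rt 28, TF4.rt 30], ∀ w : K,
        TF4.C.G.xu r w ∈ (Uinv TF4.C.G ((TF4.orbits θ hsq).wO TF4.o1) : Subgroup (GL chevF4.Idx K)) := by
      intro r hr w
      refine Subgroup.subset_closure ⟨r, w, ?_, rfl⟩
      rw [← (TF4.L_eq θ hsq TF4.o1).trans (show TF4.L TF4.o1 = [TF4.rt 25, TF4.rt 27, TF4.rt 28, TF4.rt 30] from rfl)]
        at hr
      simpa using (List.mem_filter.1 hr).2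
    exact mul_mem (mul_mem (mul_mem (hr _ (by simp) _) (hr _ (by simp) _)) (hr _ (by simp) _)) (hr _ (by simp) _)
  intro y hy
  refine mem_good.2 ⟨hy, ?_⟩
  obtain ⟨t, v, rfl⟩ := TF4.X_b2 θ hsq hy
  obtain ⟨x, hx⟩ := hmul (θ t * t / (s + θ s))
  have h := Subgroup.commutator_mem_commutator (hmem x 0) (hmem (s * x) 0)
  have key : ∀ g W g' W' : GL chevF4.Idx K, Commute W g' → Commute W' g → Commute W W' →
      ⁅g * W, g' * W'⁆ = ⁅g, g'⁆ := fun g W g' W' h1 h2 h3 => by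
    rw [commutatorElement_def, commutatorElement_def, mul_inv_rev, mul_inv_rev]
    calc g * W * (g' * W') * (W⁻¹ * g⁻¹) * (W'⁻¹ * g'⁻¹)
        = g * (W * g') * W' * W⁻¹ * (g⁻¹ * W'⁻¹) * g'⁻¹ := by group
      _ = g * g' * (W * W') * W⁻¹ * (W'⁻¹ * g⁻¹) * g'⁻¹ := by
        rw [h1.eq, (h2.inv_left.inv_right).symm.eq]; group
      _ = g * g' * g⁻¹ * g'⁻¹ := by rw [h3.eq]; group
  rw [b2_eq, b2_eq, key _ _ _ _ (eG_comm θ _ _ _) (eG_comm θ _ _ _)
    (by rw [Commute, SemiconjBy, eW_add, eW_add, add_comm, add_comm (θ.symm 0)]), eG_commutator θ hsq] at h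
  rw [b2_eq, pow_two, (eG_comm θ _ _ _).mul_mul_mul_comm, eG_sq θ hsq, eW_self, mul_one]
  have hx' : θ (s * x) * x + θ x * (s * x) = θ t * t := by
    have hx'' : θ x * x = θ t * t / (s + θ s) := hx
    rw [← div_mul_cancel₀ (θ t * t) hs, ← hx'', map_mul]
    ring
  rwa [hx'] at h

end ReeTwo

theorem twistedF4 {K : Type*} [Field K] [Fintype K] {m : ℕ} (hm : 1 ≤ m) (hK : Fintype.card K = 2 ^ (2 * m + 1))
    (R : Sylow 2 ↥(Cfsg.Lie.twistedF4 K (2 ^ m))) :
    ∀ x : (R : Subgroup ↥(Cfsg.Lie.twistedF4 K (2 ^ m))),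
      x ^ 2 ∈ commutator (R : Subgroup ↥(Cfsg.Lie.twistedF4 K (2 ^ m))) := by
  obtain ⟨hc, θ, hsq, hθ⟩ := TF4.exists_theta hK
  refine twisted (TF4.twGp θ hsq hθ) (fun k => ?_) R
  rcases TF4.o_cases k with rfl | rfl
  · refine elemAb_of_sq fun g hg => ?_
    obtain ⟨t, rfl⟩ := TF4.X_pair θ hsq hg
    exact sq_of_commute_two TF4.C (TF4.comm_of (a := TF4.rt 33) (b := TF4.rt 24) (by decide +kernel) _ _)
  · refine elemAb_b2 θ hsq ?_
    have : 2 ^ 3 ≤ 2 ^ (2 * m + 1) := Nat.pow_le_pow_right (by norm_num) (by omega)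
    omega

/-! ### Suzuki groups -/

theorem suzuki {F : Type*} [Field F] [Fintype F] {m : ℕ} (hm : 1 ≤ m) (hF : Fintype.card F = 2 ^ (2 * m + 1))
    (R : Sylow 2 (Cfsg.Lie.Sz F (2 ^ (m + 1)))) :
    ∀ x : (R : Subgroup (Cfsg.Lie.Sz F (2 ^ (m + 1)))),
      x ^ 2 ∈ commutator (R : Subgroup (Cfsg.Lie.Sz F (2 ^ (m + 1)))) := by
  haveI : Fact (Nat.Prime 2) := ⟨Nat.prime_two⟩
  obtain ⟨e⟩ := CfsgLib.Lie.Suz.exists_twEquiv hm hF
  refine sylow_of_surjective e.toMonoidHom e.surjective (fun P => ?_) R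
  let S : Sylow 2 (Cfsg.Sz F m) :=
    (CfsgLib.Lie.Suz.U_isPGroup hF).toSylow (CfsgLib.Lie.Suz.U_index_not_dvd hm hF)
  refine sylow_of_sylow S ?_ P
  show ElemAb (CfsgLib.Lie.Suz.U hF)
  have hS := CfsgLib.Lie.Suz.isSuzField hF
  intro y hy
  refine mem_good.2 ⟨hy, ?_⟩
  obtain ⟨a, b, hab⟩ := hy
  have hmul : ∀ a b a' b' : F, CfsgLib.Lie.Suz.TS hF a b * CfsgLib.Lie.Suz.TS hF a' b' =
      CfsgLib.Lie.Suz.TS hF (a + a') (b + b' + CfsgLib.Lie.Suz.th m a * a') :=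
    fun a b a' b' => Subtype.ext (CfsgLib.Lie.Suz.T_mul hS a b a' b')
  rw [show y = CfsgLib.Lie.Suz.TS hF a b from Subtype.ext hab, pow_two, hmul, CfsgLib.Lie.Suz.add_self hS,
    CfsgLib.Lie.Suz.add_self hS, zero_add]
  have hcomm : ∀ x z : F, ⁅CfsgLib.Lie.Suz.TS hF x 0, CfsgLib.Lie.Suz.TS hF z 0⁆ =
      CfsgLib.Lie.Suz.TS hF 0 (CfsgLib.Lie.Suz.th m x * z + CfsgLib.Lie.Suz.th m z * x) := by
    intro x z
    have e : CfsgLib.Lie.Suz.TS hF x 0 * CfsgLib.Lie.Suz.TS hF z 0 =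
        CfsgLib.Lie.Suz.TS hF 0 (CfsgLib.Lie.Suz.th m x * z + CfsgLib.Lie.Suz.th m z * x) *
          (CfsgLib.Lie.Suz.TS hF z 0 * CfsgLib.Lie.Suz.TS hF x 0) := by
      rw [hmul, hmul, hmul, CfsgLib.Lie.Suz.th_zero hS]
      congr 1
      · ring
      · simp only [zero_add, zero_mul, add_zero]
        rw [add_assoc, CfsgLib.Lie.Suz.add_self hS, add_zero]
    rw [commutatorElement_def, e]
    group
  rcases eq_or_ne a 0 with rfl | ha
  · rw [mul_zero, show CfsgLib.Lie.Suz.TS hF (0 : F) 0 = 1 from Subtype.ext CfsgLib.Lie.Suz.T_zero]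
    exact one_mem _
  obtain ⟨s, hs⟩ := CfsgLib.Lie.Suz.exists_th_ne hm hF
  have hs' : CfsgLib.Lie.Suz.th m s + s ≠ 0 := fun h0 => hs (by
    calc CfsgLib.Lie.Suz.th m s = CfsgLib.Lie.Suz.th m s + (s + s) := by rw [CfsgLib.Lie.Suz.add_self hS, add_zero]
      _ = s := by rw [← add_assoc, h0, zero_add])
  obtain ⟨k, hk⟩ := CfsgLib.Lie.Suz.exists_kth_eq hF (c := CfsgLib.Lie.Suz.th m a * a / (CfsgLib.Lie.Suz.th m s + s))
    (div_ne_zero (mul_ne_zero (fun h => ha (CfsgLib.Lie.Suz.th_eq_zero hS h)) ha) hs')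
  have h := Subgroup.commutator_mem_commutator (CfsgLib.Lie.Suz.TS_mem_U hF (k : F) 0)
    (CfsgLib.Lie.Suz.TS_mem_U hF (s * k) 0)
  rw [hcomm] at h
  convert h using 3
  rw [← div_mul_cancel₀ (CfsgLib.Lie.Suz.th m a * a) hs', ← hk, CfsgLib.Lie.Suz.th_mul hS]
  ring

end CfsgLib.Classical.SylowCharTwo
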