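import Cfsg.Agent.Lib.Classical.SylowTwoElemAb
import Cfsg.Agent.Lib.Coprime.PGroupFrattini

/-!
# Derived lengths: permutation two-groups and monomial groups

A two-group acting faithfully with orbits of length at most `2 ^ j` has derived length at most `j`;
doubling a group by a swap raises the derived length by one.
-/

set_option autoImplicit false

namespace CfsgLib.Classical.SylowTwoDL

open CfsgLib.Classical.SylowTwoElemAb
open scoped commutatorElement

theorem eq_one_of_mem_derived_of_orbit {T α : Type*} [Group T] [Finite T] [MulAction T α]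
    (hT : IsPGroup 2 T) {N : Subgroup T} (hN : N ≤ commutator T) (x : α)
    (h : MulAction.orbit T x ⊆ MulAction.orbit N x) (g : T) : g • x = x := by
  have hsup : MulAction.stabilizer T x ⊔ frattini T = ⊤ := by
    refine eq_top_iff.2 fun t _ => ?_
    obtain ⟨⟨n, hn⟩, hnt⟩ := h ⟨t, rfl⟩
    replace hnt : n • x = t • x := hnt
    have h1 : n⁻¹ * t ∈ MulAction.stabilizer T x := by
      rw [MulAction.mem_stabilizer_iff, mul_smul, ← hnt, inv_smul_smul]
    haveI := hT.isNilpotent
    have := mul_mem (Subgroup.mem_sup_right (S := MulAction.stabilizer T x)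
      (CfsgLib.Coprime.commutator_le_frattini hT (hN hn))) (Subgroup.mem_sup_left h1)
    rwa [mul_inv_cancel_left] at this
  have := frattini_nongenerating hsup
  exact MulAction.mem_stabilizer_iff.1 (this ▸ Subgroup.mem_top g)

theorem derivedSeries_eq_bot_of_orbits {j : ℕ} : ∀ (T α : Type) [Group T] [Finite T] [MulAction T α]
    [FaithfulSMul T α] [Finite α], IsPGroup 2 T → (∀ x : α, Nat.card (MulAction.orbit T x) ≤ 2 ^ j) →
    derivedSeries T j = ⊥ := by
  haveI : Fact (Nat.Prime 2) := ⟨Nat.prime_two⟩
  induction j with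
  | zero =>
    intro T α _ _ _ _ _ hT h
    rw [derivedSeries_zero, eq_bot_iff]
    intro g _
    rw [Subgroup.mem_bot]
    refine eq_of_smul_eq_smul (α := α) fun x => ?_
    rw [one_smul]
    have h1 : Nat.card (MulAction.orbit T x) ≤ 1 := by simpa using h x
    haveI := Finite.card_le_one_iff_subsingleton.1 h1
    exact congrArg Subtype.val (Subsingleton.elim (⟨g • x, ⟨g, rfl⟩⟩ : MulAction.orbit T x)
      ⟨x, MulAction.mem_orbit_self x⟩)
  | succ j ih =>
    intro T α _ _ _ _ _ hT h
    have hsub : IsPGroup 2 ↥(commutator T) := hT.to_subgroup _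
    have h' := ih ↥(commutator T) α hsub fun x => by
      obtain ⟨a, ha⟩ := hT.card_orbit x
      obtain ⟨b, hb⟩ := hsub.card_orbit x
      have hle : MulAction.orbit ↥(commutator T) x ⊆ MulAction.orbit T x := by
        rintro _ ⟨⟨n, hn⟩, rfl⟩
        exact ⟨n, rfl⟩
      by_cases heq : MulAction.orbit T x ⊆ MulAction.orbit ↥(commutator T) x
      · have h1 : MulAction.orbit ↥(commutator T) x ⊆ {x} := by
          rintro _ ⟨⟨n, hn⟩, rfl⟩
          exact eq_one_of_mem_derived_of_orbit hT le_rfl x heq n
        refine le_trans ?_ Nat.one_le_two_pow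
        rw [Nat.card_coe_set_eq]
        exact (Set.ncard_le_ncard h1).trans (Set.ncard_singleton x).le
      · have hlt : Nat.card (MulAction.orbit ↥(commutator T) x) < Nat.card (MulAction.orbit T x) := by
          rw [Nat.card_coe_set_eq, Nat.card_coe_set_eq]
          exact Set.ncard_lt_ncard ⟨hle, heq⟩
        rw [hb]
        rw [hb, ha] at hlt
        have h2 := ha ▸ h x
        refine Nat.pow_le_pow_right two_pos ?_
        have := (Nat.pow_lt_pow_iff_right one_lt_two).1 hlt
        have := (Nat.pow_le_pow_iff_right one_lt_two).1 h2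
        omega
    have hle : ∀ i, derivedSeries T (i + 1) ≤
        (derivedSeries ↥(commutator T) i).map (commutator T).subtype := by
      intro i
      induction i with
      | zero => rw [derivedSeries_zero, ← MonoidHom.range_eq_map, Subgroup.range_subtype,
          derivedSeries_one]
      | succ i hi =>
        rw [derivedSeries_succ T (i + 1), derivedSeries_succ (↥(commutator T)) i, Subgroup.map_commutator]
        exact Subgroup.commutator_mono hi hi
    rw [eq_bot_iff]
    refine (hle j).trans ?_
    rw [h', Subgroup.map_bot]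

/-- Doubling by a swap raises the derived length. -/
theorem derivedSeries_succ_ne_bot {H K : Type*} [Group H] [Group K] (e : H × H →* K)
    (he : Function.Injective e) (s : K) (hs : ∀ h, s * e (h, 1) * s⁻¹ = e (1, h)) (i : ℕ)
    (hi : derivedSeries H i ≠ ⊥) : derivedSeries K (i + 1) ≠ ⊥ := by
  let N : Subgroup (H × H) := (derivedSeries K 1).comap e
  have hsurj : Function.Surjective ((MonoidHom.fst H H).comp N.subtype) := by
    intro h
    refine ⟨⟨(h, h⁻¹), ?_⟩, rfl⟩
    show e (h, h⁻¹) ∈ derivedSeries K 1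
    have e1 : e (h, h⁻¹) = ⁅e (h, 1), s⁆ := by
      rw [commutatorElement_def, ← map_inv, Prod.inv_mk, inv_one, mul_assoc (e (h, 1)) s, mul_assoc (e (h, 1)), hs,
        ← map_mul]
      simp
    rw [e1, derivedSeries_one, commutator_def]
    exact Subgroup.commutator_mem_commutator (Subgroup.mem_top _) (Subgroup.mem_top _)
  have hle : ∀ i, (derivedSeries ↥N i).map (e.comp N.subtype) ≤ derivedSeries K (i + 1) := by
    intro i
    induction i with
    | zero =>
      rintro _ ⟨x, -, rfl⟩
      exact x.2
    | succ i hi =>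
      rw [derivedSeries_succ, derivedSeries_succ _ (i + 1), Subgroup.map_commutator]
      exact Subgroup.commutator_mono hi hi
  intro hb
  apply hi
  have h1 := hle i
  rw [hb, le_bot_iff, (Subgroup.map_eq_bot_iff_of_injective _
    (show Function.Injective (e.comp N.subtype) from he.comp Subtype.val_injective))] at h1
  rw [← map_derivedSeries_eq hsurj i, h1, Subgroup.map_bot]

theorem derivedSeries_ne_bot_of_injective {H K : Type*} [Group H] [Group K] (f : H →* K)
    (hf : Function.Injective f) {i : ℕ} (hi : derivedSeries H i ≠ ⊥) : derivedSeries K i ≠ ⊥ := by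
  intro h
  have := map_derivedSeries_le_derivedSeries f i
  rw [h, le_bot_iff, Subgroup.map_eq_bot_iff_of_injective _ hf] at this
  exact hi this

theorem derivedSeries_two_quaternion (m : ℕ) : derivedSeries (QuaternionGroup m) 2 = ⊥ := by
  have h1 : ∀ x ∈ derivedSeries (QuaternionGroup m) 1, ∃ i, x = QuaternionGroup.a i := by
    intro x hx
    rw [derivedSeries_one] at hx
    let A : Subgroup (QuaternionGroup m) :=
      { carrier := {x | ∃ i, x = QuaternionGroup.a i}
        one_mem' := ⟨0, rfl⟩
        mul_mem' := by rintro _ _ ⟨i, rfl⟩ ⟨j, rfl⟩; exact ⟨i + j, rfl⟩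
        inv_mem' := by rintro _ ⟨i, rfl⟩; exact ⟨-i, rfl⟩ }
    have hle : commutator (QuaternionGroup m) ≤ A := by
      rw [commutator_def, Subgroup.commutator_le]
      intro g _ h _
      cases g <;> cases h <;> exact ⟨_, rfl⟩
    exact hle hx
  rw [derivedSeries_succ, eq_bot_iff, Subgroup.commutator_le]
  intro g hg h hh
  obtain ⟨i, rfl⟩ := h1 g hg
  obtain ⟨j, rfl⟩ := h1 h hh
  rw [Subgroup.mem_bot, commutatorElement_eq_one_iff_mul_comm, QuaternionGroup.a_mul_a,
    QuaternionGroup.a_mul_a, add_comm]

/-! ### Monomial groups -/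

variable {ι : Type} {X G : Type*} [Fintype ι] [DecidableEq ι] [Group X] [Group G]
  {d : (ι → X) →* G} {π : Equiv.Perm ι →* G}

theorem derivedSeries_monGroup (M : Monomial d π) (Q : Subgroup X) (T : Subgroup (Equiv.Perm ι))
    {a b : ℕ} (hT : derivedSeries ↥T a = ⊥) (hQ : derivedSeries ↥Q b = ⊥) :
    derivedSeries ↥(monGroup M Q T) (a + b) = ⊥ := by
  have hex : ∀ x : ↥(monGroup M Q T), ∃ σ : ↥T, ∃ f ∈ (Subgroup.pi Set.univ fun _ : ι => Q),
      (x : G) = d f * π σ := fun x => by
    obtain ⟨f, hf, σ, hσ, h⟩ := x.2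
    exact ⟨⟨σ, hσ⟩, f, hf, h⟩
  choose q f hf hx using hex
  have huniq : ∀ (f g : ι → X) (σ τ : Equiv.Perm ι), d f * π σ = d g * π τ → f = g ∧ σ = τ := by
    intro f g σ τ h
    have h2 : d (g⁻¹ * f) = π (τ * σ⁻¹) := by
      rw [map_mul, map_inv, map_mul, map_inv, eq_mul_inv_iff_mul_eq, mul_assoc, h, inv_mul_cancel_left]
    obtain ⟨h3, h4⟩ := M.inj _ _ h2
    exact ⟨(inv_mul_eq_one.1 h3).symm, (mul_inv_eq_one.1 h4).symm⟩
  let p : ↥(monGroup M Q T) →* ↥T := MonoidHom.mk' q fun x y => by
    refine Subtype.ext (huniq (f (x * y)) (f x * (f y ∘ (q x : Equiv.Perm ι).symm)) _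
      ((q x : Equiv.Perm ι) * q y) ?_).2
    rw [← hx, Subgroup.coe_mul, hx x, hx y, map_mul, map_mul, ← M.conj]
    group
  let β : (ι → ↥Q) →* ↥(monGroup M Q T) :=
    (d.comp (MonoidHom.compLeft Q.subtype ι)).codRestrict _
      fun g => d_mem M T fun i _ => (g i).2
  have hker : ∀ x, p x = 1 → x ∈ β.range := fun x h => by
    refine ⟨fun i => ⟨f x i, hf x i trivial⟩, Subtype.ext ?_⟩
    show d _ = (x : G)
    rw [hx x, show (q x : Equiv.Perm ι) = 1 from congrArg Subtype.val h, map_one, mul_one]
    rfl
  have hle : ∀ i, derivedSeries ↥(monGroup M Q T) (a + i) ≤ (derivedSeries (ι → ↥Q) i).map β := by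
    intro i
    induction i with
    | zero =>
      rw [derivedSeries_zero, ← MonoidHom.range_eq_map, Nat.add_zero]
      intro x hx'
      have := map_derivedSeries_le_derivedSeries p a ⟨x, hx', rfl⟩
      rw [hT, Subgroup.mem_bot] at this
      exact hker x this
    | succ i hi =>
      rw [← Nat.add_assoc, derivedSeries_succ, derivedSeries_succ, Subgroup.map_commutator]
      exact Subgroup.commutator_mono hi hi
  have hpi : derivedSeries (ι → ↥Q) b = ⊥ := by
    rw [eq_bot_iff]
    intro g hg
    rw [Subgroup.mem_bot]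
    funext i
    have := map_derivedSeries_le_derivedSeries (Pi.evalMonoidHom (fun _ : ι => ↥Q) i) b ⟨g, hg, rfl⟩
    rwa [hQ, Subgroup.mem_bot] at this
  rw [eq_bot_iff]
  refine (hle b).trans ?_
  rw [hpi, Subgroup.map_bot]

end CfsgLib.Classical.SylowTwoDL
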