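import Cfsg.Agent.Lib.Classical.SL2Sylow
import Cfsg.Agent.Lib.Invol.SylowGLTwo
import Cfsg.Agent.Lib.Classical.SLBasic
import Cfsg.Agent.Lib.Classical.SpOrder
import Mathlib.NumberTheory.Padics.PadicVal.Basic
import Mathlib.NumberTheory.Multiplicity
import Mathlib.GroupTheory.Commutator.Finite
import Mathlib.GroupTheory.SpecificGroups.Quaternion
import Mathlib.LinearAlgebra.Matrix.Permutation

/-!
# Sylow two-subgroups of classical groups with elementary abelian abelianisation

A wreath construction: if a two-group `Q` and a two-group of permutations both have all squares in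
their derived subgroups, so has the monomial group they generate.
-/

set_option autoImplicit false
set_option linter.unusedSectionVars false

namespace CfsgLib.Classical.SylowTwoElemAb

open scoped commutatorElement
open Matrix

/-- The elements of `H` whose square lies in the derived subgroup of `H`. -/
def good {G : Type*} [Group G] (H : Subgroup G) : Subgroup G :=
  ((powMonoidHom 2).comp (Abelianization.of (G := H))).ker.map H.subtype

/-- All squares lie in the derived subgroup. -/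
def ElemAb {G : Type*} [Group G] (H : Subgroup G) : Prop := H ≤ good H

theorem mem_commutator_iff {G : Type*} [Group G] (H : Subgroup G) (x : H) :
    x ∈ commutator H ↔ (x : G) ∈ ⁅H, H⁆ := by
  have e : ⁅H, H⁆ = (commutator H).map H.subtype := by
    rw [_root_.commutator_def, Subgroup.map_commutator, ← MonoidHom.range_eq_map, Subgroup.range_subtype]
  rw [e]
  exact ⟨fun h => ⟨x, h, rfl⟩, fun ⟨y, hy, h⟩ => Subtype.ext h ▸ hy⟩

theorem mem_good {G : Type*} [Group G] {H : Subgroup G} {x : G} :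
    x ∈ good H ↔ x ∈ H ∧ x ^ 2 ∈ ⁅H, H⁆ := by
  constructor
  · rintro ⟨y, hy, rfl⟩
    refine ⟨y.2, ?_⟩
    rw [SetLike.mem_coe, MonoidHom.mem_ker, MonoidHom.comp_apply, powMonoidHom_apply, ← map_pow,
      ← MonoidHom.mem_ker, Abelianization.ker_of, mem_commutator_iff] at hy
    exact hy
  · rintro ⟨h1, h2⟩
    refine ⟨⟨x, h1⟩, ?_, rfl⟩
    rw [SetLike.mem_coe, MonoidHom.mem_ker, MonoidHom.comp_apply, powMonoidHom_apply, ← map_pow,
      ← MonoidHom.mem_ker, Abelianization.ker_of, mem_commutator_iff]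
    exact h2

theorem ElemAb.sq_mem {G : Type*} [Group G] {H : Subgroup G} (h : ElemAb H) {x : G} (hx : x ∈ H) :
    x ^ 2 ∈ ⁅H, H⁆ := (mem_good.1 (h hx)).2

theorem map_le_good {X G : Type*} [Group X] [Group G] (f : X →* G) {A : Subgroup X} (hA : ElemAb A)
    {H : Subgroup G} (hle : A.map f ≤ H) : A.map f ≤ good H := by
  rintro _ ⟨x, hx, rfl⟩
  refine mem_good.2 ⟨hle ⟨x, hx, rfl⟩, ?_⟩
  rw [← map_pow]
  refine Subgroup.commutator_mono hle hle ?_
  rw [← Subgroup.map_commutator]
  exact ⟨_, hA.sq_mem hx, rfl⟩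

theorem ElemAb.map {X G : Type*} [Group X] [Group G] (f : X →* G) {A : Subgroup X} (hA : ElemAb A) :
    ElemAb (A.map f) := map_le_good f hA le_rfl

theorem elemAb_pi {ι X : Type*} [Group X] [Finite ι] {Q : Subgroup X} (hQ : ElemAb Q) :
    ElemAb (Subgroup.pi Set.univ fun _ : ι => Q) := by
  intro f hf
  refine mem_good.2 ⟨hf, ?_⟩
  rw [Subgroup.commutator_pi_pi_of_finite]
  intro i hi
  exact hQ.sq_mem (hf i hi)

theorem elemAb_sylow_iff {G : Type*} [Group G] (S : Subgroup G) :
    ElemAb S ↔ ∀ x : S, x ^ 2 ∈ commutator S := by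
  constructor
  · intro h x
    rw [mem_commutator_iff, SubgroupClass.coe_pow]
    exact h.sq_mem x.2
  · intro h x hx
    refine mem_good.2 ⟨hx, ?_⟩
    exact (mem_commutator_iff S (⟨x, hx⟩ ^ 2)).1 (h ⟨x, hx⟩)

/-- All Sylow two-subgroups share the property with any subgroup of the same order. -/
theorem sylow_of_elemAb {G : Type*} [Group G] [Finite G] (H : Subgroup G)
    (hcard : Nat.card H = 2 ^ padicValNat 2 (Nat.card G)) (hH : ElemAb H) (P : Sylow 2 G) :
    ∀ x : (P : Subgroup G), x ^ 2 ∈ commutator (P : Subgroup G) := by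
  haveI : Fact (Nat.Prime 2) := ⟨Nat.prime_two⟩
  let S : Sylow 2 G := Sylow.ofCard H (by rw [hcard, Nat.factorization_def _ Nat.prime_two])
  obtain ⟨g, hg⟩ := MulAction.exists_smul_eq G S P
  rw [← elemAb_sylow_iff, ← hg]
  exact hH.map (MulAut.conj g).toMonoidHom

/-! ### The wreath construction -/

section Wreath

variable {ι X G : Type*} [Fintype ι] [DecidableEq ι] [Group X] [Group G]

/-- The data of a monomial embedding. -/
structure Monomial (d : (ι → X) →* G) (π : Equiv.Perm ι →* G) : Prop where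
  inj : ∀ f σ, d f = π σ → f = 1 ∧ σ = 1
  conj : ∀ σ f, π σ * d f * (π σ)⁻¹ = d (f ∘ σ.symm)

variable {d : (ι → X) →* G} {π : Equiv.Perm ι →* G}

/-- The monomial group. -/
def monGroup (M : Monomial d π) (Q : Subgroup X) (T : Subgroup (Equiv.Perm ι)) : Subgroup G where
  carrier := {x | ∃ f ∈ (Subgroup.pi Set.univ fun _ : ι => Q), ∃ σ ∈ T, x = d f * π σ}
  one_mem' := ⟨1, one_mem _, 1, one_mem _, by simp⟩
  mul_mem' := by
    rintro _ _ ⟨f, hf, σ, hσ, rfl⟩ ⟨g, hg, τ, hτ, rfl⟩
    refine ⟨f * (g ∘ σ.symm), mul_mem hf fun i hi => hg _ trivial, σ * τ, mul_mem hσ hτ, ?_⟩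
    rw [map_mul, map_mul, ← M.conj]
    group
  inv_mem' := by
    rintro _ ⟨f, hf, σ, hσ, rfl⟩
    refine ⟨f⁻¹ ∘ (σ⁻¹ : Equiv.Perm ι).symm, fun i _ => show (f⁻¹ ∘ (σ⁻¹ : Equiv.Perm ι).symm) i ∈ Q from
      inv_mem (show f _ ∈ Q from hf _ trivial), σ⁻¹, inv_mem hσ, ?_⟩
    rw [← M.conj, map_inv, map_inv]
    group

theorem d_mem (M : Monomial d π) {Q : Subgroup X} (T : Subgroup (Equiv.Perm ι)) {f : ι → X}
    (hf : f ∈ Subgroup.pi Set.univ fun _ : ι => Q) : d f ∈ monGroup M Q T :=
  ⟨f, hf, 1, one_mem _, by simp⟩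

theorem perm_mem (M : Monomial d π) (Q : Subgroup X) {T : Subgroup (Equiv.Perm ι)} {σ : Equiv.Perm ι}
    (hσ : σ ∈ T) : π σ ∈ monGroup M Q T := ⟨1, one_mem _, σ, hσ, by simp⟩

theorem card_monGroup (M : Monomial d π) (Q : Subgroup X) (T : Subgroup (Equiv.Perm ι)) :
    Nat.card (monGroup M Q T) = Nat.card Q ^ Fintype.card ι * Nat.card T := by
  have e : Function.Bijective (fun z : (ι → Q) × T =>
      (⟨d (fun i => (z.1 i : X)) * π z.2, _, fun i _ => (z.1 i).2, _, z.2.2, rfl⟩ : monGroup M Q T)) := by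
    constructor
    · rintro ⟨f, σ⟩ ⟨g, τ⟩ h
      have h' : d (fun i => (f i : X)) * π σ = d (fun i => (g i : X)) * π τ := congrArg Subtype.val h
      have h2 : d ((fun i => (g i : X))⁻¹ * fun i => (f i : X)) =
          π ((τ : Equiv.Perm ι) * (σ : Equiv.Perm ι)⁻¹) := by
        rw [map_mul, map_inv, map_mul, map_inv, eq_mul_inv_iff_mul_eq, mul_assoc, h',
          inv_mul_cancel_left]
      obtain ⟨h3, h4⟩ := M.inj _ _ h2
      refine Prod.ext (funext fun i => Subtype.ext ?_) (Subtype.ext (mul_inv_eq_one.1 h4).symm)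
      exact congrFun (inv_mul_eq_one.1 h3).symm i
    · rintro ⟨_, f, hf, σ, hσ, rfl⟩
      exact ⟨⟨fun i => ⟨f i, hf i trivial⟩, ⟨σ, hσ⟩⟩, rfl⟩
  rw [← Nat.card_congr (Equiv.ofBijective _ e), Nat.card_prod, Nat.card_pi, Finset.prod_const,
    Finset.card_univ]

theorem elemAb_monGroup (M : Monomial d π) {Q : Subgroup X} (hQ : ElemAb Q)
    {T : Subgroup (Equiv.Perm ι)} (hT : ElemAb T) : ElemAb (monGroup M Q T) := by
  rintro _ ⟨f, hf, σ, hσ, rfl⟩
  refine mul_mem (map_le_good d (elemAb_pi hQ) ?_ ⟨f, hf, rfl⟩) (map_le_good π hT ?_ ⟨σ, hσ, rfl⟩)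
  · rintro _ ⟨g, hg, rfl⟩; exact d_mem M T hg
  · rintro _ ⟨τ, hτ, rfl⟩; exact perm_mem M Q hτ

end Wreath

/-! ### A Sylow two-subgroup of the symmetric group -/

theorem exists_perm_two_group (n : ℕ) : ∀ (ι : Type) [Fintype ι] [DecidableEq ι], Fintype.card ι = n →
    ∃ T : Subgroup (Equiv.Perm ι), Nat.card T = 2 ^ padicValNat 2 n.factorial ∧ ElemAb T ∧
      ((∃ j : ℕ, n = 2 ^ j) → ∀ a b : ι, ∃ t ∈ T, t a = b ∧ t b = a) := by
  induction n using Nat.strong_induction_on with
  | _ n ih =>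
  intro ι _ _ hι
  haveI : Fact (Nat.Prime 2) := ⟨Nat.prime_two⟩
  rcases Nat.lt_or_ge n 2 with h | h
  · refine ⟨⊥, ?_, bot_le, fun _ a b => ⟨1, one_mem _, ?_⟩⟩
    · interval_cases n <;> simp
    · haveI : Subsingleton ι := Fintype.card_le_one_iff_subsingleton.1 (by omega)
      exact ⟨Subsingleton.elim _ _, Subsingleton.elim _ _⟩
  obtain ⟨m, r, hr, rfl⟩ : ∃ m r, r < 2 ∧ n = 2 * m + r := ⟨n / 2, n % 2, Nat.mod_lt _ (by norm_num), by omega⟩
  obtain ⟨T, hT, hTE, hTS⟩ := ih m (by omega) (Fin m) (Fintype.card_fin m)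
  let d : (Fin m → Equiv.Perm (Fin 2)) →* Equiv.Perm ((Fin 2 × Fin m) ⊕ Fin r) :=
    { toFun := fun f => Equiv.sumCongr
        { toFun := fun x => (f x.2 x.1, x.2)
          invFun := fun x => ((f x.2).symm x.1, x.2)
          left_inv := fun x => by simp
          right_inv := fun x => by simp } 1
      map_one' := by ext x; rcases x with ⟨b, i⟩ | x <;> rfl
      map_mul' := fun f g => by ext x; rcases x with ⟨b, i⟩ | x <;> rfl }
  let π : Equiv.Perm (Fin m) →* Equiv.Perm ((Fin 2 × Fin m) ⊕ Fin r) :=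
    { toFun := fun σ => Equiv.sumCongr (Equiv.prodCongr (Equiv.refl _) σ) 1
      map_one' := by ext x; rcases x with ⟨b, i⟩ | x <;> rfl
      map_mul' := fun f g => by ext x; rcases x with ⟨b, i⟩ | x <;> rfl }
  have M : Monomial d π := by
    refine ⟨fun f σ h => ?_, fun σ f => ?_⟩
    · have h' : ∀ b i, (f i b, i) = (b, σ i) := fun b i =>
        Sum.inl_injective (DFunLike.congr_fun h (Sum.inl (b, i)))
      exact ⟨funext fun i => Equiv.ext fun b => congrArg Prod.fst (h' b i),
        Equiv.ext fun i => (congrArg Prod.snd (h' 0 i)).symm⟩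
    · rw [mul_inv_eq_iff_eq_mul]
      ext x
      rcases x with ⟨b, i⟩ | x
      · show Sum.inl (f i b, σ i) = Sum.inl (f (σ.symm (σ i)) b, σ i)
        rw [Equiv.symm_apply_apply]
      · rfl
  have hperm : ElemAb (⊤ : Subgroup (Equiv.Perm (Fin 2))) := fun x _ => mem_good.2 ⟨trivial, by
    have : ∀ y : Equiv.Perm (Fin 2), y ^ 2 = 1 := by decide
    rw [this]; exact one_mem _⟩
  let e : ((Fin 2 × Fin m) ⊕ Fin r) ≃ ι := Fintype.equivOfCardEq (by simp [hι])
  refine ⟨(monGroup M ⊤ T).map e.permCongrHom.toMonoidHom, ?_, (elemAb_monGroup M hperm hTE).map _, ?_⟩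
  · rw [Subgroup.card_map_of_injective e.permCongrHom.injective, card_monGroup, Subgroup.card_top,
      Nat.card_perm, Nat.card_fin, Fintype.card_fin, hT, Nat.factorial_two, ← pow_add,
      padicValNat_factorial_mul_add _ hr, padicValNat_factorial_mul, Nat.add_comm]
  · rintro ⟨j, hj⟩ a b
    obtain ⟨j, rfl⟩ : ∃ i, j = i + 1 := ⟨j - 1, by
      rcases j with _ | j
      · omega
      · simp⟩
    have hr0 : r = 0 := by rw [pow_succ] at hj; omega
    subst hr0
    obtain ⟨x, rfl⟩ := e.surjective a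
    obtain ⟨y, rfl⟩ := e.surjective b
    rcases x with ⟨c, i⟩ | x
    · rcases y with ⟨c', i'⟩ | y
      · obtain ⟨t, ht, h1, h2⟩ := hTS ⟨j, by rw [pow_succ] at hj; omega⟩ i i'
        let s : Equiv.Perm (Fin 2) := Equiv.swap c c'
        refine ⟨e.permCongrHom (d (fun _ => s) * π t), ⟨_, mul_mem (d_mem M T fun _ _ => trivial)
          (perm_mem M ⊤ ht), rfl⟩, ?_, ?_⟩
        · show e (Sum.map _ _ (Sum.map _ _ (e.symm (e (Sum.inl (c, i)))))) = _
          rw [Equiv.symm_apply_apply]
          show e (Sum.inl (s c, t i)) = _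
          rw [h1, Equiv.swap_apply_left]
        · show e (Sum.map _ _ (Sum.map _ _ (e.symm (e (Sum.inl (c', i')))))) = _
          rw [Equiv.symm_apply_apply]
          show e (Sum.inl (s c', t i')) = _
          rw [h2, Equiv.swap_apply_right]
      · exact y.elim0
    · exact x.elim0

/-! ### Valuations -/

section Val

variable {q : ℕ}

theorem pow_sub_one_odd (hq : 1 ≤ q) (hodd : Odd q) (l : ℕ) :
    ∃ S, Odd S ∧ q ^ (2 * l + 1) - 1 = (q - 1) * S := by
  obtain ⟨r, rfl⟩ : ∃ r, q = r + 1 := ⟨q - 1, by omega⟩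
  suffices h : ∃ S, Odd S ∧ (r + 1) ^ (2 * l + 1) = r * S + 1 by
    obtain ⟨S, hS, h⟩ := h
    exact ⟨S, hS, by rw [h]; simp⟩
  induction l with
  | zero => exact ⟨1, odd_one, by simp⟩
  | succ l ih =>
    obtain ⟨S, hS, h⟩ := ih
    refine ⟨(r + 2) + (r + 1) ^ 2 * S, ?_, ?_⟩
    · have h2 : Even (r + 2) := by rw [show r + 2 = (r + 1) + 1 by ring]; exact hodd.add_one
      exact h2.add_odd ((hodd.pow).mul hS)
    · rw [show 2 * (l + 1) + 1 = (2 * l + 1) + 2 by ring, pow_add, h]; ring

theorem val_odd (hq : 2 ≤ q) (hodd : Odd q) (l : ℕ) :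
    padicValNat 2 (q ^ (2 * l + 1) - 1) = padicValNat 2 (q - 1) := by
  haveI : Fact (Nat.Prime 2) := ⟨Nat.prime_two⟩
  obtain ⟨S, hS, h⟩ := pow_sub_one_odd (by omega) hodd l
  rw [h, padicValNat.mul (by omega) (fun h0 => by simp [h0] at hS),
    padicValNat.eq_zero_of_not_dvd (n := S) (fun h2 => (Nat.not_even_iff_odd.2 hS) (even_iff_two_dvd.2 h2)),
    add_zero]

theorem val_even (hq : 2 ≤ q) (hodd : Odd q) (i : ℕ) (hi : 1 ≤ i) :
    padicValNat 2 (q ^ (2 * i) - 1) = padicValNat 2 (q - 1) + padicValNat 2 (q + 1) + padicValNat 2 i := by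
  haveI : Fact (Nat.Prime 2) := ⟨Nat.prime_two⟩
  have hd : ¬ 2 ∣ q := fun h2 => (Nat.not_even_iff_odd.2 hodd) (even_iff_two_dvd.2 h2)
  have h := padicValNat.pow_two_sub_pow (x := q) (y := 1) (by omega) (by omega) hd
    (n := 2 * i) (by omega) (even_two_mul i)
  rw [one_pow, padicValNat.mul (by norm_num) (by omega), padicValNat_self] at h
  omega

variable {F : Type*} [Field F] [Fintype F]

theorem card_GL_succ (n : ℕ) :
    Nat.card (GL (Fin (n + 1)) F) = (Fintype.card F ^ (n + 1) - 1) *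
      (Fintype.card F ^ n * Nat.card (GL (Fin n) F)) := by
  rw [Matrix.card_GL_field, Matrix.card_GL_field, Fin.prod_univ_succ, Fin.val_zero, pow_zero]
  congr 1
  have e : (Fintype.card F) ^ n = ∏ _i : Fin n, Fintype.card F := by simp
  conv_rhs => arg 1; rw [e]
  rw [← Finset.prod_mul_distrib]
  refine Finset.prod_congr rfl fun i _ => ?_
  rw [Fin.val_succ, pow_succ', pow_succ', Nat.mul_sub]

theorem val_GL_succ (hF : Odd (Fintype.card F)) (n : ℕ) :
    padicValNat 2 (Nat.card (GL (Fin (n + 1)) F)) =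
      padicValNat 2 (Fintype.card F ^ (n + 1) - 1) + padicValNat 2 (Nat.card (GL (Fin n) F)) := by
  haveI : Fact (Nat.Prime 2) := ⟨Nat.prime_two⟩
  have h1 : 1 < Fintype.card F := Fintype.one_lt_card
  have hd : ¬ 2 ∣ Fintype.card F ^ n := fun h2 =>
    (Nat.not_even_iff_odd.2 (hF.pow (n := n))) (even_iff_two_dvd.2 h2)
  have h2 : Fintype.card F ^ (n + 1) - 1 ≠ 0 := by
    have := Nat.one_lt_pow (n := n + 1) (by omega) h1; omega
  rw [card_GL_succ, padicValNat.mul h2 (Nat.mul_ne_zero (fun h0 => hd (by rw [h0]; exact dvd_zero 2)) Nat.card_pos.ne'),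
    padicValNat.mul (fun h0 => hd (by rw [h0]; exact dvd_zero 2)) Nat.card_pos.ne',
    padicValNat.eq_zero_of_not_dvd hd, zero_add]

theorem val_GL_even (hF : Odd (Fintype.card F)) (m : ℕ) :
    padicValNat 2 (Nat.card (GL (Fin (2 * m)) F)) =
      m * (2 * padicValNat 2 (Fintype.card F - 1) + padicValNat 2 (Fintype.card F + 1)) +
        padicValNat 2 m.factorial := by
  haveI : Fact (Nat.Prime 2) := ⟨Nat.prime_two⟩
  have h1 : 1 < Fintype.card F := Fintype.one_lt_card
  induction m with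
  | zero => simp
  | succ m ih =>
    rw [show 2 * (m + 1) = (2 * m + 1) + 1 by ring, val_GL_succ hF, val_GL_succ hF, ih,
      show 2 * m + 1 + 1 = 2 * (m + 1) by ring, val_even h1 hF _ (by omega), val_odd h1 hF,
      Nat.factorial_succ, padicValNat.mul (by omega) m.factorial_ne_zero]
    ring

theorem val_GL_two (hF : Odd (Fintype.card F)) :
    padicValNat 2 (Nat.card (GL (Fin 2) F)) =
      2 * padicValNat 2 (Fintype.card F - 1) + padicValNat 2 (Fintype.card F + 1) := by
  have := val_GL_even (F := F) hF 1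
  simpa using this

theorem val_SL (n : ℕ) (hn : 1 ≤ n) :
    padicValNat 2 (Fintype.card F - 1) + padicValNat 2 (Nat.card (SpecialLinearGroup (Fin n) F)) =
      padicValNat 2 (Nat.card (GL (Fin n) F)) := by
  haveI : Fact (Nat.Prime 2) := ⟨Nat.prime_two⟩
  have h1 : 1 < Fintype.card F := Fintype.one_lt_card
  rw [Matrix.card_GL_field, ← card_sl_mul hn, padicValNat.mul (by omega) Nat.card_pos.ne']

theorem val_SL_two (hF : Odd (Fintype.card F)) :
    padicValNat 2 (Nat.card (SpecialLinearGroup (Fin 2) F)) =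
      padicValNat 2 (Fintype.card F - 1) + padicValNat 2 (Fintype.card F + 1) := by
  have := val_SL (F := F) 2 (by omega)
  rw [val_GL_two hF] at this
  omega

end Val

theorem val_Sp {F : Type*} [Field F] [Fintype F] (hF : Odd (Fintype.card F)) (m : ℕ) :
    padicValNat 2 (Nat.card (Matrix.symplecticGroup (Fin m) F)) =
      m * (padicValNat 2 (Fintype.card F - 1) + padicValNat 2 (Fintype.card F + 1)) +
        padicValNat 2 m.factorial := by
  haveI : Fact (Nat.Prime 2) := ⟨Nat.prime_two⟩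
  have h1 : 1 < Fintype.card F := Fintype.one_lt_card
  have hd : ∀ k, ¬ 2 ∣ Fintype.card F ^ k := fun k h2 =>
    (Nat.not_even_iff_odd.2 (hF.pow (n := k))) (even_iff_two_dvd.2 h2)
  rw [card_symplectic, padicValNat.mul (fun h0 => hd (m ^ 2) (by rw [h0]; exact dvd_zero 2)) ?_,
    padicValNat.eq_zero_of_not_dvd (hd _), zero_add]
  swap
  · exact Finset.prod_ne_zero_iff.2 fun i _ => by
      have := Nat.one_lt_pow (n := 2 * (i + 1)) (by omega) h1; omega
  induction m with
  | zero => simp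
  | succ m ih =>
    rw [Finset.prod_range_succ, padicValNat.mul ?_ ?_, ih, val_even h1 hF _ (by omega),
      Nat.factorial_succ, padicValNat.mul (by omega) m.factorial_ne_zero]
    · ring
    · exact Finset.prod_ne_zero_iff.2 fun i _ => by
        have := Nat.one_lt_pow (n := 2 * (i + 1)) (by omega) h1; omega
    · have := Nat.one_lt_pow (n := 2 * (m + 1)) (by omega) h1; omega

/-! ### Quaternion Sylow subgroups of `SL₂` -/

theorem quaternion_sq (k : ℕ) (hk : 1 ≤ k) (z : QuaternionGroup (2 ^ k)) :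
    z ^ 2 ∈ commutator (QuaternionGroup (2 ^ k)) := by
  have hev : ∀ i : ZMod (2 * 2 ^ k), QuaternionGroup.a (2 * i) ∈ commutator (QuaternionGroup (2 ^ k)) := by
    intro i
    have : ⁅(QuaternionGroup.a i : QuaternionGroup (2 ^ k)), QuaternionGroup.xa 0⁆ = QuaternionGroup.a (2 * i) := by
      rw [commutatorElement_def, mul_inv_eq_iff_eq_mul, mul_inv_eq_iff_eq_mul]
      simp only [QuaternionGroup.a_mul_xa, QuaternionGroup.xa_mul_a]
      congr 1; ring
    rw [← this]
    exact Subgroup.commutator_mem_commutator (Subgroup.mem_top _) (Subgroup.mem_top _)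
  cases z with
  | a i =>
    rw [pow_two, QuaternionGroup.a_mul_a, ← two_mul]
    exact hev i
  | xa i =>
    rw [QuaternionGroup.xa_sq]
    have := hev ((2 ^ (k - 1) : ℕ) : ZMod (2 * 2 ^ k))
    rwa [show (2 : ZMod (2 * 2 ^ k)) * ((2 ^ (k - 1) : ℕ) : ZMod (2 * 2 ^ k)) = ((2 ^ k : ℕ) : ZMod (2 * 2 ^ k)) by
      rw [show (2 ^ k : ℕ) = 2 * 2 ^ (k - 1) by rw [← pow_succ', Nat.sub_add_cancel hk]]
      push_cast; rfl] at this

theorem elemAb_sylow_SL_two {F : Type*} [Field F] [Fintype F] (hF : Odd (Fintype.card F))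
    (P : Sylow 2 (SpecialLinearGroup (Fin 2) F)) : ElemAb (P : Subgroup (SpecialLinearGroup (Fin 2) F)) := by
  obtain ⟨k, hk, ⟨e⟩⟩ := sylow_two_quaternion hF P
  rw [elemAb_sylow_iff]
  intro x
  have h := quaternion_sq k hk (e x)
  rw [← map_pow, _root_.commutator_def, ← Subgroup.map_top_of_surjective e.toMonoidHom e.surjective,
    ← Subgroup.map_commutator, ← _root_.commutator_def] at h
  obtain ⟨y, hy, hxy⟩ := h
  rwa [e.injective hxy] at hy

/-! ### Block embeddings -/

section Blocks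

variable {ι : Type*} [Fintype ι] [DecidableEq ι] {F : Type*} [CommRing F]

/-- The matrix with two-by-two blocks `f i`. -/
def blockMat (f : ι → Matrix (Fin 2) (Fin 2) F) : Matrix (ι ⊕ ι) (ι ⊕ ι) F :=
  Matrix.fromBlocks (diagonal fun i => f i 0 0) (diagonal fun i => f i 0 1)
    (diagonal fun i => f i 1 0) (diagonal fun i => f i 1 1)

theorem blockMat_one : blockMat (1 : ι → Matrix (Fin 2) (Fin 2) F) = 1 := by
  simp [blockMat]

theorem blockMat_mul (f g : ι → Matrix (Fin 2) (Fin 2) F) :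
    blockMat (f * g) = blockMat f * blockMat g := by
  simp only [blockMat, fromBlocks_multiply, diagonal_mul_diagonal, diagonal_add]
  congr 1 <;> (congr 1; funext i; simp [Matrix.mul_apply, Fin.sum_univ_two])

/-- The block diagonal homomorphism. -/
def blockHom : (ι → Matrix (Fin 2) (Fin 2) F) →* Matrix (ι ⊕ ι) (ι ⊕ ι) F where
  toFun := blockMat
  map_one' := blockMat_one
  map_mul' := blockMat_mul

/-- A permutation as a matrix. -/
def pMat (σ : Equiv.Perm ι) : Matrix ι ι F := Matrix.of fun i j => if σ j = i then 1 else 0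

theorem pMat_one : pMat (F := F) (1 : Equiv.Perm ι) = 1 := by
  ext i j; simp [pMat, Matrix.one_apply, eq_comm]

theorem pMat_mul (σ τ : Equiv.Perm ι) : pMat (F := F) (σ * τ) = pMat σ * pMat τ := by
  ext i j; simp [pMat, Matrix.mul_apply, Finset.sum_ite_eq]; congr 1

theorem pMat_transpose (σ : Equiv.Perm ι) : (pMat (F := F) σ)ᵀ = pMat σ⁻¹ := by
  ext i j
  simp only [pMat, transpose_apply, of_apply]
  congr 1
  rw [Equiv.Perm.inv_def, Equiv.symm_apply_eq]; exact propext eq_comm

theorem pMat_diagonal (σ : Equiv.Perm ι) (a : ι → F) :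
    pMat σ * diagonal a = diagonal (a ∘ σ.symm) * pMat σ := by
  ext i j
  simp only [mul_diagonal, diagonal_mul, pMat, of_apply, Function.comp]
  split_ifs with h
  · rw [← h, Equiv.symm_apply_apply]; ring
  · simp

/-- The doubled permutation matrix. -/
def pHom : Equiv.Perm ι →* Matrix (ι ⊕ ι) (ι ⊕ ι) F where
  toFun σ := Matrix.fromBlocks (pMat σ) 0 0 (pMat σ)
  map_one' := by simp [pMat_one]
  map_mul' σ τ := by simp [fromBlocks_multiply, pMat_mul]

theorem pHom_block (σ : Equiv.Perm ι) (f : ι → Matrix (Fin 2) (Fin 2) F) :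
    pHom σ * blockHom f = blockHom (f ∘ σ.symm) * pHom σ := by
  show Matrix.fromBlocks (pMat σ) 0 0 (pMat σ) * blockMat f =
    blockMat (f ∘ σ.symm) * Matrix.fromBlocks (pMat σ) 0 0 (pMat σ)
  simp only [blockMat, fromBlocks_multiply, pMat_diagonal, Matrix.zero_mul, Matrix.mul_zero,
    add_zero, zero_add]
  rfl

theorem block_inj [Nontrivial F] (f : ι → Matrix (Fin 2) (Fin 2) F) (σ : Equiv.Perm ι)
    (hf : ∀ i, (f i).det = 1 ∨ IsUnit (f i).det) (h : blockHom f = pHom σ) : f = 1 ∧ σ = 1 := by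
  have h' : blockMat f = Matrix.fromBlocks (pMat σ) 0 0 (pMat σ) := h
  obtain ⟨h11, h12, h21, h22⟩ := Matrix.fromBlocks_inj.1 h'
  have hσ : σ = 1 := by
    refine Equiv.ext fun j => ?_
    by_contra hne
    have := congrFun (congrFun h11 (σ j)) j
    rw [Equiv.Perm.one_apply] at hne
    rw [diagonal_apply_ne _ hne] at this
    simp [pMat] at this
  subst hσ
  rw [pMat_one] at h11 h22
  refine ⟨funext fun i => ?_, rfl⟩
  ext a b
  fin_cases a <;> fin_cases b
  · simpa using congrFun (congrFun h11 i) i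
  · simpa using congrFun (congrFun h12 i) i
  · simpa using congrFun (congrFun h21 i) i
  · simpa using congrFun (congrFun h22 i) i

theorem det_pHom (σ : Equiv.Perm ι) : (pHom (F := F) σ).det = 1 := by
  show (Matrix.fromBlocks (pMat σ) 0 0 (pMat σ)).det = 1
  rw [det_fromBlocks_zero₂₁]
  have : (pMat (F := F) σ) = (1 : Matrix ι ι F).submatrix id σ := by
    ext i j; simp [pMat, Matrix.one_apply, eq_comm]
  rw [this, Matrix.det_permute', det_one, mul_one]
  rcases Int.units_eq_one_or (Equiv.Perm.sign σ) with h | h <;> simp [h]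

theorem det_blockHom (f : ι → Matrix (Fin 2) (Fin 2) F) : (blockHom f).det = ∏ i, (f i).det := by
  let e : ι ⊕ ι ≃ Fin 2 × ι :=
    ((Equiv.prodCongr finTwoEquiv (Equiv.refl ι)).trans (Equiv.boolProdEquivSum ι)).symm
  have : blockHom f = (Matrix.blockDiagonal f).submatrix e e := by
    ext x y
    rcases x with x | x <;> rcases y with y | y <;>
      simp [blockHom, blockMat, e, Matrix.blockDiagonal_apply, diagonal_apply, finTwoEquiv,
        Equiv.boolProdEquivSum]
  rw [this, det_submatrix_equiv_self, det_blockDiagonal]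

theorem mem_symplectic_block (f : ι → Matrix (Fin 2) (Fin 2) F) (hf : ∀ i, (f i).det = 1) :
    blockHom f ∈ Matrix.symplecticGroup ι F := by
  rw [SymplecticGroup.mem_iff]
  show blockMat f * J ι F * (blockMat f)ᵀ = J ι F
  simp only [blockMat, J, fromBlocks_multiply, fromBlocks_transpose, diagonal_transpose,
    Matrix.mul_zero, Matrix.mul_one, Matrix.mul_neg, zero_add, add_zero, Matrix.neg_mul,
    diagonal_mul_diagonal]
  have hdet : ∀ i, f i 0 0 * f i 1 1 - f i 0 1 * f i 1 0 = 1 := fun i => by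
    rw [← Matrix.det_fin_two]; exact hf i
  congr 1 <;> ext a b <;> rcases eq_or_ne a b with rfl | hab <;>
    simp [*] <;> first | linear_combination hdet a | linear_combination -(hdet a) | ring

theorem mem_symplectic_perm (σ : Equiv.Perm ι) : pHom σ ∈ Matrix.symplecticGroup ι F := by
  rw [SymplecticGroup.mem_iff]
  show Matrix.fromBlocks (pMat σ) 0 0 (pMat σ) * J ι F * (Matrix.fromBlocks (pMat σ) 0 0 (pMat σ))ᵀ = J ι F
  simp [J, fromBlocks_multiply, fromBlocks_transpose, pMat_transpose, ← pMat_mul, pMat_one]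

end Blocks

/-! ### The groups -/

section Groups

variable {ι : Type*} [Fintype ι] [DecidableEq ι] {F : Type*} [Field F]

/-- The block diagonal embedding of `SL₂`'s into the symplectic group. -/
def dSp : (ι → SpecialLinearGroup (Fin 2) F) →* Matrix.symplecticGroup ι F where
  toFun f := ⟨blockHom fun i => (f i).1, mem_symplectic_block _ fun i => (f i).2⟩
  map_one' := Subtype.ext (map_one (blockHom (ι := ι) (F := F)))
  map_mul' f g := Subtype.ext (map_mul (blockHom (ι := ι) (F := F)) _ _)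

/-- Permutations inside the symplectic group. -/
def pSp : Equiv.Perm ι →* Matrix.symplecticGroup ι F where
  toFun σ := ⟨pHom σ, mem_symplectic_perm σ⟩
  map_one' := Subtype.ext (map_one (pHom (ι := ι) (F := F)))
  map_mul' σ τ := Subtype.ext (map_mul (pHom (ι := ι) (F := F)) _ _)

theorem monomial_Sp : Monomial (dSp (ι := ι) (F := F)) pSp := by
  refine ⟨fun f σ h => ?_, fun σ f => ?_⟩
  · obtain ⟨h1, h2⟩ := block_inj _ σ (fun i => Or.inl (f i).2) (congrArg Subtype.val h)
    exact ⟨funext fun i => Subtype.ext (congrFun h1 i), h2⟩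
  · rw [mul_inv_eq_iff_eq_mul]
    exact Subtype.ext (pHom_block σ fun i => (f i).1)

/-- The block diagonal embedding of `GL₂`'s. -/
def dGL : (ι → GL (Fin 2) F) →* GL (ι ⊕ ι) F :=
  MonoidHom.toHomUnits (blockHom.comp (MonoidHom.compLeft (Units.coeHom _) ι))

/-- Permutations inside the general linear group. -/
def pGL : Equiv.Perm ι →* GL (ι ⊕ ι) F := MonoidHom.toHomUnits pHom

theorem monomial_GL : Monomial (dGL (ι := ι) (F := F)) pGL := by
  refine ⟨fun f σ h => ?_, fun σ f => ?_⟩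
  · obtain ⟨h1, h2⟩ := block_inj _ σ (fun i => Or.inr ((Matrix.isUnit_iff_isUnit_det _).1 (f i).isUnit))
      (congrArg Units.val h)
    exact ⟨funext fun i => Units.ext (congrFun h1 i), h2⟩
  · rw [mul_inv_eq_iff_eq_mul]
    exact Units.ext (pHom_block σ fun i => (f i).1)

theorem det_dGL (f : ι → GL (Fin 2) F) :
    Matrix.GeneralLinearGroup.det (dGL f) = ∏ i, Matrix.GeneralLinearGroup.det (f i) := by
  refine Units.ext ?_
  rw [Units.coe_prod]
  exact det_blockHom fun i => (f i).1

theorem det_pGL (σ : Equiv.Perm ι) : Matrix.GeneralLinearGroup.det (pGL (F := F) σ) = 1 :=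
  Units.ext (det_pHom σ)

end Groups

/-- A Sylow two-subgroup of `GL₂` made from one of `SL₂` and an element of full determinant order. -/
theorem exists_gl_two {F : Type*} [Field F] [Fintype F] (hF : Odd (Fintype.card F)) :
    ∃ (Q : Subgroup (GL (Fin 2) F)) (u : GL (Fin 2) F) (R : Subgroup (SpecialLinearGroup (Fin 2) F)),
      Nat.card Q = 2 ^ padicValNat 2 (Nat.card (GL (Fin 2) F)) ∧ u ∈ Q ∧
      orderOf u = 2 ^ padicValNat 2 (Fintype.card F - 1) ∧
      orderOf (Matrix.GeneralLinearGroup.det u) = 2 ^ padicValNat 2 (Fintype.card F - 1) ∧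
      ElemAb R ∧ R.map SpecialLinearGroup.toGL ≤ Q ∧
      ∀ x ∈ Q, ∃ i : ℤ, ∃ s ∈ R, x = SpecialLinearGroup.toGL s * u ^ i := by
  classical
  haveI : Fact (Nat.Prime 2) := ⟨Nat.prime_two⟩
  set a := padicValNat 2 (Fintype.card F - 1) with ha
  obtain ⟨w, hw⟩ := CfsgLib.Invol.exists_unit_orderOf (K := F) (d := 2 ^ a) (by
    rw [Nat.card_eq_fintype_card]; exact pow_padicValNat_dvd)
  let δ : Fˣ →* GL (Fin 2) F :=
    { toFun := fun z => ⟨!![1, 0; 0, (z : F)], !![1, 0; 0, ((z⁻¹ : Fˣ) : F)],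
        by ext i j; fin_cases i <;> fin_cases j <;> simp [Matrix.mul_apply, Fin.sum_univ_two],
        by ext i j; fin_cases i <;> fin_cases j <;> simp [Matrix.mul_apply, Fin.sum_univ_two]⟩
      map_one' := by ext i j; fin_cases i <;> fin_cases j <;> simp
      map_mul' := fun x y => by
        ext i j; fin_cases i <;> fin_cases j <;> simp [Matrix.mul_apply, Fin.sum_univ_two] }
  have hdet : ∀ z, Matrix.GeneralLinearGroup.det (δ z) = z := fun z => Units.ext (by
    show (!![1, 0; 0, (z : F)] : Matrix (Fin 2) (Fin 2) F).det = _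
    simp [Matrix.det_fin_two])
  have hinj : Function.Injective δ := fun x y h => by
    rw [← hdet x, ← hdet y, h]
  have hu : orderOf (δ w) = 2 ^ a := by rw [orderOf_injective δ hinj, hw]
  have hp : IsPGroup 2 (Subgroup.zpowers (δ w)) := IsPGroup.of_card (by rw [Nat.card_zpowers, hu])
  obtain ⟨Q, hQ⟩ := hp.exists_le_sylow
  set R := (Q : Subgroup (GL (Fin 2) F)).comap SpecialLinearGroup.toGL with hR
  have htoinj : Function.Injective (SpecialLinearGroup.toGL (n := Fin 2) (R := F)) := fun x y h =>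
    Subtype.ext (congrArg Units.val h)
  have hRp : IsPGroup 2 R := Q.isPGroup'.comap_of_injective _ htoinj
  have hdet1 : ∀ s : SpecialLinearGroup (Fin 2) F,
      Matrix.GeneralLinearGroup.det (SpecialLinearGroup.toGL s) = 1 := fun s => Units.ext s.2
  have hQcard : Nat.card Q = 2 ^ padicValNat 2 (Nat.card (GL (Fin 2) F)) := by
    rw [Q.card_eq_multiplicity, Nat.factorization_def _ Nat.prime_two]
  have hmem : ∀ x ∈ (Q : Subgroup (GL (Fin 2) F)), ∃ i : ℤ, ∃ s ∈ R,
      x = SpecialLinearGroup.toGL s * δ w ^ i := by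
    intro x hx
    have h2 : Matrix.GeneralLinearGroup.det x ∈ Subgroup.zpowers w := by
      obtain ⟨j, hj⟩ := Q.isPGroup' ⟨x, hx⟩
      have h3 : orderOf (Matrix.GeneralLinearGroup.det x) ∣ 2 ^ j :=
        orderOf_dvd_of_pow_eq_one (by
          rw [← map_pow, show x ^ 2 ^ j = 1 from congrArg Subtype.val hj, map_one])
      have h4 : orderOf (Matrix.GeneralLinearGroup.det x) ∣ Fintype.card F - 1 := by
        rw [← Fintype.card_units]; exact orderOf_dvd_card
      obtain ⟨i, -, hi⟩ := (Nat.dvd_prime_pow Nat.prime_two).1 h3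
      have h5 : orderOf (Matrix.GeneralLinearGroup.det x) ∣ 2 ^ a := by
        rw [hi] at h4 ⊢
        refine pow_dvd_pow 2 ((padicValNat_dvd_iff_le ?_).1 h4)
        have := Fintype.one_lt_card (α := F); omega
      have h6 : Matrix.GeneralLinearGroup.det x ^ 2 ^ a = 1 := orderOf_dvd_iff_pow_eq_one.1 h5
      have h7 : (⟨Matrix.GeneralLinearGroup.det x, h6⟩ : {z : Fˣ // z ^ 2 ^ a = 1}).1 ∈
          Subgroup.zpowers w := by
        obtain ⟨g, hg⟩ := IsCyclic.exists_generator (α := Fˣ)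
        by_contra hc
        have hlt := IsCyclic.card_pow_eq_one_le (α := Fˣ) (n := 2 ^ a) (pow_pos (by norm_num) a)
        have hsub : insert (Matrix.GeneralLinearGroup.det x)
            (Finset.univ.filter fun z => z ∈ Subgroup.zpowers w) ⊆
            (Finset.univ.filter fun z : Fˣ => z ^ 2 ^ a = 1) := by
          intro z hz
          rw [Finset.mem_filter]
          refine ⟨Finset.mem_univ _, ?_⟩
          rcases Finset.mem_insert.1 hz with rfl | hz
          · exact h6
          · obtain ⟨i, rfl⟩ := Subgroup.mem_zpowers_iff.1 (Finset.mem_filter.1 hz).2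
            rw [← zpow_natCast, ← _root_.zpow_mul, mul_comm, _root_.zpow_mul, zpow_natCast, ← hw, pow_orderOf_eq_one,
              _root_.one_zpow]
        have := (Finset.card_le_card hsub).trans hlt
        rw [Finset.card_insert_of_notMem (by simpa using hc)] at this
        have hcz : (Finset.univ.filter fun z => z ∈ Subgroup.zpowers w).card = 2 ^ a := by
          rw [← Fintype.card_subtype, ← Nat.card_eq_fintype_card]
          exact (Nat.card_zpowers w).trans hw
        omega
      exact h7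
    obtain ⟨i, hi⟩ := Subgroup.mem_zpowers_iff.1 h2
    have hd1 : (x * (δ w ^ i)⁻¹).1.det = 1 := by
      have : Matrix.GeneralLinearGroup.det (x * (δ w ^ i)⁻¹) = 1 := by
        rw [map_mul, map_inv, map_zpow, hdet, hi, mul_inv_cancel]
      exact congrArg Units.val this
    refine ⟨i, ⟨_, hd1⟩, ?_, ?_⟩
    · show SpecialLinearGroup.toGL ⟨_, hd1⟩ ∈ (Q : Subgroup (GL (Fin 2) F))
      rw [show SpecialLinearGroup.toGL ⟨_, hd1⟩ = x * (δ w ^ i)⁻¹ from Units.ext rfl]
      exact mul_mem hx (inv_mem (zpow_mem (hQ (Subgroup.mem_zpowers _)) i))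
    · rw [show SpecialLinearGroup.toGL ⟨_, hd1⟩ = x * (δ w ^ i)⁻¹ from Units.ext rfl, inv_mul_cancel_right]
  refine ⟨Q, δ w, R, hQcard, hQ (Subgroup.mem_zpowers _), hu, by rw [hdet, hw], ?_, ?_, hmem⟩
  · -- `R` is a Sylow subgroup of `SL₂`
    have hle : Nat.card Q ≤ Nat.card R * 2 ^ a := by
      rw [← hu, ← Nat.card_zpowers, ← Nat.card_prod]
      refine Nat.card_le_card_of_surjective (fun z : R × Subgroup.zpowers (δ w) =>
        (⟨SpecialLinearGroup.toGL z.1.1 * z.2.1, mul_mem z.1.2 (hQ z.2.2)⟩ : (Q : Subgroup (GL (Fin 2) F)))) ?_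
      rintro ⟨x, hx⟩
      obtain ⟨i, s, hs, rfl⟩ := hmem x hx
      exact ⟨⟨⟨s, hs⟩, ⟨_, zpow_mem (Subgroup.mem_zpowers _) i⟩⟩, rfl⟩
    obtain ⟨S, hS⟩ := hRp.exists_le_sylow
    have hval := val_GL_two (F := F) hF
    have hvS := val_SL_two (F := F) hF
    have hSc : Nat.card (S : Subgroup (SpecialLinearGroup (Fin 2) F)) =
        2 ^ padicValNat 2 (Nat.card (SpecialLinearGroup (Fin 2) F)) := by
      rw [S.card_eq_multiplicity, Nat.factorization_def _ Nat.prime_two]
    have hle2 : Nat.card (S : Subgroup (SpecialLinearGroup (Fin 2) F)) * 2 ^ a ≤ Nat.card R * 2 ^ a := by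
      refine le_trans (le_of_eq ?_) hle
      rw [hSc, hQcard, ← pow_add, hval, hvS]
      congr 1; omega
    rw [Subgroup.eq_of_le_of_card_ge hS (Nat.le_of_mul_le_mul_right hle2 (pow_pos (by norm_num) a))]
    exact elemAb_sylow_SL_two hF S
  · rintro _ ⟨s, hs, rfl⟩; exact hs

/-! ### The main statements -/

section Main

variable {F : Type*} [Field F] [Fintype F]

theorem symplectic (hF : Odd (Fintype.card F)) (n : ℕ) (P : Sylow 2 (Matrix.symplecticGroup (Fin n) F)) :
    ∀ x : (P : Subgroup (Matrix.symplecticGroup (Fin n) F)),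
      x ^ 2 ∈ commutator (P : Subgroup (Matrix.symplecticGroup (Fin n) F)) := by
  classical
  haveI : Fact (Nat.Prime 2) := ⟨Nat.prime_two⟩
  haveI : Finite (Matrix.symplecticGroup (Fin n) F) :=
    Finite.of_injective (fun A : Matrix.symplecticGroup (Fin n) F => A.1) fun _ _ h => Subtype.ext h
  obtain ⟨T, hT, hTE, -⟩ := exists_perm_two_group n (Fin n) (Fintype.card_fin n)
  obtain ⟨Q⟩ := (inferInstance : Nonempty (Sylow 2 (SpecialLinearGroup (Fin 2) F)))
  refine sylow_of_elemAb (monGroup monomial_Sp (Q : Subgroup (SpecialLinearGroup (Fin 2) F)) T) ?_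
    (elemAb_monGroup _ (elemAb_sylow_SL_two hF Q) hTE) P
  rw [card_monGroup, Q.card_eq_multiplicity, Nat.factorization_def _ Nat.prime_two, val_SL_two hF, hT,
    Fintype.card_fin, val_Sp hF, ← pow_mul, ← pow_add]
  congr 1
  ring

/-- Reindexing a special linear group. -/
def slReindex {α β : Type*} [Fintype α] [DecidableEq α] [Fintype β] [DecidableEq β] (e : α ≃ β) :
    SpecialLinearGroup α F →* SpecialLinearGroup β F where
  toFun A := ⟨Matrix.reindexAlgEquiv F F e A.1, by
    rw [Matrix.reindexAlgEquiv_apply, Matrix.det_reindex_self]; exact A.2⟩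
  map_one' := Subtype.ext (map_one (Matrix.reindexAlgEquiv F F e))
  map_mul' A B := Subtype.ext (map_mul (Matrix.reindexAlgEquiv F F e) A.1 B.1)

theorem slReindex_injective {α β : Type*} [Fintype α] [DecidableEq α] [Fintype β] [DecidableEq β]
    (e : α ≃ β) : Function.Injective (slReindex (F := F) e) := fun _ _ h =>
  Subtype.ext ((Matrix.reindexAlgEquiv F F e).injective (congrArg Subtype.val h))

theorem card_glReindex {α β : Type*} [Fintype α] [DecidableEq α] [Fintype β] [DecidableEq β] (e : α ≃ β) :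
    Nat.card (GL α F) = Nat.card (GL β F) :=
  Nat.card_congr (Units.mapEquiv (Matrix.reindexAlgEquiv F F e).toRingEquiv.toMulEquiv).toEquiv

/-- Completing an invertible matrix to determinant one in one more dimension. -/
def completeHom (α : Type*) [Fintype α] [DecidableEq α] :
    GL α F →* SpecialLinearGroup (α ⊕ Unit) F where
  toFun A := ⟨Matrix.fromBlocks A.1 0 0 (Matrix.diagonal fun _ => (((Matrix.GeneralLinearGroup.det A)⁻¹ : Fˣ) : F)), by
    rw [det_fromBlocks_zero₂₁, det_diagonal, Fintype.univ_punit, Finset.prod_singleton,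
      ← Matrix.GeneralLinearGroup.val_det_apply, ← Units.val_mul, mul_inv_cancel, Units.val_one]⟩
  map_one' := Subtype.ext (by simp)
  map_mul' A B := Subtype.ext (by
    show Matrix.fromBlocks _ _ _ _ = Matrix.fromBlocks _ _ _ _ * Matrix.fromBlocks _ _ _ _
    simp [fromBlocks_multiply, mul_comm])

theorem completeHom_injective (α : Type*) [Fintype α] [DecidableEq α] :
    Function.Injective (completeHom (F := F) α) := fun _ _ h =>
  Units.ext (Matrix.fromBlocks_inj.1 (congrArg Subtype.val h)).1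

theorem two_power_eq {m : ℕ} {Q : Subgroup (GL (Fin 2) F)} {T : Subgroup (Equiv.Perm (Fin m))}
    (hF : Odd (Fintype.card F))
    (hQ : Nat.card Q = 2 ^ padicValNat 2 (Nat.card (GL (Fin 2) F)))
    (hT : Nat.card T = 2 ^ padicValNat 2 m.factorial) :
    Nat.card (monGroup (monomial_GL (ι := Fin m) (F := F)) Q T) =
      2 ^ padicValNat 2 (Nat.card (GL (Fin (2 * m)) F)) := by
  rw [card_monGroup, hQ, hT, Fintype.card_fin, val_GL_even hF, val_GL_two hF, ← pow_mul, ← pow_add]
  congr 1
  ring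

theorem sl_odd_dim (hF : Odd (Fintype.card F)) (hq : 4 ∣ Fintype.card F + 1) (m : ℕ)
    (P : Sylow 2 (SpecialLinearGroup (Fin (2 * m + 1)) F)) :
    ∀ x : (P : Subgroup (SpecialLinearGroup (Fin (2 * m + 1)) F)),
      x ^ 2 ∈ commutator (P : Subgroup (SpecialLinearGroup (Fin (2 * m + 1)) F)) := by
  classical
  haveI : Fact (Nat.Prime 2) := ⟨Nat.prime_two⟩
  have h1 : 1 < Fintype.card F := Fintype.one_lt_card
  obtain ⟨T, hT, hTE, -⟩ := exists_perm_two_group m (Fin m) (Fintype.card_fin m)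
  obtain ⟨Q, u, R, hQ, huQ, hu, -, hR, hRQ, hgen⟩ := exists_gl_two (F := F) hF
  have ha : padicValNat 2 (Fintype.card F - 1) = 1 := by
    obtain ⟨c, hc⟩ := hq
    rw [show Fintype.card F - 1 = 2 * (2 * c - 1) by omega, padicValNat.mul (by norm_num) (by omega),
      padicValNat_self, padicValNat.eq_zero_of_not_dvd (by omega)]
  rw [ha, pow_one] at hu
  have hQE : ElemAb Q := by
    intro x hx
    obtain ⟨i, s, hs, rfl⟩ := hgen x hx
    refine mul_mem (map_le_good SpecialLinearGroup.toGL hR hRQ ⟨s, hs, rfl⟩) (zpow_mem ?_ i)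
    exact mem_good.2 ⟨huQ, by rw [orderOf_dvd_iff_pow_eq_one.1 (dvd_of_eq hu)]; exact one_mem _⟩
  let e : (Fin m ⊕ Fin m) ⊕ Unit ≃ Fin (2 * m + 1) := Fintype.equivOfCardEq (by simp; omega)
  let Φ : GL (Fin m ⊕ Fin m) F →* SpecialLinearGroup (Fin (2 * m + 1)) F :=
    (slReindex e).comp (completeHom (Fin m ⊕ Fin m))
  refine sylow_of_elemAb ((monGroup monomial_GL Q T).map Φ) ?_ ((elemAb_monGroup _ hQE hTE).map Φ) P
  have hΦi : Function.Injective Φ := fun x y h => completeHom_injective _ (slReindex_injective e h)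
  rw [Subgroup.card_map_of_injective hΦi,
    two_power_eq hF hQ hT]
  congr 1
  have h2 := val_SL (F := F) (2 * m + 1) (by omega)
  rw [val_GL_succ hF, val_odd h1 hF] at h2
  omega

theorem sl_even_dim (hF : Odd (Fintype.card F)) (m : ℕ) (hm : 1 ≤ m)
    (hq : 4 ∣ Fintype.card F + 1 ∨ ∃ j : ℕ, m = 2 ^ j)
    (P : Sylow 2 (SpecialLinearGroup (Fin (2 * m)) F)) :
    ∀ x : (P : Subgroup (SpecialLinearGroup (Fin (2 * m)) F)),
      x ^ 2 ∈ commutator (P : Subgroup (SpecialLinearGroup (Fin (2 * m)) F)) := by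
  classical
  haveI : Fact (Nat.Prime 2) := ⟨Nat.prime_two⟩
  have h1 : 1 < Fintype.card F := Fintype.one_lt_card
  obtain ⟨T, hT, hTE, hTS⟩ := exists_perm_two_group m (Fin m) (Fintype.card_fin m)
  obtain ⟨Q, u, R, hQ, huQ, hu, hdu, hR, hRQ, hgen⟩ := exists_gl_two (F := F) hF
  set a := padicValNat 2 (Fintype.card F - 1) with ha
  let dt := Matrix.GeneralLinearGroup.det (n := Fin m ⊕ Fin m) (R := F)
  set H := monGroup (monomial_GL (ι := Fin m) (F := F)) Q T with hH
  set H1 := H ⊓ dt.ker with hH1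
  have hdetd : ∀ f, dt (dGL f) = ∏ i, Matrix.GeneralLinearGroup.det (f i) := det_dGL
  have hdetp : ∀ σ, dt (pGL σ) = 1 := det_pGL
  have hπH1 : T.map pGL ≤ H1 := by
    rintro _ ⟨σ, hσ, rfl⟩
    exact ⟨perm_mem _ Q hσ, hdetp σ⟩
  have hdetR : ∀ s : SpecialLinearGroup (Fin 2) F,
      Matrix.GeneralLinearGroup.det (SpecialLinearGroup.toGL s) = 1 := fun s => Units.ext s.2
  -- the pairs
  let Φ : (Fin m → Multiplicative ℤ) →* GL (Fin m ⊕ Fin m) F :=
    dGL.comp (MonoidHom.compLeft (zpowersHom (GL (Fin 2) F) u) (Fin m))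
  have hΦ : ∀ e, Φ e = dGL (fun i => u ^ (e i).toAdd) := fun e => rfl
  have hdetΦ : ∀ e, dt (Φ e) = zpowersHom Fˣ (Matrix.GeneralLinearGroup.det u) (∏ l, e l) := by
    intro e
    rw [hΦ, hdetd, map_prod]
    exact Finset.prod_congr rfl fun l _ => map_zpow _ _ _
  let o : Fin m := ⟨0, hm⟩
  have hpair : ∀ (i : Fin m) (k : ℤ),
      Φ (Pi.mulSingle i (Multiplicative.ofAdd k) * Pi.mulSingle o (Multiplicative.ofAdd (-k))) ∈ good H1 := by
    intro i k
    set g := (Pi.mulSingle i (Multiplicative.ofAdd k) * Pi.mulSingle o (Multiplicative.ofAdd (-k)) :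
      Fin m → Multiplicative ℤ) with hg
    have hgH : Φ g ∈ H1 := by
      refine ⟨?_, ?_⟩
      · rw [hΦ]; exact d_mem _ T fun l _ => zpow_mem huQ _
      · show dt (Φ g) = 1
        rw [hdetΦ, hg]
        simp [Finset.prod_mul_distrib, Finset.prod_pi_mulSingle']
    refine mem_good.2 ⟨hgH, ?_⟩
    rcases hq with hq | hq
    · have ha1 : a = 1 := by
        obtain ⟨c, hc⟩ := hq
        rw [ha, show Fintype.card F - 1 = 2 * (2 * c - 1) by omega, padicValNat.mul (by norm_num) (by omega),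
          padicValNat_self, padicValNat.eq_zero_of_not_dvd (by omega)]
      have hu2 : u ^ (2 : ℕ) = 1 := orderOf_dvd_iff_pow_eq_one.1 (dvd_of_eq (by rw [hu, ha1, pow_one]))
      rw [← map_pow, hΦ, show (fun l => u ^ ((g ^ 2) l).toAdd) = (1 : Fin m → GL (Fin 2) F) from funext fun l => by
        rw [Pi.pow_apply, toAdd_pow, nsmul_eq_mul, _root_.zpow_mul, Nat.cast_ofNat]
        rw [show u ^ (2 : ℤ) = 1 by rw [show (2 : ℤ) = ((2 : ℕ) : ℤ) from rfl, zpow_natCast, hu2], _root_.one_zpow]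
        rfl, map_one]
      exact one_mem _
    · by_cases hio : i = o
      · have : g = 1 := by rw [hg, hio, ← Pi.mulSingle_mul, ← ofAdd_add, add_neg_cancel, ofAdd_zero, Pi.mulSingle_one]
        rw [this, map_one, one_pow]; exact one_mem _
      obtain ⟨t, ht, ht1, ht2⟩ := hTS hq i o
      have ht1' : t.symm o = i := by rw [Equiv.symm_apply_eq, ht1]
      have ht2' : t.symm i = o := by rw [Equiv.symm_apply_eq, ht2]
      have hconj : g ∘ t.symm = g⁻¹ := by
        funext l
        simp only [hg, Function.comp, Pi.mul_apply, Pi.inv_apply, Pi.mulSingle_apply]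
        by_cases hl1 : l = i
        · rw [hl1, ht2']; simp [Ne.symm hio, hio]
        by_cases hl2 : l = o
        · rw [hl2, ht1']; simp [Ne.symm hio, hio]
        have h3 : t.symm l ≠ i := fun h => hl2 (t.symm.injective (h.trans ht1'.symm))
        have h4 : t.symm l ≠ o := fun h => hl1 (t.symm.injective (h.trans ht2'.symm))
        simp [hl1, hl2, h3, h4]
      have key : ⁅pGL (F := F) t, Φ g⁆ = (Φ g ^ 2)⁻¹ := by
        rw [commutatorElement_def, hΦ, (monomial_GL (ι := Fin m) (F := F)).conj, ← hΦ]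
        rw [show (fun l => u ^ (g l).toAdd) ∘ ⇑t.symm = fun l => u ^ ((g ∘ t.symm) l).toAdd from rfl, ← hΦ,
          hconj, map_inv, pow_two, _root_.mul_inv_rev]
      rw [← inv_mem_iff, ← key]
      exact Subgroup.commutator_mem_commutator (hπH1 ⟨t, ht, rfl⟩) hgH
  have hE : ElemAb H1 := by
    rintro x ⟨⟨f, hf, σ, hσ, rfl⟩, hx⟩
    have hf1 : dt (dGL f) = 1 := by
      have h2 : dt (dGL f * pGL σ) = 1 := hx
      rwa [map_mul, hdetp, mul_one] at h2
    refine mul_mem ?_ (map_le_good pGL hTE hπH1 ⟨σ, hσ, rfl⟩)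
    choose ei si hsi hfi using fun i => hgen (f i) (hf i trivial)
    let RR := Subgroup.pi Set.univ fun _ : Fin m => R
    let ψ : (Fin m → SpecialLinearGroup (Fin 2) F) →* GL (Fin m ⊕ Fin m) F :=
      dGL.comp (MonoidHom.compLeft SpecialLinearGroup.toGL (Fin m))
    have hψ : RR.map ψ ≤ H1 := by
      rintro _ ⟨s, hs, rfl⟩
      refine ⟨d_mem _ T fun i hi => hRQ ⟨_, hs i hi, rfl⟩, ?_⟩
      show dt (dGL _) = 1
      rw [hdetd]
      exact Finset.prod_eq_one fun i _ => hdetR (s i)
    let eM : Fin m → Multiplicative ℤ := fun i => Multiplicative.ofAdd (ei i)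
    have hsplit : dGL f = ψ si * Φ eM := by
      rw [hΦ]
      show _ = dGL _ * dGL _
      rw [← map_mul]
      exact congrArg dGL (funext hfi)
    rw [hsplit]
    refine mul_mem (map_le_good ψ (elemAb_pi hR) hψ ⟨si, fun i _ => hsi i, rfl⟩) ?_
    have hsum : u ^ (∑ i, ei i) = 1 := by
      have h3 : Matrix.GeneralLinearGroup.det u ^ (∑ i, ei i) = 1 := by
        have hf2 : dt (Φ eM) = 1 := by
          rw [hsplit, map_mul] at hf1
          have h5 : dt (ψ si) = 1 := (hψ ⟨si, fun i _ => hsi i, rfl⟩).2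
          rwa [h5, one_mul] at hf1
        rw [hdetΦ] at hf2
        simpa [eM, ← ofAdd_sum] using hf2
      rw [← orderOf_dvd_iff_zpow_eq_one, hdu] at h3
      rwa [← orderOf_dvd_iff_zpow_eq_one, hu]
    have hlast : Φ (Pi.mulSingle o (Multiplicative.ofAdd (-∑ i, ei i))) = 1 := by
      rw [hΦ, show (fun l => u ^ ((Pi.mulSingle o (Multiplicative.ofAdd (-∑ i, ei i)) :
        Fin m → Multiplicative ℤ) l).toAdd) = 1 from funext fun l => by
          rcases eq_or_ne l o with rfl | hl
          · simp [Pi.mulSingle_eq_same, _root_.zpow_neg, hsum]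
          · simp [Pi.mulSingle_eq_of_ne hl], map_one]
    have hprod : eM * Pi.mulSingle o (Multiplicative.ofAdd (-∑ i, ei i)) =
        ∏ i : Fin m, (Pi.mulSingle i (Multiplicative.ofAdd (ei i)) * Pi.mulSingle o (Multiplicative.ofAdd (-ei i)) :
          Fin m → Multiplicative ℤ) := by
      rw [Finset.prod_mul_distrib, Finset.univ_prod_mulSingle]
      congr 1
      rw [← Finset.sum_neg_distrib, ofAdd_sum]
      exact map_prod (MonoidHom.mulSingle (fun _ : Fin m => Multiplicative ℤ) o) _ _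
    have hmem : eM * Pi.mulSingle o (Multiplicative.ofAdd (-∑ i, ei i)) ∈ (good H1).comap Φ := by
      rw [hprod]
      exact prod_mem fun i _ => hpair i (ei i)
    have h4 : Φ (eM * Pi.mulSingle o (Multiplicative.ofAdd (-∑ i, ei i))) ∈ good H1 := hmem
    rwa [map_mul, hlast, mul_one] at h4
  -- the order
  have hcard : Nat.card H1 * 2 ^ a = Nat.card H := by
    have h4 := (H1.subgroupOf H).card_mul_index
    have e1 : H1.subgroupOf H = (dt.comp H.subtype).ker := by
      ext x
      exact ⟨fun h => MonoidHom.mem_ker.2 h.2, fun h => ⟨x.2, MonoidHom.mem_ker.1 h⟩⟩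
    have e2 : (dt.comp H.subtype).range = Subgroup.zpowers (Matrix.GeneralLinearGroup.det u) := by
      refine le_antisymm ?_ (Subgroup.zpowers_le.2 ?_)
      · rintro _ ⟨⟨_, f, hf, σ, hσ, rfl⟩, rfl⟩
        show dt (dGL f * pGL σ) ∈ _
        rw [map_mul, hdetp, mul_one, hdetd]
        refine prod_mem fun i _ => ?_
        obtain ⟨k, s, hs, e⟩ := hgen (f i) (hf i trivial)
        rw [e, map_mul, hdetR, one_mul, map_zpow]
        exact zpow_mem (Subgroup.mem_zpowers _) k
      · refine ⟨⟨dGL (Pi.mulSingle o u), d_mem _ T fun i _ => ?_⟩, ?_⟩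
        · rcases eq_or_ne i o with rfl | hl
          · simp [huQ]
          · simp [Pi.mulSingle_eq_of_ne hl]
        · show dt (dGL _) = _
          rw [hdetd, Finset.prod_eq_single o (fun i _ hi => by simp [Pi.mulSingle_eq_of_ne hi]) (by simp),
            Pi.mulSingle_eq_same]
    rw [Nat.card_congr (Subgroup.subgroupOfEquivOfLe (inf_le_left : H1 ≤ H)).toEquiv, e1,
      Subgroup.index_ker, e2, Nat.card_zpowers, hdu] at h4
    exact h4
  -- inside the special linear group
  let ι' := Fin m ⊕ Fin m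
  have htoinj : Function.Injective (SpecialLinearGroup.toGL (n := ι') (R := F)) := fun x y h =>
    Subtype.ext (congrArg Units.val h)
  set H2 := H1.comap (SpecialLinearGroup.toGL (n := ι') (R := F)) with hH2
  have hmap : H2.map SpecialLinearGroup.toGL = H1 := by
    refine le_antisymm (Subgroup.map_comap_le _ _) fun x hx => ?_
    have hd : x.1.det = 1 := congrArg Units.val (show dt x = 1 from hx.2)
    refine ⟨⟨x.1, hd⟩, ?_, Units.ext rfl⟩
    show SpecialLinearGroup.toGL (⟨x.1, hd⟩ : SpecialLinearGroup ι' F) ∈ H1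
    rw [show SpecialLinearGroup.toGL (⟨x.1, hd⟩ : SpecialLinearGroup ι' F) = x from Units.ext rfl]
    exact hx
  have hE2 : ElemAb H2 := by
    intro x hx
    have h5 := hE.sq_mem (x := SpecialLinearGroup.toGL x) hx
    rw [← hmap, ← Subgroup.map_commutator, ← map_pow] at h5
    obtain ⟨y, hy, hxy⟩ := h5
    exact mem_good.2 ⟨hx, htoinj hxy ▸ hy⟩
  let e : ι' ≃ Fin (2 * m) := Fintype.equivOfCardEq (by simp [ι']; omega)
  refine sylow_of_elemAb (H2.map (slReindex e)) ?_ (hE2.map _) P
  rw [Subgroup.card_map_of_injective (slReindex_injective e)]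
  have h5 : Nat.card H2 = Nat.card H1 := by rw [← hmap, Subgroup.card_map_of_injective htoinj]
  refine Nat.eq_of_mul_eq_mul_right (pow_pos (by norm_num : 0 < 2) a) ?_
  rw [h5, hcard, two_power_eq hF hQ hT, ← pow_add]
  congr 1
  have h2 := val_SL (F := F) (2 * m) (by omega)
  omega

end Main

end CfsgLib.Classical.SylowTwoElemAb
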