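import Cfsg.Agent.Lib.Classical.MonomialNormalRank
import Cfsg.Agent.Lib.Invol.SylowGLTwo

/-!
# The normal two-rank of Sylow two-subgroups of general linear and symplectic groups
-/

set_option autoImplicit false

namespace CfsgLib.Classical.NormalRank

open Matrix CfsgLib.Classical.SylowTwoElemAb

theorem nr_sylow {G : Type*} [Group G] [Finite G] (H : Subgroup G)
    (hcard : Nat.card ↥H = 2 ^ padicValNat 2 (Nat.card G)) {n : ℕ} (h : NR ↥H n) (S : Sylow 2 G) :
    NR ↥(S : Subgroup G) n := by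
  haveI : Fact (Nat.Prime 2) := ⟨Nat.prime_two⟩
  exact h.of_equiv (Sylow.equiv
    (Sylow.ofCard H (by rw [hcard, Nat.factorization_def _ Nat.prime_two])) S)

variable {F : Type*} [Field F] [Fintype F]

theorem sq_eq_one_SL_two (h2 : (2 : F) ≠ 0) (x : SpecialLinearGroup (Fin 2) F) (hx : x ^ 2 = 1) :
    x = 1 ∨ x.1 = -1 := by
  have hm : x.1 * x.1 = 1 := by rw [← pow_two]; exact congrArg Subtype.val hx
  have hd : x.1 0 0 * x.1 1 1 - x.1 0 1 * x.1 1 0 = 1 := by rw [← Matrix.det_fin_two]; exact x.2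
  have e00 : x.1 0 0 * x.1 0 0 + x.1 0 1 * x.1 1 0 = 1 := by
    simpa [Matrix.mul_apply, Fin.sum_univ_two] using congrFun (congrFun hm 0) 0
  have e01 : x.1 0 0 * x.1 0 1 + x.1 0 1 * x.1 1 1 = 0 := by
    simpa [Matrix.mul_apply, Fin.sum_univ_two] using congrFun (congrFun hm 0) 1
  have e10 : x.1 1 0 * x.1 0 0 + x.1 1 1 * x.1 1 0 = 0 := by
    simpa [Matrix.mul_apply, Fin.sum_univ_two] using congrFun (congrFun hm 1) 0
  have htr : x.1 0 0 + x.1 1 1 ≠ 0 := fun h =>
    h2 (by linear_combination -e00 - hd + x.1 0 0 * h)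
  have hb : x.1 0 1 = 0 :=
    (mul_eq_zero.1 (by linear_combination e01 : x.1 0 1 * (x.1 0 0 + x.1 1 1) = 0)).resolve_right htr
  have hc : x.1 1 0 = 0 :=
    (mul_eq_zero.1 (by linear_combination e10 : x.1 1 0 * (x.1 0 0 + x.1 1 1) = 0)).resolve_right htr
  rw [hb, zero_mul, add_zero, mul_self_eq_one_iff] at e00
  rw [hb, zero_mul, sub_zero] at hd
  rcases e00 with h | h
  · refine Or.inl (Subtype.ext (Matrix.ext fun i j => ?_))
    rw [h, one_mul] at hd
    fin_cases i <;> fin_cases j <;> simp [h, hb, hc, hd]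
  · refine Or.inr (Matrix.ext fun i j => ?_)
    rw [h] at hd
    have hd' : x.1 1 1 = -1 := by linear_combination -hd
    fin_cases i <;> fin_cases j <;> simp [h, hb, hc, hd']

theorem two_ne_zero_of_odd (hF : Odd (Fintype.card F)) : (2 : F) ≠ 0 :=
  Ring.two_ne_zero fun h => Nat.not_odd_iff.2 (FiniteField.even_card_of_char_two h) hF

theorem nr_symplectic (hF : Odd (Fintype.card F)) (n : ℕ)
    (S : Sylow 2 (Matrix.symplecticGroup (Fin n) F)) :
    NR ↥(S : Subgroup (Matrix.symplecticGroup (Fin n) F)) n := by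
  classical
  haveI : Fact (Nat.Prime 2) := ⟨Nat.prime_two⟩
  haveI : Finite (Matrix.symplecticGroup (Fin n) F) :=
    Finite.of_injective (fun A : Matrix.symplecticGroup (Fin n) F => A.1) fun _ _ h => Subtype.ext h
  obtain ⟨T, hT, -, -⟩ := exists_perm_two_group n (Fin n) (Fintype.card_fin n)
  obtain ⟨Q⟩ := (inferInstance : Nonempty (Sylow 2 (SpecialLinearGroup (Fin 2) F)))
  obtain ⟨k, hk, ⟨e⟩⟩ := CfsgLib.Classical.sylow_two_quaternion hF Q
  haveI : Fact (1 < 2 * 2 ^ k) := ⟨by have := Nat.one_le_two_pow (n := k); omega⟩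
  have h4 : (2 : ZMod (2 * 2 ^ k)) ≠ 0 := fun h => by
    have h' : ((2 : ℕ) : ZMod (2 * 2 ^ k)) = 0 := by push_cast; exact h
    rw [ZMod.natCast_eq_zero_iff] at h'
    have := Nat.le_of_dvd two_pos h'
    have : 2 ≤ 2 ^ k := Nat.le_self_pow (by omega) 2
    omega
  have hq : ∃ q ∈ (Q : Subgroup (SpecialLinearGroup (Fin 2) F)), q ^ 2 ≠ 1 := by
    refine ⟨(e.symm (QuaternionGroup.a 1)).1, (e.symm (QuaternionGroup.a 1)).2, fun h => h4 ?_⟩
    have h1 : (e.symm (QuaternionGroup.a 1)) ^ 2 = 1 := Subtype.ext h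
    have h2 := congrArg e h1
    rw [map_pow, MulEquiv.apply_symm_apply, map_one, pow_two, QuaternionGroup.a_mul_a,
      QuaternionGroup.one_def, QuaternionGroup.a.injEq] at h2
    linear_combination h2
  have hcsq : ∀ x ∈ Subgroup.center ↥(Q : Subgroup (SpecialLinearGroup (Fin 2) F)), x ^ 2 = 1 := by
    intro x hx
    have hc : ∀ z, z * e x = e x * z := fun z => by
      rw [← e.apply_symm_apply z, ← map_mul, ← map_mul, Subgroup.mem_center_iff.1 hx]
    apply e.injective
    rw [map_pow, map_one]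
    cases hex : e x with
    | a i =>
      have h1 := hc (QuaternionGroup.xa 0)
      rw [hex, QuaternionGroup.xa_mul_a, QuaternionGroup.a_mul_xa, QuaternionGroup.xa.injEq] at h1
      rw [pow_two, QuaternionGroup.a_mul_a, QuaternionGroup.one_def, QuaternionGroup.a.injEq]
      linear_combination h1
    | xa i =>
      exfalso
      have h1 := hc (QuaternionGroup.a 1)
      rw [hex, QuaternionGroup.xa_mul_a, QuaternionGroup.a_mul_xa, QuaternionGroup.xa.injEq] at h1
      exact h4 (by linear_combination -h1)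
  have hcen : ∀ x : ↥(Q : Subgroup (SpecialLinearGroup (Fin 2) F)), x ^ 2 = 1 →
      x = 1 ∨ x.1.1 = -1 := fun x hx =>
    (sq_eq_one_SL_two (two_ne_zero_of_odd hF) x.1 (congrArg Subtype.val hx)).imp_left
      fun h => Subtype.ext h
  have hV : ∀ x : ↥(Q : Subgroup (SpecialLinearGroup (Fin 2) F)), x ^ 2 = 1 →
      x ∈ Subgroup.center ↥(Q : Subgroup (SpecialLinearGroup (Fin 2) F)) := by
    intro x hx
    refine Subgroup.mem_center_iff.2 fun y => ?_
    rcases hcen x hx with rfl | h
    · rw [one_mul, mul_one]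
    · refine Subtype.ext (Subtype.ext ?_)
      show y.1.1 * x.1.1 = x.1.1 * y.1.1
      rw [h]; simp
  have hcard : Nat.card ↥(Subgroup.center ↥(Q : Subgroup (SpecialLinearGroup (Fin 2) F))) = 2 := by
    haveI : Nontrivial ↥(Q : Subgroup (SpecialLinearGroup (Fin 2) F)) :=
      ⟨⟨e.symm (QuaternionGroup.a 1), 1, fun h => by
        have := congrArg e h
        rw [MulEquiv.apply_symm_apply, map_one, QuaternionGroup.one_def, QuaternionGroup.a.injEq] at this
        exact one_ne_zero this⟩⟩
    haveI := Q.isPGroup'.center_nontrivial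
    refine le_antisymm ?_ Finite.one_lt_card
    refine (Nat.card_le_card_of_injective
      (fun x : ↥(Subgroup.center ↥(Q : Subgroup (SpecialLinearGroup (Fin 2) F))) => decide (x = 1))
      fun x y h => ?_).trans (by simp)
    simp only [decide_eq_decide] at h
    by_cases hx : x = 1
    · rw [hx, h.1 hx]
    · have h' : y ≠ 1 := fun hy => hx (h.2 hy)
      refine Subtype.ext (Subtype.ext (Subtype.ext ?_))
      rw [(hcen x.1 (hcsq _ x.2)).resolve_left fun e1 => hx (Subtype.ext e1),
        (hcen y.1 (hcsq _ y.2)).resolve_left fun e1 => h' (Subtype.ext e1)]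
  have key := monGroup_nr (monomial_Sp (ι := Fin n) (F := F))
    (Q : Subgroup (SpecialLinearGroup (Fin 2) F)) T hq _ le_rfl (fun x hx _ => hV x hx) hcsq hcard
  rw [Fintype.card_fin] at key
  refine nr_sylow _ ?_ key S
  rw [card_monGroup, Q.card_eq_multiplicity, Nat.factorization_def _ Nat.prime_two, val_SL_two hF,
    hT, Fintype.card_fin, val_Sp hF, ← pow_mul, ← pow_add]
  congr 1
  ring

section GLone

variable {ι : Type} [Fintype ι] [DecidableEq ι]

/-- Diagonal matrices in the general linear group. -/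
def dDiag : (ι → Fˣ) →* GL ι F :=
  MonoidHom.toHomUnits ((Matrix.diagonalRingHom ι F).toMonoidHom.comp
    (MonoidHom.compLeft (Units.coeHom F) ι))

/-- Permutation matrices in the general linear group. -/
def pPerm : Equiv.Perm ι →* GL ι F :=
  MonoidHom.toHomUnits
    { toFun := fun σ => pMat σ
      map_one' := pMat_one
      map_mul' := pMat_mul }

theorem monomial_diag : Monomial (dDiag (ι := ι) (F := F)) pPerm := by
  refine ⟨fun f σ h => ?_, fun σ f => ?_⟩
  · have h' : diagonal (fun i => (f i : F)) = pMat σ := congrArg Units.val h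
    have hσ : σ = 1 := by
      refine Equiv.ext fun j => ?_
      by_contra hne
      rw [Equiv.Perm.one_apply] at hne
      have := congrFun (congrFun h' (σ j)) j
      rw [diagonal_apply_ne _ hne] at this
      simp [pMat] at this
    subst hσ
    rw [pMat_one] at h'
    exact ⟨funext fun i => Units.ext (by simpa using congrFun (congrFun h' i) i), rfl⟩
  · rw [mul_inv_eq_iff_eq_mul]
    exact Units.ext (pMat_diagonal σ fun i => (f i : F))

end GLone

theorem val_GL_one_mod_four (hF : Odd (Fintype.card F)) (h1 : Fintype.card F % 4 = 1) (n : ℕ) :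
    padicValNat 2 (Nat.card (GL (Fin n) F)) =
      n * padicValNat 2 (Fintype.card F - 1) + padicValNat 2 n.factorial := by
  haveI : Fact (Nat.Prime 2) := ⟨Nat.prime_two⟩
  have hq : 1 < Fintype.card F := Fintype.one_lt_card
  have hb : padicValNat 2 (Fintype.card F + 1) = 1 := by
    rw [show Fintype.card F + 1 = 2 * ((Fintype.card F + 1) / 2) by omega,
      padicValNat.mul (by norm_num) (by omega), padicValNat_self,
      padicValNat.eq_zero_of_not_dvd (by omega)]
  induction n with
  | zero => simp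
  | succ n ih =>
    rw [val_GL_succ hF, ih, Nat.factorial_succ, padicValNat.mul (by omega) n.factorial_ne_zero]
    rcases Nat.even_or_odd' (n + 1) with ⟨l, hl | hl⟩
    · rw [hl, val_even hq hF l (by omega), hb, padicValNat.mul (by norm_num) (by omega),
        padicValNat_self, show n * padicValNat 2 (Fintype.card F - 1) =
          (2 * l - 1) * padicValNat 2 (Fintype.card F - 1) by rw [show n = 2 * l - 1 by omega]]
      obtain ⟨l', rfl⟩ : ∃ l', l = l' + 1 := ⟨l - 1, by omega⟩
      rw [show 2 * (l' + 1) - 1 = 2 * l' + 1 by omega]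
      ring
    · rw [hl, val_odd hq hF l, padicValNat.eq_zero_of_not_dvd (show ¬ 2 ∣ 2 * l + 1 by omega),
        show n = 2 * l by omega]
      ring

theorem nr_GL_one_mod_four (hF : Odd (Fintype.card F)) (h1 : Fintype.card F % 4 = 1) (n : ℕ)
    (S : Sylow 2 (GL (Fin n) F)) : NR ↥(S : Subgroup (GL (Fin n) F)) n := by
  classical
  haveI : Fact (Nat.Prime 2) := ⟨Nat.prime_two⟩
  have hq : 1 < Fintype.card F := Fintype.one_lt_card
  set a := padicValNat 2 (Fintype.card F - 1) with ha
  have ha2 : 2 ≤ a := by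
    rw [ha]
    exact (padicValNat_dvd_iff_le (by omega)).1 (Nat.dvd_of_mod_eq_zero (by omega) : 2 ^ 2 ∣ _)
  obtain ⟨T, hT, -, -⟩ := exists_perm_two_group n (Fin n) (Fintype.card_fin n)
  obtain ⟨u, hu⟩ := CfsgLib.Invol.exists_unit_orderOf (K := F) (d := 2 ^ a) (by
    rw [Nat.card_eq_fintype_card]; exact pow_padicValNat_dvd)
  let v : ↥(Subgroup.zpowers u) := ⟨u ^ 2 ^ (a - 1), Subgroup.npow_mem_zpowers u _⟩
  have hv : orderOf v = 2 := by
    rw [← Subgroup.orderOf_coe]
    show orderOf (u ^ 2 ^ (a - 1)) = 2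
    rw [orderOf_pow_of_dvd (by positivity) (hu ▸ pow_dvd_pow 2 (by omega)), hu,
      Nat.pow_div (by omega) two_pos, show a - (a - 1) = 1 by omega, pow_one]
  have hneg : ∀ x : ↥(Subgroup.zpowers u), x ^ 2 = 1 → x = 1 ∨ ((x : Fˣ) : F) = -1 := fun x hx => by
    have h' : ((x : Fˣ) : F) * ((x : Fˣ) : F) = 1 := by
      rw [← pow_two, ← Units.val_pow_eq_pow_val, ← SubgroupClass.coe_pow, hx]; rfl
    exact (mul_self_eq_one_iff.1 h').imp_left fun h => Subtype.ext (Units.ext h)
  have hvn : ((v : Fˣ) : F) = -1 :=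
    (hneg v (hv ▸ pow_orderOf_eq_one v)).resolve_left fun h => by
      rw [h, orderOf_one] at hv; omega
  have key := monGroup_nr (monomial_diag (ι := Fin n) (F := F)) (Subgroup.zpowers u) T
    ⟨u, Subgroup.mem_zpowers u, fun h => by
      have := Nat.le_of_dvd two_pos (hu ▸ orderOf_dvd_of_pow_eq_one h)
      have : 2 ^ 2 ≤ 2 ^ a := Nat.pow_le_pow_right two_pos ha2
      omega⟩
    (Subgroup.zpowers v) (fun x _ => Subgroup.mem_center_iff.2 fun y => Subtype.ext (mul_comm _ _))
    (fun x hx _ => by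
      rcases hneg x hx with rfl | h
      · exact one_mem _
      · rw [show x = v from Subtype.ext (Units.ext (h.trans hvn.symm))]
        exact Subgroup.mem_zpowers v)
    (fun x hx => by
      obtain ⟨z, rfl⟩ := Subgroup.mem_zpowers_iff.1 hx
      rw [← zpow_natCast, zpow_comm, zpow_natCast, show v ^ 2 = 1 from hv ▸ pow_orderOf_eq_one v,
        _root_.one_zpow])
    ((Nat.card_zpowers v).trans hv)
  rw [Fintype.card_fin] at key
  refine nr_sylow _ ?_ key S
  rw [card_monGroup, Nat.card_zpowers, hu, hT, Fintype.card_fin, val_GL_one_mod_four hF h1,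
    ← pow_mul, ← pow_add, mul_comm a n]

/-- A Sylow `2`-subgroup of `GL₂` monomial product, in dimension `2 m`. -/
theorem nr_GL_pairs (h3 : Fintype.card F % 4 = 3) (m : ℕ) :
    ∃ H : Subgroup (GL (Fin m ⊕ Fin m) F),
      Nat.card ↥H = 2 ^ padicValNat 2 (Nat.card (GL (Fin (2 * m)) F)) ∧ NR ↥H m := by
  classical
  haveI : Fact (Nat.Prime 2) := ⟨Nat.prime_two⟩
  have hF : Odd (Fintype.card F) := Nat.odd_iff.2 (by omega)
  obtain ⟨T, hT, -, -⟩ := exists_perm_two_group m (Fin m) (Fintype.card_fin m)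
  obtain ⟨Q⟩ := (inferInstance : Nonempty (Sylow 2 (GL (Fin 2) F)))
  have hQD := CfsgLib.Invol.isQuasiDihedral_GL_two Q h3
  obtain ⟨hc, hV⟩ := quasiDihedral_small_central hQD
  obtain ⟨k, hk, -, x, -, hx, -⟩ := hQD
  have hQc : Nat.card (Q : Subgroup (GL (Fin 2) F)) =
      2 ^ padicValNat 2 (Nat.card (GL (Fin 2) F)) := by
    rw [Q.card_eq_multiplicity, Nat.factorization_def _ Nat.prime_two]
  have key := monGroup_nr (monomial_GL (ι := Fin m) (F := F)) (Q : Subgroup (GL (Fin 2) F)) T
    ⟨x.1, x.2, fun h => by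
      have h' : x ^ 2 = 1 := Subtype.ext h
      have := Nat.le_of_dvd two_pos (hx ▸ orderOf_dvd_of_pow_eq_one h')
      have : 2 ^ 2 ≤ 2 ^ k := Nat.pow_le_pow_right two_pos (by omega)
      omega⟩
    _ le_rfl hV (fun z hz => by
      have h := pow_card_eq_one' (x := (⟨z, hz⟩ : Subgroup.center ↥(Q : Subgroup (GL (Fin 2) F))))
      rw [hc] at h
      exact congrArg Subtype.val h) hc
  rw [Fintype.card_fin] at key
  refine ⟨_, ?_, key⟩
  rw [card_monGroup, hQc, hT, Fintype.card_fin, val_GL_two hF, val_GL_even hF, ← pow_mul, ← pow_add,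
    mul_comm]

theorem nr_GL_three_mod_four (h3 : Fintype.card F % 4 = 3) (n : ℕ) (S : Sylow 2 (GL (Fin n) F)) :
    NR ↥(S : Subgroup (GL (Fin n) F)) ((n + 1) / 2) := by
  classical
  haveI : Fact (Nat.Prime 2) := ⟨Nat.prime_two⟩
  have hF : Odd (Fintype.card F) := Nat.odd_iff.2 (by omega)
  rcases Nat.even_or_odd' n with ⟨m, rfl | rfl⟩
  · obtain ⟨H, hHc, hH⟩ := nr_GL_pairs h3 m
    let r := Units.mapEquiv (Matrix.reindexAlgEquiv F F
      (Fintype.equivOfCardEq (by simp; omega) : Fin m ⊕ Fin m ≃ Fin (2 * m))).toRingEquiv.toMulEquiv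
    rw [show (2 * m + 1) / 2 = m by omega]
    refine nr_sylow (H.map r.toMonoidHom) ?_ (hH.of_equiv (H.equivMapOfInjective _ r.injective)) S
    exact (Nat.card_congr (H.equivMapOfInjective r.toMonoidHom r.injective).toEquiv).symm.trans hHc
  · obtain ⟨H, hHc, hH⟩ := nr_GL_pairs h3 m
    let c : GL (Fin m ⊕ Fin m) F × Fˣ →* GL ((Fin m ⊕ Fin m) ⊕ Unit) F :=
      MonoidHom.toHomUnits
        { toFun := fun p => Matrix.fromBlocks p.1.1 0 0 (Matrix.diagonal fun _ => (p.2 : F))
          map_one' := by simp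
          map_mul' := fun p p' => by simp [fromBlocks_multiply] }
    have hci : Function.Injective c := fun p p' h => by
      obtain ⟨h1, -, -, h4⟩ := fromBlocks_inj.1 (congrArg Units.val h)
      exact Prod.ext (Units.ext h1) (Units.ext (congrFun (Matrix.diagonal_injective h4) ()))
    let r := Units.mapEquiv (Matrix.reindexAlgEquiv F F
      (Fintype.equivOfCardEq (by simp; omega) :
        (Fin m ⊕ Fin m) ⊕ Unit ≃ Fin (2 * m + 1))).toRingEquiv.toMulEquiv
    let e : ↥H × ↥(Subgroup.zpowers (-1 : Fˣ)) →* GL (Fin (2 * m + 1)) F :=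
      (r.toMonoidHom.comp c).comp (MonoidHom.prodMap H.subtype (Subgroup.zpowers (-1 : Fˣ)).subtype)
    have hei : Function.Injective e := (r.injective.comp hci).comp
      (Prod.map_injective.2 ⟨Subtype.val_injective, Subtype.val_injective⟩)
    have h2 : orderOf (-1 : Fˣ) = 2 := orderOf_eq_prime (by simp) fun h => by
      have h' : (-1 : F) = 1 := by simpa using congrArg Units.val h
      exact two_ne_zero_of_odd hF (by linear_combination -h')
    have key := hH.prod_two (C := ↥(Subgroup.zpowers (-1 : Fˣ))) (fun z => by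
      have h := pow_card_eq_one' (x := z)
      rwa [Nat.card_zpowers, h2] at h) (by rw [Nat.card_zpowers, h2])
    rw [show (2 * m + 1 + 1) / 2 = m + 1 by omega]
    refine nr_sylow e.range ?_ (key.of_equiv (MonoidHom.ofInjective hei)) S
    rw [Nat.card_congr (MonoidHom.ofInjective hei).symm.toEquiv, Nat.card_prod, hHc, Nat.card_zpowers,
      h2, val_GL_succ hF, val_odd Fintype.one_lt_card hF, ← pow_succ,
      show padicValNat 2 (Fintype.card F - 1) = 1 from ?_, add_comm]
    rw [show Fintype.card F - 1 = 2 * ((Fintype.card F - 1) / 2) by omega,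
      padicValNat.mul (by norm_num) (by omega), padicValNat_self,
      padicValNat.eq_zero_of_not_dvd (by omega)]

end CfsgLib.Classical.NormalRank
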