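import Cfsg.Agent.Lib.Classical.SylowTwoElemAb
import Cfsg.Agent.Lib.FormClass.OddChar
import Cfsg.Agent.Lib.Orth.Facts

/-!
# Sylow two-subgroups of odd-dimensional `Omega` have elementary abelian abelianisation

The Sylow subgroup is cut out of a monomial group built from a Sylow two-subgroup of the orthogonal
group in dimension two, completed to determinant one on the odd coordinate.
-/

set_option autoImplicit false
set_option linter.unusedSectionVars false

namespace CfsgLib.Classical.SylowTwoOrth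

open scoped commutatorElement
open Matrix CfsgLib.Classical.SylowTwoElemAb CfsgLib.FormCl

/-! ### An abstract generation lemma -/

/-- The part inside `N` of a group generated by involutions of which any two outside `N` have their
product in `N`. -/
theorem mem_of_generated {G : Type*} [Group G] {N L E : Subgroup G} {X : Set G} (hXE : X ⊆ E)
    (hE : ∀ a ∈ E, ∀ b ∈ E, a ∉ N → b ∉ N → a * b ∈ N)
    (hX : ∀ x ∈ X, x * x = 1) (hone : ∀ x ∈ X, x ∈ N → x ∈ L)
    (hpair : ∀ x ∈ X, ∀ y ∈ X, x * y ∈ N → x * y ∈ L)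
    (hconj : ∀ x ∈ X, ∀ g ∈ L, x * g * x ∈ L) :
    ∀ g ∈ Subgroup.closure X, g ∈ N → g ∈ L := by
  by_cases hall : ∀ x ∈ X, x ∈ N
  · intro g hg _
    exact (Subgroup.closure_le L).2 (fun x hx => hone x hx (hall x hx)) hg
  push Not at hall
  obtain ⟨z, hz, hzN⟩ := hall
  suffices h : ∀ g ∈ Subgroup.closure X, (g ∈ N → g ∈ L) ∧ (g ∉ N → g * z ∈ L) from
    fun g hg => (h g hg).1
  have step : ∀ x ∈ X, ∀ g ∈ Subgroup.closure X, ((g ∈ N → g ∈ L) ∧ (g ∉ N → g * z ∈ L)) →
      ((x * g ∈ N → x * g ∈ L) ∧ (x * g ∉ N → x * g * z ∈ L)) := by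
    intro x hx g hg ⟨h1, h2⟩
    have hgE : g ∈ E := (Subgroup.closure_le E).2 hXE hg
    by_cases hxN : x ∈ N
    · refine ⟨fun h => ?_, fun h => ?_⟩
      · have hgN : g ∈ N := by
          have := N.mul_mem (N.inv_mem hxN) h
          rwa [inv_mul_cancel_left] at this
        exact L.mul_mem (hone x hx hxN) (h1 hgN)
      · rw [mul_assoc]
        exact L.mul_mem (hone x hx hxN) (h2 fun hgN => h (N.mul_mem hxN hgN))
    · have hxz : x * z ∈ L := hpair x hx z hz (hE x (hXE hx) z (hXE hz) hxN hzN)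
      refine ⟨fun h => ?_, fun h => ?_⟩
      · have hgN : g ∉ N := fun hgN => hxN (by
          have := N.mul_mem h (N.inv_mem hgN)
          rwa [mul_inv_cancel_right] at this)
        have e : x * g = x * z * (z * (g * z) * z) := by
          rw [show z * (g * z) * z = z * g * (z * z) by group, hX z hz, mul_one, ← mul_assoc,
            mul_assoc x z z, hX z hz, mul_one]
        rw [e]
        exact L.mul_mem hxz (hconj z hz _ (h2 hgN))
      · have hgN : g ∈ N := by
          by_contra hgN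
          exact h (hE x (hXE hx) g hgE hxN hgN)
        have e : x * g * z = x * z * (z * g * z) := by
          rw [show x * z * (z * g * z) = x * (z * z) * g * z by group, hX z hz, mul_one]
        rw [e]
        exact L.mul_mem hxz (hconj z hz _ (h1 hgN))
  intro g hg
  induction hg using Subgroup.closure_induction_left with
  | one => exact ⟨fun _ => L.one_mem, fun h => absurd N.one_mem h⟩
  | mul_left x hx g hg ih => exact step x hx g hg ih
  | inv_mul_cancel x hx g hg ih =>
    rw [inv_eq_of_mul_eq_one_right (hX x hx)]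
    exact step x hx g hg ih

theorem conj_mem_good {G : Type*} [Group G] {K : Subgroup G} {x : G} (hK : ∀ k ∈ K, x * k * x⁻¹ ∈ K)
    {g : G} (hg : g ∈ good K) : x * g * x⁻¹ ∈ good K := by
  obtain ⟨h1, h2⟩ := mem_good.1 hg
  refine mem_good.2 ⟨hK g h1, ?_⟩
  rw [show (x * g * x⁻¹) ^ 2 = (MulAut.conj x).toMonoidHom (g ^ 2) by simp [pow_two, mul_assoc]]
  have hle : K.map (MulAut.conj x).toMonoidHom ≤ K := by
    rintro _ ⟨k, hk, rfl⟩
    exact hK k hk
  refine Subgroup.commutator_mono hle hle ?_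
  rw [← Subgroup.map_commutator]
  exact ⟨_, h2, rfl⟩

/-! ### The orthogonal group in dimension two -/

section Two

variable {F : Type*} [Field F]

theorem mem_orth {κ : Type} [Fintype κ] [DecidableEq κ] {g : GL κ F} :
    g ∈ isoGrp (1 : Matrix κ κ F) ↔ g.1ᵀ * g.1 = 1 := by
  rw [mem_isoGrp, Matrix.mul_one]

theorem det_orth_sq {κ : Type} [Fintype κ] [DecidableEq κ] {A : Matrix κ κ F} (h : Aᵀ * A = 1) :
    A.det * A.det = 1 := by
  have := congrArg Matrix.det h
  rwa [det_mul, det_transpose, det_one] at this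

theorem reflection_sq {A : Matrix (Fin 2) (Fin 2) F} (h : Aᵀ * A = 1) (hd : A.det = -1) : A * A = 1 := by
  have hadj : A.adjugate = -Aᵀ := by
    have h1 : Aᵀ * (A * A.adjugate) = Aᵀ * (A.det • (1 : Matrix (Fin 2) (Fin 2) F)) := by
      rw [Matrix.mul_adjugate]
    rw [← Matrix.mul_assoc, h, Matrix.one_mul, hd, Matrix.mul_smul, Matrix.mul_one, neg_smul, one_smul] at h1
    exact h1
  have hT : Aᵀ = A := by
    rw [Matrix.adjugate_fin_two] at hadj
    have e1 := congrFun (congrFun hadj 0) 1
    have e : A 0 1 = A 1 0 := by simpa using e1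
    ext i j
    fin_cases i <;> fin_cases j <;> simp [e]
  rwa [hT] at h

theorem card_isoGrp {κ ι : Type} [Fintype κ] [DecidableEq κ] [Fintype ι] [DecidableEq ι]
    {M : Matrix κ κ F} {N : Matrix ι ι F} (h : Cong M N) : Nat.card (isoGrp M) = Nat.card (isoGrp N) := by
  obtain ⟨φ, hφ, -, -⟩ := h.exists_equiv
  have e : (isoGrp M).map φ.toMonoidHom = isoGrp N := by
    ext g
    rw [Subgroup.mem_map_equiv, ← mult_one_iff, ← mult_one_iff, ← hφ, φ.apply_symm_apply]
  rw [← e, Subgroup.card_map_of_injective (f := φ.toMonoidHom) φ.injective]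

variable [Fintype F]

theorem val_orth_two (hF : Odd (Fintype.card F)) :
    padicValNat 2 (Nat.card (isoGrp (1 : Matrix (Fin 2) (Fin 2) F))) =
      padicValNat 2 (Fintype.card F - 1) + padicValNat 2 (Fintype.card F + 1) := by
  haveI : Fact (Nat.Prime 2) := ⟨Nat.prime_two⟩
  have h2 := CfsgLib.Orth.two_ne_zero_of_odd hF
  have h1 : 1 < Fintype.card F := Fintype.one_lt_card
  have hone : (1 : Matrix (Fin 2) (Fin 2) F).det ≠ 0 := by rw [det_one]; exact one_ne_zero
  obtain ⟨t, ht⟩ := hF
  by_cases hs : IsSquare (-1 : F)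
  · have hd := det_plus (K := F) 1
    have hC : Cong (1 : Matrix (Fin 2) (Fin 2) F) (polarGram (CfsgLib.Classical.plusQ 1 F)) :=
      cong_of_sq (k := 1) h2 _ _ (by simp) transpose_one (polarGram_symm _) hone
        (by rw [hd, pow_one]; exact neg_ne_zero.2 one_ne_zero) (by rwa [hd, det_one, one_mul, pow_one])
    rw [card_isoGrp hC, ← isometry_eq h2, CfsgLib.Classical.plusQ_coe,
      show (1 : ℕ) = 0 + 1 from rfl, CfsgLib.Classical.card_iso_plus 0, Finset.prod_range_zero, mul_one,
      Nat.zero_add, Nat.mul_zero, pow_zero, mul_one, pow_one, padicValNat.mul (by norm_num) (by omega),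
      padicValNat_self]
    have hB : padicValNat 2 (Fintype.card F + 1) = 1 := by
      have h3 := FiniteField.isSquare_neg_one_iff.1 hs
      rw [show Fintype.card F + 1 = 2 * (t + 1) by omega, padicValNat.mul (by norm_num) (by omega),
        padicValNat_self, padicValNat.eq_zero_of_not_dvd (by omega)]
    omega
  · have hani : ∀ z₁ z₂ : F, z₁ ^ 2 + 0 * z₁ * z₂ + 1 * z₂ ^ 2 = 0 → z₁ = 0 ∧ z₂ = 0 := by
      intro z₁ z₂ h
      by_cases hz : z₂ = 0
      · subst hz
        exact ⟨pow_eq_zero_iff two_ne_zero |>.1 (by linear_combination h), rfl⟩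
      · exact absurd ⟨z₁ / z₂, by field_simp; linear_combination -h⟩ hs
    have hd := det_minus (K := F) 0 0 1
    have h4 : (4 : F) ≠ 0 := by rw [show (4 : F) = 2 * 2 by norm_num]; exact mul_ne_zero h2 h2
    have hC : Cong (1 : Matrix (Fin 2) (Fin 2) F) (polarGram (CfsgLib.Classical.minusQ 0 F 0 1)) :=
      cong_of_sq (k := 1) h2 _ _ (by simp) transpose_one (polarGram_symm _) hone
        (by rw [hd]; simpa using h4) (by rw [hd, det_one]; exact ⟨2, by norm_num⟩)
    rw [card_isoGrp hC, ← isometry_eq h2, CfsgLib.Classical.minusQ_coe,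
      CfsgLib.Classical.card_iso_minus hani 0, Finset.prod_range_zero, mul_one, Nat.mul_zero, pow_zero,
      mul_one, Nat.zero_add, pow_one, padicValNat.mul (by norm_num) (by omega), padicValNat_self]
    have hA : padicValNat 2 (Fintype.card F - 1) = 1 := by
      have h3 : Fintype.card F % 4 = 3 := by
        by_contra h
        exact hs (FiniteField.isSquare_neg_one_iff.2 h)
      rw [show Fintype.card F - 1 = 2 * t by omega, padicValNat.mul (by norm_num) (by omega),
        padicValNat_self, padicValNat.eq_zero_of_not_dvd (by omega)]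
    omega

end Two

/-! ### Elements of the orthogonal group of the sum of squares -/

section Maps

variable (F : Type*) [Field F] (m : ℕ)

/-- The orthogonal group in dimension two. -/
abbrev O2 : Subgroup (GL (Fin 2) F) := isoGrp (1 : Matrix (Fin 2) (Fin 2) F)

/-- The coordinates. -/
abbrev κ : Type := Unit ⊕ (Fin m ⊕ Fin m)

/-- The orthogonal group of the sum of squares in dimension `2m+1`. -/
abbrev OF : Subgroup (GL (κ m) F) := isoGrp (1 : Matrix (κ m) (κ m) F)

variable {F m}

theorem blockMat_transpose {ι : Type*} [Fintype ι] [DecidableEq ι] (f : ι → Matrix (Fin 2) (Fin 2) F) :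
    (blockHom f)ᵀ = blockHom fun i => (f i)ᵀ := by
  show (blockMat f)ᵀ = blockMat _
  simp [blockMat, fromBlocks_transpose, diagonal_transpose]

theorem block_orth (f : Fin m → O2 F) :
    (blockHom fun i => (f i).1.1)ᵀ * (blockHom fun i => (f i).1.1) = 1 := by
  rw [blockMat_transpose, ← map_mul,
    show ((fun i => (f i).1.1ᵀ) * fun i => (f i).1.1) = (1 : Fin m → Matrix (Fin 2) (Fin 2) F) from
      funext fun i => mem_orth.1 (f i).2, map_one]

/-- Blocks completed to determinant one. -/
def dMat : (Fin m → O2 F) →* Matrix (κ m) (κ m) F where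
  toFun f := Matrix.fromBlocks (diagonal fun _ => (blockHom fun i => (f i).1.1).det) 0 0
    (blockHom fun i => (f i).1.1)
  map_one' := by
    rw [show (fun i : Fin m => ((1 : Fin m → O2 F) i).1.1) = (1 : Fin m → Matrix (Fin 2) (Fin 2) F) from rfl,
      map_one, det_one]
    simp
  map_mul' f g := by
    rw [show (fun i : Fin m => ((f * g) i).1.1) = (fun i => (f i).1.1) * fun i => (g i).1.1 from rfl,
      map_mul, det_mul]
    simp [fromBlocks_multiply]

theorem dMat_orth (f : Fin m → O2 F) : (dMat f)ᵀ * dMat f = 1 := by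
  show (Matrix.fromBlocks _ _ _ _)ᵀ * Matrix.fromBlocks _ _ _ _ = _
  simp [fromBlocks_transpose, fromBlocks_multiply, block_orth, det_orth_sq (block_orth f)]

theorem det_dMat (f : Fin m → O2 F) : (dMat f).det = 1 := by
  show (Matrix.fromBlocks _ _ _ _).det = _
  rw [det_fromBlocks_zero₂₁, det_diagonal, Fintype.univ_punit, Finset.prod_singleton,
    det_orth_sq (block_orth f)]

/-- The block embedding. -/
def dO : (Fin m → O2 F) →* OF F m :=
  (MonoidHom.toHomUnits (dMat (F := F) (m := m))).codRestrict _ fun f => mem_orth.2 (dMat_orth f)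

/-- The permutations of the blocks. -/
def pMat2 : Equiv.Perm (Fin m) →* Matrix (κ m) (κ m) F where
  toFun σ := Matrix.fromBlocks 1 0 0 (pHom σ)
  map_one' := by rw [map_one]; simp
  map_mul' σ τ := by rw [map_mul]; simp [fromBlocks_multiply]

theorem pHom_orth (σ : Equiv.Perm (Fin m)) : (pHom (F := F) σ)ᵀ * pHom σ = 1 := by
  show (Matrix.fromBlocks _ _ _ _)ᵀ * Matrix.fromBlocks _ _ _ _ = _
  simp [fromBlocks_transpose, fromBlocks_multiply, pMat_transpose, ← pMat_mul, pMat_one]

theorem pMat2_orth (σ : Equiv.Perm (Fin m)) : (pMat2 (F := F) σ)ᵀ * pMat2 σ = 1 := by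
  show (Matrix.fromBlocks _ _ _ _)ᵀ * Matrix.fromBlocks _ _ _ _ = _
  simp [fromBlocks_transpose, fromBlocks_multiply, pHom_orth]

/-- The permutation embedding. -/
def pO : Equiv.Perm (Fin m) →* OF F m :=
  (MonoidHom.toHomUnits (pMat2 (F := F) (m := m))).codRestrict _ fun σ => mem_orth.2 (pMat2_orth σ)

theorem det_pO (σ : Equiv.Perm (Fin m)) : ((pO (F := F) σ : OF F m) : GL (κ m) F).1.det = 1 := by
  show (Matrix.fromBlocks _ _ _ _).det = _
  rw [det_fromBlocks_zero₂₁, det_one, det_pHom, one_mul]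

/-- Permutations of one half. -/
def aMat : Equiv.Perm (Fin m) →* Matrix (κ m) (κ m) F where
  toFun σ := Matrix.fromBlocks 1 0 0 (Matrix.fromBlocks (pMat σ) 0 0 1)
  map_one' := by simp [pMat_one]
  map_mul' σ τ := by simp [fromBlocks_multiply, pMat_mul]

/-- The half embedding. -/
def aO : Equiv.Perm (Fin m) →* OF F m :=
  (MonoidHom.toHomUnits (aMat (F := F) (m := m))).codRestrict _ fun σ => mem_orth.2 (by
    show (Matrix.fromBlocks _ _ _ _)ᵀ * Matrix.fromBlocks _ _ _ _ = _
    simp [fromBlocks_transpose, fromBlocks_multiply, pMat_transpose, ← pMat_mul, pMat_one])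

/-- The exchange of the halves. -/
def cO : OF F m :=
  ⟨⟨Matrix.fromBlocks 1 0 0 (Matrix.fromBlocks 0 1 1 0), Matrix.fromBlocks 1 0 0 (Matrix.fromBlocks 0 1 1 0),
    by simp [fromBlocks_multiply], by simp [fromBlocks_multiply]⟩,
    mem_orth.2 (by simp [fromBlocks_transpose, fromBlocks_multiply])⟩

/-- The sign change of the odd coordinate. -/
def lO : OF F m :=
  ⟨⟨Matrix.fromBlocks (diagonal fun _ => -1) 0 0 1, Matrix.fromBlocks (diagonal fun _ => -1) 0 0 1,
    by simp [fromBlocks_multiply], by simp [fromBlocks_multiply]⟩,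
    mem_orth.2 (by simp [fromBlocks_transpose, fromBlocks_multiply])⟩

theorem monomial_O : Monomial (dO (F := F) (m := m)) pO := by
  refine ⟨fun f σ h => ?_, fun σ f => ?_⟩
  · have h' : dMat f = pMat2 σ := congrArg (fun g : OF F m => g.1.1) h
    obtain ⟨h1, h2⟩ := block_inj _ σ (fun i => Or.inr ((Matrix.isUnit_iff_isUnit_det _).1 (f i).1.isUnit))
      (Matrix.fromBlocks_inj.1 h').2.2.2
    exact ⟨funext fun i => Subtype.ext (Units.ext (congrFun h1 i)), h2⟩
  · rw [mul_inv_eq_iff_eq_mul]
    refine Subtype.ext (Units.ext ?_)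
    show Matrix.fromBlocks _ _ _ _ * Matrix.fromBlocks _ _ _ _ =
      Matrix.fromBlocks _ _ _ _ * Matrix.fromBlocks _ _ _ _
    have hb := pHom_block σ fun i => (f i).1.1
    have hdet : (blockHom fun i => (f i).1.1).det = (blockHom fun i => ((f ∘ σ.symm) i).1.1).det := by
      have := congrArg Matrix.det hb
      rwa [det_mul, det_mul, det_pHom, one_mul, mul_one] at this
    simp only [fromBlocks_multiply, Matrix.one_mul, Matrix.mul_one, Matrix.zero_mul, Matrix.mul_zero,
      add_zero, zero_add, hb, hdet]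
    rfl

theorem pO_eq (σ : Equiv.Perm (Fin m)) : pO (F := F) σ = aO σ * cO * aO σ * cO⁻¹ := by
  refine Subtype.ext (Units.ext ?_)
  show Matrix.fromBlocks _ _ _ _ =
    Matrix.fromBlocks _ _ _ _ * Matrix.fromBlocks _ _ _ _ * Matrix.fromBlocks _ _ _ _ *
      Matrix.fromBlocks _ _ _ _
  simp only [fromBlocks_multiply, Matrix.one_mul, Matrix.mul_one, Matrix.zero_mul, Matrix.mul_zero,
      add_zero, zero_add]
  rfl

end Maps

/-! ### The main statement -/

/-- The odd-dimensional isometry group. -/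
abbrev GO (F : Type*) [Field F] (m : ℕ) :
    Subgroup (GL (Unit ⊕ (Fin m ⊕ Fin m)) F) := Cfsg.isometryGroup F (Cfsg.quadFormOdd m F)


section Main

variable {F : Type*} [Field F] [Fintype F] {m : ℕ}

/-- The odd-dimensional `Omega`. -/
abbrev OG (F : Type*) [Field F] (m : ℕ) : Subgroup (GO F m) := Cfsg.Omega F (Cfsg.quadFormOdd m F)

theorem val_iso_odd (hF : Odd (Fintype.card F)) (m : ℕ) :
    padicValNat 2 (Nat.card (Cfsg.isometryGroup F (Cfsg.quadFormOdd m F))) =
      m * (padicValNat 2 (Fintype.card F - 1) + padicValNat 2 (Fintype.card F + 1)) +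
        padicValNat 2 m.factorial + 1 := by
  haveI : Fact (Nat.Prime 2) := ⟨Nat.prime_two⟩
  have h1 : 1 < Fintype.card F := Fintype.one_lt_card
  have h2 := CfsgLib.Orth.two_ne_zero_of_odd hF
  have hd : ¬ 2 ∣ Fintype.card F ^ (m ^ 2) := fun h =>
    (Nat.not_even_iff_odd.2 (hF.pow (n := m ^ 2))) (even_iff_two_dvd.2 h)
  have hpos : ∀ k, (∏ i ∈ Finset.range k, (Fintype.card F ^ (2 * (i + 1)) - 1)) ≠ 0 := fun k =>
    Finset.prod_ne_zero_iff.2 fun i _ => by
      have := Nat.one_lt_pow (n := 2 * (i + 1)) (by omega) h1; omega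
  rw [CfsgLib.Classical.card_iso_odd h2, padicValNat.mul (by positivity) (hpos m),
    padicValNat.mul (by norm_num) (by positivity), padicValNat.eq_zero_of_not_dvd hd, padicValNat_self]
  suffices h : padicValNat 2 (∏ i ∈ Finset.range m, (Fintype.card F ^ (2 * (i + 1)) - 1)) =
      m * (padicValNat 2 (Fintype.card F - 1) + padicValNat 2 (Fintype.card F + 1)) +
        padicValNat 2 m.factorial by omega
  clear hd
  induction m with
  | zero => simp
  | succ m ih =>
    rw [Finset.prod_range_succ, padicValNat.mul (hpos m) ?_, ih, val_even h1 hF _ (by omega),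
      Nat.factorial_succ, padicValNat.mul (by omega) m.factorial_ne_zero]
    · ring
    · have := Nat.one_lt_pow (n := 2 * (m + 1)) (by omega) h1; omega

theorem exists_transport (hF : Odd (Fintype.card F)) :
    ∃ Θ : OF F m →* GO F m, Function.Injective Θ ∧
      (∀ g, (Θ g).1.1.det = g.1.1.det) ∧
      ∀ g : GO F m, g.1.1.det * g.1.1.det = 1 := by
  have h2 := CfsgLib.Orth.two_ne_zero_of_odd hF
  set N := polarGram (CfsgLib.Classical.oddQ m F) with hN
  have hd : N.det ≠ 0 := by
    rw [hN, det_odd]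
    exact mul_ne_zero h2 (pow_ne_zero _ (neg_ne_zero.2 one_ne_zero))
  have hone : ∀ (ι : Type) [Fintype ι] [DecidableEq ι], (1 : Matrix ι ι F).det ≠ 0 := fun ι _ _ => by
    rw [det_one]; exact one_ne_zero
  have hc : Fintype.card (κ m) = 2 * m + 1 := by simp [κ]; omega
  have c1 : Cong (1 : Matrix (Fin (2 * m + 1)) (Fin (2 * m + 1)) F) (1 : Matrix (κ m) (κ m) F) :=
    cong_of_odd h2 _ _ hc transpose_one transpose_one (hone _) (hone _)
  have c2 : Cong (1 : Matrix (Fin (2 * m + 1)) (Fin (2 * m + 1)) F) N :=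
    cong_of_odd h2 _ _ hc transpose_one (polarGram_symm _) (hone _) hd
  obtain ⟨φ, hφ, -, hdet⟩ := (c1.symm.trans c2).exists_equiv
  have e : GO F m = isoGrp N := by
    show Cfsg.isometryGroup F (Cfsg.quadFormOdd m F) = _
    rw [hN, ← isometry_eq h2, CfsgLib.Classical.oddQ_coe]
  refine ⟨(φ.toMonoidHom.comp (OF F m).subtype).codRestrict _ fun g => ?_, fun x y h => ?_,
    fun g => hdet g.1, fun g => ?_⟩
  · rw [e, ← mult_one_iff]
    exact (hφ g.1 1).2 (mult_one_iff.2 g.2)
  · exact Subtype.ext (φ.injective (congrArg Subtype.val h))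
  · have h := Mult.det_sq hd (mult_one_iff.2 (e ▸ g.2 : g.1 ∈ isoGrp N))
    rwa [Units.val_one, one_pow, pow_two] at h

theorem omega_odd (hF : Odd (Fintype.card F)) (hm : 2 ≤ m)
    (P : Sylow 2 (Cfsg.Omega F (Cfsg.quadFormOdd m F))) :
    ∀ x : (P : Subgroup (Cfsg.Omega F (Cfsg.quadFormOdd m F))),
      x ^ 2 ∈ commutator (P : Subgroup (Cfsg.Omega F (Cfsg.quadFormOdd m F))) := by
  classical
  haveI : Fact (Nat.Prime 2) := ⟨Nat.prime_two⟩
  have h2 := CfsgLib.Orth.two_ne_zero_of_odd hF
  obtain ⟨Θ, hΘ, hΘd, hsq⟩ := exists_transport (m := m) hF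
  obtain ⟨T, hT, hTE, -⟩ := exists_perm_two_group m (Fin m) (Fintype.card_fin m)
  -- a Sylow subgroup of the plane orthogonal group with a reflection
  let x0 : O2 F := ⟨⟨!![1, 0; 0, -1], !![1, 0; 0, -1],
      by ext i j; fin_cases i <;> fin_cases j <;> simp [Matrix.mul_apply, Fin.sum_univ_two],
      by ext i j; fin_cases i <;> fin_cases j <;> simp [Matrix.mul_apply, Fin.sum_univ_two]⟩,
    mem_orth.2 (by ext i j; fin_cases i <;> fin_cases j <;> simp [Matrix.mul_apply, Fin.sum_univ_two])⟩
  have hx0d : x0.1.1.det = -1 := by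
    show (!![1, 0; 0, -1] : Matrix (Fin 2) (Fin 2) F).det = -1
    simp [Matrix.det_fin_two]
  have hx0p : IsPGroup 2 (Subgroup.zpowers x0) := by
    refine IsPGroup.iff_card.2 ⟨1, ?_⟩
    rw [Nat.card_zpowers, pow_one]
    refine orderOf_eq_prime ?_ fun h => ?_
    · rw [pow_two]; exact Subtype.ext (Units.ext (reflection_sq (mem_orth.1 x0.2) hx0d))
    · rw [h] at hx0d
      simp at hx0d
      exact h2 (by linear_combination hx0d)
  obtain ⟨S, hS⟩ := hx0p.exists_le_sylow
  have hx0S : x0 ∈ (S : Subgroup (O2 F)) := hS (Subgroup.mem_zpowers _)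
  -- the monomial group
  let d : (Fin m → O2 F) →* (GO F m) := Θ.comp dO
  let π : Equiv.Perm (Fin m) →* (GO F m) := Θ.comp pO
  have M : Monomial d π := by
    refine ⟨fun f σ h => monomial_O.inj f σ (hΘ (show Θ (dO f) = Θ (pO σ) from h)), fun σ f => ?_⟩
    show Θ (pO σ) * Θ (dO f) * (Θ (pO σ))⁻¹ = Θ (dO (f ∘ σ.symm))
    rw [← map_inv, ← map_mul, ← map_mul, monomial_O.conj]
  set H := monGroup M (S : Subgroup (O2 F)) T with hH
  let dt : (GO F m) →* Fˣ := Matrix.GeneralLinearGroup.det.comp (GO F m).subtype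
  have hdt : ∀ g : (GO F m), dt g = 1 ↔ g.1.1.det = 1 := fun g =>
    ⟨fun h => congrArg Units.val h, fun h => Units.ext h⟩
  have hd1 : ∀ f, d f ∈ dt.ker := fun f => (hdt _).2 ((hΘd _).trans (det_dMat f))
  have hp1 : ∀ σ, π σ ∈ dt.ker := fun σ => (hdt _).2 ((hΘd _).trans (det_pO σ))
  -- the index two step
  have hnd : Cfsg.Geo.IsNondegenerateQuadraticForm (Cfsg.quadFormOdd m F) := by
    have := CfsgLib.Orth.nd_of_qf (CfsgLib.Classical.oddQ m F) (CfsgLib.Classical.oddQ_nondeg h2 m)
    rwa [CfsgLib.Classical.oddQ_coe] at this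
  have hidx : (OG F m).index = 4 := CfsgLib.Orth.omega_index_odd hnd (by simp; omega) h2
  have hker : dt.ker.index = 2 := by
    have hset : (dt.range : Set Fˣ) = {1, -1} := by
      ext u
      constructor
      · rintro ⟨g, rfl⟩
        rcases mul_self_eq_one_iff.1 (hsq g) with h | h
        · exact Or.inl (Units.ext h)
        · exact Or.inr (Units.ext h)
      · rintro (rfl | rfl)
        · exact one_mem _
        · refine ⟨Θ lO, Units.ext ?_⟩
          show (Θ lO).1.1.det = -1
          rw [hΘd]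
          show (Matrix.fromBlocks _ _ _ _).det = _
          simp [det_fromBlocks_zero₂₁]
    rw [Subgroup.index_ker]
    show Nat.card (dt.range : Set Fˣ) = 2
    rw [hset, Nat.card_coe_set_eq, Set.ncard_pair]
    intro h
    have h' := congrArg Units.val h
    simp only [Units.val_one, Units.val_neg] at h'
    exact h2 (by linear_combination h')
  have hΩle : (OG F m) ≤ dt.ker := Abelianization.commutator_subset_ker dt
  have hrel : (OG F m).relIndex dt.ker = 2 := by
    have := Subgroup.relIndex_mul_index hΩle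
    rw [hker, hidx] at this
    omega
  have hprod : ∀ a ∈ dt.ker, ∀ b ∈ dt.ker, a ∉ (OG F m) → b ∉ (OG F m) → a * b ∈ (OG F m) := by
    intro a ha b hb ha' hb'
    have h := Subgroup.mul_mem_iff_of_index_two (H := (OG F m).subgroupOf dt.ker) hrel (a := ⟨a, ha⟩) (b := ⟨b, hb⟩)
    simp only [Subgroup.mem_subgroupOf] at h
    exact h.2 (iff_of_false ha' hb')
  have hHker : H ≤ dt.ker := by
    rintro _ ⟨f, -, σ, -, rfl⟩
    exact mul_mem (hd1 f) (hp1 σ)
  -- permutations lie in Omega
  have hπΩ : ∀ σ, π σ ∈ (OG F m) := by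
    intro σ
    induction σ using Equiv.Perm.swap_induction_on with
    | one => rw [map_one]; exact one_mem _
    | swap_mul σ i j _ ih =>
      rw [map_mul]
      refine mul_mem ?_ ih
      have hinv : (aO (F := F) (Equiv.swap i j))⁻¹ = aO (Equiv.swap i j) := by
        rw [← map_inv, Equiv.swap_inv]
      show Θ (pO (Equiv.swap i j)) ∈ commutator (GO F m)
      rw [pO_eq, map_mul, map_mul, map_mul, map_inv]
      nth_rewrite 2 [← hinv]
      rw [map_inv, ← commutatorElement_def]
      exact Subgroup.commutator_mem_commutator (Subgroup.mem_top _) (Subgroup.mem_top _)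
  set K := H ⊓ (OG F m) with hK
  let single : Fin m → O2 F → (GO F m) := fun i y => d (Pi.mulSingle i y)
  let X : Set (GO F m) := {g | ∃ i, ∃ y ∈ (S : Subgroup (O2 F)), y.1.1.det = -1 ∧ g = single i y}
  have hXH : X ⊆ H := by
    rintro _ ⟨i, y, hy, -, rfl⟩
    exact d_mem M T fun l _ => by
      rcases eq_or_ne l i with rfl | hl
      · simp [hy]
      · simp [Pi.mulSingle_eq_of_ne hl]
  have hX2 : ∀ x ∈ X, x * x = 1 := by
    rintro _ ⟨i, y, -, hyd, rfl⟩
    show d _ * d _ = 1
    rw [← map_mul, ← Pi.mulSingle_mul,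
      show y * y = 1 from Subtype.ext (Units.ext (reflection_sq (mem_orth.1 y.2) hyd)),
      Pi.mulSingle_one, map_one]
  have hXinv : ∀ x ∈ X, x⁻¹ = x := fun x hx => inv_eq_of_mul_eq_one_right (hX2 x hx)
  have hgood_invol : ∀ g ∈ K, g * g = 1 → g ∈ good K := fun g hg hg2 =>
    mem_good.2 ⟨hg, by rw [pow_two, hg2]; exact one_mem _⟩
  have hsX : ∀ i y, y ∈ (S : Subgroup (O2 F)) → y.1.1.det = -1 → single i y ∈ X :=
    fun i y hy hyd => ⟨i, y, hy, hyd, rfl⟩
  have hsH : ∀ i y, y ∈ (S : Subgroup (O2 F)) → y.1.1.det = -1 → single i y ∈ H :=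
    fun i y hy hyd => hXH (hsX i y hy hyd)
  have hcomm : ∀ i k y z, i ≠ k → y ∈ (S : Subgroup (O2 F)) → y.1.1.det = -1 →
      z ∈ (S : Subgroup (O2 F)) → z.1.1.det = -1 → single i y * single k z ∈ (OG F m) →
      single i y * single k z ∈ good K := by
    intro i k y z hik hy hyd hz hzd hmem
    have hKm : single i y * single k z ∈ K :=
      Subgroup.mem_inf.2 ⟨mul_mem (hsH i y hy hyd) (hsH k z hz hzd), hmem⟩
    refine hgood_invol _ hKm ?_
    have hc0 : Commute (Pi.mulSingle i y : Fin m → O2 F) (Pi.mulSingle k z) :=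
      Pi.mulSingle_commute (f := fun _ : Fin m => ↥(O2 F)) hik y z
    have hc : Commute (single i y) (single k z) := hc0.map d
    rw [hc.symm.mul_mul_mul_comm, hX2 _ (hsX i y hy hyd), hX2 _ (hsX k z hz hzd), one_mul]
  have hpair : ∀ x ∈ X, ∀ y ∈ X, x * y ∈ (OG F m) → x * y ∈ good K := by
    rintro _ ⟨i, y, hy, hyd, rfl⟩ _ ⟨k, z, hz, hzd, rfl⟩ hmem
    rcases ne_or_eq i k with hik | rfl
    · exact hcomm i k y z hik hy hyd hz hzd hmem
    haveI : Nontrivial (Fin m) := Fin.nontrivial_iff_two_le.2 hm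
    obtain ⟨l, hl⟩ := exists_ne i
    have hw : single l y = π (Equiv.swap i l) * single i y * (π (Equiv.swap i l))⁻¹ := by
      show d _ = π _ * d _ * _
      rw [M.conj]
      congr 1
      funext x
      rw [Function.comp, Equiv.symm_swap]
      rcases eq_or_ne x l with rfl | hxl
      · rw [Equiv.swap_apply_right, Pi.mulSingle_eq_same, Pi.mulSingle_eq_same]
      · rw [Pi.mulSingle_eq_of_ne hxl, Pi.mulSingle_eq_of_ne]
        rcases eq_or_ne x i with rfl | hxi
        · rw [Equiv.swap_apply_left]; exact hl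
        · rw [Equiv.swap_apply_of_ne_of_ne hxi hxl]; exact hxi
    have h1 : single i y * single l y ∈ (OG F m) := by
      rw [hw, ← mul_assoc, ← mul_assoc]
      nth_rewrite 2 [← hXinv _ (hsX i y hy hyd)]
      rw [← commutatorElement_def]
      exact Subgroup.commutator_mem_commutator (Subgroup.mem_top _) (Subgroup.mem_top _)
    have e : single i y * single i z = single i y * single l y * (single l y * single i z) := by
      rw [mul_assoc, ← mul_assoc (single l y), hX2 _ (hsX l y hy hyd), one_mul]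
    have h3 : single l y * single i z ∈ (OG F m) := by
      have := mul_mem (inv_mem h1) hmem
      rwa [e, inv_mul_cancel_left] at this
    rw [e]
    exact mul_mem (hcomm i l y y hl.symm hy hyd hy hyd h1) (hcomm l i y z hl hy hyd hz hzd h3)
  have hKconj : ∀ x ∈ X, ∀ g ∈ good K, x * g * x ∈ good K := by
    intro x hx g hg
    have := conj_mem_good (x := x) (K := K) (fun k hk => ⟨mul_mem (mul_mem (show x ∈ H from hXH hx) hk.1) (H.inv_mem (hXH hx)),
      (inferInstance : (OG F m).Normal).conj_mem k hk.2 x⟩) hg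
    rwa [hXinv x hx] at this
  have hgen : ∀ f ∈ Subgroup.pi Set.univ (fun _ : Fin m => (S : Subgroup (O2 F))), d f ∈ Subgroup.closure X := by
    intro f hf
    refine Subgroup.pi_mem_of_mulSingle_mem (H := (Subgroup.closure X).comap d) f fun i => ?_
    have hfi : f i ∈ (S : Subgroup (O2 F)) := hf i trivial
    show d (Pi.mulSingle i (f i)) ∈ Subgroup.closure X
    rcases mul_self_eq_one_iff.1 (det_orth_sq (mem_orth.1 (f i).2)) with h | h
    · have hxx : x0 * x0 = 1 := Subtype.ext (Units.ext (reflection_sq (mem_orth.1 x0.2) hx0d))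
      rw [show f i = x0 * (x0 * f i) by rw [← mul_assoc, hxx, one_mul]]
      show d (Pi.mulSingle i _) ∈ _
      rw [Pi.mulSingle_mul, map_mul]
      refine mul_mem (Subgroup.subset_closure (hsX i x0 hx0S hx0d))
        (Subgroup.subset_closure (hsX i _ (mul_mem hx0S hfi) ?_))
      show (x0.1.1 * (f i).1.1).det = -1
      rw [det_mul, hx0d, h, mul_one]
    · exact Subgroup.subset_closure (hsX i _ hfi h)
  have hKE : ElemAb K := by
    rintro _ ⟨⟨f, hf, σ, hσ, rfl⟩, hx⟩
    have hfΩ : d f ∈ (OG F m) := by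
      have := (OG F m).mul_mem hx ((OG F m).inv_mem (hπΩ σ))
      rwa [mul_inv_cancel_right] at this
    refine mul_mem ?_ (map_le_good π hTE ?_ ⟨σ, hσ, rfl⟩)
    · exact mem_of_generated (E := dt.ker) (fun x hx => hHker (hXH hx)) hprod hX2
        (fun x hx hxN => hgood_invol x ⟨hXH hx, hxN⟩ (hX2 x hx)) hpair hKconj (d f) (hgen f hf) hfΩ
    · rintro _ ⟨τ, hτ, rfl⟩
      exact ⟨perm_mem M _ hτ, hπΩ τ⟩
  -- the order
  have hcardH : Nat.card H = 2 ^ (m * (padicValNat 2 (Fintype.card F - 1) + padicValNat 2 (Fintype.card F + 1)) +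
      padicValNat 2 m.factorial) := by
    rw [hH, card_monGroup, S.card_eq_multiplicity, Nat.factorization_def _ Nat.prime_two, val_orth_two hF, hT,
      Fintype.card_fin, ← pow_mul, ← pow_add, mul_comm _ m]
  have hle : Nat.card H ≤ 2 * Nat.card K := by
    by_cases hHΩ : H ≤ (OG F m)
    · rw [hK, inf_eq_left.2 hHΩ]; omega
    obtain ⟨a, ha, haΩ⟩ := SetLike.not_le_iff_exists.1 hHΩ
    have hs : Function.Surjective (fun z : Fin 2 × K =>
        (⟨(if z.1 = 0 then 1 else a) * z.2.1, by
          split_ifs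
          · exact mul_mem (one_mem _) z.2.2.1
          · exact mul_mem ha z.2.2.1⟩ : H)) := by
      rintro ⟨h, hh⟩
      by_cases hhΩ : h ∈ (OG F m)
      · exact ⟨⟨0, ⟨h, hh, hhΩ⟩⟩, Subtype.ext (one_mul h)⟩
      · refine ⟨⟨1, ⟨a⁻¹ * h, H.mul_mem (H.inv_mem ha) hh,
          hprod _ (inv_mem (hHker ha)) _ (hHker hh) (fun h' => haΩ (by simpa using inv_mem h')) hhΩ⟩⟩, Subtype.ext ?_⟩
        show (if (1 : Fin 2) = 0 then (1 : (GO F m)) else a) * (a⁻¹ * h) = h
        rw [if_neg (by decide), mul_inv_cancel_left]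
    have := Nat.card_le_card_of_surjective _ hs
    rwa [Nat.card_prod, Nat.card_fin] at this
  have hvΩ : padicValNat 2 (Nat.card (OG F m)) + 1 =
      m * (padicValNat 2 (Fintype.card F - 1) + padicValNat 2 (Fintype.card F + 1)) +
        padicValNat 2 m.factorial := by
    have h := congrArg (padicValNat 2) (OG F m).card_mul_index
    rw [hidx, padicValNat.mul Nat.card_pos.ne' (by norm_num), show (4 : ℕ) = 2 ^ 2 by norm_num,
      padicValNat.prime_pow, val_iso_odd hF m] at h
    omega
  have hKcard : Nat.card K = 2 ^ padicValNat 2 (Nat.card (OG F m)) := by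
    obtain ⟨k, hk⟩ := IsPGroup.iff_card.1 ((IsPGroup.of_card hcardH).to_le (inf_le_left : K ≤ H))
    have hdvd : Nat.card K ∣ Nat.card (OG F m) := Subgroup.card_dvd_of_le inf_le_right
    rw [hk] at hdvd hle ⊢
    have h3 : k ≤ padicValNat 2 (Nat.card (OG F m)) := (padicValNat_dvd_iff_le Nat.card_pos.ne').1 hdvd
    rw [hcardH, ← pow_succ', Nat.pow_le_pow_iff_right (by norm_num), ← hvΩ] at hle
    congr 1
    omega
  -- inside Omega
  set K' := K.subgroupOf (OG F m) with hK'
  have hmap : K'.map (OG F m).subtype = K := Subgroup.map_subgroupOf_eq_of_le inf_le_right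
  refine sylow_of_elemAb K' ?_ ?_ P
  · rw [hK', Nat.card_congr (Subgroup.subgroupOfEquivOfLe (inf_le_right : K ≤ (OG F m))).toEquiv, hKcard]
  · intro x hx
    have h5 := hKE.sq_mem (x := x.1) hx
    rw [← hmap, ← Subgroup.map_commutator] at h5
    obtain ⟨y, hy, hxy⟩ := h5
    have : y = x ^ 2 := Subtype.ext hxy
    exact mem_good.2 ⟨hx, this ▸ hy⟩

end Main

end CfsgLib.Classical.SylowTwoOrth
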