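import Cfsg.Agent.Lib.Classical.SylowTwoOrth
import Cfsg.Agent.Lib.Orth.SignGroup
import Cfsg.Agent.Lib.Orth.Sum

/-!
# Sylow two-subgroups of even-dimensional `Omega` have elementary abelian abelianisation

The sum of squares in two-by-two blocks is completed by at most two further coordinates with sign
changes; a Sylow two-subgroup of the isometry group is then a wreath product times the signs.
-/

set_option autoImplicit false
set_option linter.unusedSectionVars false

namespace CfsgLib.Classical.SylowTwoOrth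

open scoped commutatorElement
open Matrix CfsgLib.Classical.SylowTwoElemAb CfsgLib.FormCl

/-- A group generated by involutions falling into at most two classes modulo `N`, with commuting
representatives. -/
theorem mem_of_generated_two {G : Type*} [Group G] {N L : Subgroup G} {X : Set G}
    (hX : ∀ x ∈ X, x * x = 1) (hXN : ∀ x ∈ X, x ∉ N) (hLN : L ≤ N) {z w : G} (hz : z ∈ X) (hw : w ∈ X)
    (hzw : Commute z w) (hne : z = w ∨ z * w ∉ N) (hcl : ∀ x ∈ X, x * z ∈ N ∨ x * w ∈ N)
    (hpair : ∀ x ∈ X, ∀ y ∈ X, x * y ∈ N → x * y ∈ L) (hconj : ∀ x ∈ X, ∀ g ∈ L, x * g * x ∈ L) :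
    ∀ g ∈ Subgroup.closure X, g ∈ N → g ∈ L := by
  have hz2 := hX z hz
  have hw2 := hX w hw
  suffices h : ∀ g ∈ Subgroup.closure X,
      ∃ l ∈ L, g = l ∨ g = l * z ∨ g = l * w ∨ g = l * (z * w) by
    intro g hg hgN
    obtain ⟨l, hl, h' | h' | h' | h'⟩ := h g hg
    · exact h' ▸ hl
    all_goals
      have hs := N.mul_mem (N.inv_mem (hLN hl)) hgN
      rw [h', inv_mul_cancel_left] at hs
    · exact absurd hs (hXN z hz)
    · exact absurd hs (hXN w hw)
    · rcases hne with rfl | hne
      · rw [h', hz2, mul_one]; exact hl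
      · exact absurd hs hne
  have step : ∀ x ∈ X, ∀ g : G, (∃ l ∈ L, g = l ∨ g = l * z ∨ g = l * w ∨ g = l * (z * w)) →
      ∃ l ∈ L, x * g = l ∨ x * g = l * z ∨ x * g = l * w ∨ x * g = l * (z * w) := by
    rintro x hx g ⟨l, hl, hg⟩
    rcases hcl x hx with h | h
    · refine ⟨x * z * (z * l * z), L.mul_mem (hpair x hx z hz h) (hconj z hz l hl), ?_⟩
      have e : x * z * (z * l * z) = x * l * z := by
        rw [show x * z * (z * l * z) = x * (z * z) * l * z by group, hz2, mul_one]
      rw [e]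
      rcases hg with rfl | rfl | rfl | rfl
      · exact Or.inr (Or.inl (by rw [mul_assoc _ z z, hz2, mul_one]))
      · exact Or.inl (mul_assoc _ _ _).symm
      · refine Or.inr (Or.inr (Or.inr ?_))
        rw [← mul_assoc, ← mul_assoc, mul_assoc _ z z, hz2, mul_one]
      · refine Or.inr (Or.inr (Or.inl ?_))
        group
    · refine ⟨x * w * (w * l * w), L.mul_mem (hpair x hx w hw h) (hconj w hw l hl), ?_⟩
      have e : x * w * (w * l * w) = x * l * w := by
        rw [show x * w * (w * l * w) = x * (w * w) * l * w by group, hw2, mul_one]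
      rw [e]
      rcases hg with rfl | rfl | rfl | rfl
      · exact Or.inr (Or.inr (Or.inl (by rw [mul_assoc _ w w, hw2, mul_one])))
      · refine Or.inr (Or.inr (Or.inr ?_))
        rw [hzw.eq, ← mul_assoc, ← mul_assoc, mul_assoc _ w w, hw2, mul_one]
      · exact Or.inl (mul_assoc _ _ _).symm
      · refine Or.inr (Or.inl ?_)
        rw [hzw.eq]
        group
  intro g hg
  induction hg using Subgroup.closure_induction_left with
  | one => exact ⟨1, L.one_mem, Or.inl rfl⟩
  | mul_left x hx g hg ih => exact step x hx g ih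
  | inv_mul_cancel x hx g hg ih =>
    rw [inv_eq_of_mul_eq_one_right (hX x hx)]
    exact step x hx g ih

/-! ### The blocks -/

section Maps

variable {F : Type*} [Field F] {n : ℕ}

/-- The orthogonal group of the sum of squares in dimension `2n`. -/
abbrev OA (F : Type*) [Field F] (n : ℕ) : Subgroup (GL (Fin n ⊕ Fin n) F) :=
  isoGrp (1 : Matrix (Fin n ⊕ Fin n) (Fin n ⊕ Fin n) F)

/-- The block matrices of plane isometries. -/
def dMatA : (Fin n → O2 F) →* Matrix (Fin n ⊕ Fin n) (Fin n ⊕ Fin n) F where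
  toFun f := blockHom fun i => (f i).1.1
  map_one' := map_one blockHom
  map_mul' f g := map_mul blockHom (fun i => (f i).1.1) fun i => (g i).1.1

/-- The block embedding. -/
def dA : (Fin n → O2 F) →* OA F n :=
  (MonoidHom.toHomUnits (dMatA (F := F) (n := n))).codRestrict _ fun f => mem_orth.2 (block_orth f)

/-- The permutations of the blocks. -/
def pA : Equiv.Perm (Fin n) →* OA F n :=
  (MonoidHom.toHomUnits (pHom (ι := Fin n) (F := F))).codRestrict _ fun σ => mem_orth.2 (pHom_orth σ)

/-- Permutations of one half. -/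
def halfMat : Equiv.Perm (Fin n) →* Matrix (Fin n ⊕ Fin n) (Fin n ⊕ Fin n) F where
  toFun σ := Matrix.fromBlocks (pMat σ) 0 0 1
  map_one' := by simp [pMat_one]
  map_mul' σ τ := by simp [fromBlocks_multiply, pMat_mul]

/-- The half embedding. -/
def halfA : Equiv.Perm (Fin n) →* OA F n :=
  (MonoidHom.toHomUnits (halfMat (F := F) (n := n))).codRestrict _ fun σ => mem_orth.2 (by
    show (Matrix.fromBlocks _ _ _ _)ᵀ * Matrix.fromBlocks _ _ _ _ = _
    simp [fromBlocks_transpose, fromBlocks_multiply, pMat_transpose, ← pMat_mul, pMat_one])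

/-- The exchange of the halves. -/
def cA : OA F n :=
  ⟨⟨Matrix.fromBlocks 0 1 1 0, Matrix.fromBlocks 0 1 1 0,
    by simp [fromBlocks_multiply], by simp [fromBlocks_multiply]⟩,
    mem_orth.2 (by simp [fromBlocks_transpose, fromBlocks_multiply])⟩

theorem monomial_A : Monomial (dA (F := F) (n := n)) pA := by
  refine ⟨fun f σ h => ?_, fun σ f => ?_⟩
  · obtain ⟨h1, h2⟩ := block_inj _ σ (fun i => Or.inr ((Matrix.isUnit_iff_isUnit_det _).1 (f i).1.isUnit))
      (congrArg (fun g : OA F n => g.1.1) h)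
    exact ⟨funext fun i => Subtype.ext (Units.ext (congrFun h1 i)), h2⟩
  · rw [mul_inv_eq_iff_eq_mul]
    exact Subtype.ext (Units.ext (pHom_block σ fun i => (f i).1.1))

theorem pA_eq (σ : Equiv.Perm (Fin n)) : pA (F := F) σ = halfA σ * cA * halfA σ * cA⁻¹ := by
  refine Subtype.ext (Units.ext ?_)
  show Matrix.fromBlocks _ _ _ _ =
    Matrix.fromBlocks _ _ _ _ * Matrix.fromBlocks _ _ _ _ * Matrix.fromBlocks _ _ _ _ *
      Matrix.fromBlocks _ _ _ _
  simp [fromBlocks_multiply]

end Maps

/-! ### The core -/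

section Core

variable {F : Type*} [Field F] [Fintype F] {n r : ℕ} {G : Type*} [Group G] [Finite G]

theorem core (hF : Odd (Fintype.card F)) (hn : 2 ≤ n) (dt : G →* Fˣ) (hker : dt.ker.index = 2)
    (hidx : (commutator G).index = 4) (Θ : OA F n × (Fin r → ℤˣ) →* G) (hΘ : Function.Injective Θ)
    (hdet : ∀ a s, ((dt (Θ (a, s)) : Fˣ) : F) = a.1.1.det * ∏ j, ((s j : ℤ) : F))
    (hval : padicValNat 2 (Nat.card G) =
      n * (padicValNat 2 (Fintype.card F - 1) + padicValNat 2 (Fintype.card F + 1)) +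
        padicValNat 2 n.factorial + r)
    (P : Sylow 2 (commutator G)) :
    ∀ x : (P : Subgroup (commutator G)), x ^ 2 ∈ commutator (P : Subgroup (commutator G)) := by
  classical
  haveI : Fact (Nat.Prime 2) := ⟨Nat.prime_two⟩
  have h2 := CfsgLib.Orth.two_ne_zero_of_odd hF
  obtain ⟨T, hT, hTE, -⟩ := exists_perm_two_group n (Fin n) (Fintype.card_fin n)
  let x0 : O2 F := ⟨⟨!![1, 0; 0, -1], !![1, 0; 0, -1],
      by ext i j; fin_cases i <;> fin_cases j <;> simp [Matrix.mul_apply, Fin.sum_univ_two],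
      by ext i j; fin_cases i <;> fin_cases j <;> simp [Matrix.mul_apply, Fin.sum_univ_two]⟩,
    mem_orth.2 (by ext i j; fin_cases i <;> fin_cases j <;> simp [Matrix.mul_apply, Fin.sum_univ_two])⟩
  have hx0d : x0.1.1.det = -1 := by
    show (!![1, 0; 0, -1] : Matrix (Fin 2) (Fin 2) F).det = -1
    simp [Matrix.det_fin_two]
  have hxx : x0 * x0 = 1 := Subtype.ext (Units.ext (reflection_sq (mem_orth.1 x0.2) hx0d))
  have hx0p : IsPGroup 2 (Subgroup.zpowers x0) := by
    refine IsPGroup.iff_card.2 ⟨1, ?_⟩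
    rw [Nat.card_zpowers, pow_one]
    refine orderOf_eq_prime (by rw [pow_two]; exact hxx) fun h => ?_
    rw [h] at hx0d
    simp at hx0d
    exact h2 (by linear_combination hx0d)
  obtain ⟨S, hS⟩ := hx0p.exists_le_sylow
  have hx0S : x0 ∈ (S : Subgroup (O2 F)) := hS (Subgroup.mem_zpowers _)
  have hneg : (-1 : F) ≠ 1 := fun h => h2 (by linear_combination -h)
  -- the candidate
  let H : Subgroup G := ((monGroup monomial_A (S : Subgroup (O2 F)) T).prod (⊤ : Subgroup (Fin r → ℤˣ))).map Θ
  let π : Equiv.Perm (Fin n) →* G := (Θ.comp (MonoidHom.inl _ _)).comp pA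
  let bl : Fin n → O2 F → G := fun i y => Θ (dA (Pi.mulSingle i y), 1)
  let sg : Fin r → G := fun j => Θ (1, Pi.mulSingle j (-1))
  let X : Set G := {g | (∃ i, ∃ y ∈ (S : Subgroup (O2 F)), y.1.1.det = -1 ∧ g = bl i y) ∨ ∃ j, g = sg j}
  have hblH : ∀ i y, y ∈ (S : Subgroup (O2 F)) → bl i y ∈ H := fun i y hy =>
    ⟨_, ⟨d_mem monomial_A T fun l _ => by
      rcases eq_or_ne l i with rfl | hl
      · simp [hy]
      · simp [Pi.mulSingle_eq_of_ne hl], Subgroup.mem_top _⟩, rfl⟩
  have hXH : ∀ x ∈ X, x ∈ H := by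
    rintro _ (⟨i, y, hy, -, rfl⟩ | ⟨j, rfl⟩)
    · exact hblH i y hy
    · exact ⟨_, ⟨Subgroup.one_mem _, Subgroup.mem_top _⟩, rfl⟩
  have hblm : ∀ i y z, bl i y * bl i z = bl i (y * z) := fun i y z => by
    show Θ _ * Θ _ = Θ _
    rw [← map_mul, Prod.mk_mul_mk, mul_one, ← map_mul, ← Pi.mulSingle_mul]
  have hX2 : ∀ x ∈ X, x * x = 1 := by
    rintro _ (⟨i, y, -, hyd, rfl⟩ | ⟨j, rfl⟩)
    · rw [hblm, show y * y = 1 from Subtype.ext (Units.ext (reflection_sq (mem_orth.1 y.2) hyd))]
      show Θ (dA (Pi.mulSingle i 1), 1) = 1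
      rw [Pi.mulSingle_one, map_one]
      exact map_one Θ
    · show Θ _ * Θ _ = 1
      rw [← map_mul, Prod.mk_mul_mk, one_mul, ← Pi.mulSingle_mul, Int.units_mul_self, Pi.mulSingle_one]
      exact map_one Θ
  have hXinv : ∀ x ∈ X, x⁻¹ = x := fun x hx => inv_eq_of_mul_eq_one_right (hX2 x hx)
  have hdX : ∀ x ∈ X, ((dt x : Fˣ) : F) = -1 := by
    rintro _ (⟨i, y, -, hyd, rfl⟩ | ⟨j, rfl⟩)
    · show ((dt (Θ _) : Fˣ) : F) = -1
      rw [hdet]
      show (blockHom fun l => ((Pi.mulSingle i y : Fin n → O2 F) l).1.1).det * _ = -1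
      rw [det_blockHom, Finset.prod_eq_single i (fun l _ hl => by simp [Pi.mulSingle_eq_of_ne hl]) (by simp),
        Pi.mulSingle_eq_same, hyd]
      simp
    · show ((dt (Θ _) : Fˣ) : F) = -1
      rw [hdet, Finset.prod_eq_single j (fun l _ hl => by simp [Pi.mulSingle_eq_of_ne hl]) (by simp),
        Pi.mulSingle_eq_same]
      simp
  have hle : commutator G ≤ dt.ker := Abelianization.commutator_subset_ker dt
  have hXN : ∀ x ∈ X, x ∉ commutator G := fun x hx h => hneg (by
    rw [← hdX x hx, MonoidHom.mem_ker.1 (hle h), Units.val_one])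
  have hXX : ∀ x ∈ X, ∀ y ∈ X, x * y ∈ dt.ker := fun x hx y hy => by
    refine MonoidHom.mem_ker.2 (Units.ext ?_)
    rw [map_mul, Units.val_mul, hdX x hx, hdX y hy, Units.val_one, neg_mul_neg, one_mul]
  have hrel : (commutator G).relIndex dt.ker = 2 := by
    have := Subgroup.relIndex_mul_index hle
    rw [hker, hidx] at this
    omega
  have htwo : ∀ x ∈ X, ∀ y ∈ X, ∀ z ∈ X, x * y ∉ commutator G → x * z ∉ commutator G →
      y * z ∈ commutator G := by
    intro x hx y hy z hz h1 h3
    have h := Subgroup.mul_mem_iff_of_index_two (H := (commutator G).subgroupOf dt.ker) hrel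
      (a := ⟨y * x, hXX y hy x hx⟩) (b := ⟨x * z, hXX x hx z hz⟩)
    simp only [Subgroup.mem_subgroupOf] at h
    have h4 : y * x * (x * z) ∈ commutator G := by
      refine h.2 (iff_of_false (fun h5 => h1 ?_) h3)
      have := inv_mem h5
      rwa [_root_.mul_inv_rev, hXinv x hx, hXinv y hy] at this
    rwa [mul_assoc, ← mul_assoc x, hX2 x hx, one_mul] at h4
  -- permutations lie in the derived subgroup
  have hπN : ∀ σ, π σ ∈ commutator G := by
    intro σ
    induction σ using Equiv.Perm.swap_induction_on with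
    | one => rw [map_one]; exact one_mem _
    | swap_mul σ i j _ ih =>
      rw [map_mul]
      refine mul_mem ?_ ih
      show (Θ.comp (MonoidHom.inl _ _)) (pA (Equiv.swap i j)) ∈ _
      rw [pA_eq, map_mul, map_mul, map_mul, map_inv]
      have hinv : ((Θ.comp (MonoidHom.inl _ _)) (halfA (F := F) (Equiv.swap i j)))⁻¹ =
          (Θ.comp (MonoidHom.inl _ _)) (halfA (Equiv.swap i j)) := by
        rw [← map_inv, ← map_inv, Equiv.swap_inv]
      nth_rewrite 2 [← hinv]
      rw [← commutatorElement_def]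
      exact Subgroup.commutator_mem_commutator (Subgroup.mem_top _) (Subgroup.mem_top _)
  -- non-commuting generators
  have hblk : ∀ x ∈ X, ∀ y ∈ X, Commute x y ∨
      ∃ x' ∈ X, Commute x x' ∧ Commute x' y ∧ x * x' ∈ commutator G := by
    have hc : ∀ i k, i ≠ k → ∀ y z, Commute (bl i y) (bl k z) := fun i k hik y z => by
      have hc0 : Commute (Pi.mulSingle i y : Fin n → O2 F) (Pi.mulSingle k z) :=
        Pi.mulSingle_commute (f := fun _ : Fin n => ↥(O2 F)) hik y z
      exact ((hc0.map dA).prod (Commute.one_left 1)).map Θ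
    rintro _ (⟨i, y, hy, hyd, rfl⟩ | ⟨j, rfl⟩) _ (⟨k, z, hz, hzd, rfl⟩ | ⟨l, rfl⟩)
    · rcases ne_or_eq i k with hik | rfl
      · exact Or.inl (hc i k hik y z)
      haveI : Nontrivial (Fin n) := Fin.nontrivial_iff_two_le.2 hn
      obtain ⟨l, hl⟩ := exists_ne i
      refine Or.inr ⟨bl l y, Or.inl ⟨l, y, hy, hyd, rfl⟩, hc i l hl.symm y y, hc l i hl y z, ?_⟩
      have hw : bl l y = π (Equiv.swap i l) * bl i y * (π (Equiv.swap i l))⁻¹ := by
        show Θ _ = Θ (_, 1) * Θ _ * (Θ (_, 1))⁻¹
        rw [← map_inv, ← map_mul, ← map_mul, Prod.inv_mk, Prod.mk_mul_mk, Prod.mk_mul_mk, monomial_A.conj]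
        simp only [inv_one, mul_one]
        congr 3
        funext x
        rw [Function.comp, Equiv.symm_swap]
        rcases eq_or_ne x l with rfl | hxl
        · rw [Equiv.swap_apply_right, Pi.mulSingle_eq_same, Pi.mulSingle_eq_same]
        · rw [Pi.mulSingle_eq_of_ne hxl, Pi.mulSingle_eq_of_ne]
          rcases eq_or_ne x i with rfl | hxi
          · rw [Equiv.swap_apply_left]; exact hl
          · rw [Equiv.swap_apply_of_ne_of_ne hxi hxl]; exact hxi
      rw [hw, ← mul_assoc, ← mul_assoc]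
      nth_rewrite 2 [← hXinv _ (Or.inl ⟨i, y, hy, hyd, rfl⟩)]
      rw [← commutatorElement_def]
      exact Subgroup.commutator_mem_commutator (Subgroup.mem_top _) (Subgroup.mem_top _)
    · exact Or.inl (((Commute.one_right _).prod (Commute.one_left _)).map Θ)
    · exact Or.inl (((Commute.one_left _).prod (Commute.one_right _)).map Θ)
    · exact Or.inl (((Commute.refl (1 : OA F n)).prod
        (Commute.all (Pi.mulSingle j (-1) : Fin r → ℤˣ) (Pi.mulSingle l (-1)))).map Θ)
  set K := H ⊓ commutator G with hK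
  have hinvol : ∀ g ∈ K, g * g = 1 → g ∈ good K := fun g hg hg2 =>
    mem_good.2 ⟨hg, by rw [pow_two, hg2]; exact one_mem _⟩
  have hcomm : ∀ x ∈ X, ∀ y ∈ X, Commute x y → x * y ∈ commutator G → x * y ∈ good K := by
    intro x hx y hy hc hmem
    have hKm : x * y ∈ K := Subgroup.mem_inf.2 ⟨mul_mem (hXH x hx) (hXH y hy), hmem⟩
    refine hinvol _ hKm ?_
    rw [hc.symm.mul_mul_mul_comm, hX2 x hx, hX2 y hy, one_mul]
  have hpair : ∀ x ∈ X, ∀ y ∈ X, x * y ∈ commutator G → x * y ∈ good K := by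
    intro x hx y hy hmem
    rcases hblk x hx y hy with hc | ⟨x', hx', hc1, hc2, h1⟩
    · exact hcomm x hx y hy hc hmem
    have e : x * y = x * x' * (x' * y) := by
      rw [mul_assoc, ← mul_assoc x', hX2 x' hx', one_mul]
    have h3 : x' * y ∈ commutator G := by
      have := mul_mem (inv_mem h1) hmem
      rwa [e, inv_mul_cancel_left] at this
    rw [e]
    exact mul_mem (hcomm x hx x' hx' hc1 h1) (hcomm x' hx' y hy hc2 h3)
  have hKconj : ∀ x ∈ X, ∀ g ∈ good K, x * g * x ∈ good K := by
    intro x hx g hg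
    have := conj_mem_good (x := x) (K := K) (fun k hk =>
      ⟨H.mul_mem (H.mul_mem (hXH x hx) hk.1) (H.inv_mem (hXH x hx)),
      (inferInstance : (commutator G).Normal).conj_mem k hk.2 x⟩) hg
    rwa [hXinv x hx] at this
  have hgen : ∀ (f : Fin n → O2 F) (s : Fin r → ℤˣ), (∀ i, f i ∈ (S : Subgroup (O2 F))) →
      Θ (dA f, s) ∈ Subgroup.closure X := by
    intro f s hf
    rw [show ((dA f, s) : OA F n × (Fin r → ℤˣ)) = (dA f, 1) * (1, s) by simp, map_mul]
    refine mul_mem ?_ ?_
    · refine Subgroup.pi_mem_of_mulSingle_mem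
        (H := (Subgroup.closure X).comap ((Θ.comp (MonoidHom.inl _ _)).comp dA)) f fun i => ?_
      show bl i (f i) ∈ Subgroup.closure X
      rcases mul_self_eq_one_iff.1 (det_orth_sq (mem_orth.1 (f i).2)) with h | h
      · rw [show f i = x0 * (x0 * f i) by rw [← mul_assoc, hxx, one_mul], ← hblm]
        refine mul_mem (Subgroup.subset_closure (Or.inl ⟨i, x0, hx0S, hx0d, rfl⟩))
          (Subgroup.subset_closure (Or.inl ⟨i, _, mul_mem hx0S (hf i), ?_, rfl⟩))
        show (x0.1.1 * (f i).1.1).det = -1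
        rw [det_mul, hx0d, h, mul_one]
      · exact Subgroup.subset_closure (Or.inl ⟨i, _, hf i, h, rfl⟩)
    · refine Subgroup.pi_mem_of_mulSingle_mem (H := (Subgroup.closure X).comap (Θ.comp (MonoidHom.inr _ _))) s
        fun j => ?_
      rcases Int.units_eq_one_or (s j) with h | h
      · rw [h, Pi.mulSingle_one]; exact one_mem _
      · rw [h]; exact Subgroup.subset_closure (Or.inr ⟨j, rfl⟩)
  -- the representatives
  let i0 : Fin n := ⟨0, by omega⟩
  have hz0 : bl i0 x0 ∈ X := Or.inl ⟨i0, x0, hx0S, hx0d, rfl⟩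
  obtain ⟨z, hz, w, hw, hzw, hne, hcl⟩ : ∃ z ∈ X, ∃ w ∈ X, Commute z w ∧ (z = w ∨ z * w ∉ commutator G) ∧
      ∀ x ∈ X, x * z ∈ commutator G ∨ x * w ∈ commutator G := by
    by_cases hone : ∀ x ∈ X, x * bl i0 x0 ∈ commutator G
    · exact ⟨_, hz0, _, hz0, Commute.refl _, Or.inl rfl, fun x hx => Or.inl (hone x hx)⟩
    push Not at hone
    obtain ⟨w1, hw1, hw1N⟩ := hone
    obtain ⟨w, hw, hwc, hwN⟩ : ∃ w ∈ X, Commute (bl i0 x0) w ∧ w * bl i0 x0 ∉ commutator G := by
      rcases hblk w1 hw1 _ hz0 with hc | ⟨w', hw', -, hc2, h1⟩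
      · exact ⟨w1, hw1, hc.symm, hw1N⟩
      · refine ⟨w', hw', hc2.symm, fun h => hw1N ?_⟩
        have := mul_mem h1 h
        rwa [mul_assoc, ← mul_assoc w', hX2 w' hw', one_mul] at this
    refine ⟨_, hz0, w, hw, hwc, Or.inr (fun h => hwN (by rwa [← hwc.eq])), fun x hx => ?_⟩
    by_cases h : x * bl i0 x0 ∈ commutator G
    · exact Or.inl h
    refine Or.inr (htwo _ hz0 x hx w hw (fun h' => h ?_) (fun h' => hwN (by rwa [← hwc.eq])))
    have := inv_mem h'
    rwa [_root_.mul_inv_rev, hXinv x hx, hXinv _ hz0] at this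
  have hKE : ElemAb K := by
    rintro _ ⟨⟨⟨_, s⟩, ⟨⟨f, hf, σ, hσ, rfl⟩, -⟩, rfl⟩, hx⟩
    have hsplit : Θ (dA f * pA σ, s) = Θ (dA f, s) * π σ := by
      show _ = Θ _ * Θ (pA σ, 1)
      rw [← map_mul, Prod.mk_mul_mk, mul_one]
    change Θ (dA f * pA σ, s) ∈ commutator G at hx
    show Θ (dA f * pA σ, s) ∈ good K
    rw [hsplit] at hx ⊢
    have hfN : Θ (dA f, s) ∈ commutator G := by
      have := (commutator G).mul_mem hx ((commutator G).inv_mem (hπN σ))
      rwa [mul_inv_cancel_right] at this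
    refine mul_mem ?_ (map_le_good π hTE ?_ ⟨σ, hσ, rfl⟩)
    · exact mem_of_generated_two hX2 hXN (fun g hg => (Subgroup.mem_inf.1 (mem_good.1 hg).1).2) hz hw hzw hne hcl hpair hKconj _
        (hgen f s fun i => hf i trivial) hfN
    · rintro _ ⟨τ, hτ, rfl⟩
      exact ⟨⟨_, ⟨perm_mem monomial_A _ hτ, Subgroup.mem_top _⟩, rfl⟩, hπN τ⟩
  -- the order
  have hcardH : Nat.card H = 2 ^ padicValNat 2 (Nat.card G) := by
    rw [Subgroup.card_map_of_injective hΘ, Nat.card_congr (Subgroup.prodEquiv _ _).toEquiv, Nat.card_prod,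
      card_monGroup, S.card_eq_multiplicity, Nat.factorization_def _ Nat.prime_two, val_orth_two hF, hT,
      Fintype.card_fin, Subgroup.card_top, Nat.card_pi, Finset.prod_const, Finset.card_univ, Fintype.card_fin,
      Nat.card_eq_fintype_card, Fintype.card_units_int, hval, ← pow_mul, ← pow_add, ← pow_add]
    congr 1
    ring
  have hKcard : Nat.card K = 2 ^ padicValNat 2 (Nat.card (commutator G)) := by
    obtain ⟨k, hk⟩ := IsPGroup.iff_card.1 ((IsPGroup.of_card hcardH).to_le (inf_le_left : K ≤ H))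
    have h5 : k ≤ padicValNat 2 (Nat.card (commutator G)) :=
      (padicValNat_dvd_iff_le Nat.card_pos.ne').1 (hk ▸ Subgroup.card_dvd_of_le inf_le_right)
    have h6 : Nat.card H ≤ 4 * Nat.card K := by
      have h7 : Nat.card K * (commutator G).relIndex H = Nat.card H := by
        have h8 := ((commutator G).subgroupOf H).card_mul_index
        rw [← h8, hK, inf_comm, ← Subgroup.inf_subgroupOf_right (commutator G) H,
          Nat.card_congr (Subgroup.subgroupOfEquivOfLe (inf_le_right : commutator G ⊓ H ≤ H)).toEquiv,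
          Subgroup.inf_subgroupOf_right]
        rfl
      have h9 : (commutator G).relIndex H ≤ 4 := hidx ▸ Nat.le_of_dvd (hidx ▸ Nat.succ_pos 3)
        ((commutator G).relIndex_dvd_index_of_normal H)
      rw [← h7, mul_comm 4]
      exact Nat.mul_le_mul_left _ h9
    have hv : padicValNat 2 (Nat.card (commutator G)) + 2 = padicValNat 2 (Nat.card G) := by
      have h := congrArg (padicValNat 2) (commutator G).card_mul_index
      rw [hidx, padicValNat.mul Nat.card_pos.ne' (by norm_num), show (4 : ℕ) = 2 ^ 2 by norm_num,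
        padicValNat.prime_pow] at h
      exact h
    rw [hcardH, hk, show (4 : ℕ) = 2 ^ 2 by norm_num, ← pow_add,
      Nat.pow_le_pow_iff_right (by norm_num)] at h6
    rw [hk]
    congr 1
    omega
  -- inside the derived subgroup
  have hmap : (K.subgroupOf (commutator G)).map (commutator G).subtype = K :=
    Subgroup.map_subgroupOf_eq_of_le inf_le_right
  refine sylow_of_elemAb (K.subgroupOf (commutator G)) ?_ ?_ P
  · rw [Nat.card_congr (Subgroup.subgroupOfEquivOfLe (inf_le_right : K ≤ commutator G)).toEquiv, hKcard]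
  · intro x hx
    have h5 := hKE.sq_mem (x := x.1) hx
    rw [← hmap, ← Subgroup.map_commutator] at h5
    obtain ⟨y, hy, hxy⟩ := h5
    have : y = x ^ 2 := Subtype.ext hxy
    exact mem_good.2 ⟨hx, this ▸ hy⟩

end Core

/-! ### The two families -/

section Families

variable {F : Type*} [Field F] [Fintype F]

theorem omega_of_cong (hF : Odd (Fintype.card F)) {ι : Type} [Fintype ι] [DecidableEq ι]
    {Q : QuadraticForm F (ι → F)} {f : (ι → F) → F} (hf : ⇑Q = f)
    (hQ : (QuadraticMap.polarBilin Q).Nondegenerate) (n r : ℕ) (hn : 2 ≤ n)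
    (w : Fin r → F) (hw : ∀ j, w j ≠ 0) (hcard : Fintype.card ι = n + n + r)
    (hd : (polarGram Q).det ≠ 0) (hsq : IsSquare ((∏ j, w j) * (polarGram Q).det))
    (hval : padicValNat 2 (Nat.card (Cfsg.isometryGroup F f)) =
      n * (padicValNat 2 (Fintype.card F - 1) + padicValNat 2 (Fintype.card F + 1)) +
        padicValNat 2 n.factorial + r)
    (P : Sylow 2 (Cfsg.Omega F f)) :
    ∀ x : (P : Subgroup (Cfsg.Omega F f)), x ^ 2 ∈ commutator (P : Subgroup (Cfsg.Omega F f)) := by
  subst hf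
  classical
  have h2 := CfsgLib.Orth.two_ne_zero_of_odd hF
  let I := (Fin n ⊕ Fin n) ⊕ Fin r
  let W : Matrix I I F := Matrix.fromBlocks 1 0 0 (diagonal w)
  have hWd : W.det = ∏ j, w j := by
    show (Matrix.fromBlocks _ _ _ _).det = _
    rw [det_fromBlocks_zero₂₁, det_one, det_diagonal, one_mul]
  have hWt : Wᵀ = W := by
    show (Matrix.fromBlocks _ _ _ _)ᵀ = Matrix.fromBlocks _ _ _ _
    simp [fromBlocks_transpose]
  have hk : n + n + r - 1 + 1 = n + n + r := by omega
  let e : Fin (n + n + r - 1 + 1) ≃ I := Fintype.equivOfCardEq (by simp [I]; omega)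
  have c1 : Cong (W.submatrix e e) (polarGram Q) := by
    refine cong_of_sq h2 _ _ (by rw [hcard, hk]) ?_ (polarGram_symm Q) ?_ hd ?_
    · rw [transpose_submatrix, hWt]
    · rw [det_submatrix_equiv_self, hWd]; exact Finset.prod_ne_zero_iff.2 fun j _ => hw j
    · rwa [det_submatrix_equiv_self, hWd]
  obtain ⟨φ, hφ, -, hdetφ⟩ := ((Cong.of_submatrix W e).trans c1).exists_equiv
  have hmem : ∀ (a : OA F n) (s : Fin r → ℤˣ),
      CfsgLib.Orth.blockGL (a.1, CfsgLib.Orth.SignGroup.signDiag (F := F) s) ∈ isoGrp W := by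
    intro a s
    rw [mem_isoGrp, CfsgLib.Orth.blockGL_coe]
    show (Matrix.fromBlocks _ _ _ _)ᵀ * Matrix.fromBlocks _ _ _ _ * Matrix.fromBlocks _ _ _ _ = _
    rw [fromBlocks_transpose, fromBlocks_multiply, fromBlocks_multiply]
    have hs : (diagonal fun j => ((s j : ℤ) : F))ᵀ * diagonal w * diagonal (fun j => ((s j : ℤ) : F)) =
        diagonal w := by
      rw [diagonal_transpose, diagonal_mul_diagonal, diagonal_mul_diagonal]
      congr 1
      funext j
      rcases CfsgLib.Orth.SignGroup.sign_cases (F := F) (s j) with h | h <;> simp [h]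
    have hsd : (CfsgLib.Orth.SignGroup.signDiag (F := F) s).1 = diagonal fun j => ((s j : ℤ) : F) := rfl
    simp only [Matrix.mul_zero, Matrix.zero_mul, add_zero, zero_add, transpose_zero, Matrix.mul_one,
      mem_orth.1 a.2, hsd, hs]
    rfl
  let Θ : OA F n × (Fin r → ℤˣ) →* Cfsg.isometryGroup F ⇑Q :=
    ((φ.toMonoidHom.comp CfsgLib.Orth.blockGL).comp
      ((OA F n).subtype.prodMap (CfsgLib.Orth.SignGroup.signDiag (F := F)))).codRestrict _ fun p => by
        rw [isometry_eq h2, ← mult_one_iff]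
        exact (hφ _ 1).2 (mult_one_iff.2 (hmem p.1 p.2))
  have hΘ : Function.Injective Θ := by
    rintro ⟨a, s⟩ ⟨b, t⟩ h
    have h1 := φ.injective (congrArg Subtype.val h)
    have h3 := congrArg Units.val h1
    rw [CfsgLib.Orth.blockGL_coe, CfsgLib.Orth.blockGL_coe] at h3
    obtain ⟨h4, -, -, h5⟩ := Matrix.fromBlocks_inj.1 h3
    refine Prod.ext (Subtype.ext (Units.ext h4)) (funext fun j => ?_)
    exact CfsgLib.Orth.SignGroup.sign_injective h2 (congrFun (Matrix.diagonal_injective h5) j)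
  let dt : Cfsg.isometryGroup F ⇑Q →* Fˣ :=
    Matrix.GeneralLinearGroup.det.comp (Cfsg.isometryGroup F ⇑Q).subtype
  have hdet : ∀ a s, ((dt (Θ (a, s)) : Fˣ) : F) = a.1.1.det * ∏ j, ((s j : ℤ) : F) := by
    intro a s
    show (φ _).1.det = _
    rw [hdetφ]
    show (CfsgLib.Orth.blockGL (a.1, CfsgLib.Orth.SignGroup.signDiag (F := F) s)).1.det = _
    rw [CfsgLib.Orth.blockGL_coe, det_fromBlocks_zero₂₁]
    show _ * (diagonal fun j => ((s j : ℤ) : F)).det = _
    rw [det_diagonal]
  have hidx : (commutator (Cfsg.isometryGroup F ⇑Q)).index = 4 :=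
    CfsgLib.Orth.omega_index_odd (CfsgLib.Orth.nd_of_qf Q hQ) (by omega) h2
  have hker : dt.ker.index = 2 := by
    have hset : (dt.range : Set Fˣ) = {1, -1} := by
      ext u
      constructor
      · rintro ⟨g, rfl⟩
        have hg : g.1 ∈ isoGrp (polarGram Q) := (isometry_eq h2 Q).le g.2
        have h := Mult.det_sq hd (mult_one_iff.2 hg)
        rw [Units.val_one, one_pow, pow_two] at h
        rcases mul_self_eq_one_iff.1 h with h' | h'
        · exact Or.inl (Units.ext h')
        · exact Or.inr (Units.ext h')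
      · rintro (rfl | rfl)
        · exact one_mem _
        · let i0 : Fin n := ⟨0, by omega⟩
          let x0 : O2 F := ⟨⟨!![1, 0; 0, -1], !![1, 0; 0, -1],
              by ext i j; fin_cases i <;> fin_cases j <;> simp [Matrix.mul_apply, Fin.sum_univ_two],
              by ext i j; fin_cases i <;> fin_cases j <;> simp [Matrix.mul_apply, Fin.sum_univ_two]⟩,
            mem_orth.2 (by ext i j; fin_cases i <;> fin_cases j <;> simp [Matrix.mul_apply, Fin.sum_univ_two])⟩
          refine ⟨Θ (dA (Pi.mulSingle i0 x0), 1), Units.ext ?_⟩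
          rw [hdet]
          show (blockHom fun l => ((Pi.mulSingle i0 x0 : Fin n → O2 F) l).1.1).det * _ = _
          rw [det_blockHom, Finset.prod_eq_single i0 (fun l _ hl => by simp [Pi.mulSingle_eq_of_ne hl]) (by simp),
            Pi.mulSingle_eq_same, show x0.1.1 = !![1, 0; 0, -1] from rfl]
          simp [Matrix.det_fin_two]
    rw [Subgroup.index_ker]
    show Nat.card (dt.range : Set Fˣ) = 2
    rw [hset, Nat.card_coe_set_eq, Set.ncard_pair]
    intro h
    have h' := congrArg Units.val h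
    simp only [Units.val_one, Units.val_neg] at h'
    exact h2 (by linear_combination h')
  exact core hF hn dt hker hidx Θ hΘ hdet hval P

theorem val_prod (hF : Odd (Fintype.card F)) (k : ℕ) :
    padicValNat 2 (∏ i ∈ Finset.range k, (Fintype.card F ^ (2 * (i + 1)) - 1)) =
      k * (padicValNat 2 (Fintype.card F - 1) + padicValNat 2 (Fintype.card F + 1)) +
        padicValNat 2 k.factorial := by
  haveI : Fact (Nat.Prime 2) := ⟨Nat.prime_two⟩
  have h1 : 1 < Fintype.card F := Fintype.one_lt_card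
  have h := val_iso_odd hF k
  rw [CfsgLib.Classical.card_iso_odd (CfsgLib.Orth.two_ne_zero_of_odd hF), padicValNat.mul (by positivity)
      (Finset.prod_ne_zero_iff.2 fun i _ => by
        have := Nat.one_lt_pow (n := 2 * (i + 1)) (by omega) h1; omega),
    padicValNat.mul (by norm_num) (by positivity), padicValNat_self,
    padicValNat.eq_zero_of_not_dvd (n := Fintype.card F ^ (k ^ 2)) (fun h =>
      (Nat.not_even_iff_odd.2 (hF.pow (n := k ^ 2))) (even_iff_two_dvd.2 h))] at h
  omega

theorem val_pow_add_one (hF : Odd (Fintype.card F)) (m : ℕ) (hm : 1 ≤ m) :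
    padicValNat 2 (Fintype.card F ^ m - 1) + padicValNat 2 (Fintype.card F ^ m + 1) =
      padicValNat 2 (Fintype.card F - 1) + padicValNat 2 (Fintype.card F + 1) + padicValNat 2 m := by
  haveI : Fact (Nat.Prime 2) := ⟨Nat.prime_two⟩
  have h1 : 1 < Fintype.card F := Fintype.one_lt_card
  have h3 := Nat.one_lt_pow (n := m) (by omega) h1
  rw [← val_even h1 hF m hm, ← padicValNat.mul (by omega) (by omega), pow_mul', mul_comm (_ - 1),
    ← Nat.sq_sub_sq, one_pow]

/-- The valuations by the parity of `m` and the residue of `q`. -/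
theorem val_minus_one_pow (hF : Odd (Fintype.card F)) (m : ℕ) (hm : 1 ≤ m) :
    (IsSquare ((-1 : F) ^ m) → padicValNat 2 (Fintype.card F ^ m - 1) + 1 =
        padicValNat 2 (Fintype.card F - 1) + padicValNat 2 (Fintype.card F + 1) + padicValNat 2 m) ∧
      (¬ IsSquare ((-1 : F) ^ m) → padicValNat 2 (Fintype.card F ^ m - 1) = 1 ∧
        padicValNat 2 (Fintype.card F - 1) = 1 ∧ padicValNat 2 m = 0) := by
  haveI : Fact (Nat.Prime 2) := ⟨Nat.prime_two⟩
  have h1 : 1 < Fintype.card F := Fintype.one_lt_card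
  rcases Nat.even_or_odd' m with ⟨k, rfl | rfl⟩
  · refine ⟨fun _ => ?_, fun h => absurd ⟨(-1 : F) ^ k, by rw [two_mul, pow_add]⟩ h⟩
    rw [val_even h1 hF k (by omega), padicValNat.mul (by norm_num) (by omega), padicValNat_self]
    omega
  · have hm0 : padicValNat 2 (2 * k + 1) = 0 := padicValNat.eq_zero_of_not_dvd (by omega)
    rw [val_odd h1 hF, hm0, (odd_two_mul_add_one k).neg_one_pow]
    obtain ⟨t, ht⟩ := hF
    refine ⟨fun h => ?_, fun h => ⟨?_, ?_, rfl⟩⟩
    · have h3 := FiniteField.isSquare_neg_one_iff.1 h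
      have : padicValNat 2 (Fintype.card F + 1) = 1 := by
        rw [show Fintype.card F + 1 = 2 * (t + 1) by omega, padicValNat.mul (by norm_num) (by omega),
          padicValNat_self, padicValNat.eq_zero_of_not_dvd (by omega)]
      omega
    all_goals
      have h3 : Fintype.card F % 4 = 3 := by
        by_contra h4
        exact h (FiniteField.isSquare_neg_one_iff.2 h4)
      rw [show Fintype.card F - 1 = 2 * t by omega, padicValNat.mul (by norm_num) (by omega),
        padicValNat_self, padicValNat.eq_zero_of_not_dvd (by omega)]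

theorem omega_plus (hF : Odd (Fintype.card F)) (m : ℕ) (hm : 2 ≤ m) (hm' : Even m ∨ 3 ≤ m)
    (P : Sylow 2 (Cfsg.Omega F (Cfsg.quadFormPlus m F))) :
    ∀ x : (P : Subgroup (Cfsg.Omega F (Cfsg.quadFormPlus m F))),
      x ^ 2 ∈ commutator (P : Subgroup (Cfsg.Omega F (Cfsg.quadFormPlus m F))) := by
  haveI : Fact (Nat.Prime 2) := ⟨Nat.prime_two⟩
  obtain ⟨j, rfl⟩ : ∃ j, m = j + 1 := ⟨m - 1, by omega⟩
  have h1 : 1 < Fintype.card F := Fintype.one_lt_card
  have h3 := Nat.one_lt_pow (n := j + 1) (by omega) h1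
  have hdet : (polarGram (CfsgLib.Classical.plusQ (j + 1) F)).det = (-1) ^ (j + 1) := det_plus (j + 1)
  have hd : (polarGram (CfsgLib.Classical.plusQ (j + 1) F)).det ≠ 0 := by
    rw [hdet]; exact pow_ne_zero _ (neg_ne_zero.2 one_ne_zero)
  have hv : padicValNat 2 (Nat.card (Cfsg.isometryGroup F (Cfsg.quadFormPlus (j + 1) F))) =
      1 + padicValNat 2 (Fintype.card F ^ (j + 1) - 1) +
        (j * (padicValNat 2 (Fintype.card F - 1) + padicValNat 2 (Fintype.card F + 1)) +
          padicValNat 2 j.factorial) := by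
    rw [CfsgLib.Classical.card_iso_plus, padicValNat.mul ?_ ?_, padicValNat.mul (by positivity) (by omega),
      padicValNat.mul (by norm_num) (by positivity), padicValNat_self, val_prod hF,
      padicValNat.eq_zero_of_not_dvd (n := Fintype.card F ^ ((j + 1) * j)) (fun h =>
        (Nat.not_even_iff_odd.2 (hF.pow (n := (j + 1) * j))) (even_iff_two_dvd.2 h))]
    · exact Nat.mul_ne_zero (by positivity) (by omega)
    · exact Finset.prod_ne_zero_iff.2 fun i _ => by
        have := Nat.one_lt_pow (n := 2 * (i + 1)) (by omega) h1; omega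
  have hfac : padicValNat 2 (j + 1).factorial = padicValNat 2 (j + 1) + padicValNat 2 j.factorial := by
    rw [Nat.factorial_succ, padicValNat.mul (by omega) j.factorial_ne_zero]
  obtain ⟨hsq, hns⟩ := val_minus_one_pow hF (j + 1) (by omega)
  by_cases hs : IsSquare ((-1 : F) ^ (j + 1))
  · refine omega_of_cong hF (CfsgLib.Classical.plusQ_coe (j + 1)) (CfsgLib.Classical.plusQ_nondeg _) (j + 1) 0
      hm Fin.elim0 (fun i => i.elim0) (by simp) hd (by simpa [hdet] using hs) ?_ P
    have := hsq hs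
    rw [hv, hfac, add_mul, one_mul]
    omega
  · have hj : 2 ≤ j := by
      rcases hm' with h | h
      · exact absurd ⟨(-1 : F) ^ ((j + 1) / 2), by rw [← pow_add]; congr 1; obtain ⟨k, hk⟩ := h; omega⟩ hs
      · omega
    refine omega_of_cong hF (CfsgLib.Classical.plusQ_coe (j + 1)) (CfsgLib.Classical.plusQ_nondeg _) j 2
      hj ![1, (-1) ^ (j + 1)] (fun i => by fin_cases i <;> simp) (by simp; omega) hd
      (by simp [Fin.prod_univ_two, hdet]) ?_ P
    obtain ⟨e1, -, -⟩ := hns hs
    rw [hv, e1]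
    omega

theorem omega_minus (hF : Odd (Fintype.card F)) (j : ℕ) (hj : 2 ≤ j) (a b : F)
    (hab : ∀ z₁ z₂ : F, z₁ ^ 2 + a * z₁ * z₂ + b * z₂ ^ 2 = 0 → z₁ = 0 ∧ z₂ = 0)
    (P : Sylow 2 (Cfsg.Omega F (Cfsg.quadFormMinus j F a b))) :
    ∀ x : (P : Subgroup (Cfsg.Omega F (Cfsg.quadFormMinus j F a b))),
      x ^ 2 ∈ commutator (P : Subgroup (Cfsg.Omega F (Cfsg.quadFormMinus j F a b))) := by
  haveI : Fact (Nat.Prime 2) := ⟨Nat.prime_two⟩
  have h1 : 1 < Fintype.card F := Fintype.one_lt_card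
  have h2 := CfsgLib.Orth.two_ne_zero_of_odd hF
  set D := (polarGram (CfsgLib.Classical.minusQ j F a b)).det with hD
  have hdet : D = (-1) ^ (j + 1) * (a ^ 2 - 4 * b) := by rw [hD, det_minus, pow_succ]; ring
  have hns0 := disc_not_square h2 hab
  have hd : D ≠ 0 := by
    rw [hdet]
    exact mul_ne_zero (pow_ne_zero _ (neg_ne_zero.2 one_ne_zero)) fun h => hns0 (by rw [h]; exact IsSquare.zero)
  have hiff : IsSquare D ↔ ¬ IsSquare ((-1 : F) ^ (j + 1)) := by
    rw [hdet]
    exact CfsgLib.Classical.isSquare_mul_right_iff h2 (pow_ne_zero _ (neg_ne_zero.2 one_ne_zero)) hns0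
  have hv : padicValNat 2 (Nat.card (Cfsg.isometryGroup F (Cfsg.quadFormMinus j F a b))) =
      1 + padicValNat 2 (Fintype.card F ^ (j + 1) + 1) +
        (j * (padicValNat 2 (Fintype.card F - 1) + padicValNat 2 (Fintype.card F + 1)) +
          padicValNat 2 j.factorial) := by
    rw [CfsgLib.Classical.card_iso_minus hab, padicValNat.mul ?_ ?_, padicValNat.mul (by positivity) (by omega),
      padicValNat.mul (by norm_num) (by positivity), padicValNat_self, val_prod hF,
      padicValNat.eq_zero_of_not_dvd (n := Fintype.card F ^ ((j + 1) * j)) (fun h =>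
        (Nat.not_even_iff_odd.2 (hF.pow (n := (j + 1) * j))) (even_iff_two_dvd.2 h))]
    · positivity
    · exact Finset.prod_ne_zero_iff.2 fun i _ => by
        have := Nat.one_lt_pow (n := 2 * (i + 1)) (by omega) h1; omega
  have hfac : padicValNat 2 (j + 1).factorial = padicValNat 2 (j + 1) + padicValNat 2 j.factorial := by
    rw [Nat.factorial_succ, padicValNat.mul (by omega) j.factorial_ne_zero]
  have hsum := val_pow_add_one hF (j + 1) (by omega)
  obtain ⟨hsq, hns⟩ := val_minus_one_pow hF (j + 1) (by omega)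
  by_cases hs : IsSquare D
  · refine omega_of_cong hF (CfsgLib.Classical.minusQ_coe j a b) (CfsgLib.Classical.minusQ_nondeg hab j) (j + 1) 0
      (by omega) Fin.elim0 (fun i => i.elim0) (by simp; omega) hd (by simpa using hs) ?_ P
    obtain ⟨e1, e2, e3⟩ := hns (hiff.1 hs)
    rw [hv, hfac, add_mul, one_mul]
    omega
  · refine omega_of_cong hF (CfsgLib.Classical.minusQ_coe j a b) (CfsgLib.Classical.minusQ_nondeg hab j) j 2
      hj ![1, D] (fun i => by fin_cases i <;> simp [hd]) (by simp) hd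
      (by simp [Fin.prod_univ_two, ← hD]) ?_ P
    have := hsq (not_not.1 fun h => hs (hiff.2 h))
    rw [hv]
    omega

end Families

end CfsgLib.Classical.SylowTwoOrth
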