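import Cfsg.Agent.Lib.Classical.SylowTwoDerivedLength
import Cfsg.Agent.Lib.Classical.SpBlockEmbeddings

/-!
# The derived length of the Sylow two-subgroups of symplectic groups in odd characteristic
-/

set_option autoImplicit false

namespace CfsgLib.Classical.SylowTwoDL

open Matrix CfsgLib.Classical.SylowTwoElemAb CfsgLib.Classical.SpBlocks
open scoped commutatorElement

variable {F : Type*} [Field F] [Fintype F] [DecidableEq F]

theorem derivedSeries_sylow_eq_bot {G : Type*} [Group G] [Finite G] (P Q : Sylow 2 G) {i : ℕ}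
    (h : derivedSeries ↥(P : Subgroup G) i = ⊥) : derivedSeries ↥(Q : Subgroup G) i = ⊥ := by
  haveI : Fact (Nat.Prime 2) := ⟨Nat.prime_two⟩
  by_contra hne
  exact derivedSeries_ne_bot_of_injective (Sylow.equiv Q P).toMonoidHom (Sylow.equiv Q P).injective
    hne h

theorem derived_sylow_SL_two (hF : Odd (Fintype.card F))
    (P : Sylow 2 (SpecialLinearGroup (Fin 2) F)) :
    derivedSeries ↥(P : Subgroup (SpecialLinearGroup (Fin 2) F)) 1 ≠ ⊥ ∧
      derivedSeries ↥(P : Subgroup (SpecialLinearGroup (Fin 2) F)) 2 = ⊥ := by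
  obtain ⟨k, hk, ⟨e⟩⟩ := CfsgLib.Classical.sylow_two_quaternion hF P
  constructor
  · refine fun h => derivedSeries_ne_bot_of_injective e.symm.toMonoidHom e.symm.injective ?_ h
    intro h1
    haveI : Fact (1 < 2 * 2 ^ k) := ⟨by have := Nat.one_le_two_pow (n := k); omega⟩
    have hc : ∀ x y : QuaternionGroup (2 ^ k), x * y = y * x := fun x y => by
      rw [← commutatorElement_eq_one_iff_mul_comm]
      have h2 : ⁅x, y⁆ ∈ derivedSeries (QuaternionGroup (2 ^ k)) 1 := by
        rw [derivedSeries_one, commutator_def]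
        exact Subgroup.commutator_mem_commutator (Subgroup.mem_top _) (Subgroup.mem_top _)
      rwa [h1, Subgroup.mem_bot] at h2
    have h3 := hc (QuaternionGroup.a 1) (QuaternionGroup.xa 0)
    rw [QuaternionGroup.a_mul_xa, QuaternionGroup.xa_mul_a, QuaternionGroup.xa.injEq] at h3
    have h4 : ((2 : ℕ) : ZMod (2 * 2 ^ k)) = 0 := by
      push_cast
      linear_combination -h3
    rw [ZMod.natCast_eq_zero_iff] at h4
    have := Nat.le_of_dvd two_pos h4
    have : 2 ≤ 2 ^ k := Nat.le_self_pow (by omega) 2
    omega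
  · by_contra h
    exact derivedSeries_ne_bot_of_injective e.toMonoidHom e.injective h
      (derivedSeries_two_quaternion _)

theorem exists_deep_subgroup (hF : Odd (Fintype.card F)) (j : ℕ) :
    ∃ (ι : Type) (_ : Fintype ι) (_ : DecidableEq ι), Fintype.card ι = 2 ^ j ∧
      ∃ H : Subgroup (Matrix.symplecticGroup ι F), IsPGroup 2 ↥H ∧
        derivedSeries ↥H (j + 1) ≠ ⊥ := by
  haveI : Fact (Nat.Prime 2) := ⟨Nat.prime_two⟩
  induction j with
  | zero =>
    obtain ⟨P⟩ := (inferInstance : Nonempty (Sylow 2 (SpecialLinearGroup (Fin 2) F)))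
    let c : SpecialLinearGroup (Fin 2) F →* Matrix.symplecticGroup (Fin 1) F :=
      dSp.comp (Pi.monoidHom fun _ => MonoidHom.id _)
    have hc : Function.Injective c := by
      rw [injective_iff_map_eq_one]
      intro x hx
      have h1 := (monomial_Sp (ι := Fin 1) (F := F)).inj (fun _ => x) 1 (by rw [map_one]; exact hx)
      exact congrFun h1.1 0
    refine ⟨Fin 1, inferInstance, inferInstance, rfl,
      (P : Subgroup (SpecialLinearGroup (Fin 2) F)).map c, P.isPGroup'.map c, ?_⟩
    exact derivedSeries_ne_bot_of_injective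
      (((P : Subgroup (SpecialLinearGroup (Fin 2) F)).equivMapOfInjective c hc).toMonoidHom)
      (MulEquiv.injective _) (derived_sylow_SL_two hF P).1
  | succ j ih =>
    obtain ⟨ι, _, _, hcard, H, hH, hne⟩ := ih
    haveI : Nonempty ι := Fintype.card_pos_iff.1 (by rw [hcard]; positivity)
    refine ⟨ι × Fin 2, inferInstance, inferInstance, by simp [hcard, pow_succ],
      monGroup (monomial_prod (ι := ι) (κ := Fin 2) (F := F)) H ⊤, ?_, ?_⟩
    · obtain ⟨n, hn⟩ := IsPGroup.iff_card.1 hH
      refine IsPGroup.of_card (n := n * 2 + 1) ?_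
      rw [card_monGroup, hn, Fintype.card_fin, Subgroup.card_top, Nat.card_perm, Nat.card_fin,
        Nat.factorial_two, pow_succ (2 : ℕ) (n * 2), pow_mul]
    · let e : ↥H × ↥H →* ↥(monGroup (monomial_prod (ι := ι) (κ := Fin 2) (F := F)) H ⊤) :=
        (dProd.comp
          { toFun := fun x => ![(x.1 : Matrix.symplecticGroup ι F), (x.2 : Matrix.symplecticGroup ι F)]
            map_one' := by funext i; fin_cases i <;> rfl
            map_mul' := fun x y => by funext i; fin_cases i <;> rfl }).codRestrict _
          fun x => d_mem _ _ fun i _ => by fin_cases i <;> first | exact x.1.2 | exact x.2.2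
      have he : Function.Injective e := by
        rw [injective_iff_map_eq_one]
        intro x hx
        have h1 := (monomial_prod (ι := ι) (κ := Fin 2) (F := F)).inj
          ![(x.1 : Matrix.symplecticGroup ι F), (x.2 : Matrix.symplecticGroup ι F)] 1
          (by rw [map_one]; exact congrArg Subtype.val hx)
        exact Prod.ext (Subtype.ext (congrFun h1.1 0)) (Subtype.ext (congrFun h1.1 1))
      refine derivedSeries_succ_ne_bot e he
        ⟨_, perm_mem _ H (T := ⊤) (σ := Equiv.swap (0 : Fin 2) 1) trivial⟩ (fun h => Subtype.ext ?_)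
        (j + 1) hne
      refine ((monomial_prod (ι := ι) (κ := Fin 2) (F := F)).conj _ _).trans ?_
      refine congrArg dProd (funext fun i => ?_)
      fin_cases i <;> rfl

theorem derived_length_sylow_Sp (hF : Odd (Fintype.card F)) (n : ℕ) (hn : 1 ≤ n)
    (R : Sylow 2 (Matrix.symplecticGroup (Fin n) F)) :
    derivedSeries ↥(R : Subgroup (Matrix.symplecticGroup (Fin n) F)) (Nat.log 2 n + 2) = ⊥ ∧
      derivedSeries ↥(R : Subgroup (Matrix.symplecticGroup (Fin n) F)) (Nat.log 2 n + 1) ≠ ⊥ := by
  haveI : Fact (Nat.Prime 2) := ⟨Nat.prime_two⟩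
  constructor
  · obtain ⟨T, hT, -, -⟩ := exists_perm_two_group n (Fin n) (Fintype.card_fin n)
    obtain ⟨Q⟩ := (inferInstance : Nonempty (Sylow 2 (SpecialLinearGroup (Fin 2) F)))
    let H := monGroup (monomial_Sp (ι := Fin n) (F := F))
      (Q : Subgroup (SpecialLinearGroup (Fin 2) F)) T
    have hcard : Nat.card ↥H =
        2 ^ (Nat.card (Matrix.symplecticGroup (Fin n) F)).factorization 2 := by
      rw [card_monGroup, Q.card_eq_multiplicity, Nat.factorization_def _ Nat.prime_two, hT,
        Fintype.card_fin, Nat.factorization_def _ Nat.prime_two, val_SL_two hF, val_Sp hF, ← pow_mul,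
        ← pow_add]
      congr 1
      ring
    refine derivedSeries_sylow_eq_bot (Sylow.ofCard H hcard) R ?_
    refine derivedSeries_monGroup (monomial_Sp (ι := Fin n) (F := F))
      (Q : Subgroup (SpecialLinearGroup (Fin 2) F)) T ?_ (derived_sylow_SL_two hF Q).2
    have hTp : IsPGroup 2 ↥T := IsPGroup.of_card hT
    refine derivedSeries_eq_bot_of_orbits ↥T (Fin n) hTp fun x => ?_
    obtain ⟨a, ha⟩ := hTp.card_orbit x
    rw [ha]
    refine Nat.pow_le_pow_right two_pos ?_
    have h1 : 2 ^ a ≤ n := by
      rw [← ha, Nat.card_coe_set_eq]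
      exact (Set.ncard_le_card _).trans (by simp)
    exact Nat.le_log_of_pow_le one_lt_two h1
  · obtain ⟨ι, _, _, hcard, H, hH, hne⟩ := exists_deep_subgroup hF (Nat.log 2 n)
    have hle : 2 ^ Nat.log 2 n ≤ n := Nat.pow_log_le_self 2 (by omega)
    let e : ι ⊕ Fin (n - 2 ^ Nat.log 2 n) ≃ Fin n :=
      Fintype.equivOfCardEq (by simp [hcard]; omega)
    let f : Matrix.symplecticGroup ι F →* Matrix.symplecticGroup (Fin n) F :=
      (spReindex e).comp (sumEmb _)
    have hf : Function.Injective f := (spReindex_injective e).comp sumEmb_injective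
    obtain ⟨P, hP⟩ := (hH.map f).exists_le_sylow
    intro hb
    exact derivedSeries_ne_bot_of_injective
      ((Subgroup.inclusion hP).comp (H.equivMapOfInjective f hf).toMonoidHom)
      ((Subgroup.inclusion_injective hP).comp (MulEquiv.injective _)) hne
      (derivedSeries_sylow_eq_bot R P hb)

end CfsgLib.Classical.SylowTwoDL
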