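import Cfsg.Agent.Lib.Classical.SympSplit

/-!
# The symmetric group inside a symplectic group over the field with two elements
-/

set_option autoImplicit false

namespace CfsgLib.Classical.SymmInSymp

open Matrix Module CfsgLib.Sp CfsgLib.Classical.SympCount

variable {N : ℕ}

local notation "K" => ZMod 2
local notation "VN" => Fin N → ZMod 2

/-- Vectors with even support. -/
def evenPart (N : ℕ) : Submodule (ZMod 2) (Fin N → ZMod 2) :=
  LinearMap.ker (∑ i, LinearMap.proj i : (Fin N → ZMod 2) →ₗ[ZMod 2] ZMod 2)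

theorem mem_evenPart {v : VN} : v ∈ evenPart N ↔ ∑ i, v i = 0 := by
  simp [evenPart]

/-- The all ones line inside it. -/
def onesPart (N : ℕ) : Submodule (ZMod 2) (evenPart N) :=
  Submodule.comap (evenPart N).subtype ((ZMod 2) ∙ (fun _ => 1))

/-- Permutation of coordinates. -/
def permMap (σ : Equiv.Perm (Fin N)) : evenPart N →ₗ[K] evenPart N :=
  ((LinearMap.funLeft K K σ.symm).comp (evenPart N).subtype).codRestrict _ fun v => by
    rw [mem_evenPart]
    exact (Equiv.sum_comp σ.symm (v : VN)).trans (mem_evenPart.1 v.2)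

theorem permMap_apply (σ : Equiv.Perm (Fin N)) (v : evenPart N) (i : Fin N) :
    (permMap σ v : VN) i = (v : VN) (σ.symm i) := rfl

theorem permMap_ones (σ : Equiv.Perm (Fin N)) : onesPart N ≤ (onesPart N).comap (permMap σ) := by
  intro v hv
  obtain ⟨c, hc⟩ := Submodule.mem_span_singleton.1 hv
  refine Submodule.mem_span_singleton.2 ⟨c, funext fun i => ?_⟩
  exact congrFun hc (σ.symm i)

/-- The action on the quotient. -/
def act (σ : Equiv.Perm (Fin N)) : (evenPart N ⧸ onesPart N) →ₗ[K] (evenPart N ⧸ onesPart N) :=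
  Submodule.mapQ _ _ (permMap σ) (permMap_ones σ)

/-- The parity pairing. -/
def pairing (N : ℕ) : evenPart N →ₗ[K] evenPart N →ₗ[K] K :=
  LinearMap.mk₂ K (fun u v => (u : Fin N → ZMod 2) ⬝ᵥ (v : Fin N → ZMod 2))
    (fun a b c => by simp) (fun r a b => by simp) (fun a b c => by simp) (fun r a b => by simp)

theorem pairing_ones {u w : evenPart N} (hw : w ∈ onesPart N) : pairing N u w = 0 ∧ pairing N w u = 0 := by
  obtain ⟨c, hc⟩ := Submodule.mem_span_singleton.1 hw
  have hu := mem_evenPart.1 u.2
  have hc' : (w : VN) = c • fun _ => 1 := hc.symm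
  constructor
  · simp [pairing, hc', dotProduct, ← Finset.sum_mul, hu]
  · simp [pairing, hc', dotProduct, ← Finset.mul_sum, hu]

/-- The induced form. -/
def form (N : ℕ) : LinearMap.BilinForm K (evenPart N ⧸ onesPart N) :=
  (onesPart N).liftQ (((onesPart N).liftQ ((pairing N).flip)
      (fun w hw => LinearMap.ext fun u => (pairing_ones (u := u) hw).1)).flip)
    (fun w hw => LinearMap.ext fun q => by
      obtain ⟨u, rfl⟩ := Submodule.mkQ_surjective _ q
      exact (pairing_ones (u := u) hw).2)

theorem form_mk (u v : evenPart N) :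
    form N (Submodule.Quotient.mk u) (Submodule.Quotient.mk v) = (u : VN) ⬝ᵥ (v : VN) := rfl

theorem form_alt : (form N).IsAlt := by
  intro q
  obtain ⟨u, rfl⟩ := Submodule.mkQ_surjective _ q
  change (u : VN) ⬝ᵥ (u : VN) = 0
  rw [dotProduct]
  conv_lhs => arg 2; ext i; rw [show (u : VN) i * (u : VN) i = (u : VN) i by
    rcases (show ∀ x : ZMod 2, x = 0 ∨ x = 1 by decide) ((u : VN) i) with h | h <;> simp [h]]
  exact mem_evenPart.1 u.2

/-- The vector supported on two points. -/
def two (a b : Fin N) : evenPart N := ⟨Pi.single a 1 + Pi.single b 1, by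
  rw [mem_evenPart]
  simp [Finset.sum_add_distrib, Finset.sum_pi_single']
  decide⟩

theorem form_nondeg (q : evenPart N ⧸ onesPart N) (h : ∀ r, form N q r = 0) : q = 0 := by
  obtain ⟨u, rfl⟩ := Submodule.mkQ_surjective _ q
  rw [Submodule.mkQ_apply, Submodule.Quotient.mk_eq_zero]
  rcases Nat.eq_zero_or_pos N with rfl | hN
  · exact Submodule.mem_span_singleton.2 ⟨0, funext fun i => i.elim0⟩
  have hconst : ∀ i, (u : VN) i = (u : VN) ⟨0, hN⟩ := fun i => by
    have := h (Submodule.Quotient.mk (two i ⟨0, hN⟩))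
    rw [Submodule.mkQ_apply, form_mk] at this
    simp [two, dotProduct_add, dotProduct_single] at this
    exact (CharTwo.add_eq_zero).1 this
  exact Submodule.mem_span_singleton.2 ⟨(u : VN) ⟨0, hN⟩, funext fun i => by simp [hconst i]⟩

theorem finrank_quot {n : ℕ} (hn : 1 ≤ n) :
    finrank K (evenPart (2 * n) ⧸ onesPart (2 * n)) = 2 * (n - 1) := by
  classical
  have h1 := (onesPart (2 * n)).finrank_quotient_add_finrank
  have h2 : finrank K (evenPart (2 * n)) + 1 = 2 * n := by
    have := LinearMap.finrank_range_add_finrank_ker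
      (∑ i, LinearMap.proj i : (Fin (2 * n) → ZMod 2) →ₗ[ZMod 2] ZMod 2)
    rw [LinearMap.range_eq_top.2 (fun c => ⟨Pi.single ⟨0, by omega⟩ c, by simp [Finset.sum_pi_single']⟩), finrank_top,
      Module.finrank_self, Module.finrank_fin_fun] at this
    rw [evenPart]
    omega
  have h3 : finrank K (onesPart (2 * n)) = 1 := by
    have hle : (ZMod 2 ∙ (fun _ => 1 : Fin (2 * n) → ZMod 2)) ≤ evenPart (2 * n) := by
      rw [Submodule.span_singleton_le_iff_mem, mem_evenPart]
      simp
      exact Or.inl (by decide)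
    rw [onesPart, (Submodule.comapSubtypeEquivOfLe hle).finrank_eq]
    exact finrank_span_singleton (fun h => by simpa using congrFun h ⟨0, by omega⟩)
  omega

theorem exists_embedding (n : ℕ) (hn : 3 ≤ n) :
    ∃ f : Equiv.Perm (Fin (2 * n)) →* Matrix.symplecticGroup (Fin (n - 1)) (ZMod 2), Function.Injective f := by
  classical
  obtain ⟨b, hb⟩ := SympSplit.exists_basis_J (form (2 * n)) form_alt form_nondeg (finrank_quot (by omega))
  have hsf : ∀ u v, sf (b.equivFun u) (b.equivFun v) = form (2 * n) u v := by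
    intro u v
    have : (sB (n - 1) K).compl₁₂ b.equivFun.toLinearMap b.equivFun.toLinearMap = form (2 * n) := by
      refine LinearMap.ext_basis b b fun i j => ?_
      rw [LinearMap.compl₁₂_apply, LinearEquiv.coe_toLinearMap, sB_apply, hb]
      simp [Cfsg.sympForm, dotProduct, Matrix.mulVec, Finsupp.single_apply]
    exact LinearMap.congr_fun₂ this u v
  have hmul : ∀ σ τ : Equiv.Perm (Fin (2 * n)), act (σ * τ) = (act σ).comp (act τ) := fun σ τ =>
    LinearMap.ext fun q => by
      obtain ⟨u, rfl⟩ := Submodule.mkQ_surjective _ q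
      rfl
  have hone : act (1 : Equiv.Perm (Fin (2 * n))) = LinearMap.id := LinearMap.ext fun q => by
    obtain ⟨u, rfl⟩ := Submodule.mkQ_surjective _ q
    rfl
  have hmem : ∀ σ, LinearMap.toMatrix b b (act σ) ∈ Matrix.symplecticGroup (Fin (n - 1)) K := by
    intro σ
    refine mem_sp_iff.2 fun u v => ?_
    obtain ⟨x, rfl⟩ := b.equivFun.surjective u
    obtain ⟨y, rfl⟩ := b.equivFun.surjective v
    simp only [Basis.equivFun_apply, LinearMap.toMatrix_mulVec_repr]
    rw [← Basis.equivFun_apply, ← Basis.equivFun_apply, hsf, ← Basis.equivFun_apply, ← Basis.equivFun_apply, hsf]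
    obtain ⟨u, rfl⟩ := Submodule.mkQ_surjective _ x
    obtain ⟨v, rfl⟩ := Submodule.mkQ_surjective _ y
    exact Equiv.sum_comp σ.symm fun i => (u : Fin (2 * n) → K) i * (v : Fin (2 * n) → K) i
  refine ⟨{ toFun := fun σ => ⟨_, hmem σ⟩
            map_one' := Subtype.ext ((congrArg (LinearMap.toMatrix b b) hone).trans (LinearMap.toMatrix_id b))
            map_mul' := fun σ τ => Subtype.ext ((congrArg (LinearMap.toMatrix b b) (hmul σ τ)).trans
              (LinearMap.toMatrix_comp b b b _ _)) }, ?_⟩
  refine (injective_iff_map_eq_one _).2 fun σ hσ => ?_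
  have hid : act σ = LinearMap.id := (LinearMap.toMatrix b b).injective
    (by rw [LinearMap.toMatrix_id]; exact congrArg Subtype.val hσ)
  by_contra hne
  obtain ⟨a, ha⟩ : ∃ a, σ a ≠ a := by
    by_contra hc
    push Not at hc
    exact hne (Equiv.ext hc)
  obtain ⟨c, hca, hcs⟩ : ∃ c, c ≠ a ∧ c ≠ σ a := by
    by_contra hc
    push Not at hc
    have : (Finset.univ : Finset (Fin (2 * n))) ⊆ {a, σ a} := fun x _ => by
      by_cases hxa : x = a
      · simp [hxa]
      · simp [hc x hxa]
    have := (Finset.card_le_card this).trans Finset.card_le_two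
    simp at this
    omega
  have h := LinearMap.congr_fun hid (Submodule.Quotient.mk (two a c))
  rw [act, Submodule.mapQ_apply, LinearMap.id_apply, Submodule.Quotient.eq] at h
  obtain ⟨r, hr⟩ := Submodule.mem_span_singleton.1 h
  have hr' : ∀ i, r = (two a c : Fin (2 * n) → K) (σ.symm i) - (two a c : Fin (2 * n) → K) i := fun i => by
    have := congrFun hr i
    simpa [permMap_apply] using this
  -- one point outside the four
  obtain ⟨d, hd⟩ : ∃ d, d ∉ ({a, c, σ a, σ c} : Finset (Fin (2 * n))) := by
    by_contra hc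
    push Not at hc
    have := (Finset.card_le_card (fun x _ => hc x : (Finset.univ : Finset (Fin (2 * n))) ⊆ _)).trans Finset.card_le_four
    simp at this
    omega
  simp only [Finset.mem_insert, Finset.mem_singleton, not_or] at hd
  have hd1 : σ.symm d ≠ a := fun h => hd.2.2.1 (by rw [← h, Equiv.apply_symm_apply])
  have hd2 : σ.symm d ≠ c := fun h => hd.2.2.2 (by rw [← h, Equiv.apply_symm_apply])
  have h0 := hr' d
  simp [two, hd.1, hd.2.1, hd1, hd2] at h0
  have h1 := hr' (σ a)
  simp [two, h0, ha, hca, hcs, hca.symm, hcs.symm] at h1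

end CfsgLib.Classical.SymmInSymp
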