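import Mathlib
import Cfsg.Agent.Lib.Classical.AltCongruence

/-!
# Elements of symplectic groups without fixed vectors
-/

set_option autoImplicit false
set_option linter.all false

namespace CfsgLib.Classical.SympCount

open Matrix Module CfsgLib.Classical.AltCongr

variable {F : Type*} [Field F] {V : Type*} [AddCommGroup V] [Module F V]

/-- isometries of a bilinear form -/
def isoGrp (B : LinearMap.BilinForm F V) : Subgroup (V ≃ₗ[F] V) where
  carrier := {g | ∀ u v, B (g u) (g v) = B u v}
  one_mem' := fun _ _ => rfl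
  mul_mem' := fun {a b} ha hb u v => (ha _ _).trans (hb u v)
  inv_mem' := fun {a} ha u v => by
    have := ha (a⁻¹ u) (a⁻¹ v)
    have e : ∀ x, a (a⁻¹ x) = x := fun x => a.apply_symm_apply x
    rw [e, e] at this
    exact this.symm

variable [FiniteDimensional F V] {B : LinearMap.BilinForm F V} (hB : B.Nondegenerate) (hA : B.IsAlt) {m : ℕ}
  (hV : finrank F V = 2 * m)

include hB hA hV

theorem exists_basis : ∃ β : Basis (Fin m ⊕ Fin m) F V,
    ∀ i j, B (β i) (β j) = (-Matrix.J (Fin m) F) i j := by
  classical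
  obtain ⟨m', a, β, h1, h2, h3, h4⟩ := CfsgLib.Classical.Alt.exists_sympBasis (2 * m) hV B hA
  have ha : a = 0 := by
    by_contra h
    exact β.ne_zero (Sum.inr ⟨0, Nat.pos_of_ne_zero h⟩) (hB.1 _ (fun v => h4 _ v))
  subst ha
  obtain rfl : m' = m := by
    have := Module.finrank_eq_card_basis β
    rw [hV] at this
    simp [Fintype.card_sum] at this
    omega
  refine ⟨β.reindex (Equiv.sumEmpty _ _), fun i j => ?_⟩
  simp only [Basis.reindex_apply]
  rcases i with x | x <;> rcases j with y | y <;>
    simp [Matrix.J, Matrix.one_apply, h1, h2, h3]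
  rw [CfsgLib.Classical.Alt.swap hA, h1]
  simp [eq_comm, neg_ite]

theorem card_isoGrp : Nat.card (isoGrp B) = Nat.card (Matrix.symplecticGroup (Fin m) F) := by
  classical
  obtain ⟨β, hβ⟩ := exists_basis hB hA hV
  have hM : LinearMap.toMatrix₂ β β B = -Matrix.J (Fin m) F := by
    ext i j; rw [LinearMap.toMatrix₂_apply, hβ]
  have hmem : ∀ g : V →ₗ[F] V, (∀ u v, B (g u) (g v) = B u v) ↔ LinearMap.toMatrix β β g ∈ Matrix.symplecticGroup (Fin m) F := by
    intro g
    rw [SymplecticGroup.mem_iff', ← neg_inj, ← Matrix.neg_mul, ← Matrix.mul_neg, ← hM,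
      ← LinearMap.toMatrix₂_compl₁₂, (LinearMap.toMatrix₂ β β).injective.eq_iff]
    constructor
    · exact fun h => LinearMap.ext fun u => LinearMap.ext fun v => h u v
    · exact fun h u v => by simpa using congrArg (fun Φ : V →ₗ[F] V →ₗ[F] F => Φ u v) h
  refine Nat.card_congr (Equiv.ofBijective (fun g => ⟨LinearMap.toMatrix β β (g.1 : V →ₗ[F] V), (hmem _).1 g.2⟩) ⟨?_, ?_⟩)
  · intro a b h
    refine Subtype.ext (LinearEquiv.toLinearMap_injective ?_)
    exact (LinearMap.toMatrix β β).injective (congrArg Subtype.val h)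
  · intro A
    have hd : IsUnit (A : Matrix (Fin m ⊕ Fin m) (Fin m ⊕ Fin m) F).det := SymplecticGroup.symplectic_det A.2
    refine ⟨⟨Matrix.toLinearEquiv β A.1 hd, (hmem _).2 ?_⟩, Subtype.ext ?_⟩
    · show LinearMap.toMatrix β β (Matrix.toLin β β A.1) ∈ _
      rw [LinearMap.toMatrix_toLin]; exact A.2
    · show LinearMap.toMatrix β β (Matrix.toLin β β A.1) = A.1
      rw [LinearMap.toMatrix_toLin]

theorem le_of_isotropic (W : Submodule F V) (h : ∀ x ∈ W, ∀ y ∈ W, B x y = 0) : finrank F W ≤ m := by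
  have hle : W ≤ B.orthogonal W := fun y hy x hx => h x hx y hy
  have h1 := Submodule.finrank_mono hle
  rw [LinearMap.BilinForm.finrank_orthogonal hB] at h1
  have := W.finrank_le
  omega

omit hB hA hV in
/-- Gram matrix of a tuple -/
def gram (B : LinearMap.BilinForm F V) {k : ℕ} (v : Fin k → V) : Matrix (Fin k) (Fin k) F :=
  Matrix.of fun i j => B (v i) (v j)

omit hB hA hV in
theorem gram_comb {κ ν : Type} [Fintype κ] (v : κ → V) (P : Matrix κ ν F) (i j : ν) :
    B (∑ x, P x i • v x) (∑ y, P y j • v y) = (Pᵀ * Matrix.of (fun x y => B (v x) (v y)) * P) i j := by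
  simp only [map_sum, map_smul, LinearMap.sum_apply, LinearMap.smul_apply, smul_eq_mul,
    Matrix.mul_apply, Matrix.transpose_apply, Matrix.of_apply, Finset.sum_mul, Finset.mul_sum]
  exact Finset.sum_congr rfl fun x _ => Finset.sum_congr rfl fun y _ => by ring

omit hB hA hV in
theorem indep_comb {k : ℕ} {v : Fin k → V} (hv : LinearIndependent F v) (P : GL (Fin k) F) :
    LinearIndependent F (fun i => ∑ x, (P : Matrix (Fin k) (Fin k) F) x i • v x) := by
  rw [Fintype.linearIndependent_iff] at hv ⊢
  intro c hc i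
  have h1 : ∀ x, ((P : Matrix (Fin k) (Fin k) F) *ᵥ c) x = 0 := by
    refine hv _ ?_
    rw [← hc]
    simp only [Matrix.mulVec, dotProduct, Finset.sum_smul, Finset.smul_sum, smul_smul]
    rw [Finset.sum_comm]
    exact Finset.sum_congr rfl fun x _ => Finset.sum_congr rfl fun y _ => by rw [mul_comm]
  have h2 := congrArg (((P⁻¹ : GL (Fin k) F) : Matrix (Fin k) (Fin k) F) *ᵥ ·) (funext h1 : ((P : Matrix (Fin k) (Fin k) F) *ᵥ c) = 0)
  simp only [Matrix.mulVec_mulVec, Units.inv_mul, Matrix.one_mulVec] at h2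
  rw [Matrix.mulVec_zero] at h2
  exact congrFun h2 i

theorem range_gram (k : ℕ) :
    Set.range (fun v : {v : Fin k → V // LinearIndependent F v} => gram B v.1) =
      {A | ∃ b, ∃ hb : 2 * b ≤ k, k ≤ m + b ∧ A ∈ cls hb F} := by
  classical
  ext A
  constructor
  · rintro ⟨⟨v, hv⟩, rfl⟩
    have halt : IsAltM (gram B v) := ⟨fun i => hA (v i), Matrix.ext fun i j => by
      simp only [Matrix.transpose_apply, Matrix.neg_apply, gram, Matrix.of_apply]
      exact CfsgLib.Classical.Alt.swap hA _ _⟩
    obtain ⟨b, hb, P, hP⟩ := exists_congr halt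
    refine ⟨b, hb, ?_, P, hP.symm⟩
    obtain ⟨w, hw⟩ : ∃ w : Fin k → V, w = fun i => ∑ x, ((P⁻¹ : GL (Fin k) F) : Matrix (Fin k) (Fin k) F) x i • v x := ⟨_, rfl⟩
    have hwi : LinearIndependent F w := hw ▸ indep_comb hv P⁻¹
    have hwg : ∀ i j, B (w i) (w j) = stdK hb F i j := by
      intro i j
      rw [hw, gram_comb, show (Matrix.of fun x y => B (v x) (v y)) = gram B v from rfl, hP]
      simp only [← Matrix.mul_assoc, ← Matrix.transpose_mul, Units.mul_inv, Matrix.transpose_one, Matrix.one_mul]
      rw [Matrix.mul_assoc, Units.mul_inv, Matrix.mul_one]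
    let s : Fin b ⊕ Fin (k - 2 * b) → Fin k := fun x => idxEquiv hb (x.map Sum.inl id)
    have hs : Function.Injective s := (idxEquiv hb).injective.comp (Sum.inl_injective.sumMap Function.injective_id)
    have hdim := le_of_isotropic hB hA hV (Submodule.span F (Set.range (w ∘ s))) (fun x hx y hy => by
      have h0 : ∀ p r, B (w (s p)) (w (s r)) = 0 := by
        intro p r
        rw [hwg, stdK, Matrix.reindex_apply, Matrix.submatrix_apply, stdM_apply]
        rcases p with p | p <;> rcases r with r | r <;> simp [s]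
      induction hx, hy using Submodule.span_induction₂ with
      | mem_mem x y hx hy => obtain ⟨p, rfl⟩ := hx; obtain ⟨r, rfl⟩ := hy; exact h0 p r
      | zero_left y _ => simp
      | zero_right x _ => simp
      | add_left x y z _ _ _ h1 h2 => simp [h1, h2]
      | add_right x y z _ _ _ h1 h2 => simp [h1, h2]
      | smul_left r x y _ _ h => simp [h]
      | smul_right r x y _ _ h => simp [h])
    rw [finrank_span_eq_card (hwi.comp s hs)] at hdim
    simp [Fintype.card_sum] at hdim
    omega
  · rintro ⟨b, hb, hm, P, rfl⟩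
    obtain ⟨β, hβ⟩ := exists_basis hB hA hV
    let r : Fin b ⊕ Fin (k - 2 * b) → Fin m := fun x =>
      Fin.castLE (by omega) (finSumFinEquiv x)
    have hr : Function.Injective r := (Fin.castLE_injective _).comp finSumFinEquiv.injective
    let t : (Fin b ⊕ Fin b) ⊕ Fin (k - 2 * b) → Fin m ⊕ Fin m := fun
      | .inl (.inl x) => .inl (r (.inl x))
      | .inl (.inr x) => .inr (r (.inl x))
      | .inr z => .inl (r (.inr z))
    have ht : Function.Injective t := by
      rintro ((x | x) | x) ((y | y) | y) h <;> simp [t] at h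
      all_goals first
        | (have := hr h; simp_all)
        | rfl
    obtain ⟨w, hw⟩ : ∃ w : Fin k → V, w = fun i => β (t ((idxEquiv hb).symm i)) := ⟨_, rfl⟩
    have hwi : LinearIndependent F w := by
      rw [hw]; exact β.linearIndependent.comp _ (ht.comp (idxEquiv hb).symm.injective)
    refine ⟨⟨_, indep_comb hwi P⟩, ?_⟩
    ext i j
    show B _ _ = _
    rw [gram_comb]
    have e : (Matrix.of fun x y => B (w x) (w y)) = stdK hb F := ?_
    · rw [e]
    ext x y
    simp only [Matrix.of_apply, hw, hβ, stdK, Matrix.reindex_apply, Matrix.submatrix_apply, stdM_apply]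
    generalize (idxEquiv hb).symm x = p, (idxEquiv hb).symm y = p'
    rcases p with (p | p) | p <;> rcases p' with (p' | p') | p' <;>
      simp [t, Matrix.J, Matrix.one_apply, hr.eq_iff, neg_ite]

theorem orbit_iff {k : ℕ} (v w : Fin k → V) (hv : LinearIndependent F v) (hw : LinearIndependent F w) :
    (∃ g : isoGrp B, ∀ i, g.1 (v i) = w i) ↔ gram B v = gram B w := by
  constructor
  · rintro ⟨g, hg⟩
    ext i j
    show B (v i) (v j) = B (w i) (w j)
    rw [← hg, ← hg, g.2]
  · intro h
    let f : Submodule.span F (Set.range v) →ₗ[F] V := (Basis.span hv).constr F w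
    have hf : ∀ i, f (Basis.span hv i) = w i := fun i => Basis.constr_basis _ _ _ _
    have hinj : Function.Injective f := by
      rw [← LinearMap.ker_eq_bot, LinearMap.ker_eq_bot']
      intro x hx
      rw [← (Basis.span hv).sum_repr x] at hx ⊢
      simp only [map_sum, map_smul, hf] at hx
      have := Fintype.linearIndependent_iff.1 hw _ hx
      simp [this]
    have hiso : ∀ x y : Submodule.span F (Set.range v), B (f x) (f y) = B x y := by
      have : B.compl₁₂ f f = B.compl₁₂ (Submodule.subtype _) (Submodule.subtype _) := by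
        refine (Basis.span hv).ext fun i => (Basis.span hv).ext fun j => ?_
        show B (f _) (f _) = B ((Basis.span hv i : Submodule.span F (Set.range v)) : V) _
        rw [hf, hf, Basis.span_apply]
        show _ = B (v i) ((Basis.span hv j : Submodule.span F (Set.range v)) : V)
        rw [Basis.span_apply]
        exact (congrFun (congrFun h i) j).symm
      exact fun x y => congrArg (fun Φ : _ →ₗ[F] _ →ₗ[F] F => Φ x y) this
    obtain ⟨g, hg, hgx⟩ := CfsgLib.Classical.Alt.witt hB hA _ f hinj hiso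
    exact ⟨⟨g, hg⟩, fun i => by rw [← hf i, ← hgx, Basis.span_apply]⟩

section Count

variable [Fintype F]

/-- the number of fixed point free isometries -/
theorem card_derangements :
    (Nat.card {g : isoGrp B // ∀ v, g.1 v = v → v = 0} : ℚ) =
      Nat.card (Matrix.symplecticGroup (Fin m) F) * UniSeries.derProp (Fintype.card F : ℚ) m := by
  classical
  haveI : Finite V := Module.finite_of_finite F
  letI : Fintype V := Fintype.ofFinite V
  haveI : Finite (V ≃ₗ[F] V) := Finite.of_injective (fun g => (g : V → V)) DFunLike.coe_injective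
  letI : Fintype (isoGrp B) := Fintype.ofFinite _
  obtain ⟨q, hq⟩ : ∃ q, q = Fintype.card F := ⟨_, rfl⟩
  rw [← hq]
  have hq1 : (1 : ℚ) < q := by rw [hq]; exact_mod_cast Fintype.one_lt_card
  let X : ℕ → Type _ := fun k => {v : Fin k → V // LinearIndependent F v}
  letI act : ∀ k, MulAction (isoGrp B) (X k) := fun k =>
    { smul := fun g v => ⟨g.1 ∘ v.1, v.2.map' (g.1 : V →ₗ[F] V) g.1.ker⟩
      one_smul := fun v => rfl
      mul_smul := fun g h v => rfl }
  have hfix : ∀ (g : isoGrp B) k, (Nat.card (MulAction.fixedBy (X k) g) : ℚ) =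
      UniSeries.tup (q : ℚ) (finrank F (LinearMap.ker ((g.1 : V →ₗ[F] V) - LinearMap.id))) k := by
    intro g k
    generalize hW : LinearMap.ker ((g.1 : V →ₗ[F] V) - LinearMap.id) = W
    have e : MulAction.fixedBy (X k) g ≃ {s : Fin k → W // LinearIndependent F s} :=
      { toFun := fun v => ⟨fun i => ⟨v.1.1 i, by
          rw [← hW, LinearMap.mem_ker, LinearMap.sub_apply, LinearMap.id_apply, sub_eq_zero]
          exact congrFun (congrArg Subtype.val v.2) i⟩, LinearIndependent.of_comp W.subtype v.1.2⟩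
        invFun := fun s => ⟨⟨fun i => (s.1 i : V), s.2.map' W.subtype W.ker_subtype⟩, Subtype.ext (funext fun i => by
          have h1 : (s.1 i : V) ∈ LinearMap.ker ((g.1 : V →ₗ[F] V) - LinearMap.id) := hW.symm ▸ (s.1 i).2
          rw [LinearMap.mem_ker, LinearMap.sub_apply, LinearMap.id_apply, sub_eq_zero] at h1
          exact h1)⟩
        left_inv := fun v => rfl
        right_inv := fun s => rfl }
    rw [Nat.card_congr e]
    by_cases hk : k ≤ finrank F W
    · rw [card_linearIndependent hk, ← hq, UniSeries.tup, ← Fin.prod_univ_eq_prod_range]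
      push_cast
      refine Finset.prod_congr rfl fun i _ => ?_
      rw [Nat.cast_sub (Nat.pow_le_pow_right (hq ▸ Fintype.card_pos) (by omega)), Nat.cast_pow, Nat.cast_pow]
    · rw [UniSeries.tup_eq_zero (not_le.1 hk)]
      rw [Nat.cast_eq_zero, Nat.card_eq_zero]
      exact Or.inl ⟨fun s => hk (by simpa using s.2.fintype_card_le_finrank)⟩
  have horb : ∀ k, Nat.card (Quotient (MulAction.orbitRel (isoGrp B) (X k))) =
      Nat.card (Set.range (fun v : X k => gram B v.1)) := by
    intro k
    refine Nat.card_congr (Equiv.ofBijective (Quotient.lift (fun v : X k => (⟨gram B v.1, v, rfl⟩ : Set.range (fun v : X k => gram B v.1))) ?_) ⟨?_, ?_⟩)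
    · rintro v w ⟨g, rfl⟩
      exact Subtype.ext ((orbit_iff hB hA hV _ _ w.2 (g • w).2).1 ⟨g, fun i => rfl⟩).symm
    · rintro ⟨v⟩ ⟨w⟩ h
      obtain ⟨g, hg⟩ := (orbit_iff hB hA hV _ _ w.2 v.2).2 (congrArg Subtype.val h).symm
      exact Quotient.sound ⟨g, Subtype.ext (funext hg)⟩
    · rintro ⟨A, v, rfl⟩
      exact ⟨Quotient.mk _ v, rfl⟩
  have hburn : ∀ k, ∑ g : isoGrp B, (Nat.card (MulAction.fixedBy (X k) g) : ℚ) =
      Nat.card (Set.range (fun v : X k => gram B v.1)) * Nat.card (isoGrp B) := by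
    intro k
    letI : Fintype (X k) := Fintype.ofFinite _
    have h := MulAction.sum_card_fixedBy_eq_card_orbits_mul_card_group (isoGrp B) (X k)
    rw [← horb]
    simp only [Nat.card_eq_fintype_card]
    exact_mod_cast h
  -- the Moebius inversion
  have hmob : (Nat.card {g : isoGrp B // ∀ v, g.1 v = v → v = 0} : ℚ) =
      Nat.card (isoGrp B) * ∑ k ∈ Finset.range (2 * m + 1), UniSeries.wgt (q : ℚ) k *
        Nat.card (Set.range (fun v : X k => gram B v.1)) := by
    calc (Nat.card {g : isoGrp B // ∀ v, g.1 v = v → v = 0} : ℚ)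
        = ∑ g : isoGrp B, if finrank F (LinearMap.ker ((g.1 : V →ₗ[F] V) - LinearMap.id)) = 0 then 1 else 0 := by
          rw [Nat.card_eq_fintype_card, Fintype.card_subtype, Finset.card_filter]
          push_cast
          refine Finset.sum_congr rfl fun g _ => ?_
          congr 1
          rw [Submodule.finrank_eq_zero, LinearMap.ker_eq_bot', eq_iff_iff]
          simp [sub_eq_zero]
      _ = ∑ g : isoGrp B, ∑ k ∈ Finset.range (2 * m + 1), UniSeries.wgt (q : ℚ) k * Nat.card (MulAction.fixedBy (X k) g) := by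
          refine Finset.sum_congr rfl fun g _ => ?_
          rw [← UniSeries.sum_wgt hq1 _ (2 * m) (hV ▸ Submodule.finrank_le _)]
          exact Finset.sum_congr rfl fun k _ => by rw [hfix]
      _ = _ := by
          rw [Finset.sum_comm, Finset.mul_sum]
          refine Finset.sum_congr rfl fun k _ => ?_
          rw [← Finset.mul_sum, hburn]
          ring
  -- sizes of the ranges
  have hrange : ∀ k ∈ Finset.range (2 * m + 1), UniSeries.wgt (q : ℚ) k * Nat.card (Set.range (fun v : X k => gram B v.1)) =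
      ∑ b ∈ Finset.range (m + 1), if 2 * b ≤ k ∧ k ≤ m + b then
        (-1) ^ (k - 2 * b) * (q : ℚ) ^ (k - 2 * b).choose 2 / UniSeries.tup (q : ℚ) (k - 2 * b) (k - 2 * b) *
          ((q : ℚ) ^ (2 * b).choose 2 / UniSeries.spOrd (q : ℚ) b) else 0 := by
    intro k hk
    rw [range_gram hB hA hV k]
    obtain ⟨S, hS⟩ : ∃ S, S = (Finset.range (m + 1)).filter (fun b => 2 * b ≤ k ∧ k ≤ m + b) := ⟨_, rfl⟩
    have hmemS : ∀ b ∈ S, 2 * b ≤ k ∧ k ≤ m + b := fun b hb => by
      rw [hS, Finset.mem_filter] at hb; exact hb.2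
    have hset : {A | ∃ b, ∃ hb : 2 * b ≤ k, k ≤ m + b ∧ A ∈ cls hb F} =
        ↑(S.attach.biUnion (fun b => (cls (hmemS b.1 b.2).1 F).toFinset)) := by
      ext A
      simp only [Set.mem_setOf_eq, Finset.coe_biUnion, Finset.mem_coe, Finset.mem_attach, Set.iUnion_true, Set.mem_iUnion, Set.coe_toFinset]
      constructor
      · rintro ⟨b, hb, hbm, hA'⟩
        refine ⟨⟨b, ?_⟩, hA'⟩
        rw [hS, Finset.mem_filter, Finset.mem_range]
        have := Finset.mem_range.1 hk
        omega
      · rintro ⟨⟨b, hb⟩, hA'⟩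
        exact ⟨b, _, (hmemS b hb).2, hA'⟩
    rw [hset, Nat.card_eq_fintype_card, ← Set.toFinset_card, Finset.toFinset_coe, Finset.card_biUnion (by
      intro b _ c _ hbc
      rw [Function.onFun, Finset.disjoint_left]
      intro A h1 h2
      rw [Set.mem_toFinset] at h1 h2
      exact hbc (Subtype.ext (by have := (rank_of_mem_cls _ h1).symm.trans (rank_of_mem_cls _ h2); omega)))]
    push_cast
    rw [Finset.mul_sum, ← Finset.sum_filter, ← hS, ← Finset.sum_attach S (fun b =>
        (-1) ^ (k - 2 * b) * (q : ℚ) ^ (k - 2 * b).choose 2 / UniSeries.tup (q : ℚ) (k - 2 * b) (k - 2 * b) *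
          ((q : ℚ) ^ (2 * b).choose 2 / UniSeries.spOrd (q : ℚ) b))]
    refine Finset.sum_congr rfl fun b _ => ?_
    obtain ⟨b, hbS⟩ := b
    have hb := (hmemS b hbS).1
    show UniSeries.wgt (q : ℚ) k * ((cls hb F).toFinset.card : ℚ) = _
    rw [Set.toFinset_card, ← Nat.card_eq_fintype_card]
    have hGL : ∀ r : ℕ, (Nat.card (GL (Fin r) F) : ℚ) = UniSeries.tup (q : ℚ) r r := by
      intro r
      rw [Matrix.card_GL_field, UniSeries.tup, ← Fin.prod_univ_eq_prod_range, Nat.cast_prod]
      refine Finset.prod_congr rfl fun i _ => ?_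
      rw [Nat.cast_sub (Nat.pow_le_pow_right Fintype.card_pos i.isLt.le), Nat.cast_pow, Nat.cast_pow, hq]
    have hSp : (Nat.card (Matrix.symplecticGroup (Fin b) F) : ℚ) = UniSeries.spOrd (q : ℚ) b := by
      rw [CfsgLib.Classical.card_symplectic, UniSeries.spOrd, UniSeries.qfac, ← hq, Nat.cast_mul, Nat.cast_pow, Nat.cast_prod]
      congr 1
      refine Finset.prod_congr rfl fun i _ => ?_
      rw [Nat.cast_sub (Nat.one_le_pow _ _ (hq ▸ Fintype.card_pos)), Nat.cast_pow, ← pow_mul, Nat.cast_one]
    have hc := card_cls (F := F) hb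
    rw [← hq] at hc
    have hc' : (Nat.card (cls hb F) : ℚ) * (UniSeries.spOrd (q : ℚ) b * ((q : ℚ) ^ (2 * ((k - 2 * b) * b)) * UniSeries.tup (q : ℚ) (k - 2 * b) (k - 2 * b))) = UniSeries.tup (q : ℚ) k k := by
      rw [← hGL, ← hGL, ← hSp]; exact_mod_cast hc
    obtain ⟨a, ha⟩ : ∃ a, a = k - 2 * b := ⟨_, rfl⟩
    rw [← ha] at hc' ⊢
    have hch : k.choose 2 = a.choose 2 + ((2 * b).choose 2 + 2 * (a * b)) := by
      rw [show k = a + 2 * b by omega, Nat.add_choose_eq]
      simp [Finset.Nat.antidiagonal_succ]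
      ring
    have hsgn : ((-1 : ℚ)) ^ k = (-1) ^ a := by
      rw [show k = a + 2 * b by omega, pow_add, pow_mul]; simp
    have h1 := UniSeries.tup_self_ne hq1 k
    have h2 := UniSeries.tup_self_ne hq1 a
    have h3 := UniSeries.spOrd_ne hq1 b
    rw [UniSeries.wgt, hsgn, hch, pow_add, pow_add]
    field_simp
    rw [← hc']
    ring
  rw [hmob, card_isoGrp hB hA hV]
  congr 1
  rw [Finset.sum_congr rfl hrange, UniSeries.derProp, ← Finset.sum_product', Finset.sum_sigma' (Finset.range (m + 1)),
    ← Finset.sum_filter]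
  refine Finset.sum_bij' (fun x _ => ⟨x.1 - x.2, (x.1 - 2 * x.2, x.2)⟩) (fun x _ => (x.2.1 + 2 * x.2.2, x.2.2))
    ?_ ?_ ?_ ?_ ?_
  · intro x hx
    simp only [Finset.mem_filter, Finset.mem_product, Finset.mem_range] at hx
    simp only [Finset.mem_sigma, Finset.mem_range, Finset.HasAntidiagonal.mem_antidiagonal]
    omega
  · intro x hx
    simp only [Finset.mem_sigma, Finset.mem_range, Finset.HasAntidiagonal.mem_antidiagonal] at hx
    simp only [Finset.mem_filter, Finset.mem_product, Finset.mem_range]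
    omega
  · intro x hx
    simp only [Finset.mem_filter, Finset.mem_product, Finset.mem_range] at hx
    ext <;> simp <;> omega
  · rintro ⟨j, a, b⟩ hx
    simp only [Finset.mem_sigma, Finset.mem_range, Finset.HasAntidiagonal.mem_antidiagonal] at hx
    simp only [Nat.add_sub_cancel, Sigma.mk.inj_iff, heq_eq_eq, and_true]
    omega
  · intro x _
    rfl

end Count

end CfsgLib.Classical.SympCount
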