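import Cfsg.Agent.Lib.Classical.SympCount
import Cfsg.Prelude.Def_ClassicalGeometry

/-!
# The symplectic group is primitive on points
-/

set_option autoImplicit false

namespace CfsgLib.Classical.SympCount

open Matrix CfsgLib.Sp
open scoped LinearAlgebra.Projectivization Pointwise

variable {F : Type*} [Field F] {m : ℕ}

local notation "Vm" => Fin m ⊕ Fin m → F
local notation "Spm" => Matrix.symplecticGroup (Fin m) F

/-- The comparison map to `spGL`. -/
def toSpGL (A : Spm) : Cfsg.spGL m F :=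
  ⟨⟨A.1, (A⁻¹).1, by rw [← sp_mul_val, mul_inv_cancel]; rfl, by rw [← sp_mul_val, inv_mul_cancel]; rfl⟩,
    fun u v => sf_sp A u v⟩

theorem toSpGL_smul (A : Spm) (v : Vm) (hv : v ≠ 0) :
    toSpGL A • Projectivization.mk F v hv = Projectivization.mk F (A.1 *ᵥ v) (sp_mulVec_ne_zero A hv) := rfl

theorem points_preprimitive : MulAction.IsPreprimitive (Cfsg.spGL m F) (ℙ F Vm) := by
  classical
  haveI : MulAction.IsPretransitive (Cfsg.spGL m F) (ℙ F Vm) := ⟨fun x y => by
    obtain ⟨A, hA⟩ := exists_move x.rep_nonzero y.rep_nonzero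
    refine ⟨toSpGL A, ?_⟩
    conv_lhs => rw [← x.mk_rep, toSpGL_smul]
    simp only [hA, Projectivization.mk_rep]⟩
  refine ⟨fun {B} hB => ?_⟩
  rw [MulAction.IsTrivialBlock, or_iff_not_imp_left]
  intro hns
  have hinv : ∀ g : Cfsg.spGL m F, ∀ x ∈ B, g • x ∈ B → g • B = B := fun g x hx hgx =>
    (MulAction.isBlock_iff_smul_eq_of_nonempty.1 hB) ⟨g • x, Set.smul_mem_smul_set hx, hgx⟩
  obtain ⟨x, hx, y, hy, hxy⟩ := Set.not_subsingleton_iff.1 hns
  induction x using Projectivization.ind with | _ a ha => ?_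
  induction y using Projectivization.ind with | _ b hb => ?_
  obtain ⟨a, ha, b, hb, hxa, hxb, hab⟩ : ∃ a, ∃ ha : a ≠ 0, ∃ b, ∃ hb : b ≠ 0,
      Projectivization.mk F a ha ∈ B ∧ Projectivization.mk F b hb ∈ B ∧ sf a b ≠ 0 := by
    by_cases hab : sf a b = 0
    · obtain ⟨w, hwb, hwa⟩ : ∃ w, sf w b = 0 ∧ sf w a ≠ 0 := by
        by_contra hc
        push Not at hc
        obtain ⟨k, hk⟩ : ∃ k : F, a = k • b := ⟨_, eq_smul_of_orth hb hc⟩
        refine hxy ((Projectivization.mk_eq_mk_iff' F a b ha hb).2 ⟨k, hk.symm⟩)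
      have hfix : (tv w 1).1 *ᵥ b = b := by rw [tv_mulVec, sf_swap, hwb]; simp
      have hgB := hinv (toSpGL (tv w 1)) _ hy (by
        rw [toSpGL_smul]; simp only [hfix]; exact hy)
      refine ⟨a, ha, (tv w 1).1 *ᵥ a, sp_mulVec_ne_zero _ ha, hx, ?_, ?_⟩
      · rw [← hgB, ← toSpGL_smul _ _ ha]
        exact Set.smul_mem_smul_set hx
      · rw [tv_mulVec, sf_add_right, sf_self, zero_add, sf_smul_right, one_mul, sf_swap a w]
        simp [hwa]
    · exact ⟨a, ha, b, hb, hx, hy, hab⟩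
  have hclose : ∀ a, ∀ ha : a ≠ 0, ∀ b, ∀ hb : b ≠ 0, Projectivization.mk F a ha ∈ B →
      Projectivization.mk F b hb ∈ B → sf a b ≠ 0 → ∀ c, ∀ hc : c ≠ 0, sf a c ≠ 0 → Projectivization.mk F c hc ∈ B := by
    intro a ha b hb hxa hxb hab c hc hac
    have hli : ∀ z, sf a z ≠ 0 → LinearIndependent F ![a, (sf a z)⁻¹ • z] := by
      intro z hz
      rw [LinearIndependent.pair_iff]
      intro s t h
      have h1 := congrArg (sf a) h
      simp [sf_add_right, sf_smul_right, sf_self, hz, sf_eq] at h1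
      have ht : t = 0 := by
        have h2 : sf a (s • a + t • ((sf a z)⁻¹ • z)) = t := by
          rw [sf_add_right, sf_smul_right, sf_smul_right, sf_smul_right, sf_self]; field_simp; ring
        rw [← h2, h, ← zero_smul F a, sf_smul_right, zero_mul]
      rw [ht, zero_smul, add_zero, smul_eq_zero] at h
      exact ⟨h.resolve_right ha, ht⟩
    obtain ⟨A, hA⟩ := exists_move_tuple (hli b hab) (hli c hac) (fun i j => by
      fin_cases i <;> fin_cases j <;>
        simp only [Fin.zero_eta, Fin.mk_one, Matrix.cons_val_zero, Matrix.cons_val_one]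
      · rw [sf_smul_right, sf_smul_right, inv_mul_cancel₀ hab, inv_mul_cancel₀ hac]
      · rw [sf_swap _ a, sf_swap ((sf a c)⁻¹ • c) a, sf_smul_right, sf_smul_right, inv_mul_cancel₀ hab,
          inv_mul_cancel₀ hac]
      · rw [sf_self, sf_self])
    have hA1 : A.1 *ᵥ a = a := hA 0
    have hA2 : A.1 *ᵥ ((sf a b)⁻¹ • b) = (sf a c)⁻¹ • c := hA 1
    have hgB := hinv (toSpGL A) _ hxa (by rw [toSpGL_smul]; simp only [hA1]; exact hxa)
    rw [← hgB]
    refine ⟨Projectivization.mk F b hb, hxb, ?_⟩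
    change toSpGL A • Projectivization.mk F b hb = Projectivization.mk F c hc
    rw [toSpGL_smul, Projectivization.mk_eq_mk_iff']
    refine ⟨sf a b * (sf a c)⁻¹, ?_⟩
    rw [Matrix.mulVec_smul] at hA2
    rw [← smul_smul, ← hA2, smul_inv_smul₀ hab]
  refine Set.eq_univ_of_forall fun z => ?_
  induction z using Projectivization.ind with | _ c hc => ?_
  by_cases hac : sf a c = 0
  · obtain ⟨d, hd1, hd2⟩ : ∃ d, sf a d ≠ 0 ∧ sf c d ≠ 0 := by
      obtain ⟨u, hu⟩ := exists_sf_eq_one hc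
      have hu' : sf c u ≠ 0 := by rw [sf_swap, hu]; simp
      by_cases hau : sf a u = 0
      · by_cases hcb : sf c b = 0
        · exact ⟨u + b, by rw [sf_add_right, hau, zero_add]; exact hab,
            by rw [sf_add_right, hcb, add_zero]; exact hu'⟩
        · exact ⟨b, hab, hcb⟩
      · exact ⟨u, hau, hu'⟩
    have hd0 : d ≠ 0 := fun h => hd1 (by rw [h]; simp [Cfsg.sympForm])
    exact hclose d hd0 a ha (hclose a ha b hb hxa hxb hab d hd0 hd1) hxa
      (by rw [sf_swap]; exact neg_ne_zero.2 hd1) c hc (by rw [sf_swap]; exact neg_ne_zero.2 hd2)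
  · exact hclose a ha b hb hxa hxb hab c hc hac

end CfsgLib.Classical.SympCount
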