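import Cfsg.Agent.Lib.Classical.SympCount
import Cfsg.Prelude.Def_ClassicalGeometry

/-!
# Parabolic subgroups and totally isotropic lines of symplectic spaces
-/

set_option autoImplicit false

namespace CfsgLib.Classical.SympCount

open Matrix Module CfsgLib.Sp

variable {F : Type*} [Field F] [Fintype F] {m : ℕ}

local notation "Vm" => Fin m ⊕ Fin m → F
local notation "Spm" => Matrix.symplecticGroup (Fin m) F

theorem frame_prod (q k r : ℕ) :
    ∏ i ∈ Finset.range k, (q ^ (2 * (k + r) - i) - q ^ i) =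
      q ^ (k * (k - 1) / 2) * ∏ i ∈ Finset.range k, (q ^ (2 * (r + i + 1)) - 1) := by
  rw [← Finset.sum_range_id k, ← Finset.prod_pow_eq_pow_sum,
    ← Finset.prod_range_reflect (fun i => q ^ (2 * (r + i + 1)) - 1) k, ← Finset.prod_mul_distrib]
  refine Finset.prod_congr rfl fun i hi => ?_
  have hi' : i < k := Finset.mem_range.1 hi
  rw [Nat.mul_sub_one, ← pow_add]
  congr 2
  omega

/-- A counting identity to divide by the number of frames. -/
theorem stab_arith {q k r h s : ℕ} (hq : 2 ≤ q)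
    (e : h * (∏ i ∈ Finset.range k, (q ^ (2 * (k + r) - i) - q ^ i)) =
      s * (q ^ ((k + r) ^ 2) * ∏ i ∈ Finset.range (k + r), (q ^ (2 * (i + 1)) - 1))) :
    h * q ^ (k * (k - 1) / 2) = s * (q ^ ((k + r) ^ 2) * ∏ i ∈ Finset.range r, (q ^ (2 * (i + 1)) - 1)) := by
  rw [frame_prod, show k + r = r + k from add_comm k r, Finset.prod_range_add] at e
  rw [show k + r = r + k from add_comm k r]
  have hpos : 0 < ∏ i ∈ Finset.range k, (q ^ (2 * (r + i + 1)) - 1) := by
    refine Finset.prod_pos fun i _ => Nat.sub_pos_of_lt (Nat.one_lt_pow (by omega) (by omega))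
  refine Nat.eq_of_mul_eq_mul_right hpos ?_
  linear_combination e

omit [Fintype F] in
/-- In the finite case it suffices to map a set into itself. -/
theorem mem_stabilizing [Finite F] (A : Spm) (S : Set Vm) (h : ∀ v ∈ S, A.1 *ᵥ v ∈ S) :
    A ∈ Cfsg.stabilizing (Cfsg.spToMat m F) S := by
  intro v
  refine ⟨h v, fun hv => ?_⟩
  have hinj : Function.Injective fun v : Vm => A.1 *ᵥ v := fun u w e => by
    have := congrArg (fun x => (A⁻¹).1 *ᵥ x) e
    simp only [sp_inv_mulVec] at this
    exact this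
  obtain ⟨w, hw, hwv⟩ := (((Set.toFinite S).injOn_iff_bijOn_of_mapsTo h).1 hinj.injOn).surjOn hv
  exact hinj hwv ▸ hw

theorem card_stab_isotropic (k : ℕ) (hk : k ≤ m) (W : Submodule F Vm) (hWk : finrank F W = k)
    (hW : ∀ u ∈ W, ∀ v ∈ W, sf u v = 0) :
    Nat.card (Cfsg.stabilizing (Cfsg.spToMat m F) (W : Set Vm)) =
      Fintype.card F ^ (k * (k + 1) / 2 + 2 * k * (m - k)) * (Fintype.card F ^ ((m - k) ^ 2) *
        ∏ i ∈ Finset.range (m - k), (Fintype.card F ^ (2 * (i + 1)) - 1)) *
        ∏ i : Fin k, (Fintype.card F ^ k - Fintype.card F ^ (i : ℕ)) := by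
  classical
  set q := Fintype.card F with hq
  let b := Module.finBasisOfFinrankEq F W hWk
  let t0 : Frame m F k := ⟨fun i => (b i : Vm),
    b.linearIndependent.map' W.subtype (Submodule.ker_subtype W), fun i j => hW _ (b i).2 _ (b j).2⟩
  let S : Set (Frame m F k) := {t | ∀ i, t.1 i ∈ W}
  have hH : ∀ A : Spm, A ∈ Cfsg.stabilizing (Cfsg.spToMat m F) (W : Set Vm) ↔ A • t0 ∈ S := by
    intro A
    refine ⟨fun h i => (h _).1 (b i).2, fun h => mem_stabilizing A _ fun v hv => ?_⟩
    have hle : W ≤ W.comap (Matrix.toLin' A.1) := by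
      intro x hx
      have hx' : (⟨x, hx⟩ : W) ∈ Submodule.span F (Set.range b) := b.mem_span _
      have h' := Submodule.apply_mem_span_image_of_mem_span W.subtype hx'
      refine (Submodule.span_le.2 ?_) h'
      rintro _ ⟨_, ⟨i, rfl⟩, rfl⟩
      change Matrix.toLin' A.1 (b i : Vm) ∈ W
      rw [Matrix.toLin'_apply]
      exact h i
    simpa using hle hv
  have hS : Nat.card S = ∏ i : Fin k, (q ^ k - q ^ (i : ℕ)) := by
    have hfr : finrank F W = k := hWk
    have e : S ≃ {s : Fin k → W // LinearIndependent F s} :=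
      { toFun := fun t => ⟨fun i => ⟨t.1.1 i, t.2 i⟩,
          LinearIndependent.of_comp W.subtype t.1.2.1⟩
        invFun := fun s => ⟨⟨fun i => (s.1 i : Vm), s.2.map' W.subtype (Submodule.ker_subtype W),
          fun i j => hW _ (s.1 i).2 _ (s.1 j).2⟩, fun i => (s.1 i).2⟩
        left_inv := fun t => rfl
        right_inv := fun s => rfl }
    rw [Nat.card_congr e, card_linearIndependent (le_of_eq hfr.symm)]
    simp [hfr, hq]
  have h := card_mul_card_frame _ t0 S hH
  rw [card_frame hk, CfsgLib.Classical.card_symplectic, hS, ← hq] at h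
  obtain ⟨r, rfl⟩ : ∃ r, m = k + r := ⟨m - k, by omega⟩
  rw [Nat.add_sub_cancel_left]
  have hq2 : 2 ≤ q := Fintype.one_lt_card
  refine Nat.eq_of_mul_eq_mul_right (show 0 < q ^ (k * (k - 1) / 2) from pow_pos (by omega) _) ?_
  rw [stab_arith hq2 h]
  have hexp : q ^ ((k + r) ^ 2) = q ^ (k * (k + 1) / 2 + 2 * k * r) * q ^ (r ^ 2) * q ^ (k * (k - 1) / 2) := by
    rw [← pow_add, ← pow_add]
    congr 1
    have h1 : 2 ∣ k * (k + 1) := (Nat.even_mul_succ_self k).two_dvd
    have h2 : 2 ∣ k * (k - 1) := (Nat.even_mul_pred_self k).two_dvd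
    have h3 : k * (k + 1) + k * (k - 1) = 2 * (k * k) := by
      rcases k with _ | k
      · rfl
      · simp only [Nat.add_sub_cancel]; ring
    have h4 : (k + r) ^ 2 = k * k + 2 * k * r + r ^ 2 := by ring
    omega
  rw [hexp]
  ring

theorem card_borel :
    Nat.card ↥(⨅ k : Fin m, Cfsg.stabilizing (Cfsg.spToMat m F) {v : Vm |
      (∀ i : Fin m, (k : ℕ) < (i : ℕ) → v (Sum.inl i) = 0) ∧ ∀ i : Fin m, v (Sum.inr i) = 0}) =
      Fintype.card F ^ (m ^ 2) * (Fintype.card F - 1) ^ m := by
  classical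
  set q := Fintype.card F with hq
  let W : Fin m → Set Vm := fun k =>
    {v | (∀ i : Fin m, (k : ℕ) < (i : ℕ) → v (Sum.inl i) = 0) ∧ ∀ i : Fin m, v (Sum.inr i) = 0}
  have hiso : ∀ u v : Vm, (∀ i, u (Sum.inr i) = 0) → (∀ i, v (Sum.inr i) = 0) → sf u v = 0 := fun u v hu hv => by
    rw [sf_eq]
    simp [hu, hv]
  have hli : ∀ t : Fin m → Vm, (∀ i, t i ∈ W i) →
      (LinearIndependent F t ↔ ∀ i, t i (Sum.inl i) ≠ 0) := by
    intro t ht
    let M : Matrix (Fin m) (Fin m) F := fun i j => t i (Sum.inl j)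
    have hdet : M.det = ∏ i, t i (Sum.inl i) :=
      Matrix.det_of_lowerTriangular M fun i j hij => (ht i).1 j hij
    have hcomp : LinearIndependent F t ↔ LinearIndependent F M.row := by
      rw [Fintype.linearIndependent_iff, Fintype.linearIndependent_iff]
      refine forall_congr' fun c => ⟨fun h e => h ?_, fun h e => h ?_⟩
      · funext x
        rcases x with x | x
        · simpa [M, Matrix.row, Finset.sum_apply] using congrFun e x
        · simp [Finset.sum_apply, (ht _).2 x]
      · funext x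
        simpa [M, Matrix.row, Finset.sum_apply] using congrFun e (Sum.inl x)
    rw [hcomp, Matrix.linearIndependent_rows_iff_isUnit, Matrix.isUnit_iff_isUnit_det, isUnit_iff_ne_zero,
      hdet, Finset.prod_ne_zero_iff]
    simp
  have he : ∀ i : Fin m, (Pi.single (Sum.inl i) 1 : Vm) ∈ W i := fun i =>
    ⟨fun j hj => Pi.single_eq_of_ne (by simp; omega) _, fun j => Pi.single_eq_of_ne (by simp) _⟩
  let t0 : Frame m F m := ⟨fun i => Pi.single (Sum.inl i) 1, (hli _ he).2 fun i => by simp,
    fun i j => hiso _ _ (he i).2 (he j).2⟩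
  let S : Set (Frame m F m) := {t | ∀ i, t.1 i ∈ W i}
  have hH : ∀ A : Spm, A ∈ (⨅ k : Fin m, Cfsg.stabilizing (Cfsg.spToMat m F) (W k)) ↔ A • t0 ∈ S := by
    intro A
    rw [Subgroup.mem_iInf]
    refine ⟨fun h i => (h i _).1 (he i), fun h k => mem_stabilizing A _ fun v hv => ?_⟩
    have hv' : v = ∑ i, v (Sum.inl i) • (Pi.single (Sum.inl i) (1 : F) : Vm) := by
      funext x
      rcases x with x | x
      · simp [Finset.sum_apply, Pi.single_apply]
      · simp [Finset.sum_apply, Pi.single_apply, hv.2 x]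
    have hA : A.1 *ᵥ v = ∑ i, v (Sum.inl i) • (A • t0).1 i := by
      conv_lhs => rw [hv']
      rw [Matrix.mulVec_sum]
      exact Finset.sum_congr rfl fun i _ => Matrix.mulVec_smul _ _ _
    refine ⟨fun j hj => ?_, fun j => ?_⟩ <;> rw [hA, Finset.sum_apply] <;>
      refine Finset.sum_eq_zero fun i _ => ?_ <;> rw [Pi.smul_apply, smul_eq_mul]
    · rcases lt_or_ge (k : ℕ) (i : ℕ) with hki | hki
      · rw [hv.1 i hki, zero_mul]
      · rw [(h i).1 j (by omega), mul_zero]
    · rw [(h i).2 j, mul_zero]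
  have hS : Nat.card S = ∏ i : Fin m, (q - 1) * q ^ (i : ℕ) := by
    let e : S ≃ ((i : Fin m) → (Fˣ × (Fin (i : ℕ) → F))) :=
      { toFun := fun t i => (Units.mk0 _ ((hli _ t.2).1 t.1.2.1 i),
          fun j => t.1.1 i (Sum.inl ⟨j, by omega⟩))
        invFun := fun f => by
          let t : Fin m → Vm := fun i => Sum.elim (fun j => if hj : (j : ℕ) < (i : ℕ) then (f i).2 ⟨j, hj⟩
            else if j = i then ((f i).1 : F) else 0) 0
          have ht : ∀ i, t i ∈ W i := fun i => ⟨fun j hj => by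
            simp only [t, Sum.elim_inl]
            rw [dif_neg (by omega), if_neg (fun e => by rw [e] at hj; omega)], fun j => rfl⟩
          exact ⟨⟨t, (hli t ht).2 fun i => by simp [t], fun i j => hiso _ _ (ht i).2 (ht j).2⟩, ht⟩
        left_inv := fun t => by
          refine Subtype.ext (Subtype.ext (funext fun i => funext fun x => ?_))
          rcases x with x | x
          · simp only [Sum.elim_inl]
            split_ifs with h1 h2
            · rfl
            · subst h2; rfl
            · exact ((t.2 i).1 x (by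
                rcases lt_trichotomy (x : ℕ) (i : ℕ) with h | h | h
                · exact absurd h h1
                · exact absurd (Fin.ext h) h2
                · exact h)).symm
          · exact ((t.2 i).2 x).symm
        right_inv := fun f => funext fun i => by
          refine Prod.ext (Units.ext ?_) (funext fun j => ?_)
          · simp
          · simp only [Sum.elim_inl]
            rw [dif_pos (show ((⟨(j : ℕ), by omega⟩ : Fin m) : ℕ) < (i : ℕ) from j.2)] }
    rw [Nat.card_congr e, Nat.card_pi]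
    simp [hq, Nat.card_units, Fintype.card_units]
  have h := card_mul_card_frame _ t0 S hH
  rw [card_frame le_rfl, CfsgLib.Classical.card_symplectic, hS, ← hq, Finset.prod_mul_distrib, Finset.prod_const,
    Finset.card_univ, Fintype.card_fin, Finset.prod_pow_eq_pow_sum, Fin.sum_univ_eq_sum_range (fun i => i),
    Finset.sum_range_id] at h
  have hq2 : 2 ≤ q := Fintype.one_lt_card
  have h' := stab_arith (r := 0) hq2 (by rw [Nat.add_zero]; exact h)
  simp only [Nat.add_zero, Finset.prod_range_zero, mul_one] at h'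
  refine Nat.eq_of_mul_eq_mul_right (show 0 < q ^ (m * (m - 1) / 2) from pow_pos (by omega) _) ?_
  refine h'.trans ?_
  ring

theorem card_lines_four {F : Type*} [Field F] [Fintype F] :
    Nat.card {W : Submodule F (Fin 2 ⊕ Fin 2 → F) // finrank F W = 2 ∧ ∀ u ∈ W, ∀ v ∈ W, sf u v = 0} =
      (Fintype.card F + 1) * (Fintype.card F ^ 2 + 1) ∧
    ∀ v : Fin 2 ⊕ Fin 2 → F, v ≠ 0 → Nat.card {W : Submodule F (Fin 2 ⊕ Fin 2 → F) //
      finrank F W = 2 ∧ v ∈ W ∧ ∀ u ∈ W, ∀ w ∈ W, sf u w = 0} = Fintype.card F + 1 := by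
  classical
  set q := Fintype.card F with hq
  have hq2 : 2 ≤ q := Fintype.one_lt_card
  obtain ⟨a, ha⟩ : ∃ a, q = a + 2 := ⟨q - 2, by omega⟩
  have hspan : ∀ t : Frame 2 F 2, finrank F (Submodule.span F (Set.range t.1)) = 2 := fun t => by
    rw [finrank_span_eq_card t.2.1, Fintype.card_fin]
  have hspiso : ∀ t : Frame 2 F 2, ∀ u ∈ Submodule.span F (Set.range t.1),
      ∀ w ∈ Submodule.span F (Set.range t.1), sf u w = 0 := by
    intro t u hu w hw
    have h1 : ∀ i, sf (t.1 i) w = 0 := fun i =>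
      (Submodule.span_le (p := LinearMap.ker (sB 2 F (t.1 i)))).2 (by rintro _ ⟨j, rfl⟩; exact t.2.2 i j) hw
    exact (Submodule.span_le (p := LinearMap.ker ((sB 2 F).flip w))).2 (by rintro _ ⟨i, rfl⟩; exact h1 i) hu
  have hW2 : ∀ W : Submodule F (Fin 2 ⊕ Fin 2 → F), finrank F W = 2 → ∀ t : Frame 2 F 2,
      (∀ i, t.1 i ∈ W) → W = Submodule.span F (Set.range t.1) := fun W hW t ht =>
    (Submodule.eq_of_le_of_finrank_le (Submodule.span_le.2 (by rintro _ ⟨i, rfl⟩; exact ht i))
      (by rw [hW, hspan t])).symm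
  constructor
  · -- frames over a line
    let π : Frame 2 F 2 → {W : Submodule F (Fin 2 ⊕ Fin 2 → F) // finrank F W = 2 ∧ ∀ u ∈ W, ∀ v ∈ W, sf u v = 0} :=
      fun t => ⟨_, hspan t, hspiso t⟩
    have hfib : ∀ W, Nat.card {t : Frame 2 F 2 // π t = W} = ∏ i : Fin 2, (q ^ 2 - q ^ (i : ℕ)) := by
      intro W
      have e : {t : Frame 2 F 2 // π t = W} ≃ {s : Fin 2 → W.1 // LinearIndependent F s} :=
        { toFun := fun t => ⟨fun i => ⟨t.1.1 i, by
              have := congrArg Subtype.val t.2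
              rw [← this]; exact Submodule.subset_span ⟨i, rfl⟩⟩, LinearIndependent.of_comp W.1.subtype t.1.2.1⟩
          invFun := fun s => ⟨⟨fun i => (s.1 i : _), s.2.map' W.1.subtype (Submodule.ker_subtype _),
              fun i j => W.2.2 _ (s.1 i).2 _ (s.1 j).2⟩,
            Subtype.ext (hW2 W.1 W.2.1 _ fun i => (s.1 i).2).symm⟩
          left_inv := fun t => rfl
          right_inv := fun s => rfl }
      rw [Nat.card_congr e, card_linearIndependent (le_of_eq W.2.1.symm)]
      simp [W.2.1, hq]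
    haveI := Fintype.ofFinite {W : Submodule F (Fin 2 ⊕ Fin 2 → F) // finrank F W = 2 ∧ ∀ u ∈ W, ∀ v ∈ W, sf u v = 0}
    have h := Nat.card_congr (Equiv.sigmaFiberEquiv π)
    rw [Nat.card_sigma, Finset.sum_congr rfl fun W _ => hfib W, Finset.sum_const, Finset.card_univ, smul_eq_mul,
      ← Nat.card_eq_fintype_card, card_frame le_rfl] at h
    rw [Finset.prod_range_succ, Finset.prod_range_one, Fin.prod_univ_two] at h
    simp only [Fin.val_zero, Fin.val_one, pow_zero, pow_one, Nat.reduceMul, Nat.reduceSub, ← hq] at h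
    refine Nat.eq_of_mul_eq_mul_right (show 0 < (q ^ 2 - 1) * (q ^ 2 - q) from ?_) (h.trans ?_)
    · refine Nat.mul_pos (Nat.sub_pos_of_lt (Nat.one_lt_pow (by omega) (by omega))) (Nat.sub_pos_of_lt ?_)
      nlinarith
    · rw [ha]
      have e1 : (a + 2) ^ 4 - 1 = (a + 1) * (a + 3) * ((a + 2) ^ 2 + 1) := by
        refine Nat.sub_eq_of_eq_add ?_; ring
      have e2 : (a + 2) ^ 3 - (a + 2) = (a + 1) * (a + 2) * (a + 3) := by
        refine Nat.sub_eq_of_eq_add ?_; ring
      have e3 : (a + 2) ^ 2 - 1 = (a + 1) * (a + 3) := by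
        refine Nat.sub_eq_of_eq_add ?_; ring
      have e4 : (a + 2) ^ 2 - (a + 2) = (a + 1) * (a + 2) := by
        refine Nat.sub_eq_of_eq_add ?_; ring
      rw [e1, e2, e3, e4]
      ring
  · intro v hv
    let t1 : Frame 2 F 1 := ⟨fun _ => v, linearIndependent_unique_iff.2 hv, fun _ _ => sf_self v⟩
    let X := {x : Fin 2 ⊕ Fin 2 → F // x ∉ Submodule.span F (Set.range t1.1) ∧ ∀ i, sf (t1.1 i) x = 0}
    let toF : X → Frame 2 F 2 := fun x => ⟨Fin.cons x.1 t1.1,
      linearIndependent_fin_cons.2 ⟨t1.2.1, x.2.1⟩, fun i j => by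
        induction i using Fin.cases <;> induction j using Fin.cases <;> simp only [Fin.cons_zero, Fin.cons_succ]
        · exact sf_self _
        · rw [sf_swap, x.2.2, neg_zero]
        · exact x.2.2 _
        · exact t1.2.2 _ _⟩
    let π : X → {W : Submodule F (Fin 2 ⊕ Fin 2 → F) // finrank F W = 2 ∧ v ∈ W ∧ ∀ u ∈ W, ∀ w ∈ W, sf u w = 0} :=
      fun x => ⟨_, hspan (toF x), Submodule.subset_span ⟨1, rfl⟩, hspiso (toF x)⟩
    have hrange : ∀ W : Submodule F (Fin 2 ⊕ Fin 2 → F), v ∈ W → Submodule.span F (Set.range t1.1) ≤ W :=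
      fun W h => Submodule.span_le.2 (by rintro _ ⟨i, rfl⟩; exact h)
    have hfib : ∀ W, Nat.card {x : X // π x = W} = q ^ 2 - q := by
      intro W
      let L := Submodule.span F (Set.range t1.1)
      have e : {x : X // π x = W} ≃ {w : W.1 // (w : Fin 2 ⊕ Fin 2 → F) ∉ L} :=
        { toFun := fun x => ⟨⟨x.1.1, by
              rw [← congrArg Subtype.val x.2]; exact Submodule.subset_span ⟨0, rfl⟩⟩, x.1.2.1⟩
          invFun := fun w => ⟨⟨w.1.1, w.2, fun i => W.2.2.2 _ W.2.2.1 _ w.1.2⟩,
            Subtype.ext (hW2 W.1 W.2.1 _ fun i => by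
              induction i using Fin.cases
              · exact w.1.2
              · exact W.2.2.1).symm⟩
          left_inv := fun x => rfl
          right_inv := fun w => rfl }
      rw [Nat.card_congr e]
      have hsum : Nat.card {w : W.1 // (w : Fin 2 ⊕ Fin 2 → F) ∉ L} + Nat.card L = Nat.card W.1 := by
        rw [← Nat.card_congr (Submodule.comapSubtypeEquivOfLe (hrange _ W.2.2.1)).toEquiv, add_comm, ← Nat.card_sum]
        exact Nat.card_congr (Equiv.sumCompl fun w : W.1 => (w : Fin 2 ⊕ Fin 2 → F) ∈ L)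
      rw [Module.natCard_eq_pow_finrank (K := F) (V := L), Module.natCard_eq_pow_finrank (K := F) (V := W.1),
        Nat.card_eq_fintype_card (α := F), W.2.1, finrank_span_eq_card t1.2.1, Fintype.card_fin, pow_one,
        ← hq] at hsum
      omega
    haveI := Fintype.ofFinite {W : Submodule F (Fin 2 ⊕ Fin 2 → F) //
      finrank F W = 2 ∧ v ∈ W ∧ ∀ u ∈ W, ∀ w ∈ W, sf u w = 0}
    have h := Nat.card_congr (Equiv.sigmaFiberEquiv π)
    rw [Nat.card_sigma, Finset.sum_congr rfl fun W _ => hfib W, Finset.sum_const, Finset.card_univ, smul_eq_mul,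
      ← Nat.card_eq_fintype_card, card_extend (by omega) t1] at h
    rw [← hq, pow_one] at h
    refine Nat.eq_of_mul_eq_mul_right (show 0 < q ^ 2 - q from Nat.sub_pos_of_lt (by nlinarith)) (h.trans ?_)
    rw [ha]
    have e2 : (a + 2) ^ 3 - (a + 2) = (a + 1) * (a + 2) * (a + 3) := by
      refine Nat.sub_eq_of_eq_add ?_; ring
    have e4 : (a + 2) ^ 2 - (a + 2) = (a + 1) * (a + 2) := by
      refine Nat.sub_eq_of_eq_add ?_; ring
    rw [show 2 * 2 - 1 = 3 from rfl, e2, e4]
    ring

end CfsgLib.Classical.SympCount
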