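import Mathlib
import Cfsg.Agent.Lib.Classical.SympDerangement

/-!
# The number of unipotent elements of a symplectic group
-/

set_option autoImplicit false
set_option linter.all false

namespace CfsgLib.Classical.SympCount

open Matrix Module

universe u v

variable {F : Type u} [Field F]

section Split

variable {V : Type v} [AddCommGroup V] [Module F V] [FiniteDimensional F V] {B : LinearMap.BilinForm F V}

/-- the displacement endomorphism -/
def disp (g : V ≃ₗ[F] V) : Module.End F V := (g : V →ₗ[F] V) - 1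

theorem disp_apply (g : V ≃ₗ[F] V) (x : V) : disp g x = g x - x := rfl

/-- unipotent -/
def IsUni (g : V ≃ₗ[F] V) : Prop := IsNilpotent (disp g)

/-- no fixed vectors -/
def IsDer (g : V ≃ₗ[F] V) : Prop := ∀ x, g x = x → x = 0

/-- the generalised fixed space -/
noncomputable def uniPart (g : V ≃ₗ[F] V) : Submodule F V := LinearMap.ker (disp g ^ finrank F V)

theorem disp_pow_zero_iff (g : V ≃ₗ[F] V) (x : V) (j : ℕ) (h : (disp g ^ j) x = 0) : x ∈ uniPart g := by
  rw [uniPart, LinearMap.mem_ker]
  rcases le_or_gt j (finrank F V) with hj | hj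
  · rw [show finrank F V = (finrank F V - j) + j by omega, pow_add, Module.End.mul_apply, h, map_zero]
  · have : LinearMap.ker (disp g ^ j) = LinearMap.ker (disp g ^ finrank F V) :=
      Module.End.ker_pow_eq_ker_pow_finrank_of_le hj.le
    rw [← LinearMap.mem_ker, ← this, LinearMap.mem_ker, h]

theorem uniPart_mapsTo (g : V ≃ₗ[F] V) : ∀ x ∈ uniPart g, g x ∈ uniPart g := by
  intro x hx
  rw [uniPart, LinearMap.mem_ker] at hx ⊢
  have hc : Commute (disp g ^ finrank F V) (g : Module.End F V) := by
    refine Commute.pow_left ?_ _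
    exact (Commute.refl _).sub_left (Commute.one_left _)
  have := LinearMap.congr_fun hc.eq x
  simp only [Module.End.mul_apply] at this
  rw [show g x = (g : Module.End F V) x from rfl, this, hx, map_zero]

variable (hB : B.Nondegenerate) (hA : B.IsAlt)
include hB hA


theorem uniPart_isCompl (g : isoGrp B) : IsCompl (uniPart g.1) (B.orthogonal (uniPart g.1)) := by
  obtain ⟨n, hn⟩ : ∃ n, n = finrank F V := ⟨_, rfl⟩
  obtain ⟨U, hU⟩ : ∃ U, U = LinearMap.range (disp g.1 ^ n) := ⟨_, rfl⟩
  obtain ⟨N', hN'⟩ : ∃ N', N' = disp g.1.symm := ⟨_, rfl⟩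
  have hadj : ∀ x y, B x (disp g.1 y) = B (N' x) y := by
    intro x y
    rw [hN', disp_apply, disp_apply, map_sub, map_sub, LinearMap.sub_apply, ← g.2 (g.1.symm x) y,
      LinearEquiv.apply_symm_apply]
  have hadjn : ∀ j x y, B x ((disp g.1 ^ j) y) = B ((N' ^ j) x) y := by
    intro j
    induction j with
    | zero => intro x y; rfl
    | succ j ih =>
      intro x y
      rw [pow_succ', Module.End.mul_apply, hadj, ih, ← Module.End.mul_apply, ← pow_succ]
  have hfac : N' = -(g.1.symm : Module.End F V) * disp g.1 := by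
    refine LinearMap.ext fun x => ?_
    show N' x = -(g.1.symm (disp g.1 x))
    rw [hN', disp_apply, disp_apply, map_sub, LinearEquiv.symm_apply_apply, neg_sub]
  have hcomm : Commute (-(g.1.symm : Module.End F V)) (disp g.1) := by
    refine Commute.neg_left (Commute.sub_right ?_ (Commute.one_right _))
    exact LinearMap.ext fun x => by simp
  have hle : U ≤ B.orthogonal (uniPart g.1) := by
    intro y hy x hx
    rw [hU] at hy
    obtain ⟨z, rfl⟩ := hy
    show B x _ = 0
    rw [hadjn, hfac, hcomm.mul_pow, Module.End.mul_apply]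
    rw [uniPart, LinearMap.mem_ker, ← hn] at hx
    rw [hx, map_zero, map_zero, LinearMap.zero_apply]
  have hdisj : Disjoint (uniPart g.1) U := by
    rw [Submodule.disjoint_def]
    intro x hx hxU
    rw [hU] at hxU
    obtain ⟨z, rfl⟩ := hxU
    rw [uniPart, LinearMap.mem_ker, ← hn, ← Module.End.mul_apply, ← pow_add] at hx
    have := disp_pow_zero_iff g.1 z _ hx
    rwa [uniPart, LinearMap.mem_ker, ← hn] at this
  have hrn : finrank F U + finrank F (uniPart g.1) = finrank F V := by
    rw [hU, uniPart, ← hn]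
    exact (LinearMap.finrank_range_add_finrank_ker (disp g.1 ^ n)).trans hn.symm
  have heq : U = B.orthogonal (uniPart g.1) := by
    refine Submodule.eq_of_le_of_finrank_eq hle ?_
    rw [LinearMap.BilinForm.finrank_orthogonal hB]
    omega
  rw [← heq]
  exact ⟨hdisj, codisjoint_iff.2 (Submodule.eq_top_of_disjoint _ _ (by omega) hdisj)⟩

theorem restrict_alt (W : Submodule F V) : (B.restrict W).IsAlt := fun x => hA x.1

theorem restrict_nondeg {W : Submodule F V} (h : IsCompl W (B.orthogonal W)) : (B.restrict W).Nondegenerate :=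
  (LinearMap.BilinForm.restrict_nondegenerate_iff_isCompl_orthogonal hA.isRefl).2 h

theorem orth_compl {W : Submodule F V} (h : IsCompl W (B.orthogonal W)) :
    IsCompl (B.orthogonal W) (B.orthogonal (B.orthogonal W)) := by
  rw [LinearMap.BilinForm.orthogonal_orthogonal hB hA.isRefl]
  exact h.symm

/-- gluing isometries of the two parts -/
noncomputable def glue (hB : B.Nondegenerate) (hA : B.IsAlt) {W : Submodule F V} (h : IsCompl W (B.orthogonal W)) (a : isoGrp (B.restrict W))
    (b : isoGrp (B.restrict (B.orthogonal W))) : isoGrp B :=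
  ⟨(Submodule.prodEquivOfIsCompl _ _ h).symm.trans ((a.1.prodCongr b.1).trans (Submodule.prodEquivOfIsCompl _ _ h)), by
    intro u v
    obtain ⟨⟨u1, u2⟩, rfl⟩ := (Submodule.prodEquivOfIsCompl _ _ h).surjective u
    obtain ⟨⟨v1, v2⟩, rfl⟩ := (Submodule.prodEquivOfIsCompl _ _ h).surjective v
    simp only [LinearEquiv.trans_apply, LinearEquiv.symm_apply_apply]
    simp only [LinearEquiv.prodCongr_apply, Submodule.coe_prodEquivOfIsCompl', map_add, LinearMap.add_apply]
    have h1 : ∀ (x : W) (y : B.orthogonal W), B (x : V) (y : V) = 0 := fun x y => y.2 x.1 x.2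
    have h2 : ∀ (x : W) (y : B.orthogonal W), B (y : V) (x : V) = 0 := fun x y => by
      rw [CfsgLib.Classical.Alt.swap hA (x : V) (y : V), h1, neg_zero]
    have e1 : B (a.1 u1 : V) (a.1 v1 : V) = B (u1 : V) (v1 : V) := a.2 u1 v1
    have e2 : B (b.1 u2 : V) (b.1 v2 : V) = B (u2 : V) (v2 : V) := b.2 u2 v2
    rw [h1, h1, h2, h2, e1, e2]⟩

theorem glue_left {W : Submodule F V} (h : IsCompl W (B.orthogonal W)) (a : isoGrp (B.restrict W))
    (b : isoGrp (B.restrict (B.orthogonal W))) (x : W) : (glue hB hA h a b).1 x = (a.1 x : V) := by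
  show Submodule.prodEquivOfIsCompl _ _ h ((a.1.prodCongr b.1) ((Submodule.prodEquivOfIsCompl _ _ h).symm x)) = _
  simp

theorem glue_right {W : Submodule F V} (h : IsCompl W (B.orthogonal W)) (a : isoGrp (B.restrict W))
    (b : isoGrp (B.restrict (B.orthogonal W))) (x : B.orthogonal W) : (glue hB hA h a b).1 x = (b.1 x : V) := by
  show Submodule.prodEquivOfIsCompl _ _ h ((a.1.prodCongr b.1) ((Submodule.prodEquivOfIsCompl _ _ h).symm x)) = _
  simp

omit hA hB in
/-- restriction of an isometry to an invariant subspace -/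
noncomputable def restrictIso (g : isoGrp B) (W : Submodule F V) (hW : ∀ x ∈ W, g.1 x ∈ W) : isoGrp (B.restrict W) :=
  ⟨LinearEquiv.ofBijective ((g.1 : V →ₗ[F] V).restrict hW)
    ⟨fun a b e => Subtype.ext (g.1.injective (congrArg Subtype.val e)),
     LinearMap.surjective_of_injective (fun a b e => Subtype.ext (g.1.injective (congrArg Subtype.val e)))⟩,
   fun u v => g.2 u.1 v.1⟩

theorem orth_mapsTo (g : isoGrp B) (W : Submodule F V) (hW : ∀ x ∈ W, g.1 x ∈ W) :
    ∀ y ∈ B.orthogonal W, g.1 y ∈ B.orthogonal W := by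
  intro y hy x hx
  obtain ⟨x', hx'⟩ := (restrictIso g W hW).1.surjective ⟨x, hx⟩
  have e : g.1 (x' : V) = x := congrArg Subtype.val hx'
  show B x (g.1 y) = 0
  rw [← e, g.2]
  exact hy x'.1 x'.2

theorem glue_restrict {W : Submodule F V} (h : IsCompl W (B.orthogonal W)) (g : isoGrp B) (hW : ∀ x ∈ W, g.1 x ∈ W) :
    glue hB hA h (restrictIso g W hW) (restrictIso g _ (orth_mapsTo hB hA g W hW)) = g := by
  refine Subtype.ext (LinearEquiv.ext fun x => ?_)
  obtain ⟨⟨a, b⟩, rfl⟩ := (Submodule.prodEquivOfIsCompl _ _ h).surjective x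
  rw [Submodule.coe_prodEquivOfIsCompl', map_add, map_add, glue_left, glue_right]
  rfl

/-- stabiliser of a nondegenerate subspace -/
noncomputable def stabEquiv (hB : B.Nondegenerate) (hA : B.IsAlt) {W : Submodule F V} (h : IsCompl W (B.orthogonal W)) :
    {g : isoGrp B // ∀ x ∈ W, g.1 x ∈ W} ≃ isoGrp (B.restrict W) × isoGrp (B.restrict (B.orthogonal W)) where
  toFun g := (restrictIso g.1 W g.2, restrictIso g.1 _ (orth_mapsTo hB hA g.1 W g.2))
  invFun x := ⟨glue hB hA h x.1 x.2, fun y hy => by
    rw [show y = ((⟨y, hy⟩ : W) : V) from rfl, glue_left]; exact (x.1.1 _).2⟩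
  left_inv g := Subtype.ext (glue_restrict hB hA h g.1 g.2)
  right_inv x := Prod.ext (Subtype.ext (LinearEquiv.ext fun y => Subtype.ext (glue_left hB hA h x.1 x.2 y)))
    (Subtype.ext (LinearEquiv.ext fun y => Subtype.ext (glue_right hB hA h x.1 x.2 y)))

/-- the fibre of `uniPart` -/
noncomputable def fibreEquiv (hB : B.Nondegenerate) (hA : B.IsAlt) {W : Submodule F V} (h : IsCompl W (B.orthogonal W)) :
    {g : isoGrp B // uniPart g.1 = W} ≃
      {a : isoGrp (B.restrict W) // IsUni a.1} × {b : isoGrp (B.restrict (B.orthogonal W)) // IsDer b.1} where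
  toFun g :=
    have hW : ∀ x ∈ W, g.1.1 x ∈ W := fun x hx => by
      have h1 := uniPart_mapsTo g.1.1
      rw [g.2] at h1
      exact h1 x hx
    (⟨restrictIso g.1 W hW, ⟨finrank F V, LinearMap.ext fun x => Subtype.ext (by
      have key : ∀ j (x : W), (((disp (restrictIso g.1 W hW).1) ^ j) x : V) = (disp g.1.1 ^ j) (x : V) := by
        intro j
        induction j with
        | zero => intro x; rfl
        | succ j ih =>
          intro x
          rw [pow_succ, Module.End.mul_apply, pow_succ, Module.End.mul_apply, ih]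
          rfl
      rw [key]
      have hx : (x : V) ∈ uniPart g.1.1 := g.2.symm ▸ x.2
      exact hx)⟩⟩,
     ⟨restrictIso g.1 _ (orth_mapsTo hB hA g.1 W hW), fun y hy => by
      have hfix : g.1.1 (y : V) = y := congrArg Subtype.val hy
      have hy1 : (y : V) ∈ uniPart g.1.1 := disp_pow_zero_iff _ _ 1 (by rw [pow_one, disp_apply, hfix, sub_self])
      rw [g.2] at hy1
      exact Subtype.ext (Submodule.disjoint_def.1 h.disjoint _ hy1 y.2)⟩)
  invFun x := ⟨glue hB hA h x.1.1 x.2.1, by
    obtain ⟨⟨a, ha⟩, ⟨b, hb⟩⟩ := x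
    obtain ⟨G, hG⟩ : ∃ G, G = glue hB hA h a b := ⟨_, rfl⟩
    rw [← hG]
    have keyl : ∀ j (x : W), (disp G.1 ^ j) (x : V) = (((disp a.1) ^ j) x : V) := by
      intro j
      induction j with
      | zero => intro x; rfl
      | succ j ih =>
        intro x
        rw [pow_succ, Module.End.mul_apply, pow_succ, Module.End.mul_apply, disp_apply, hG, glue_left, ← hG, ← ih]
        rfl
    have keyr : ∀ j (x : B.orthogonal W), (disp G.1 ^ j) (x : V) = (((disp b.1) ^ j) x : V) := by
      intro j
      induction j with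
      | zero => intro x; rfl
      | succ j ih =>
        intro x
        rw [pow_succ, Module.End.mul_apply, pow_succ, Module.End.mul_apply, disp_apply, hG, glue_right, ← hG, ← ih]
        rfl
    have hinjd : Function.Injective (disp b.1) := by
      rw [← LinearMap.ker_eq_bot, LinearMap.ker_eq_bot']
      intro y hy
      exact hb y (sub_eq_zero.1 hy)
    obtain ⟨e, he⟩ := ha
    refine le_antisymm (fun v hv => ?_) (fun v hv => ?_)
    · obtain ⟨⟨p, r⟩, rfl⟩ := (Submodule.prodEquivOfIsCompl _ _ h).surjective v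
      rw [Submodule.coe_prodEquivOfIsCompl'] at hv ⊢
      have hp : (p : V) ∈ uniPart G.1 := disp_pow_zero_iff _ _ e (by rw [keyl, he]; rfl)
      have hr : (r : V) ∈ uniPart G.1 := by simpa using sub_mem hv hp
      rw [uniPart, LinearMap.mem_ker, keyr] at hr
      have h1 : (disp b.1 ^ finrank F V) r = (disp b.1 ^ finrank F V) 0 := by
        rw [map_zero]; exact Subtype.ext hr
      have : r = 0 := by
        have hin : Function.Injective ⇑(disp b.1 ^ finrank F V) := by
          rw [Module.End.coe_pow]; exact hinjd.iterate _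
        exact hin h1
      rw [this]; simp
    · exact disp_pow_zero_iff _ _ e (by rw [show v = ((⟨v, hv⟩ : W) : V) from rfl, keyl, he]; rfl)⟩
  left_inv g := Subtype.ext (glue_restrict hB hA h g.1 _)
  right_inv x := Prod.ext (Subtype.ext (Subtype.ext (LinearEquiv.ext fun y => Subtype.ext (glue_left hB hA h _ _ y))))
    (Subtype.ext (Subtype.ext (LinearEquiv.ext fun y => Subtype.ext (glue_right hB hA h _ _ y))))

theorem even_finrank : Even (finrank F V) := by
  obtain ⟨m, a, β, h1, h2, h3, h4⟩ := CfsgLib.Classical.Alt.exists_sympBasis _ (rfl : finrank F V = finrank F V) B hA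
  have ha : a = 0 := by
    by_contra h
    exact β.ne_zero (Sum.inr ⟨0, Nat.pos_of_ne_zero h⟩) (hB.1 _ (fun v => h4 _ v))
  subst ha
  exact ⟨m, by rw [Module.finrank_eq_card_basis β]; simp [Fintype.card_sum]⟩

end Split

section Main

variable [Fintype F]

theorem card_transport {V : Type v} [AddCommGroup V] [Module F V] {B : LinearMap.BilinForm F V}
    {W : Type v} [AddCommGroup W] [Module F W] {B' : LinearMap.BilinForm F W}
    (e : W ≃ₗ[F] V) (he : ∀ x y, B (e x) (e y) = B' x y) :
    Nat.card {a : isoGrp B' // IsUni a.1} = Nat.card {a : isoGrp B // IsUni a.1} := by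
  let φ : isoGrp B' ≃ isoGrp B :=
    { toFun := fun a => ⟨e.symm.trans (a.1.trans e), fun u v => by
        simp only [LinearEquiv.trans_apply]; rw [he, a.2, ← he]; simp⟩
      invFun := fun a => ⟨e.trans (a.1.trans e.symm), fun u v => by
        simp only [LinearEquiv.trans_apply]; rw [← he, e.apply_symm_apply, e.apply_symm_apply, a.2, he]⟩
      left_inv := fun a => Subtype.ext (LinearEquiv.ext fun x => by simp)
      right_inv := fun a => Subtype.ext (LinearEquiv.ext fun x => by simp) }
  refine Nat.card_congr (Equiv.subtypeEquiv φ fun a => ?_)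
  have key : ∀ j, disp (φ a).1 ^ j = e.conjRingEquiv (disp a.1 ^ j) := by
    intro j
    rw [map_pow]
    congr 1
    exact LinearMap.ext fun x => by simp [disp, φ]
  constructor
  · rintro ⟨j, hj⟩; exact ⟨j, by rw [key, hj, map_zero]⟩
  · rintro ⟨j, hj⟩; rw [key] at hj; exact ⟨j, e.conjRingEquiv.injective (by rw [hj, map_zero])⟩

theorem card_unipotent : ∀ (m : ℕ) {V : Type v} [AddCommGroup V] [Module F V] [FiniteDimensional F V]
    (B : LinearMap.BilinForm F V), B.Nondegenerate → B.IsAlt → finrank F V = 2 * m →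
    Nat.card {a : isoGrp B // IsUni a.1} = Fintype.card F ^ (2 * m ^ 2) := by
  intro m
  induction m using Nat.strong_induction_on with
  | _ m ih =>
  intro V _ _ _ B hB hA hV
  classical
  haveI : Finite V := Module.finite_of_finite F
  haveI : Finite (V ≃ₗ[F] V) := Finite.of_injective (fun g => (g : V → V)) DFunLike.coe_injective
  haveI : Finite (Submodule F V) := Finite.of_injective (fun W => (W : Set V)) SetLike.coe_injective
  obtain ⟨q, hq⟩ : ∃ q, q = Fintype.card F := ⟨_, rfl⟩
  rw [← hq]
  have hq1 : (1 : ℚ) < q := by rw [hq]; exact_mod_cast Fintype.one_lt_card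
  have hSp : ∀ k, (Nat.card (Matrix.symplecticGroup (Fin k) F) : ℚ) = UniSeries.spOrd (q : ℚ) k := by
    intro k
    rw [CfsgLib.Classical.card_symplectic, UniSeries.spOrd, UniSeries.qfac, ← hq, Nat.cast_mul, Nat.cast_pow, Nat.cast_prod]
    congr 1
    refine Finset.prod_congr rfl fun i _ => ?_
    rw [Nat.cast_sub (Nat.one_le_pow _ _ (hq ▸ Fintype.card_pos)), Nat.cast_pow, ← pow_mul, Nat.cast_one]
  let T := {W : Submodule F V // IsCompl W (B.orthogonal W)}
  letI : Fintype T := Fintype.ofFinite _
  let π : isoGrp B → T := fun g => ⟨uniPart g.1, uniPart_isCompl hB hA g⟩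
  have hdimW : ∀ W : T, ∃ k, k ≤ m ∧ finrank F W.1 = 2 * k ∧ finrank F (B.orthogonal W.1) = 2 * (m - k) := by
    intro W
    obtain ⟨k, hk⟩ := even_finrank (restrict_nondeg hB hA W.2) (restrict_alt hB hA W.1)
    have hadd := Submodule.finrank_add_eq_of_isCompl W.2
    exact ⟨k, by omega, by omega, by omega⟩
  choose kk hkm hk1 hk2 using hdimW
  have hder : ∀ W : T, (Nat.card {b : isoGrp (B.restrict (B.orthogonal W.1)) // IsDer b.1} : ℚ) =
      UniSeries.spOrd (q : ℚ) (m - kk W) * UniSeries.derProp (q : ℚ) (m - kk W) := by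
    intro W
    have h' := orth_compl hB hA W.2
    rw [← hSp]
    have := card_derangements (restrict_nondeg hB hA h') (restrict_alt hB hA _) (hk2 W)
    rw [← hq] at this
    exact this
  have hiso : (Nat.card (isoGrp B) : ℚ) = UniSeries.spOrd (q : ℚ) m := by rw [card_isoGrp hB hA hV, hSp]
  -- the equation
  have heq : (Nat.card (isoGrp B) : ℚ) = ∑ W : T, (Nat.card {a : isoGrp (B.restrict W.1) // IsUni a.1} : ℚ) *
      Nat.card {b : isoGrp (B.restrict (B.orthogonal W.1)) // IsDer b.1} := by
    rw [← Nat.card_congr (Equiv.sigmaFiberEquiv π), Nat.card_sigma, Nat.cast_sum]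
    refine Finset.sum_congr rfl fun W _ => ?_
    rw [Nat.card_congr ((Equiv.subtypeEquivRight (fun g => ⟨fun h => congrArg Subtype.val h, fun h => Subtype.ext h⟩)).trans
      (fibreEquiv hB hA W.2)), Nat.card_prod, Nat.cast_mul]
  -- number of nondegenerate subspaces of each dimension
  have hnum : ∀ k ≤ m, ((Finset.univ.filter (fun W : T => kk W = k)).card : ℚ) *
      (UniSeries.spOrd (q : ℚ) k * UniSeries.spOrd (q : ℚ) (m - k)) = UniSeries.spOrd (q : ℚ) m := by
    intro k hk
    obtain ⟨β, hβ⟩ := exists_basis hB hA hV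
    obtain ⟨W₀, hW₀⟩ : ∃ W₀, W₀ = Submodule.span F (Set.range (fun i : Fin k ⊕ Fin k => β (i.map (Fin.castLE hk) (Fin.castLE hk)))) := ⟨_, rfl⟩
    have hli : LinearIndependent F (fun i : Fin k ⊕ Fin k => β (i.map (Fin.castLE hk) (Fin.castLE hk))) :=
      β.linearIndependent.comp _ ((Fin.castLE_injective hk).sumMap (Fin.castLE_injective hk))
    have hW₀d : finrank F W₀ = 2 * k := by
      rw [hW₀, finrank_span_eq_card hli]; simp [Fintype.card_sum, two_mul]
    have hW₀n : IsCompl W₀ (B.orthogonal W₀) := by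
      refine (LinearMap.BilinForm.restrict_nondegenerate_iff_isCompl_orthogonal hA.isRefl).1 ?_
      subst hW₀
      refine (LinearMap.BilinForm.nondegenerate_iff_det_ne_zero (Basis.span hli)).2 ?_
      have e : LinearMap.BilinForm.toMatrix (Basis.span hli) (B.restrict _) = -Matrix.J (Fin k) F := by
        ext i j
        rw [LinearMap.BilinForm.toMatrix_apply]
        show B ((Basis.span hli i : _) : V) ((Basis.span hli j : _) : V) = _
        rw [Basis.span_apply, Basis.span_apply, hβ]
        rcases i with i | i <;> rcases j with j | j <;> simp [Matrix.J, Matrix.one_apply]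
      rw [e]
      refine (Matrix.isUnit_det_of_left_inverse (B := Matrix.J (Fin k) F) ?_).ne_zero
      rw [Matrix.mul_neg, Matrix.J_squared, neg_neg]
    let W0 : T := ⟨W₀, hW₀n⟩
    have hk0 : kk W0 = k := by have := hk1 W0; rw [show W0.1 = W₀ from rfl, hW₀d] at this; omega
    let S := {W : T // kk W = k}
    let τ : isoGrp B → S := fun g => ⟨⟨W₀.map (g.1 : V →ₗ[F] V), by
      have horth : B.orthogonal (W₀.map (g.1 : V →ₗ[F] V)) = (B.orthogonal W₀).map (g.1 : V →ₗ[F] V) := by
        ext y
        constructor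
        · intro hy
          refine ⟨g.1.symm y, fun x hx => ?_, g.1.apply_symm_apply y⟩
          show B x (g.1.symm y) = 0
          rw [← g.2, g.1.apply_symm_apply]
          exact hy _ ⟨x, hx, rfl⟩
        · rintro ⟨z, hz, rfl⟩ x ⟨w, hw, rfl⟩
          show B (g.1 w) (g.1 z) = 0
          rw [g.2]; exact hz w hw
      rw [horth]
      exact (Submodule.orderIsoMapComap g.1).isCompl hW₀n⟩, by
      have := hk1 ⟨W₀.map (g.1 : V →ₗ[F] V), by
        have horth : B.orthogonal (W₀.map (g.1 : V →ₗ[F] V)) = (B.orthogonal W₀).map (g.1 : V →ₗ[F] V) := by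
          ext y
          constructor
          · intro hy
            refine ⟨g.1.symm y, fun x hx => ?_, g.1.apply_symm_apply y⟩
            show B x (g.1.symm y) = 0
            rw [← g.2, g.1.apply_symm_apply]
            exact hy _ ⟨x, hx, rfl⟩
          · rintro ⟨z, hz, rfl⟩ x ⟨w, hw, rfl⟩
            show B (g.1 w) (g.1 z) = 0
            rw [g.2]; exact hz w hw
        rw [horth]
        exact (Submodule.orderIsoMapComap g.1).isCompl hW₀n⟩
      simp only [LinearEquiv.finrank_map_eq] at this
      omega⟩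
    have hτ : Function.Surjective τ := by
      rintro ⟨W, hW⟩
      have hd : finrank F W.1 = 2 * k := by rw [hk1 W, hW]
      obtain ⟨b1, hb1⟩ := exists_basis (restrict_nondeg hB hA hW₀n) (restrict_alt hB hA W₀) hW₀d
      obtain ⟨b2, hb2⟩ := exists_basis (restrict_nondeg hB hA W.2) (restrict_alt hB hA W.1) hd
      let f : W₀ →ₗ[F] V := W.1.subtype ∘ₗ (b1.equiv b2 (Equiv.refl _)).toLinearMap
      have hf : Function.Injective f := W.1.injective_subtype.comp (b1.equiv b2 (Equiv.refl _)).injective
      have hiso : ∀ x y : W₀, B (f x) (f y) = B x y := by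
        have : B.compl₁₂ f f = B.compl₁₂ W₀.subtype W₀.subtype := by
          refine b1.ext fun i => b1.ext fun j => ?_
          show B (f (b1 i)) (f (b1 j)) = B (b1 i : V) (b1 j : V)
          simp only [f, LinearMap.comp_apply, LinearEquiv.coe_coe, Basis.equiv_apply, Equiv.refl_apply]
          exact (hb2 i j).trans (hb1 i j).symm
        exact fun x y => congrArg (fun Φ : _ →ₗ[F] _ →ₗ[F] F => Φ x y) this
      obtain ⟨g, hg, hgx⟩ := CfsgLib.Classical.Alt.witt hB hA W₀ f hf hiso
      refine ⟨⟨g, hg⟩, Subtype.ext (Subtype.ext (Submodule.eq_of_le_of_finrank_eq ?_ ?_))⟩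
      · rintro _ ⟨x, hx, rfl⟩
        show g x ∈ W.1
        rw [show x = ((⟨x, hx⟩ : W₀) : V) from rfl, hgx]
        exact ((b1.equiv b2 (Equiv.refl _)) _).2
      · show finrank F (W₀.map (g : V →ₗ[F] V)) = _
        rw [LinearEquiv.finrank_map_eq, hW₀d, hd]
    have hfib : ∀ w : S, Nat.card {g // τ g = w} = Nat.card (isoGrp (B.restrict W₀)) * Nat.card (isoGrp (B.restrict (B.orthogonal W₀))) := by
      intro w
      obtain ⟨g₀, rfl⟩ := hτ w
      rw [← Nat.card_prod, ← Nat.card_congr (stabEquiv hB hA hW₀n)]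
      refine Nat.card_congr (Equiv.subtypeEquiv (Equiv.mulLeft g₀⁻¹) fun g => ?_)
      constructor
      · intro e x hx
        have e1 : W₀.map (g.1 : V →ₗ[F] V) = W₀.map (g₀.1 : V →ₗ[F] V) := congrArg (fun w : S => w.1.1) e
        have : g.1 x ∈ W₀.map (g₀.1 : V →ₗ[F] V) := e1 ▸ ⟨x, hx, rfl⟩
        obtain ⟨y, hy, hxy⟩ := this
        show g₀.1.symm (g.1 x) ∈ W₀
        rw [← hxy]
        show g₀.1.symm (g₀.1 y) ∈ W₀
        rwa [LinearEquiv.symm_apply_apply]
      · intro e
        refine Subtype.ext (Subtype.ext (Submodule.eq_of_le_of_finrank_eq ?_ ?_))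
        · rintro _ ⟨x, hx, rfl⟩
          exact ⟨g₀.1.symm (g.1 x), e x hx, g₀.1.apply_symm_apply _⟩
        · show finrank F (W₀.map (g.1 : V →ₗ[F] V)) = finrank F (W₀.map (g₀.1 : V →ₗ[F] V))
          rw [LinearEquiv.finrank_map_eq, LinearEquiv.finrank_map_eq]
    letI : Fintype S := Fintype.ofFinite _
    have h2 := Nat.card_congr (Equiv.sigmaFiberEquiv τ)
    rw [Nat.card_sigma, Finset.sum_congr rfl (fun w _ => hfib w), Finset.sum_const, smul_eq_mul, Finset.card_univ,
      card_isoGrp (restrict_nondeg hB hA hW₀n) (restrict_alt hB hA W₀) hW₀d,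
      card_isoGrp (restrict_nondeg hB hA (orth_compl hB hA hW₀n)) (restrict_alt hB hA _)
        (show finrank F (B.orthogonal W₀) = 2 * (m - k) by have := hk2 W0; rw [hk0] at this; exact this)] at h2
    rw [← hiso, ← h2, ← hSp, ← hSp, Fintype.card_subtype]
    push_cast
    ring
  -- split by dimension
  have hsplit : (Nat.card (isoGrp B) : ℚ) = ∑ k ∈ Finset.range (m + 1), ∑ W ∈ Finset.univ.filter (fun W : T => kk W = k),
      (Nat.card {a : isoGrp (B.restrict W.1) // IsUni a.1} : ℚ) * (UniSeries.spOrd (q : ℚ) (m - k) * UniSeries.derProp (q : ℚ) (m - k)) := by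
    rw [heq, ← Finset.sum_fiberwise_of_maps_to (g := kk) (t := Finset.range (m + 1))
      (fun W _ => Finset.mem_range.2 (Nat.lt_succ_of_le (hkm W)))]
    refine Finset.sum_congr rfl fun k _ => Finset.sum_congr rfl fun W hW => ?_
    rw [hder, (Finset.mem_filter.1 hW).2]
  have hsmall : ∀ k ∈ Finset.range m, (∑ W ∈ Finset.univ.filter (fun W : T => kk W = k),
      (Nat.card {a : isoGrp (B.restrict W.1) // IsUni a.1} : ℚ) * (UniSeries.spOrd (q : ℚ) (m - k) * UniSeries.derProp (q : ℚ) (m - k))) =
      UniSeries.spOrd (q : ℚ) m * ((q : ℚ) ^ (2 * k ^ 2) / UniSeries.spOrd (q : ℚ) k * UniSeries.derProp (q : ℚ) (m - k)) := by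
    intro k hk
    have hkm' := Finset.mem_range.1 hk
    rw [← hnum k hkm'.le, Finset.sum_congr rfl (g := fun _ => (q : ℚ) ^ (2 * k ^ 2) * (UniSeries.spOrd (q : ℚ) (m - k) * UniSeries.derProp (q : ℚ) (m - k))) (fun W hW => by
      have hWk := (Finset.mem_filter.1 hW).2
      rw [ih k hkm' _ (restrict_nondeg hB hA W.2) (restrict_alt hB hA W.1) (by rw [hk1, hWk]), ← hq, Nat.cast_pow]),
      Finset.sum_const, nsmul_eq_mul]
    have h3 := UniSeries.spOrd_ne hq1 k
    field_simp
  -- the top term
  obtain ⟨Top, hTop⟩ : ∃ W : T, W.1 = ⊤ := ⟨⟨⊤, by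
      rw [show B.orthogonal ⊤ = ⊥ by
        exact (Submodule.finrank_eq_zero).1 (by rw [LinearMap.BilinForm.finrank_orthogonal hB, finrank_top]; omega)]
      exact isCompl_top_bot⟩, rfl⟩
  have htop : (Finset.univ.filter (fun W : T => kk W = m)) = {Top} := by
    ext W
    simp only [Finset.mem_filter, Finset.mem_univ, true_and, Finset.mem_singleton]
    constructor
    · intro h
      refine Subtype.ext (hTop ▸ Submodule.eq_top_of_finrank_eq ?_)
      rw [hk1, h, hV]
    · rintro rfl
      have := hk1 W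
      rw [hTop, finrank_top, hV] at this
      omega
  rw [hsplit, Finset.sum_range_succ, Finset.sum_congr rfl hsmall, htop, Finset.sum_singleton, Nat.sub_self m,
    show (UniSeries.spOrd (q : ℚ) 0 * UniSeries.derProp (q : ℚ) 0) = 1 by simp [UniSeries.spOrd, UniSeries.qfac, UniSeries.derProp, UniSeries.tup],
    mul_one, card_transport (B := B) (LinearEquiv.ofTop Top.1 hTop) (fun x y => rfl), ← Finset.mul_sum] at hiso
  have hconv := UniSeries.convolution hq1 m
  rw [Finset.sum_range_succ, Nat.sub_self, show UniSeries.derProp (q : ℚ) 0 = 1 by simp [UniSeries.spOrd, UniSeries.qfac, UniSeries.derProp, UniSeries.tup], mul_one] at hconv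
  have h4 := UniSeries.spOrd_ne hq1 m
  have hfin : (Nat.card {a : isoGrp B // IsUni a.1} : ℚ) = (q : ℚ) ^ (2 * m ^ 2) := by
    have e : UniSeries.spOrd (q : ℚ) m * ((q : ℚ) ^ (2 * m ^ 2) / UniSeries.spOrd (q : ℚ) m) = (q : ℚ) ^ (2 * m ^ 2) := by
      field_simp
    linear_combination hiso - UniSeries.spOrd (q : ℚ) m * hconv + e
  exact_mod_cast hfin

end Main

end CfsgLib.Classical.SympCount
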