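import Cfsg.Agent.Lib.Classical.AltForm
import Cfsg.Agent.Lib.Classical.SymmDiag
import Cfsg.Agent.Lib.Classical.QuadDisc

/-!
# The type of an even-dimensional symmetric form and of tensor products of forms
-/

set_option autoImplicit false

namespace CfsgLib.Classical.TensorForms

open Module Matrix
open LinearMap (BilinForm)
open scoped TensorProduct Kronecker

variable {F : Type*} [Field F]

section Type_

variable {V : Type*} [AddCommGroup V] [Module F V]

theorem isSquare_det_congr {ι ι' : Type*} [Fintype ι] [DecidableEq ι] [Fintype ι'] [DecidableEq ι']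
    (B : BilinForm F V) (b : Basis ι F V) (b' : Basis ι' F V) (c : F) :
    IsSquare (c * (LinearMap.BilinForm.toMatrix b B).det) ↔ IsSquare (c * (LinearMap.BilinForm.toMatrix b' B).det) := by
  classical
  let e : ι' ≃ ι := b'.indexEquiv b
  let b'' := b'.reindex e
  have h1 : LinearMap.BilinForm.toMatrix b'' B = (LinearMap.BilinForm.toMatrix b' B).submatrix e.symm e.symm := by
    ext i j
    simp [b'', LinearMap.BilinForm.toMatrix_apply]
  have h2 := LinearMap.BilinForm.toMatrix_mul_basis_toMatrix b b'' B
  have h3 := congrArg Matrix.det h2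
  rw [Matrix.det_mul, Matrix.det_mul, Matrix.det_transpose] at h3
  have hP : (b.toMatrix b'').det ≠ 0 :=
    ((Matrix.isUnit_iff_isUnit_det _).1 (IsUnit.of_mul_eq_one _ (b.toMatrix_mul_toMatrix_flip b''))).ne_zero
  rw [h1, Matrix.det_submatrix_equiv_self] at h3
  rw [← h3, ← isSquare_mul_sq_iff hP (x := c * (LinearMap.BilinForm.toMatrix b B).det)]
  ring_nf

/-- A totally isotropic half forces the discriminant. -/
theorem isSquare_of_isotropic [FiniteDimensional F V] (B : BilinForm F V) (hS : B.IsSymm) {k : ℕ}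
    (hV : finrank F V = 2 * k) (X : Submodule F V) (hX : finrank F X = k) (hX0 : ∀ x ∈ X, ∀ y ∈ X, B x y = 0)
    {ι : Type*} [Fintype ι] [DecidableEq ι] (b : Basis ι F V) :
    IsSquare ((-1 : F) ^ k * (LinearMap.BilinForm.toMatrix b B).det) := by
  classical
  obtain ⟨Y, hY⟩ := X.exists_isCompl
  have hYk : finrank F Y = k := by
    have := Submodule.finrank_add_eq_of_isCompl hY
    omega
  let bx := Module.finBasisOfFinrankEq F X hX
  let by' := Module.finBasisOfFinrankEq F Y hYk
  let c : Basis (Fin k ⊕ Fin k) F V := (bx.prod by').map (Submodule.prodEquivOfIsCompl X Y hY)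
  rw [isSquare_det_congr B b c]
  have c1 : ∀ i, c (Sum.inl i) = (bx i : V) := fun i => by simp [c]
  have c2 : ∀ i, c (Sum.inr i) = (by' i : V) := fun i => by simp [c]
  set A : Matrix (Fin k) (Fin k) F := Matrix.of fun i j => B (bx i) (by' j) with hA
  set D : Matrix (Fin k) (Fin k) F := Matrix.of fun i j => B (by' i) (by' j) with hD
  have hG : LinearMap.BilinForm.toMatrix c B =
      fromBlocks (0 : Matrix (Fin k) (Fin k) F) (1 : Matrix (Fin k) (Fin k) F) (1 : Matrix (Fin k) (Fin k) F)
        (0 : Matrix (Fin k) (Fin k) F) * fromBlocks Aᵀ D 0 A := by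
    rw [fromBlocks_multiply]
    simp only [Matrix.zero_mul, Matrix.one_mul, zero_add, add_zero]
    ext (i | i) (j | j) <;> simp [LinearMap.BilinForm.toMatrix_apply, c1, c2, hA, hD]
    · exact hX0 _ (bx i).2 _ (bx j).2
    · simpa using hS.eq (by' i : V) (bx j : V)
  rw [hG, Matrix.det_mul, det_swap_blocks, Matrix.det_fromBlocks_zero₂₁, Matrix.det_transpose]
  exact ⟨(-1 : F) ^ k * A.det, by ring⟩

variable [Finite F]

/-- The converse: square discriminant gives a totally isotropic half. -/
theorem exists_isotropic_half (h2 : (2 : F) ≠ 0) : ∀ (k : ℕ) {V : Type*} [AddCommGroup V] [Module F V]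
    [FiniteDimensional F V] (B : BilinForm F V), B.IsSymm → B.Nondegenerate → finrank F V = 2 * k →
    ∀ b : Basis (Fin (2 * k)) F V, IsSquare ((-1 : F) ^ k * (LinearMap.BilinForm.toMatrix b B).det) →
    ∃ X : Submodule F V, finrank F X = k ∧ ∀ x ∈ X, ∀ y ∈ X, B x y = 0 := by
  intro k
  induction k with
  | zero => exact fun B _ _ _ _ _ => ⟨⊥, by simp, by simp⟩
  | succ k ih =>
    intro V _ _ _ B hS hB hV b hd
    classical
    obtain ⟨v, ho, hne⟩ := exists_orthogonal_anisotropic h2 B hS hB hV
    have hsymm : ∀ x y, B x y = B y x := fun x y => by simpa using hS.eq x y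
    -- an isotropic vector
    obtain ⟨e, he0, hee⟩ : ∃ e : V, e ≠ 0 ∧ B e e = 0 := by
      let p : Fin (2 * (k + 1)) := ⟨0, by omega⟩
      let q : Fin (2 * (k + 1)) := ⟨1, by omega⟩
      have hpq : p ≠ q := by simp [p, q]
      rcases k.eq_zero_or_pos with rfl | hk
      · obtain ⟨bv, hbv⟩ := basis_of_orthogonal hV B v ho hne
        rw [isSquare_det_congr B b bv, show LinearMap.BilinForm.toMatrix bv B = Matrix.diagonal fun i => B (v i) (v i) by
          ext i j
          rcases eq_or_ne i j with rfl | h
          · simp [LinearMap.BilinForm.toMatrix_apply, hbv]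
          · simp [LinearMap.BilinForm.toMatrix_apply, hbv, h, ho i j h], Matrix.det_diagonal, Fin.prod_univ_two] at hd
        obtain ⟨r, hr⟩ := hd
        have hr' : r * r = -(B (v p) (v p) * B (v q) (v q)) := by simpa [p, q] using hr.symm
        refine ⟨r • v p + B (v p) (v p) • v q, fun h => hne q ?_, ?_⟩
        · have h' := congrArg (fun x => B x (v q)) h
          simp [ho p q hpq] at h'
          exact h'.resolve_left (hne p)
        · simp only [map_add, map_smul, LinearMap.add_apply, LinearMap.smul_apply, smul_eq_mul, ho p q hpq,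
            ho q p hpq.symm]
          linear_combination B (v p) (v p) * hr'
      · let s : Fin (2 * (k + 1)) := ⟨2, by omega⟩
        have hps : p ≠ s := by simp [p, s]
        have hqs : q ≠ s := by simp [q, s]
        obtain ⟨x, y, hxy⟩ := exists_binary_one h2
          (div_ne_zero (neg_ne_zero.2 (hne p)) (hne s)) (div_ne_zero (neg_ne_zero.2 (hne q)) (hne s))
        refine ⟨x • v p + y • v q + v s, fun h => hne s ?_, ?_⟩
        · have h' := congrArg (fun z => B z (v s)) h
          simpa [ho p s hps, ho q s hqs] using h'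
        · simp only [map_add, map_smul, LinearMap.add_apply, LinearMap.smul_apply, smul_eq_mul, ho p q hpq,
            ho q p hpq.symm, ho p s hps, ho s p hps.symm, ho q s hqs, ho s q hqs.symm]
          have := hne s
          field_simp at hxy
          linear_combination -hxy
    obtain ⟨f, hef, hff⟩ : ∃ f : V, B e f = 1 ∧ B f f = 0 := by
      obtain ⟨f, hf⟩ : ∃ f, B e f ≠ 0 := by
        by_contra hc
        push Not at hc
        exact he0 (hB.1 e hc)
      obtain ⟨g, hg⟩ : ∃ g, B e g = 1 := ⟨(B e f)⁻¹ • f, by rw [map_smul, smul_eq_mul, inv_mul_cancel₀ hf]⟩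
      refine ⟨g - (B g g / 2) • e, by simp [hg, hee], ?_⟩
      simp [hsymm g e, hg, hee]
      field_simp
      ring
    let W : Submodule F V := LinearMap.ker (B e) ⊓ LinearMap.ker (B f)
    have hfe : B f e = 1 := by rw [hsymm, hef]
    have hmem : ∀ w : W, B e w = 0 ∧ B f w = 0 := fun w => w.2
    let L : W × (F × F) →ₗ[F] V :=
      W.subtype.coprod ((LinearMap.toSpanSingleton F V e).coprod (LinearMap.toSpanSingleton F V f))
    have hL : ∀ w a c, L (w, (a, c)) = (w : V) + (a • e + c • f) := fun w a c => rfl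
    have hLb : Function.Bijective L := by
      constructor
      · rw [injective_iff_map_eq_zero]
        rintro ⟨w, a, c⟩ h
        rw [hL] at h
        have h1 := congrArg (B e) h
        have h3 := congrArg (B f) h
        simp [(hmem w).1, hef, hee] at h1
        subst h1
        simp [(hmem w).2, hfe, hff] at h3
        subst h3
        ext <;> simpa using h
      · intro z
        refine ⟨(⟨z - (B f z • e + B e z • f), ?_, ?_⟩, (B f z, B e z)),
          by rw [hL]; simp⟩
        · change B e _ = 0
          simp [hef, hee]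
        · change B f _ = 0
          simp [hfe, hff]
    let E : (W × (F × F)) ≃ₗ[F] V := LinearEquiv.ofBijective L hLb
    have hWdim : finrank F W = 2 * k := by
      have := E.finrank_eq
      rw [Module.finrank_prod, Module.finrank_prod, Module.finrank_self] at this
      omega
    let bW := Module.finBasisOfFinrankEq F W hWdim
    let c : Basis (Fin (2 * k) ⊕ (Fin 1 ⊕ Fin 1)) F V :=
      (bW.prod ((Basis.singleton (Fin 1) F).prod (Basis.singleton (Fin 1) F))).map E
    have c1 : ∀ i, c (Sum.inl i) = (bW i : V) := fun i => by simp [c, E, hL]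
    have c2 : c (Sum.inr (Sum.inl 0)) = e := by simp [c, E, hL]
    have c3 : c (Sum.inr (Sum.inr 0)) = f := by simp [c, E, hL]
    set BW := B.compl₁₂ W.subtype W.subtype with hBW
    have hdet : (LinearMap.BilinForm.toMatrix c B).det = (LinearMap.BilinForm.toMatrix bW BW).det * (-1) := by
      have hM : LinearMap.BilinForm.toMatrix c B = fromBlocks (LinearMap.BilinForm.toMatrix bW BW) 0 0
          (fromBlocks (0 : Matrix (Fin 1) (Fin 1) F) (1 : Matrix (Fin 1) (Fin 1) F) (1 : Matrix (Fin 1) (Fin 1) F)
            (0 : Matrix (Fin 1) (Fin 1) F)) := by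
        have hwe : ∀ w : W, B (w : V) e = 0 := fun w => (hsymm _ _).trans (hmem w).1
        have hwf : ∀ w : W, B (w : V) f = 0 := fun w => (hsymm _ _).trans (hmem w).2
        ext (i | i | i) (j | j | j) <;> (try (fin_cases i)) <;> (try (fin_cases j)) <;>
          simp [LinearMap.BilinForm.toMatrix_apply, c1, c2, c3, hBW, (hmem _).1, (hmem _).2, hwe, hwf, hee, hef, hfe,
            hff]
      rw [hM, Matrix.det_fromBlocks_zero₁₂, det_swap_blocks, pow_one]
    rw [isSquare_det_congr B b c, hdet] at hd
    have hBWn : BW.Nondegenerate := by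
      refine (LinearMap.IsRefl.nondegenerate_iff_separatingLeft (fun x y h => by
        rw [← h]; exact hsymm (y : V) (x : V))).2 fun w hw => ?_
      refine Subtype.ext (hB.1 _ fun z => ?_)
      obtain ⟨⟨w', a, a'⟩, rfl⟩ := hLb.2 z
      rw [hL, map_add, map_add, map_smul, map_smul, hsymm _ e, hsymm _ f, (hmem w).1, (hmem w).2]
      simpa [hBW] using hw w'
    obtain ⟨X, hX, hX0⟩ := ih BW ⟨fun x y => by simpa [hBW] using hsymm (x : V) (y : V)⟩ hBWn hWdim bW (by
      have : (-1 : F) ^ (k + 1) * ((LinearMap.BilinForm.toMatrix bW BW).det * -1) = (-1 : F) ^ k * (LinearMap.BilinForm.toMatrix bW BW).det := by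
        ring
      rwa [this] at hd)
    refine ⟨X.map W.subtype ⊔ F ∙ e, ?_, ?_⟩
    · have hdisj : Disjoint (X.map W.subtype) (F ∙ e) := by
        rw [Submodule.disjoint_span_singleton' he0]
        rintro ⟨w, hw, hwe⟩
        have := (hmem w).2
        rw [show (w : V) = e from hwe, hfe] at this
        exact one_ne_zero this
      have h1 := Submodule.finrank_sup_add_finrank_inf_eq (X.map W.subtype) (F ∙ e)
      rw [hdisj.eq_bot, finrank_bot, add_zero,
        LinearEquiv.finrank_eq (Submodule.equivMapOfInjective _ W.injective_subtype X).symm, hX,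
        finrank_span_singleton he0] at h1
      exact h1
    · intro x hx y hy
      obtain ⟨_, ⟨x', hx', rfl⟩, a, ha, rfl⟩ := Submodule.mem_sup.1 hx
      obtain ⟨_, ⟨y', hy', rfl⟩, a', ha', rfl⟩ := Submodule.mem_sup.1 hy
      obtain ⟨r, rfl⟩ := Submodule.mem_span_singleton.1 ha
      obtain ⟨r', rfl⟩ := Submodule.mem_span_singleton.1 ha'
      have h0 : B (x' : V) (y' : V) = 0 := by simpa [hBW] using hX0 x' hx' y' hy'
      simp only [Submodule.subtype_apply, map_add, map_smul, LinearMap.add_apply, LinearMap.smul_apply,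
        smul_eq_mul, h0, (hmem _).1, hsymm _ e, hee]
      ring

end Type_

section Tensor

variable {U W : Type*} [AddCommGroup U] [Module F U] [AddCommGroup W] [Module F W]
  {ι κ : Type*} [Fintype ι] [DecidableEq ι] [Fintype κ] [DecidableEq κ]

theorem toMatrix_tmul (B₁ : BilinForm F U) (B₂ : BilinForm F W) (b : Basis ι F U) (c : Basis κ F W) :
    LinearMap.BilinForm.toMatrix (b.tensorProduct c) (B₁.tmul B₂) =
      LinearMap.BilinForm.toMatrix b B₁ ⊗ₖ LinearMap.BilinForm.toMatrix c B₂ := by
  ext ⟨i, i'⟩ ⟨j, j'⟩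
  simp [LinearMap.BilinForm.toMatrix_apply, Basis.tensorProduct_apply, mul_comm]

theorem det_tmul (B₁ : BilinForm F U) (B₂ : BilinForm F W) (b : Basis ι F U) (c : Basis κ F W) :
    (LinearMap.BilinForm.toMatrix (b.tensorProduct c) (B₁.tmul B₂)).det =
      (LinearMap.BilinForm.toMatrix b B₁).det ^ Fintype.card κ * (LinearMap.BilinForm.toMatrix c B₂).det ^ Fintype.card ι := by
  rw [toMatrix_tmul, Matrix.det_kronecker]

theorem tmul_nondegenerate (B₁ : BilinForm F U) (B₂ : BilinForm F W) (b : Basis ι F U) (c : Basis κ F W)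
    (h₁ : B₁.Nondegenerate) (h₂ : B₂.Nondegenerate) : LinearMap.BilinForm.Nondegenerate (B₁.tmul B₂) := by
  rw [LinearMap.BilinForm.nondegenerate_iff_det_ne_zero (b.tensorProduct c), det_tmul]
  exact mul_ne_zero (pow_ne_zero _ ((LinearMap.BilinForm.nondegenerate_iff_det_ne_zero b).1 h₁))
    (pow_ne_zero _ ((LinearMap.BilinForm.nondegenerate_iff_det_ne_zero c).1 h₂))

/-- Two symplectic forms give a split orthogonal form. -/
theorem alt_plus [FiniteDimensional F U] [FiniteDimensional F W] (B₁ : BilinForm F U) (B₂ : BilinForm F W)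
    (h₁ : B₁.Nondegenerate) (h₂ : B₂.Nondegenerate) (hA₁ : B₁.IsAlt) (hA₂ : B₂.IsAlt) (k l : ℕ)
    (hU : finrank F U = 2 * k) (hW : finrank F W = 2 * l) :
    (B₁.tmul B₂).IsSymm ∧ (B₁.tmul B₂).Nondegenerate ∧
      ∃ X : Submodule F (U ⊗[F] W), finrank F X = 2 * k * l ∧ ∀ x ∈ X, ∀ y ∈ X, (B₁.tmul B₂) x y = 0 := by
  classical
  obtain ⟨m, r, b, hb1, hb2, hb3, hb4⟩ := Alt.exists_sympBasis _ rfl B₁ hA₁
  have hr : r = 0 := by
    by_contra hr
    exact b.ne_zero (Sum.inr ⟨0, Nat.pos_of_ne_zero hr⟩) (h₁.1 _ (hb4 _))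
  have hm : m = k := by
    have := Module.finrank_eq_card_basis b
    simp [hU, hr] at this
    omega
  subst hr; subst hm
  let c := Module.finBasisOfFinrankEq F W hW
  refine ⟨?_, tmul_nondegenerate B₁ B₂ b c h₁ h₂, ?_⟩
  · refine ⟨fun x y => ?_⟩
    simp only [RingHom.id_apply]
    induction x using TensorProduct.induction_on with
    | zero => simp
    | add x x' hx hx' => simp [hx, hx']
    | tmul u w =>
      induction y using TensorProduct.induction_on with
      | zero => simp
      | add y y' hy hy' => simp [hy, hy']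
      | tmul u' w' =>
        simp only [LinearMap.BilinForm.tensorDistrib_tmul, smul_eq_mul]
        rw [← hA₁.neg_eq u' u, ← hA₂.neg_eq w' w]
        ring
  · let g : Fin m × Fin (2 * l) → U ⊗[F] W := fun p => b.tensorProduct c (Sum.inl (Sum.inl p.1), p.2)
    have hg : LinearIndependent F g := (b.tensorProduct c).linearIndependent.comp _ (fun p p' h => by
      simp only [Prod.mk.injEq, Sum.inl.injEq] at h
      exact Prod.ext h.1 h.2)
    refine ⟨Submodule.span F (Set.range g), ?_, fun x hx y hy => ?_⟩
    · rw [finrank_span_eq_card hg, Fintype.card_prod, Fintype.card_fin, Fintype.card_fin]; ring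
    · have key : ∀ p p', (B₁.tmul B₂) (g p) (g p') = 0 := fun p p' => by
        simp [g, Basis.tensorProduct_apply, hb2]
      have h' : ∀ p, (B₁.tmul B₂) (g p) y = 0 := fun p =>
        (Submodule.span_le (p := LinearMap.ker ((B₁.tmul B₂) (g p)))).2 (by rintro _ ⟨p', rfl⟩; exact key p p') hy
      exact (Submodule.span_le (p := LinearMap.ker ((B₁.tmul B₂).flip y))).2 (by rintro _ ⟨p, rfl⟩; exact h' p) hx

end Tensor

end CfsgLib.Classical.TensorForms
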