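import Mathlib
import Cfsg.Agent.Lib.GLClass.Absorb

/-!
Involutions and elements of order three in `PSL₃(4)`.
-/

set_option autoImplicit false

namespace CfsgLib.Classical.ThreeFour

open Matrix

variable {F : Type*} [Field F]

local notation "SL₃" => Matrix.SpecialLinearGroup (Fin 3) F
local notation "PSL₃" => Matrix.ProjectiveSpecialLinearGroup (Fin 3) F
local notation "M₃" => Matrix (Fin 3) (Fin 3) F

theorem isConj_of_frame {A : SL₃} {T : M₃} (hT : T.det = 1) {x y z : Fin 3 → F}
    (hli : (Matrix.of ![x, y, z]).det ≠ 0) (hcols : ∀ c : F, A.1 * (Matrix.of ![x, y, c • z])ᵀ =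
      (Matrix.of ![x, y, c • z])ᵀ * T) :
    IsConj (α := SL₃) ⟨T, hT⟩ A := by
  set δ := ((Matrix.of ![x, y, z]).det)⁻¹ with hδ
  have hdet : ((Matrix.of ![x, y, δ • z])ᵀ).det = 1 := by
    have h : (Matrix.of ![x, y, δ • z]) = Matrix.updateRow (Matrix.of ![x, y, z]) 2 (δ • (Matrix.of ![x, y, z]) 2) := by
      ext i j; fin_cases i <;> simp [Matrix.updateRow_apply]
    rw [Matrix.det_transpose, h, Matrix.det_updateRow_smul, Matrix.updateRow_eq_self, hδ, inv_mul_cancel₀ hli]
  let P : SL₃ := ⟨_, hdet⟩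
  refine isConj_iff.2 ⟨P, mul_inv_eq_iff_eq_mul.2 ?_⟩
  exact Subtype.ext (hcols δ).symm

theorem transv_conj [CharP F 2] {A : SL₃} (h2 : A.1 ^ 2 = 1) (h1 : A.1 ≠ 1) :
    IsConj (α := SL₃) ⟨!![1, 1, 0; 0, 1, 0; 0, 0, 1], by simp [Matrix.det_fin_three]⟩ A := by
  set N : M₃ := A.1 + 1 with hN
  have hNN : N * N = 0 := by
    rw [hN, add_mul, mul_add, ← pow_two, h2, one_mul, mul_one]
    rw [add_comm (1 : M₃) A.1]
    exact Matrix.ext fun i j => CharTwo.add_self_eq_zero _
  have hA : A.1 = 1 + N := by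
    rw [hN, add_left_comm, show (1 : M₃) + 1 = 0 from Matrix.ext fun i j => CharTwo.add_self_eq_zero _, add_zero]
  have hN0 : N ≠ 0 := fun h => h1 (by rw [hA, h, add_zero])
  obtain ⟨w, hw⟩ : ∃ w, N *ᵥ w ≠ 0 := by
    by_contra h
    push Not at h
    exact hN0 (Matrix.ext_iff_mulVec.2 fun v => by rw [h v, Matrix.zero_mulVec])
  set v := N *ᵥ w with hv
  have hNv : N *ᵥ v = 0 := by rw [hv, Matrix.mulVec_mulVec, hNN, Matrix.zero_mulVec]
  obtain ⟨u, hu, hu'⟩ : ∃ u, N *ᵥ u = 0 ∧ u ∉ Submodule.span F {v} := by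
    by_contra h
    push Not at h
    have hle : LinearMap.ker N.mulVecLin ≤ Submodule.span F {v} := fun u hu => h u hu
    have h3 := LinearMap.finrank_range_add_finrank_ker N.mulVecLin
    have hr : LinearMap.range N.mulVecLin ≤ LinearMap.ker N.mulVecLin := by
      rintro _ ⟨a, rfl⟩
      simp [Matrix.mulVec_mulVec, hNN]
    have e1 := Submodule.finrank_mono hr
    have e2 := (Submodule.finrank_mono hle).trans_eq (finrank_span_singleton hw)
    rw [Module.finrank_fin_fun] at h3
    omega
  refine isConj_of_frame _ (x := v) (y := w) (z := u) ?_ fun c => ?_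
  · refine isUnit_iff_ne_zero.1 ((Matrix.isUnit_iff_isUnit_det _).1 ?_)
    refine Matrix.linearIndependent_rows_iff_isUnit.1 ?_
    rw [Fintype.linearIndependent_iff]
    intro g hg
    rw [Fin.sum_univ_three] at hg
    change g 0 • v + g 1 • w + g 2 • u = 0 at hg
    have h0 : g 1 • v = 0 := by
      have := congrArg (N *ᵥ ·) hg
      simpa [Matrix.mulVec_add, Matrix.mulVec_smul, hNv, ← hv, hu] using this
    have hb := (smul_eq_zero.1 h0).resolve_right hw
    rw [hb, zero_smul, add_zero] at hg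
    have hc : g 2 = 0 := by
      by_contra hc
      refine hu' (Submodule.mem_span_singleton.2 ⟨-(g 2)⁻¹ * g 0, ?_⟩)
      have := congrArg ((g 2)⁻¹ • ·) hg
      simp only [smul_add, smul_smul, inv_mul_cancel₀ hc, one_smul, smul_zero] at this
      rw [neg_mul, neg_smul]
      exact (eq_neg_of_add_eq_zero_right this).symm
    rw [hc, zero_smul, add_zero] at hg
    have ha := (smul_eq_zero.1 hg).resolve_right hw
    intro i; fin_cases i <;> simp [ha, hb, hc]
  · refine Matrix.ext fun i j => ?_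
    have hcol : ∀ z, (A.1 * (Matrix.of ![v, w, c • u])ᵀ) i z = ((1 + N) *ᵥ (![v, w, c • u] z)) i := fun z => by
      rw [hA]; rfl
    rw [hcol]
    fin_cases j
    · simp [Matrix.add_mulVec, hNv, Matrix.mul_apply, Fin.sum_univ_three]
    · simp [Matrix.add_mulVec, ← hv, Matrix.mul_apply, Fin.sum_univ_three]; ring
    · simp [Matrix.add_mulVec, Matrix.mulVec_smul, hu, Matrix.mul_apply, Fin.sum_univ_three]

variable [Fintype F]

theorem psl_involutions (hF : Fintype.card F = 4) {x y : PSL₃} (hx : orderOf x = 2) (hy : orderOf y = 2) :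
    IsConj x y := by
  haveI : CharP F 2 := by
    haveI := Fact.mk Nat.prime_two
    exact charP_of_card_eq_prime_pow (f := 2) (by rw [hF]; rfl)
  have key : ∀ g : PSL₃, orderOf g = 2 → IsConj
      (QuotientGroup.mk (⟨!![1, 1, 0; 0, 1, 0; 0, 0, 1], by simp [Matrix.det_fin_three]⟩ : SL₃) : PSL₃) g := by
    intro g hg
    obtain ⟨A, rfl⟩ := QuotientGroup.mk_surjective g
    have h2 : (QuotientGroup.mk A : PSL₃) ^ 2 = 1 := hg ▸ pow_orderOf_eq_one _
    obtain ⟨c, hc⟩ : ∃ c : F, A.1 ^ 2 = c • 1 := by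
      rw [← Matrix.SpecialLinearGroup.coe_pow, ← CfsgLib.Absorb.mk_eq_one]; exact h2
    have hc3 : c ^ 3 = 1 := by
      have h := congrArg Matrix.det hc
      rw [Matrix.det_pow, A.2, one_pow, Matrix.det_smul, Matrix.det_one, mul_one, Fintype.card_fin] at h
      exact h.symm
    have hA3 : (A ^ 3).1 ^ 2 = 1 := by
      rw [Matrix.SpecialLinearGroup.coe_pow, ← pow_mul, mul_comm, pow_mul, hc, _root_.smul_pow, one_pow, hc3, one_smul]
    have hmk : (QuotientGroup.mk (A ^ 3) : PSL₃) = QuotientGroup.mk A := by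
      show (QuotientGroup.mk A : PSL₃) ^ 3 = _
      rw [pow_succ, h2, one_mul]
    have hne : (A ^ 3).1 ≠ 1 := fun h => by
      have h' : A ^ 3 = 1 := Subtype.ext h
      rw [h'] at hmk
      have h1 : orderOf (QuotientGroup.mk A : PSL₃) = 1 := by rw [← hmk]; exact orderOf_one
      omega
    rw [← hmk]
    exact (QuotientGroup.mk' _).map_isConj (transv_conj hA3 hne)
  exact (key x hx).symm.trans (key y hy)

theorem psl_order_three (hF : Fintype.card F = 4) :
    ∃ D : PSL₃, ∀ g : PSL₃, orderOf g = 3 → IsConj D g := by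
  classical
  obtain ⟨u, hu⟩ := IsCyclic.exists_ofOrder_eq_natCard (α := Fˣ)
  rw [Nat.card_units, Nat.card_eq_fintype_card, hF] at hu
  haveI : CharP F 2 := by
    haveI := Fact.mk Nat.prime_two
    exact charP_of_card_eq_prime_pow (f := 2) (by rw [hF]; rfl)
  set w : F := (u : F)
  have hw3 : w ^ 3 = 1 := by
    rw [← Units.val_pow_eq_pow_val, show (3 : ℕ) = orderOf u from hu.symm, pow_orderOf_eq_one, Units.val_one]
  have hw1 : w ≠ 1 := fun h => by
    rw [Units.val_eq_one] at h
    rw [h, orderOf_one] at hu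
    omega
  have h3 : ∀ a : F, a ≠ 0 → a ^ 3 = 1 := fun a ha => by
    have := FiniteField.pow_card_sub_one_eq_one a ha
    rwa [hF] at this
  have hw0 : w ≠ 0 := u.ne_zero
  have hd : (!![1, 0, 0; 0, w, 0; 0, 0, w ^ 2] : M₃).det = 1 := by
    simp [Matrix.det_fin_three, ← pow_succ', hw3]
  refine ⟨QuotientGroup.mk ⟨_, hd⟩, fun g hg => ?_⟩
  obtain ⟨A, rfl⟩ := QuotientGroup.mk_surjective g
  obtain ⟨c, hc⟩ : ∃ c : F, A.1 ^ 3 = c • 1 := by
    rw [← Matrix.SpecialLinearGroup.coe_pow, ← CfsgLib.Absorb.mk_eq_one]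
    have h' := pow_orderOf_eq_one (QuotientGroup.mk A : PSL₃)
    rw [hg] at h'
    exact h'
  have hc1 : c = 1 := by
    have hc0 : c ≠ 0 := fun h => by
      have := congrArg Matrix.det hc
      simp [h, Matrix.det_pow, A.2] at this
    by_contra hne
    set P : Polynomial F := Polynomial.X ^ 3 - Polynomial.C c with hP
    have hm : P.Monic := Polynomial.monic_X_pow_sub_C c three_ne_zero
    have hdeg : P.natDegree = 3 := Polynomial.natDegree_X_pow_sub_C
    have hirr : Irreducible P := by
      refine Polynomial.irreducible_of_degree_le_three_of_not_isRoot (by simp [hdeg]) fun r hr => ?_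
      simp [hP, sub_eq_zero] at hr
      rcases eq_or_ne r 0 with rfl | h0
      · exact hc0 (by simpa using hr.symm)
      · exact hne (hr.symm.trans (h3 r h0))
    have hPA : Polynomial.aeval A.1 P = 0 := by
      simp [hP, hc, Algebra.algebraMap_eq_smul_one]
    have hmin := minpoly.eq_of_irreducible_of_monic hirr hPA hm
    have hch : P = A.1.charpoly := (Polynomial.eq_of_monic_of_dvd_of_natDegree_le hm (Matrix.charpoly_monic _)
      (by rw [hmin]; exact Matrix.minpoly_dvd_charpoly A.1)
      (by rw [Matrix.charpoly_natDegree_eq_dim, hdeg]; rfl)).symm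
    have h0 := Matrix.det_eq_sign_charpoly_coeff A.1
    rw [← hch, A.2, Fintype.card_fin, hP] at h0
    simp [Polynomial.coeff_X_pow] at h0
    exact hne (by linear_combination -h0)
  subst hc1
  rw [one_smul] at hc
  have h2F : (2 : F) = 0 := CharTwo.two_eq_zero
  have hws : 1 + w + w ^ 2 = 0 := (mul_eq_zero.1 (show (w - 1) * (1 + w + w ^ 2) = 0 by
    linear_combination hw3)).resolve_left (sub_ne_zero.2 hw1)
  let K := AlgebraicClosure F
  let φ : F →+* K := algebraMap F K
  obtain ⟨a, b, d, hroots, hprod⟩ : ∃ a b d : K, (A.1.map φ).charpoly.roots = {a, b, d} ∧ a * b * d = 1 := by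
    have hcard : (A.1.map φ).charpoly.roots.card = 3 := by
      rw [← (IsAlgClosed.splits _).natDegree_eq_card_roots, Matrix.charpoly_natDegree_eq_dim, Fintype.card_fin]
    obtain ⟨a, b, d, h⟩ := Multiset.card_eq_three.1 hcard
    refine ⟨a, b, d, h, ?_⟩
    have h' := Matrix.det_eq_prod_roots_charpoly (A.1.map φ)
    rw [h, ← RingHom.mapMatrix_apply, ← RingHom.map_det, A.2, map_one] at h'
    simp [mul_assoc] at h' ⊢
    exact h'.symm
  have hK : ∀ r ∈ (A.1.map φ).charpoly.roots, r ^ 3 = 1 ∧ ∃ t : F, t ∈ ({1, w, w ^ 2} : Finset F) ∧ r = φ t := by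
    intro r hr
    have hr' : Module.End.HasEigenvalue (Matrix.toLinAlgEquiv' (A.1.map φ) : Module.End K (Fin 3 → K)) r := by
      rw [Module.End.hasEigenvalue_iff_isRoot_charpoly]
      have : LinearMap.charpoly (Matrix.toLinAlgEquiv' (A.1.map φ) : Module.End K (Fin 3 → K)) = (A.1.map φ).charpoly :=
        Matrix.charpoly_toLin' _
      rw [this]
      exact Polynomial.isRoot_of_mem_roots hr
    obtain ⟨v, hv⟩ := hr'.exists_hasEigenvector
    have h1 := hv.pow_apply 3
    rw [← map_pow, ← RingHom.mapMatrix_apply, ← map_pow, hc, map_one, map_one, Module.End.one_apply] at h1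
    have e : r ^ 3 = 1 := (smul_left_injective K hv.2 (show (1 : K) • v = r ^ 3 • v by rw [one_smul]; exact h1)).symm
    refine ⟨e, ?_⟩
    have hws' : 1 + φ w + φ w ^ 2 = 0 := by rw [← map_pow, ← map_one φ, ← map_add, ← map_add, hws, map_zero]
    have h0 : (r - 1) * ((r - φ w) * (r - φ w ^ 2)) = 0 := by
      have hw3' : φ w ^ 3 = 1 := by rw [← map_pow, hw3, map_one]
      linear_combination e + (r * φ w - r ^ 2) * hws' - hw3'
    rcases mul_eq_zero.1 h0 with h | h
    · exact ⟨1, by simp, by rw [map_one]; exact sub_eq_zero.1 h⟩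
    rcases mul_eq_zero.1 h with h | h
    · exact ⟨w, by simp, sub_eq_zero.1 h⟩
    · exact ⟨w ^ 2, by simp, by rw [map_pow]; exact sub_eq_zero.1 h⟩
  obtain ⟨ea, ta, -, hta⟩ := hK a (by simp [hroots])
  obtain ⟨eb, tb, -, htb⟩ := hK b (by simp [hroots])
  obtain ⟨ed, td, -, htd⟩ := hK d (by simp [hroots])
  have hscal : ¬ (a = b ∧ b = d) := by
    rintro ⟨rfl, rfl⟩
    have hch : (A.1.map φ).charpoly = (Polynomial.X - Polynomial.C a) ^ 3 := by
      rw [(IsAlgClosed.splits (A.1.map φ).charpoly).eq_prod_roots_of_monic (Matrix.charpoly_monic _), hroots]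
      simp; ring
    have hchF : A.1.charpoly = (Polynomial.X - Polynomial.C ta) ^ 3 := by
      apply Polynomial.map_injective φ φ.injective
      rw [← Matrix.charpoly_map, hch, Polynomial.map_pow, Polynomial.map_sub, Polynomial.map_X, Polynomial.map_C, hta]
    have e1 : Polynomial.aeval A.1 ((Polynomial.X - Polynomial.C ta) ^ 3) = 0 := hchF ▸ Matrix.aeval_self_charpoly A.1
    have ht3 : ta ^ 3 = 1 := φ.injective (by rw [map_pow, ← hta, ea, map_one])
    have ht0 : ta ≠ 0 := fun h => by rw [h, zero_pow three_ne_zero] at ht3; exact zero_ne_one ht3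
    have hCt : (Polynomial.C ta) ^ 3 = 1 := by rw [← map_pow, ht3, map_one]
    have h2P : (2 : Polynomial F) = 0 := CharTwo.two_eq_zero
    have hid : (Polynomial.X - Polynomial.C ta) ^ 3 =
        (Polynomial.X ^ 3 - 1) + Polynomial.C ta * (Polynomial.X * (Polynomial.X - Polynomial.C ta)) := by
      linear_combination (-1 : Polynomial F) * hCt + (2 * Polynomial.C ta ^ 2 * Polynomial.X - 2 * Polynomial.C ta * Polynomial.X ^ 2) * h2P
    rw [hid, map_add, map_sub, map_pow, map_one, Polynomial.aeval_X, hc, sub_self, zero_add, map_mul, map_mul,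
      Polynomial.aeval_C, Polynomial.aeval_X, map_sub, Polynomial.aeval_X, Polynomial.aeval_C,
      Algebra.algebraMap_eq_smul_one, smul_mul_assoc, one_mul, smul_eq_zero] at e1
    have e2 := e1.resolve_left ht0
    have e3 : A.1 - ta • 1 = 0 := by
      have := congrArg (A.1 ^ 2 * ·) e2
      simpa [← mul_assoc, ← pow_succ, hc] using this
    have h1 : (QuotientGroup.mk A : PSL₃) = 1 := CfsgLib.Absorb.mk_eq_one.2 ⟨ta, sub_eq_zero.1 e3⟩
    rw [h1, orderOf_one] at hg
    omega
  have hab : a ≠ b := fun h => hscal ⟨h, by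
    subst h
    calc a = a * (a * a * d) := by rw [hprod, mul_one]
      _ = d := by rw [show a * (a * a * d) = a ^ 3 * d by ring, ea, one_mul]⟩
  have had : a ≠ d := fun h => by
    subst h
    have hab' : a = b := by
      calc a = a * (a * b * a) := by rw [hprod, mul_one]
        _ = b := by rw [show a * (a * b * a) = a ^ 3 * b by ring, ea, one_mul]
    exact hscal ⟨hab', hab'.symm⟩
  have hbd : b ≠ d := fun h => by
    subst h
    have hab' : b = a := by
      calc b = b * (a * b * b) := by rw [hprod, mul_one]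
        _ = a := by rw [show b * (a * b * b) = b ^ 3 * a by ring, eb, one_mul]
    exact hscal ⟨hab'.symm, rfl⟩
  -- all three values occur
  have hev : ∀ t : F, t ^ 3 = 1 → Module.End.HasEigenvalue (Matrix.toLinAlgEquiv' A.1 : Module.End F (Fin 3 → F)) t := by
    intro t ht
    rw [Module.End.hasEigenvalue_iff_isRoot_charpoly]
    have : LinearMap.charpoly (Matrix.toLinAlgEquiv' A.1 : Module.End F (Fin 3 → F)) = A.1.charpoly :=
      Matrix.charpoly_toLin' _
    rw [this, ← Polynomial.isRoot_map_iff φ.injective, ← Matrix.charpoly_map]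
    have hmem : φ t ∈ ({a, b, d} : Finset K) := by
      have hsub : ({a, b, d} : Finset K) ⊆ ({1, w, w ^ 2} : Finset F).image φ := by
        intro z hz
        obtain ⟨-, t', ht', rfl⟩ := hK z (by rw [hroots]; simpa using hz)
        exact Finset.mem_image_of_mem _ ht'
      have hc3 : ({a, b, d} : Finset K).card = 3 := Finset.card_eq_three.2 ⟨a, b, d, hab, had, hbd, rfl⟩
      have heq := Finset.eq_of_subset_of_card_le hsub (by
        rw [hc3]; exact Finset.card_image_le.trans Finset.card_le_three)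
      rw [heq]
      refine Finset.mem_image_of_mem _ ?_
      have h0 : (t - 1) * ((t - w) * (t - w ^ 2)) = 0 := by
        linear_combination ht + (t * w - t ^ 2) * hws - hw3
      rcases mul_eq_zero.1 h0 with h | h
      · simp [sub_eq_zero.1 h]
      rcases mul_eq_zero.1 h with h | h <;> simp [sub_eq_zero.1 h]
    have : φ t ∈ (A.1.map φ).charpoly.roots := by rw [hroots]; simpa using hmem
    exact Polynomial.isRoot_of_mem_roots this
  let tv : Fin 3 → F := ![1, w, w ^ 2]
  have htv : ∀ i, tv i ^ 3 = 1 := fun i => by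
    fin_cases i <;> simp [tv, hw3, ← pow_mul]
    rw [pow_mul w 3 2, hw3, one_pow]
  choose v hv using fun i => (hev (tv i) (htv i)).exists_hasEigenvector
  have hww : w ≠ w ^ 2 := fun h => hw1 (mul_left_cancel₀ hw0 (by rw [mul_one, ← pow_two, ← h]))
  have hw21 : (1 : F) ≠ w ^ 2 := fun h => hw1 (by linear_combination hw3 + w * h)
  have hinj : Function.Injective tv := by
    intro i j hij
    fin_cases i <;> fin_cases j <;>
      first | rfl | (exfalso; revert hij; simp [tv, hw1, Ne.symm hw1, hww, hww.symm, hw21, hw21.symm, CharTwo.neg_eq])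
  have hli := Module.End.eigenvectors_linearIndependent' _ tv hinj v hv
  refine (QuotientGroup.mk' _).map_isConj (isConj_of_frame hd (x := v 0) (y := v 1) (z := v 2) ?_ fun s => ?_)
  · refine isUnit_iff_ne_zero.1 ((Matrix.isUnit_iff_isUnit_det _).1 ?_)
    refine Matrix.linearIndependent_rows_iff_isUnit.1 ?_
    have hrow : (Matrix.of ![v 0, v 1, v 2]).row = v := by funext i; fin_cases i <;> rfl
    rw [hrow]
    exact hli
  · have hA : ∀ i, A.1 *ᵥ v i = tv i • v i := fun i => (hv i).apply_eq_smul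
    refine Matrix.ext fun i j => ?_
    have hcol : ∀ z, (A.1 * (Matrix.of ![v 0, v 1, s • v 2])ᵀ) i z = (A.1 *ᵥ (![v 0, v 1, s • v 2] z)) i := fun z => rfl
    rw [hcol]
    fin_cases j <;> simp [Matrix.mulVec_smul, hA, tv, Matrix.mul_apply, Fin.sum_univ_three] <;> ring

end CfsgLib.Classical.ThreeFour
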