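import Mathlib
import Cfsg.Agent.Lib.SU.CenterCard
import Cfsg.Agent.Lib.SU.Ind
import Cfsg.Agent.Lib.Classical.HermFrames
import Cfsg.Agent.Lib.GLClass.Absorb

/-!
Element orders of `PSL₃(q)` and `PSU₃(q)`.
-/

set_option autoImplicit false

namespace CfsgLib.Classical.ThreeSpectra

open Matrix Polynomial

section general

variable {K : Type*} [Field K]

/-- The cubic with given roots. -/
noncomputable def cub (a b c : K) : K[X] := (X - C a) * (X - C b) * (X - C c)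

theorem cub_comm₁ (a b c : K) : cub a b c = cub b a c := by unfold cub; ring

theorem cub_comm₂ (a b c : K) : cub a b c = cub a c b := by unfold cub; ring

theorem roots_cub (a b c : K) : (cub a b c).roots = ([a, b, c] : List K) := by
  rw [cub, roots_mul, roots_mul, roots_X_sub_C, roots_X_sub_C, roots_X_sub_C]
  · rfl
  · exact mul_ne_zero (X_sub_C_ne_zero a) (X_sub_C_ne_zero b)
  · exact mul_ne_zero (mul_ne_zero (X_sub_C_ne_zero a) (X_sub_C_ne_zero b)) (X_sub_C_ne_zero c)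

theorem cub_perm {a b c x y z : K} (h : cub x y z = cub a b c) : [x, y, z].Perm [a, b, c] := by
  have h1 := congrArg Polynomial.roots h
  rw [roots_cub, roots_cub] at h1
  exact Multiset.coe_eq_coe.1 h1

theorem perm_cases {f : K → K} (hf : Function.Injective f) {a b c : K} (h : [f a, f b, f c].Perm [a, b, c]) :
    (f a = a ∧ f b = b ∧ f c = c) ∨
    (∃ x y z, cub x y z = cub a b c ∧ x * y * z = a * b * c ∧ f x = y ∧ f y = x ∧ f z = z ∧
      x ≠ y ∧ x ≠ z ∧ y ≠ z) ∨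
    (f a = b ∧ f b = c ∧ f c = a ∧ a ≠ b ∧ a ≠ c ∧ b ≠ c) ∨
    (f a = c ∧ f c = b ∧ f b = a ∧ a ≠ b ∧ a ≠ c ∧ b ≠ c) := by
  have two : ∀ x y z, f x = y → f y = x → f z = z → x ≠ y → x ≠ z ∧ y ≠ z := by
    intro x y z hx hy hz hne
    exact ⟨fun e => by subst e; exact hne (hz.symm.trans hx), fun e => by subst e; exact hne (hy.symm.trans hz)⟩
  have three : ∀ x y z, f x = y → f y = z → f z = x → ¬ (x = y ∧ y = z) → x ≠ y ∧ x ≠ z ∧ y ≠ z := by
    intro x y z hx hy hz hne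
    refine ⟨fun e => hne ⟨e, ?_⟩, fun e => hne ?_, fun e => hne ?_⟩
    · subst e; exact hx.symm.trans hy
    · subst e
      have : x = y := hz.symm.trans hx
      exact ⟨this, this.symm⟩
    · subst e
      have : y = x := hy.symm.trans hz
      exact ⟨this.symm, rfl⟩
  rw [← List.mem_permutations'] at h
  simp [List.permutations'] at h
  rcases h with ⟨h1, h2, h3⟩ | ⟨h1, h2, h3⟩ | ⟨h1, h2, h3⟩ | ⟨h1, h2, h3⟩ | ⟨h1, h2, h3⟩ | ⟨h1, h2, h3⟩
  · exact Or.inl ⟨h1, h2, h3⟩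
  · by_cases hne : a = b
    · subst hne; exact Or.inl ⟨h1, h2, h3⟩
    · exact Or.inr (Or.inl ⟨a, b, c, rfl, rfl, h1, h2, h3, hne, (two a b c h1 h2 h3 hne).1, (two a b c h1 h2 h3 hne).2⟩)
  · by_cases hne : a = b ∧ b = c
    · obtain ⟨rfl, rfl⟩ := hne; exact Or.inl ⟨h1, h2, h3⟩
    · obtain ⟨e1, e2, e3⟩ := three a b c h1 h2 h3 hne
      exact Or.inr (Or.inr (Or.inl ⟨h1, h2, h3, e1, e2, e3⟩))
  · by_cases hne : b = c
    · subst hne; exact Or.inl ⟨h1, h2, h3⟩
    · refine Or.inr (Or.inl ⟨b, c, a, ?_, by ring, h2, h3, h1, hne, (two b c a h2 h3 h1 hne).1, (two b c a h2 h3 h1 hne).2⟩)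
      unfold cub; ring
  · by_cases hne : a = c ∧ c = b
    · obtain ⟨rfl, rfl⟩ := hne; exact Or.inl ⟨h1, h2, h3⟩
    · obtain ⟨e1, e2, e3⟩ := three a c b h1 h3 h2 hne
      exact Or.inr (Or.inr (Or.inr ⟨h1, h3, h2, e2, e1, e3.symm⟩))
  · by_cases hne : a = c
    · subst hne; exact Or.inl ⟨h1, h2, h3⟩
    · refine Or.inr (Or.inl ⟨a, c, b, ?_, by ring, h1, h3, h2, hne, (two a c b h1 h3 h2 hne).1, (two a c b h1 h3 h2 hne).2⟩)
      unfold cub; ring

theorem dvd_distinct {a b c μ : K} {k : ℕ} (hab : a ≠ b) (hac : a ≠ c) (hbc : b ≠ c)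
    (ha : a ^ k = μ) (hb : b ^ k = μ) (hc : c ^ k = μ) : cub a b c ∣ X ^ k - C μ := by
  have h : ∀ x : K, x ^ k = μ → X - C x ∣ X ^ k - C μ := fun x hx => dvd_iff_isRoot.2 (by simp [hx])
  have co : ∀ x y : K, x ≠ y → IsCoprime (X - C x) (X - C y) := fun x y hxy =>
    isCoprime_X_sub_C_of_isUnit_sub (isUnit_iff_ne_zero.2 (sub_ne_zero.2 hxy))
  exact ((co a c hac).mul_left (co b c hbc)).mul_dvd ((co a b hab).mul_dvd (h a ha) (h b hb)) (h c hc)

theorem dvd_double (p : ℕ) [Fact p.Prime] [CharP K p] {a c μ : K} {m : ℕ} (hac : a ≠ c)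
    (ha : a ^ m = μ) (hc : c ^ m = μ) : cub a a c ∣ X ^ (m * p) - C (μ ^ p) := by
  rw [pow_mul, C_pow, ← sub_pow_char]
  have h : ∀ x : K, x ^ m = μ → X - C x ∣ X ^ m - C μ := fun x hx => dvd_iff_isRoot.2 (by simp [hx])
  have co : IsCoprime (X - C a) (X - C c) := isCoprime_X_sub_C_of_isUnit_sub (isUnit_iff_ne_zero.2 (sub_ne_zero.2 hac))
  refine (co.mul_left co).mul_dvd ?_ ((h c hc).trans (dvd_pow_self _ (Fact.out : p.Prime).ne_zero))
  rw [← pow_two]
  exact (pow_dvd_pow_of_dvd (h a ha) 2).trans (pow_dvd_pow _ (Fact.out : p.Prime).two_le)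

theorem dvd_triple (p : ℕ) [Fact p.Prime] [CharP K p] (a : K) {e : ℕ} (he : 3 ≤ p ^ e) :
    cub a a a ∣ X ^ (p ^ e) - C (a ^ (p ^ e)) := by
  rw [C_pow, ← sub_pow_char_pow]
  rw [cub, show (X - C a) * (X - C a) * (X - C a) = (X - C a) ^ 3 by ring]
  exact pow_dvd_pow _ he

theorem three_mul_dvd {N k : ℕ} : N ∣ 3 * k ↔ N / Nat.gcd 3 N ∣ k := by
  rcases (Nat.dvd_prime Nat.prime_three).1 (Nat.gcd_dvd_left 3 N) with h | h
  · rw [h, Nat.div_one]
    exact ⟨fun hd => (Nat.Coprime.symm h).dvd_of_dvd_mul_left hd, fun hd => hd.mul_left 3⟩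
  · obtain ⟨m, rfl⟩ := h ▸ Nat.gcd_dvd_right 3 N
    rw [h, Nat.mul_div_cancel_left m three_pos, Nat.mul_dvd_mul_iff_left three_pos]

theorem dvd_three_mul_div (N : ℕ) : N ∣ 3 * (N / Nat.gcd 3 N) := three_mul_dvd.2 dvd_rfl

/-- All three roots fixed. -/
theorem fixed_case (p : ℕ) [Fact p.Prime] [CharP K p] {N : ℕ} {a b c : K} (ha : a ^ N = 1)
    (hb : b ^ N = 1) (hc : c ^ N = 1) (habc : a * b * c = 1) :
    ∃ k, (k ∣ N ∨ k ∣ p * (N / Nat.gcd 3 N) ∨ (p = 2 ∧ k ∣ 4)) ∧ ∃ μ : K, cub a b c ∣ X ^ k - C μ := by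
  have dbl : ∀ x y : K, x ≠ y → x ^ N = 1 → x * x * y = 1 → ∀ {s : K[X]}, s = cub x x y →
      ∃ k, (k ∣ N ∨ k ∣ p * (N / Nat.gcd 3 N) ∨ (p = 2 ∧ k ∣ 4)) ∧ ∃ μ : K, s ∣ X ^ k - C μ := by
    intro x y hxy hx hprod s hs
    subst hs
    set m := N / Nat.gcd 3 N with hm
    refine ⟨m * p, Or.inr (Or.inl (mul_comm m p ▸ dvd_rfl)), (x ^ m) ^ p, dvd_double p hxy rfl ?_⟩
    have h1 : (x ^ m) ^ 3 = 1 := by
      rw [← pow_mul, mul_comm]
      obtain ⟨w, hw⟩ := dvd_three_mul_div N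
      rw [hm, hw, pow_mul, hx, one_pow]
    have h2 : x ^ m * x ^ m * y ^ m = 1 := by rw [← mul_pow, ← mul_pow, hprod, one_pow]
    calc y ^ m = (x ^ m) ^ 3 * y ^ m := by rw [h1, one_mul]
      _ = x ^ m * (x ^ m * x ^ m * y ^ m) := by ring
      _ = x ^ m := by rw [h2, mul_one]
  by_cases hab : a = b
  · subst hab
    by_cases hac : a = c
    · subst hac
      rcases (Fact.out : p.Prime).eq_two_or_odd with rfl | hp
      · exact ⟨4, Or.inr (Or.inr ⟨rfl, dvd_rfl⟩), _, dvd_triple 2 a (e := 2) (by norm_num)⟩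
      · refine ⟨p ^ 1, Or.inr (Or.inl (by rw [pow_one]; exact dvd_mul_right _ _)), _, dvd_triple p a (e := 1) ?_⟩
        have := (Fact.out : p.Prime).two_le
        rw [pow_one]; omega
    · exact dbl a c hac ha habc rfl
  · by_cases hac : a = c
    · subst hac
      exact dbl a b hab ha (by rw [← habc]; ring) (cub_comm₂ a b a)
    · by_cases hbc : b = c
      · subst hbc
        exact dbl b a (Ne.symm hab) hb (by rw [← habc]; ring) (by unfold cub; ring)
      · exact ⟨N, Or.inl dvd_rfl, 1, dvd_distinct hab hac hbc ha hb hc⟩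

variable {F : Type*} [Field F]

theorem exists_roots [IsAlgClosed K] (φ : F →+* K) (M : Matrix (Fin 3) (Fin 3) F) :
    ∃ a b c : K, M.charpoly.map φ = cub a b c ∧ a * b * c = φ M.det := by
  set f := M.charpoly.map φ with hf
  have hs : f.Splits := IsAlgClosed.splits f
  have hm : f.Monic := (Matrix.charpoly_monic M).map φ
  have hcard : f.roots.card = 3 := by
    rw [← hs.natDegree_eq_card_roots, hf, (Matrix.charpoly_monic M).natDegree_map, Matrix.charpoly_natDegree_eq_dim]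
    rfl
  obtain ⟨a, b, c, habc⟩ := Multiset.card_eq_three.1 hcard
  refine ⟨a, b, c, ?_, ?_⟩
  · rw [hs.eq_prod_roots_of_monic hm, habc]
    simp [cub, mul_assoc]
  · have h := Matrix.det_eq_prod_roots_charpoly (M.map φ)
    rw [Matrix.charpoly_map, ← hf, habc] at h
    rw [RingHom.map_det, RingHom.mapMatrix_apply, h]
    simp [mul_assoc]

theorem pow_scalar (φ : F →+* K) (M : Matrix (Fin 3) (Fin 3) F) {a b c μ : K} {k : ℕ}
    (hcp : M.charpoly.map φ = cub a b c) (hd : cub a b c ∣ X ^ k - C μ) : ∃ x : F, M ^ k = x • 1 := by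
  have h0 : aeval (M.map φ) (X ^ k - C μ) = 0 := by
    refine aeval_eq_zero_of_dvd_aeval_eq_zero hd ?_
    rw [← hcp, ← Matrix.charpoly_map, Matrix.aeval_self_charpoly]
  simp only [map_sub, map_pow, aeval_X, aeval_C, sub_eq_zero] at h0
  rw [← RingHom.mapMatrix_apply, ← map_pow, RingHom.mapMatrix_apply] at h0
  have hij : ∀ i j, φ ((M ^ k) i j) = if i = j then μ else 0 := fun i j => by
    have := congrFun (congrFun h0 i) j
    rw [Matrix.map_apply, Matrix.algebraMap_matrix_apply] at this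
    simpa using this
  refine ⟨(M ^ k) 0 0, Matrix.ext fun i j => φ.injective ?_⟩
  rw [hij, Matrix.smul_apply, Matrix.one_apply]
  split <;> simp [hij]

theorem orderOf_eq_of_iff {G : Type*} [Monoid G] {x : G} {n : ℕ} (h : ∀ k, x ^ k = 1 ↔ n ∣ k) : orderOf x = n :=
  Nat.dvd_antisymm (orderOf_dvd_of_pow_eq_one ((h n).2 dvd_rfl)) ((h _).1 (pow_orderOf_eq_one x))

theorem diag_pow (x y z : F) (k : ℕ) :
    (!![x, 0, 0; 0, y, 0; 0, 0, z] : Matrix (Fin 3) (Fin 3) F) ^ k = !![x ^ k, 0, 0; 0, y ^ k, 0; 0, 0, z ^ k] := by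
  induction k with
  | zero => ext i j; fin_cases i <;> fin_cases j <;> simp
  | succ k ih => rw [pow_succ, ih]; ext i j; fin_cases i <;> fin_cases j <;> simp [Matrix.mul_apply, Fin.sum_univ_three, pow_succ]

theorem diag_scalar (x y z : F) : (∃ c : F, (!![x, 0, 0; 0, y, 0; 0, 0, z] : Matrix (Fin 3) (Fin 3) F) = c • 1) ↔ x = y ∧ y = z := by
  constructor
  · rintro ⟨c, hc⟩
    have h0 := congrFun (congrFun hc 0) 0
    have h1 := congrFun (congrFun hc 1) 1
    have h2 := congrFun (congrFun hc 2) 2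
    simp at h0 h1 h2
    exact ⟨h0.trans h1.symm, h1.trans h2.symm⟩
  · rintro ⟨rfl, rfl⟩
    exact ⟨x, by ext i j; fin_cases i <;> fin_cases j <;> simp⟩

theorem jordan_pow (x z t : F) (k : ℕ) :
    (!![x, x * t, 0; 0, x, 0; 0, 0, z] : Matrix (Fin 3) (Fin 3) F) ^ k =
      !![x ^ k, k * t * x ^ k, 0; 0, x ^ k, 0; 0, 0, z ^ k] := by
  induction k with
  | zero => ext i j; fin_cases i <;> fin_cases j <;> simp
  | succ k ih =>
    rw [pow_succ, ih]
    ext i j
    fin_cases i <;> fin_cases j <;> simp [Matrix.mul_apply, Fin.sum_univ_three, pow_succ]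
    ring

theorem jordan_scalar (p : ℕ) [Fact p.Prime] [CharP F p] {N : ℕ} (hN : N.Coprime p) {x t : F} (ht : t ≠ 0)
    (hx0 : x ≠ 0) (hx : ∀ j, x ^ j = 1 ↔ N ∣ j) (k : ℕ) :
    (∃ c : F, (!![x, x * t, 0; 0, x, 0; 0, 0, (x * x)⁻¹] : Matrix (Fin 3) (Fin 3) F) ^ k = c • 1) ↔
      p * (N / Nat.gcd 3 N) ∣ k := by
  rw [jordan_pow]
  have hco : p.Coprime (N / Nat.gcd 3 N) :=
    Nat.Coprime.coprime_dvd_right (Nat.div_dvd_of_dvd (Nat.gcd_dvd_right 3 N)) hN.symm
  have hxz : x ^ k = ((x * x)⁻¹) ^ k ↔ N / Nat.gcd 3 N ∣ k := by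
    rw [← three_mul_dvd, ← hx, inv_pow, ← mul_eq_one_iff_eq_inv₀ (pow_ne_zero _ (mul_ne_zero hx0 hx0)), mul_pow]
    constructor <;> intro h <;> rw [← h] <;> ring
  constructor
  · rintro ⟨c, hc⟩
    have h0 := congrFun (congrFun hc 0) 0
    have h1 := congrFun (congrFun hc 0) 1
    have h2 := congrFun (congrFun hc 2) 2
    simp [ht, hx0] at h0 h1 h2
    exact hco.mul_dvd_of_dvd_of_dvd ((CharP.cast_eq_zero_iff F p k).1 h1)
      (hxz.1 (by simpa [mul_inv, mul_comm] using h0.trans h2.symm))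
  · intro h
    have h1 : (k : F) = 0 := (CharP.cast_eq_zero_iff F p k).2 (dvd_trans (dvd_mul_right _ _) h)
    have h2 := hxz.2 (dvd_trans (dvd_mul_left _ _) h)
    refine ⟨x ^ k, ?_⟩
    rw [← h2, h1]
    ext i j
    fin_cases i <;> fin_cases j <;> simp

end general

section linear

variable {F : Type*} [Field F] [Fintype F]

local notation "Q" => Fintype.card F
local notation "PSL₃" => Matrix.ProjectiveSpecialLinearGroup (Fin 3) F

theorem mem_of_fixed {K : Type*} [Field K] [Algebra F K] {x : K} (h : x ^ Q = x) (hx : x ≠ 0) : x ^ (Q - 1) = 1 := by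
  refine mul_right_cancel₀ hx ?_
  rw [← pow_succ, Nat.sub_add_cancel Fintype.card_pos, h, one_mul]

theorem psl_upper (p : ℕ) [Fact p.Prime] [CharP F p] (g : PSL₃) :
    let d := Nat.gcd 3 (Q - 1)
    orderOf g ∣ (Q ^ 2 + Q + 1) / d ∨ orderOf g ∣ (Q ^ 2 - 1) / d ∨ orderOf g ∣ Q - 1 ∨
      orderOf g ∣ p * (Q - 1) / d ∨ (p = 2 ∧ orderOf g ∣ 4) := by
  classical
  intro d
  obtain ⟨A, rfl⟩ := QuotientGroup.mk_surjective g
  let K := AlgebraicClosure F
  let φ : F →+* K := algebraMap F K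
  haveI : CharP K p := charP_of_injective_algebraMap φ.injective p
  obtain ⟨a, b, c, hcp, hprod⟩ := exists_roots φ A.1
  rw [A.2, map_one] at hprod
  obtain ⟨f, hp, hf⟩ := FiniteField.card F p
  let τ : K →+* K := iterateFrobenius K p f
  have hτ : ∀ x, τ x = x ^ Q := fun x => by rw [hf]; exact iterateFrobenius_def ..
  have hmap : ∀ x : F, τ (φ x) = φ x := fun x => by rw [hτ, ← map_pow, FiniteField.pow_card]
  have hperm : [τ a, τ b, τ c].Perm [a, b, c] := by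
    refine cub_perm ?_
    conv_rhs => rw [← hcp]
    rw [show A.1.charpoly.map φ = (A.1.charpoly.map φ).map τ by
      rw [Polynomial.map_map, show τ.comp φ = φ from RingHom.ext hmap], hcp]
    simp [cub]
  have key : ∀ {k : ℕ} {μ : K}, cub a b c ∣ X ^ k - C μ → orderOf (QuotientGroup.mk A : PSL₃) ∣ k := by
    intro k μ h
    obtain ⟨x, hx⟩ := pow_scalar φ A.1 hcp h
    refine orderOf_dvd_of_pow_eq_one ?_
    rw [← QuotientGroup.mk_pow, CfsgLib.Absorb.mk_eq_one]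
    exact ⟨x, by rw [Matrix.SpecialLinearGroup.coe_pow]; exact hx⟩
  have ne0 : ∀ {x y z : K}, x * y * z = 1 → x ≠ 0 ∧ y ≠ 0 ∧ z ≠ 0 := fun h =>
    ⟨fun e => by simp [e] at h, fun e => by simp [e] at h, fun e => by simp [e] at h⟩
  have hQ : 1 < Q := Fintype.one_lt_card
  have hd3 : d ∣ 3 := Nat.gcd_dvd_left _ _
  have hdQ : d ∣ Q - 1 := Nat.gcd_dvd_right _ _
  have hmod : ∀ {μ : K}, μ ^ d = 1 → μ ^ Q = μ := fun {μ} h => by
    obtain ⟨w, hw⟩ := hdQ
    rw [show Q = d * w + 1 by omega, pow_succ, pow_mul, h, one_pow, one_mul]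
  have third : ∀ {x y z μ : K} {m : ℕ}, x * y * z = 1 → x ^ m = μ → y ^ m = μ → μ ^ 3 = 1 → z ^ m = μ := by
    intro x y z μ m h hx hy h3
    have h1 : x ^ m * y ^ m * z ^ m = 1 := by rw [← mul_pow, ← mul_pow, h, one_pow]
    rw [hx, hy] at h1
    calc z ^ m = μ ^ 3 * z ^ m := by rw [h3, one_mul]
      _ = μ * (μ * μ * z ^ m) := by ring
      _ = μ := by rw [h1, mul_one]
  have pow3 : ∀ {μ : K}, μ ^ d = 1 → μ ^ 3 = 1 := fun {μ} h => by
    obtain ⟨w, hw⟩ := hd3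
    rw [hw, pow_mul, h, one_pow]
  have cyc : ∀ x y z : K, cub x y z = cub a b c → x * y * z = 1 → x ^ Q = y → y ^ Q = z →
      x ≠ y → x ≠ z → y ≠ z → orderOf (QuotientGroup.mk A : PSL₃) ∣ (Q ^ 2 + Q + 1) / d := by
    intro x y z hs hxyz hxy hyz e1 e2 e3
    have hN : x ^ (Q ^ 2 + Q + 1) = 1 := by
      rw [← hxyz, ← hyz, ← hxy, ← pow_mul, ← pow_two, pow_succ, pow_add]; ring
    have hdN : d ∣ Q ^ 2 + Q + 1 := by
      obtain ⟨v, hv⟩ := hdQ
      obtain ⟨w, hw⟩ := hd3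
      rw [show Q = d * v + 1 by omega]
      exact ⟨d * v * v + 3 * v + w, by ring_nf; nlinarith⟩
    set m := (Q ^ 2 + Q + 1) / d
    have hμ : (x ^ m) ^ d = 1 := by rw [← pow_mul, Nat.div_mul_cancel hdN, hN]
    have hy : y ^ m = x ^ m := by rw [← hxy, ← pow_mul, mul_comm, pow_mul, hmod hμ]
    exact key (hs ▸ dvd_distinct e1 e2 e3 rfl hy (third hxyz rfl hy (pow3 hμ)))
  rcases perm_cases τ.injective hperm with ⟨h1, h2, h3⟩ | ⟨x, y, z, hs, hxyz, h1, h2, -, e1, e2, e3⟩ |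
      ⟨h1, h2, -, e1, e2, e3⟩ | ⟨h1, h2, -, e1, e2, e3⟩
  · rw [hτ] at h1 h2 h3
    obtain ⟨ha, hb, hc⟩ := ne0 hprod
    obtain ⟨k, hk, μ, hd⟩ := fixed_case p (mem_of_fixed h1 ha) (mem_of_fixed h2 hb) (mem_of_fixed h3 hc) hprod
    have := key hd
    rcases hk with hk | hk | ⟨h2, hk⟩
    · exact Or.inr (Or.inr (Or.inl (this.trans hk)))
    · exact Or.inr (Or.inr (Or.inr (Or.inl (this.trans (by rw [Nat.mul_div_assoc _ hdQ]; exact hk)))))
    · exact Or.inr (Or.inr (Or.inr (Or.inr ⟨h2, this.trans hk⟩)))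
  · rw [hτ] at h1 h2
    obtain ⟨hx, -, -⟩ := ne0 (hxyz.trans hprod)
    right; left
    have hN : x ^ (Q ^ 2 - 1) = 1 := by
      refine mul_right_cancel₀ hx ?_
      rw [← pow_succ, Nat.sub_add_cancel (Nat.one_le_pow _ _ Fintype.card_pos), pow_two, pow_mul, h1, h2, one_mul]
    have hdN : d ∣ Q ^ 2 - 1 := hdQ.trans ⟨Q + 1, by rw [mul_comm, ← Nat.sq_sub_sq, one_pow]⟩
    set m := (Q ^ 2 - 1) / d
    have hμ : (x ^ m) ^ d = 1 := by rw [← pow_mul, Nat.div_mul_cancel hdN, hN]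
    have hy : y ^ m = x ^ m := by rw [← h1, ← pow_mul, mul_comm, pow_mul, hmod hμ]
    exact key (hs ▸ dvd_distinct e1 e2 e3 rfl hy (third (hxyz.trans hprod) rfl hy (pow3 hμ)))
  · exact Or.inl (cyc a b c rfl hprod (by rw [← hτ, h1]) (by rw [← hτ, h2]) e1 e2 e3)
  · exact Or.inl (cyc a c b (cub_comm₂ a c b) (by rw [← hprod]; ring) (by rw [← hτ, h1]) (by rw [← hτ, h2]) e2 e1
      e3.symm)

theorem psl_order (A : Matrix.SpecialLinearGroup (Fin 3) F) {n : ℕ}
    (h : ∀ k, (∃ c : F, A.1 ^ k = c • 1) ↔ n ∣ k) : orderOf (QuotientGroup.mk A : PSL₃) = n := by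
  refine orderOf_eq_of_iff fun k => ?_
  rw [← h k, ← Matrix.SpecialLinearGroup.coe_pow, ← CfsgLib.Absorb.mk_eq_one]
  rfl

theorem exists_q_sub_one : ∃ g : PSL₃, orderOf g = Q - 1 := by
  classical
  obtain ⟨u, hu⟩ := IsCyclic.exists_ofOrder_eq_natCard (α := Fˣ)
  rw [Nat.card_units, Nat.card_eq_fintype_card] at hu
  refine ⟨QuotientGroup.mk ⟨!![(u : F), 0, 0; 0, 1, 0; 0, 0, ((u⁻¹ : Fˣ) : F)], by simp [Matrix.det_fin_three]⟩,
    psl_order _ fun k => ?_⟩
  rw [← hu, orderOf_dvd_iff_pow_eq_one]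
  simp only [diag_pow, diag_scalar, one_pow, ← Units.val_pow_eq_pow_val, Units.val_eq_one, inv_pow]
  constructor
  · exact fun h => h.1
  · intro h; simp [h]

theorem exists_p_mul (p : ℕ) [Fact p.Prime] [CharP F p] :
    ∃ g : PSL₃, orderOf g = p * (Q - 1) / Nat.gcd 3 (Q - 1) := by
  classical
  obtain ⟨u, hu⟩ := IsCyclic.exists_ofOrder_eq_natCard (α := Fˣ)
  rw [Nat.card_units, Nat.card_eq_fintype_card] at hu
  have hco : (Q - 1).Coprime p := by
    obtain ⟨f, hp, hf⟩ := FiniteField.card F p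
    refine Nat.Coprime.coprime_dvd_right (hf ▸ dvd_pow_self p f.pos.ne') ?_
    obtain ⟨r, hr⟩ : ∃ r, Q = r + 1 := ⟨Q - 1, by have := Fintype.card_pos (α := F); omega⟩
    rw [hr, Nat.add_sub_cancel]; simp
  refine ⟨QuotientGroup.mk ⟨!![(u : F), u * 1, 0; 0, u, 0; 0, 0, ((u : F) * u)⁻¹], ?_⟩,
    psl_order _ fun k => ?_⟩
  · simp [Matrix.det_fin_three]; field_simp
  rw [Nat.mul_div_assoc _ (Nat.gcd_dvd_right _ _)]
  exact jordan_scalar p hco one_ne_zero u.ne_zero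
    (fun j => by rw [← Units.val_pow_eq_pow_val, Units.val_eq_one, ← orderOf_dvd_iff_pow_eq_one, hu]) k

theorem exists_quadratic (p : ℕ) [Fact p.Prime] [CharP F p] :
    ∃ g : PSL₃, orderOf g = (Q ^ 2 - 1) / Nat.gcd 3 (Q - 1) := by
  classical
  let K := FiniteField.Extension F p 2
  have hfin : Module.finrank F K = 2 := FiniteField.finrank_extension F p 2
  let bs := Module.finBasisOfFinrankEq F K hfin
  obtain ⟨u, hu⟩ := IsCyclic.exists_ofOrder_eq_natCard (α := Kˣ)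
  rw [Nat.card_units, FiniteField.natCard_extension, Nat.card_eq_fintype_card] at hu
  set A := Algebra.leftMulMatrix bs (u : K) with hA
  set δ := A.det with hδ
  have hδK : algebraMap F K δ = (u : K) ^ (Q + 1) := by
    rw [hδ, hA, ← Algebra.norm_eq_matrix_det, FiniteField.algebraMap_norm_eq_pow, FiniteField.natCard_extension,
      Nat.card_eq_fintype_card, ← Nat.geomSum_eq Fintype.one_lt_card, Finset.sum_range_succ,
      Finset.sum_range_one, pow_zero, pow_one, add_comm]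
  have hδ0 : δ ≠ 0 := fun h => pow_ne_zero (Q + 1) u.ne_zero (by rw [← hδK, h, map_zero])
  let M : ℕ → Matrix (Fin 3) (Fin 3) F := fun k =>
    !![(A ^ k) 0 0, (A ^ k) 0 1, 0; (A ^ k) 1 0, (A ^ k) 1 1, 0; 0, 0, δ⁻¹ ^ k]
  have hM : ∀ k, M 1 ^ k = M k := fun k => by
    induction k with
    | zero => ext i j; fin_cases i <;> fin_cases j <;> simp [M]
    | succ k ih =>
      rw [pow_succ, ih]
      ext i j
      fin_cases i <;> fin_cases j <;>
        simp [M, Matrix.mul_apply, Fin.sum_univ_three, Fin.sum_univ_two, pow_succ]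
      all_goals exact mul_comm _ _
  refine ⟨QuotientGroup.mk ⟨M 1, ?_⟩, psl_order _ fun k => ?_⟩
  · have h : δ = A 0 0 * A 1 1 - A 0 1 * A 1 0 := by rw [hδ, Matrix.det_fin_two]
    simp [M, Matrix.det_fin_three]
    rw [← sub_mul, ← h, mul_inv_cancel₀ hδ0]
  show (∃ c : F, M 1 ^ k = c • 1) ↔ _
  rw [hM]
  have hscal : (∃ c : F, M k = c • 1) ↔ ∃ c : F, (u : K) ^ k = algebraMap F K c ∧ c ^ 3 = 1 := by
    have hAc : ∀ c : F, (u : K) ^ k = algebraMap F K c ↔ A ^ k = c • 1 := fun c => by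
      rw [← (Algebra.leftMulMatrix_injective bs).eq_iff, map_pow, AlgHom.commutes, Algebra.algebraMap_eq_smul_one]
    refine exists_congr fun c => ?_
    rw [hAc]
    constructor
    · intro h
      have e00 := congrFun (congrFun h 0) 0
      have e01 := congrFun (congrFun h 0) 1
      have e10 := congrFun (congrFun h 1) 0
      have e11 := congrFun (congrFun h 1) 1
      have e22 := congrFun (congrFun h 2) 2
      simp [M] at e00 e01 e10 e11 e22
      have hAk : A ^ k = c • 1 := by ext i j; fin_cases i <;> fin_cases j <;> simp [e00, e01, e10, e11]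
      refine ⟨hAk, ?_⟩
      have h2 := congrArg Matrix.det hAk
      rw [Matrix.det_pow, ← hδ, Matrix.det_smul, Matrix.det_one, mul_one, Fintype.card_fin] at h2
      calc c ^ 3 = c ^ 2 * c := by ring
        _ = δ ^ k * (δ ^ k)⁻¹ := by rw [← h2, e22]
        _ = 1 := mul_inv_cancel₀ (pow_ne_zero _ hδ0)
    · rintro ⟨h, h3⟩
      have h2 := congrArg Matrix.det h
      rw [Matrix.det_pow, ← hδ, Matrix.det_smul, Matrix.det_one, mul_one, Fintype.card_fin] at h2
      have hc : (δ ^ k)⁻¹ = c := inv_eq_of_mul_eq_one_right (by rw [h2, ← h3]; ring)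
      ext i j
      fin_cases i <;> fin_cases j <;> simp [M, h, inv_pow, hc]
  rw [hscal]
  have hdQ : Nat.gcd 3 (Q - 1) ∣ Q - 1 := Nat.gcd_dvd_right _ _
  have hQ2 : Q ^ 2 - 1 = (Q + 1) * (Q - 1) := by rw [← Nat.sq_sub_sq, one_pow]
  rw [hQ2, Nat.mul_div_assoc _ hdQ]
  constructor
  · rintro ⟨c, hc, h3⟩
    have hc0 : c ≠ 0 := fun h => by rw [h, zero_pow three_ne_zero] at h3; exact zero_ne_one h3
    have h1 : (u : K) ^ (k * (Q - 1)) = 1 := by rw [pow_mul, hc, ← map_pow, FiniteField.pow_card_sub_one_eq_one c hc0, map_one]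
    rw [← Units.val_pow_eq_pow_val, Units.val_eq_one, ← orderOf_dvd_iff_pow_eq_one, hu, hQ2] at h1
    have hk := (Nat.mul_dvd_mul_iff_right (Nat.sub_pos_of_lt Fintype.one_lt_card)).1 h1
    obtain ⟨j, rfl⟩ := hk
    have h2 : (u : K) ^ ((Q + 1) * (3 * j)) = 1 := by
      rw [show (Q + 1) * (3 * j) = (Q + 1) * j * 3 by ring, pow_mul, hc, ← map_pow, h3, map_one]
    rw [← Units.val_pow_eq_pow_val, Units.val_eq_one, ← orderOf_dvd_iff_pow_eq_one, hu, hQ2,
      Nat.mul_dvd_mul_iff_left (Nat.succ_pos _)] at h2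
    exact Nat.mul_dvd_mul_left _ (three_mul_dvd.1 h2)
  · rintro ⟨w, hw⟩
    set m := (Q - 1) / Nat.gcd 3 (Q - 1)
    refine ⟨δ ^ (m * w), ?_, ?_⟩
    · rw [map_pow, hδK, ← pow_mul, hw, mul_assoc]
    · rw [← pow_mul]
      obtain ⟨v, hv⟩ := dvd_three_mul_div (Q - 1)
      rw [show m * w * 3 = (Q - 1) * (v * w) by rw [← mul_assoc, ← hv]; ring, pow_mul,
        FiniteField.pow_card_sub_one_eq_one δ hδ0, one_pow]

theorem exists_four (h : CharP F 2) : ∃ g : PSL₃, orderOf g = 4 := by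
  have h2 : (1 : F) + 1 = 0 := CharTwo.add_self_eq_zero 1
  set M : Matrix (Fin 3) (Fin 3) F := !![1, 1, 0; 0, 1, 1; 0, 0, 1] with hM
  have e4 : M ^ 4 = 1 := by
    rw [show 4 = 2 * 2 by rfl, pow_mul, pow_two, pow_two, hM]
    ext i j
    fin_cases i <;> fin_cases j <;> simp [Matrix.mul_apply, Fin.sum_univ_three, h2]
  refine ⟨QuotientGroup.mk ⟨M, by simp [hM, Matrix.det_fin_three]⟩, psl_order _ fun k => ⟨fun hk => ?_, ?_⟩⟩
  · obtain ⟨c, hc⟩ := hk
    change M ^ k = c • 1 at hc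
    rw [← Nat.div_add_mod k 4, pow_add, pow_mul, e4, one_pow, one_mul] at hc
    have := Nat.mod_lt k (show 4 > 0 by norm_num)
    by_contra hne
    have hk4 : k % 4 ≠ 0 := fun h0 => hne (Nat.dvd_of_mod_eq_zero h0)
    interval_cases hr : k % 4
    · exact hk4 rfl
    · have := congrFun (congrFun hc 0) 1
      simp [hM] at this
    · have := congrFun (congrFun hc 0) 2
      simp [hM, pow_two, Matrix.mul_apply, Fin.sum_univ_three] at this
    · have := congrFun (congrFun hc 0) 2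
      simp [hM, pow_succ, Matrix.mul_apply, Fin.sum_univ_three, h2] at this
  · rintro ⟨w, rfl⟩
    exact ⟨1, by show M ^ (4 * w) = _; rw [pow_mul, e4, one_pow, one_smul]⟩

end linear

section unitary

open CfsgLib.SU

variable {F : Type*} [Field F] [Fintype F] {q : ℕ} (C : UCtx F q)

local notation "V₃" => (Fin 3 → F)

include C in
theorem mk_eq_one_iff (A : ↥(Cfsg.SU 3 F q)) : pr A = 1 ↔ ∃ c : F, A.1.1 = c • 1 := by
  rw [QuotientGroup.mk'_apply, QuotientGroup.eq_one_iff]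
  constructor
  · intro h
    obtain ⟨c, hc, -⟩ := C.scalar_of_mem_center le_rfl h
    exact ⟨((c : Fˣ) : F), by
      have := congrArg (fun g : ↥(Cfsg.GU 3 F q) => g.1.1) hc
      simpa [C.gscal_val, ofSU] using this⟩
  · rintro ⟨c, hc⟩
    exact Subgroup.mem_center_iff.2 (scalar_central hc)

include C in
/-- An isometry of a hermitian space of dimension three. -/
theorem transfer {V : Type*} [AddCommGroup V] [Module F V] [FiniteDimensional F V]
    (B : V →ₛₗ[(C.bar : F →+* F)] V →ₗ[F] F) (hS : B.IsSymm) (hB : B.Nondegenerate)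
    (hV : Module.finrank F V = 3) (g : V →ₗ[F] V) (hg : ∀ x y, B (g x) (g y) = B x y)
    (hdet : LinearMap.det g = 1) :
    ∃ A : ↥(Cfsg.SU 3 F q), ∀ k, pr A ^ k = 1 ↔ ∃ c : F, g ^ k = c • 1 := by
  classical
  obtain ⟨v, hv⟩ := HermFrames.exists_orth (HermFrames.bar_ne_id C) C.bar_bar hS hB 3 hV.ge
  let b := basisOfLinearIndependentOfCardEqFinrank (HermFrames.linearIndependent_of_orth hv) (by simp [hV])
  have hb : ∀ i, b i = v i := fun i => congrFun (coe_basisOfLinearIndependentOfCardEqFinrank _ _) i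
  let T := LinearMap.toMatrixAlgEquiv b
  have hT : ∀ x, T g *ᵥ b.equivFun x = b.equivFun (g x) := fun x => by
    show LinearMap.toMatrix b b g *ᵥ b.repr x = b.repr (g x)
    exact LinearMap.toMatrix_mulVec_repr b b g x
  have hform : ∀ x y, B x y = C.form (b.equivFun y) (b.equivFun x) := fun x y => by
    conv_lhs => rw [← b.sum_equivFun x, ← b.sum_equivFun y]
    simp only [map_sum, LinearMap.sum_apply, map_smulₛₗ, map_smul, LinearMap.smul_apply, hb, hv, smul_eq_mul,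
      RingHom.id_apply, mul_ite, mul_one, mul_zero, Finset.sum_ite_eq, Finset.mem_univ, if_true, UCtx.form]
    simp [mul_comm]
  have hd : (T g).det = 1 := by
    show (LinearMap.toMatrix b b g).det = 1
    rw [LinearMap.det_toMatrix, hdet]
  let A0 : Matrix.SpecialLinearGroup (Fin 3) F := ⟨T g, hd⟩
  have hmem : A0 ∈ Cfsg.SU 3 F q := fun u w => by
    show Cfsg.hermForm 3 F q (T g *ᵥ u) (T g *ᵥ w) = _
    obtain ⟨x, rfl⟩ := b.equivFun.surjective u
    obtain ⟨y, rfl⟩ := b.equivFun.surjective w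
    rw [hT, hT]
    show (∑ i, _ * _ ^ q) = ∑ i, _ * _ ^ q
    rw [C.hermForm_eq, C.hermForm_eq, ← hform, ← hform, hg]
  refine ⟨⟨A0, hmem⟩, fun k => ?_⟩
  rw [← map_pow, mk_eq_one_iff C]
  refine exists_congr fun c => ?_
  show (T g) ^ k = c • 1 ↔ _
  rw [← map_pow, ← map_one T, ← map_smul, T.injective.eq_iff]

/-- Hyperbolic plane plus a line. -/
noncomputable def hyp : V₃ →ₛₗ[(C.bar : F →+* F)] V₃ →ₗ[F] F :=
  LinearMap.mk₂'ₛₗ (C.bar : F →+* F) (RingHom.id F)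
    (fun x y => C.bar (x 0) * y 1 + C.bar (x 1) * y 0 + C.bar (x 2) * y 2)
    (fun a b c => by simp [map_add]; ring) (fun r a b => by simp [map_mul]; ring)
    (fun a b c => by simp; ring) (fun r a b => by simp; ring)

theorem hyp_symm : (hyp C).IsSymm := ⟨fun x y => by simp [hyp, C.bar_bar]; ring⟩

theorem hyp_nondeg : (hyp C).Nondegenerate := by
  refine ⟨fun x h => ?_, fun y h => ?_⟩
  · funext i
    have e0 := h (Pi.single 0 1); have e1 := h (Pi.single 1 1); have e2 := h (Pi.single 2 1)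
    simp [hyp] at e0 e1 e2
    fin_cases i <;> simp [e0, e1, e2]
  · funext i
    have e0 := h (Pi.single 0 1); have e1 := h (Pi.single 1 1); have e2 := h (Pi.single 2 1)
    simp [hyp] at e0 e1 e2
    fin_cases i <;> simp [e0, e1, e2]

include C in
theorem exists_hyp (M : Matrix (Fin 3) (Fin 3) F) (hdet : M.det = 1)
    (hM : ∀ x y, hyp C (M *ᵥ x) (M *ᵥ y) = hyp C x y) :
    ∃ g : Cfsg.PSU 3 F q, ∀ k, g ^ k = 1 ↔ ∃ c : F, M ^ k = c • 1 := by
  obtain ⟨A, hA⟩ := transfer C (hyp C) (hyp_symm C) (hyp_nondeg C) (by simp) (Matrix.toLinAlgEquiv' M) hM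
    (by show LinearMap.det (Matrix.toLin' M) = 1; rw [LinearMap.det_toLin', hdet])
  refine ⟨pr A, fun k => (hA k).trans (exists_congr fun c => ?_)⟩
  rw [← map_pow, ← map_one (Matrix.toLinAlgEquiv' (R := F) (n := Fin 3)), ← map_smul]
  exact (Matrix.toLinAlgEquiv' (R := F) (n := Fin 3)).injective.eq_iff

include C in
theorem card_units_norm (hF : Fintype.card F = q ^ 2) {N : ℕ} (hN : N ∣ q ^ 2 - 1) :
    ∃ a : F, a ≠ 0 ∧ ∀ j, a ^ j = 1 ↔ N ∣ j := by
  obtain ⟨u, hu⟩ := IsCyclic.exists_ofOrder_eq_natCard (α := Fˣ)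
  rw [Nat.card_units, Nat.card_eq_fintype_card, hF] at hu
  refine ⟨((u ^ (orderOf u / N) : Fˣ) : F), Units.ne_zero _, fun j => ?_⟩
  rw [← Units.val_pow_eq_pow_val, Units.val_eq_one, ← orderOf_dvd_iff_pow_eq_one,
    orderOf_pow_orderOf_div (orderOf_pos u).ne' (hu ▸ hN)]

include C in
theorem psu_q_add_one (hF : Fintype.card F = q ^ 2) : ∃ g : Cfsg.PSU 3 F q, orderOf g = q + 1 := by
  obtain ⟨a, ha0, ha⟩ := card_units_norm C hF (N := q + 1) ⟨q - 1, by rw [← Nat.sq_sub_sq, one_pow]⟩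
  have hb : C.bar a * a = 1 := by rw [C.bar_eq, ← pow_succ, ha]
  have hmem : (⟨!![a, 0, 0; 0, 1, 0; 0, 0, a⁻¹], by simp [Matrix.det_fin_three, ha0]⟩ :
      Matrix.SpecialLinearGroup (Fin 3) F) ∈ Cfsg.SU 3 F q := fun u w => by
    show (∑ i, ((!![a, 0, 0; 0, 1, 0; 0, 0, a⁻¹] : Matrix (Fin 3) (Fin 3) F) *ᵥ u) i *
      ((!![a, 0, 0; 0, 1, 0; 0, 0, a⁻¹] : Matrix (Fin 3) (Fin 3) F) *ᵥ w) i ^ q) = ∑ i, u i * w i ^ q
    rw [C.hermForm_eq, C.hermForm_eq]
    simp [UCtx.form, Fin.sum_univ_three, Matrix.mulVec, dotProduct, eq_inv_of_mul_eq_one_left hb, map_inv₀]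
    field_simp
  refine ⟨pr ⟨_, hmem⟩, orderOf_eq_of_iff fun k => ?_⟩
  rw [← map_pow, mk_eq_one_iff C, ← ha]
  show (∃ c : F, (!![a, 0, 0; 0, 1, 0; 0, 0, a⁻¹] : Matrix (Fin 3) (Fin 3) F) ^ k = c • 1) ↔ _
  rw [diag_pow, diag_scalar, one_pow, inv_pow]
  constructor
  · exact fun h => h.1
  · intro h; simp [h]

include C in
theorem psu_quadratic (hF : Fintype.card F = q ^ 2) :
    ∃ g : Cfsg.PSU 3 F q, orderOf g = (q ^ 2 - 1) / Nat.gcd 3 (q + 1) := by
  obtain ⟨a, ha0, ha⟩ := card_units_norm C hF (dvd_refl (q ^ 2 - 1))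
  have hb0 : C.bar a ≠ 0 := fun h => ha0 (by rw [← C.bar_bar a, h, map_zero])
  obtain ⟨g, hg⟩ := exists_hyp C !![a, 0, 0; 0, (C.bar a)⁻¹, 0; 0, 0, C.bar a / a]
    (by simp [Matrix.det_fin_three]; field_simp) (fun x y => by
      simp [hyp, Matrix.mulVec, dotProduct, Fin.sum_univ_three, C.bar_bar]
      field_simp)
  refine ⟨g, orderOf_eq_of_iff fun k => ?_⟩
  have hq : 1 < q := by
    have := Fintype.one_lt_card (α := F)
    rw [hF] at this
    by_contra h
    rcases Nat.le_one_iff_eq_zero_or_eq_one.1 (not_lt.1 h) with h | h <;> simp [h] at this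
  rw [hg, diag_pow, diag_scalar, show (q ^ 2 - 1) = (q - 1) * (q + 1) by rw [mul_comm, ← Nat.sq_sub_sq, one_pow],
    Nat.mul_div_assoc _ (Nat.gcd_dvd_right _ _), C.bar_eq, inv_pow, ← pow_mul, mul_comm q k, pow_mul, div_pow]
  have hp0 : a ^ k ≠ 0 := pow_ne_zero _ ha0
  rw [← pow_mul a q k, mul_comm q k, pow_mul a k q]
  constructor
  · rintro ⟨h1, h2⟩
    have e1 : (a ^ k) ^ (q + 1) = 1 := by
      rw [pow_succ]; field_simp at h1; linear_combination h1
    have e2 : (a ^ k) ^ 3 = 1 := by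
      field_simp at h1 h2
      linear_combination (a ^ k) ^ 2 * h2 + (a ^ k * (a ^ k) ^ q + 1) * h1
    rw [← pow_mul, ha] at e1 e2
    have hq2 : q ^ 2 - 1 = (q - 1) * (q + 1) := by rw [mul_comm, ← Nat.sq_sub_sq, one_pow]
    rw [hq2] at e1 e2
    obtain ⟨j, rfl⟩ := (Nat.mul_dvd_mul_iff_right (Nat.succ_pos q)).1 e1
    rw [show (q - 1) * j * 3 = (q - 1) * (3 * j) by ring, Nat.mul_dvd_mul_iff_left (by omega)] at e2
    exact Nat.mul_dvd_mul_left _ (three_mul_dvd.1 e2)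
  · rintro ⟨w, rfl⟩
    have hq2 : q ^ 2 - 1 = (q - 1) * (q + 1) := by rw [mul_comm, ← Nat.sq_sub_sq, one_pow]
    obtain ⟨v, hv⟩ := dvd_three_mul_div (q + 1)
    set m := (q + 1) / Nat.gcd 3 (q + 1)
    have e1 : (a ^ ((q - 1) * m * w)) ^ (q + 1) = 1 := by
      rw [← pow_mul, ha, hq2]; exact ⟨m * w, by ring⟩
    have e2 : (a ^ ((q - 1) * m * w)) ^ 3 = 1 := by
      rw [← pow_mul, ha, hq2]; exact ⟨v * w, by rw [show (q - 1) * m * w * 3 = (q - 1) * (3 * m) * w by ring, hv]; ring⟩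
    generalize a ^ ((q - 1) * m * w) = x at hp0 e1 e2 ⊢
    have h1 : x ^ q = x⁻¹ := eq_inv_of_mul_eq_one_left (by rw [← pow_succ]; exact e1)
    rw [h1, inv_inv]
    refine ⟨rfl, ?_⟩
    field_simp
    linear_combination e2

include C in
theorem psu_p_mul (p : ℕ) [Fact p.Prime] [CharP F p] (hF : Fintype.card F = q ^ 2) :
    ∃ g : Cfsg.PSU 3 F q, orderOf g = p * (q + 1) / Nat.gcd 3 (q + 1) := by
  obtain ⟨a, ha0, ha⟩ := card_units_norm C hF (N := q + 1) ⟨q - 1, by rw [← Nat.sq_sub_sq, one_pow]⟩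
  obtain ⟨t, ht0, ht⟩ := C.exists_trace_zero
  have hb : C.bar a * a = 1 := by rw [C.bar_eq, ← pow_succ, ha]
  obtain ⟨g, hg⟩ := exists_hyp C !![a, a * t, 0; 0, a, 0; 0, 0, (a * a)⁻¹]
    (by simp [Matrix.det_fin_three]; field_simp) (fun x y => by
      simp [hyp, Matrix.mulVec, dotProduct, Fin.sum_univ_three, eq_inv_of_mul_eq_one_left hb, map_inv₀]
      field_simp
      linear_combination (C.bar (x 1) * y 1) * ht)
  refine ⟨g, orderOf_eq_of_iff fun k => ?_⟩
  have hco : (q + 1).Coprime p := by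
    obtain ⟨f, hp, hf⟩ := FiniteField.card F p
    have hpq : p ∣ q := hp.dvd_of_dvd_pow (hF ▸ hf ▸ dvd_pow_self p f.pos.ne' : p ∣ q ^ 2)
    exact Nat.Coprime.coprime_dvd_right hpq (by simp)
  rw [hg, Nat.mul_div_assoc _ (Nat.gcd_dvd_right _ _)]
  exact jordan_scalar p hco ht0 ha0 ha k

include C in
theorem psu_singer (p : ℕ) [Fact p.Prime] [CharP F p] (hF : Fintype.card F = q ^ 2) :
    ∃ g : Cfsg.PSU 3 F q, orderOf g = (q ^ 2 - q + 1) / Nat.gcd 3 (q + 1) := by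
  classical
  let K := FiniteField.Extension F p 3
  have hfin : Module.finrank F K = 3 := FiniteField.finrank_extension F p 3
  haveI : Finite K := Module.finite_of_finite F
  letI : Fintype K := Fintype.ofFinite K
  have hK : Fintype.card K = q ^ 6 := by rw [Module.card_eq_pow_finrank (K := F), hfin, hF, ← pow_mul]
  haveI : CharP K p := charP_of_injective_algebraMap (algebraMap F K).injective p
  obtain ⟨f, hp, hf⟩ := FiniteField.card F p
  obtain ⟨e, he, hqe⟩ : ∃ e, e ≤ (f : ℕ) ∧ q = p ^ e := (Nat.dvd_prime_pow hp).1 (hf ▸ hF ▸ dvd_pow_self q two_ne_zero)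
  let θ : K →+* K := iterateFrobenius K p (e * 3)
  have hθ : ∀ x, θ x = x ^ q ^ 3 := fun x => by rw [hqe, ← pow_mul]; exact iterateFrobenius_def ..
  have hθθ : ∀ x, θ (θ x) = x := fun x => by
    rw [hθ, hθ, ← pow_mul, ← pow_add]; rw [← hK, FiniteField.pow_card]
  have hθF : ∀ c : F, θ (algebraMap F K c) = algebraMap F K (C.bar c) := fun c => by
    rw [hθ, C.bar_eq, ← map_pow, show q ^ 3 = q ^ 2 * q by ring, pow_mul, ← hF, FiniteField.pow_card]
  let B : K →ₛₗ[(C.bar : F →+* F)] K →ₗ[F] F :=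
    LinearMap.mk₂'ₛₗ (C.bar : F →+* F) (RingHom.id F) (fun x y => Algebra.trace F K (θ x * y))
      (fun a b c => by simp [map_add, add_mul])
      (fun r a b => by
        rw [Algebra.smul_def, map_mul θ, hθF, mul_assoc, ← Algebra.smul_def, map_smul]; rfl)
      (fun a b c => by simp [mul_add])
      (fun r a b => by rw [mul_smul_comm, map_smul]; rfl)
  have hsymm : B.IsSymm := ⟨fun x y => by
    show C.bar (Algebra.trace F K (θ x * y)) = Algebra.trace F K (θ y * x)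
    apply (algebraMap F K).injective
    rw [← hθF, FiniteField.algebraMap_trace_eq_sum_pow, FiniteField.algebraMap_trace_eq_sum_pow, map_sum]
    refine Finset.sum_congr rfl fun i _ => ?_
    rw [map_pow, map_mul, hθθ, mul_comm]⟩
  have hnd : B.Nondegenerate := by
    refine ⟨fun x h => ?_, fun y h => ?_⟩
    · have h0 : θ x = 0 := (traceForm_nondegenerate F K).1 (θ x) fun y => h y
      exact θ.injective (by rw [h0, map_zero])
    · refine (traceForm_nondegenerate F K).2 y fun z => ?_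
      have := h (θ z)
      rwa [show B (θ z) y = Algebra.trace F K (θ (θ z) * y) from rfl, hθθ] at this
  have hq : 1 < q := by
    have := Fintype.one_lt_card (α := F)
    rw [hF] at this
    by_contra h
    rcases Nat.le_one_iff_eq_zero_or_eq_one.1 (not_lt.1 h) with h | h <;> simp [h] at this
  obtain ⟨r, hr⟩ : ∃ r, q = r + 1 := ⟨q - 1, by omega⟩
  set N := q ^ 2 - q + 1 with hN
  have hNr : N = r * r + r + 1 := by
    have : q ^ 2 = r * r + r + q := by rw [hr]; ring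
    omega
  have hN6 : N ∣ q ^ 6 - 1 := ⟨(q ^ 3 - 1) * (q + 1), by
    have e1 : q ^ 6 - 1 = (q ^ 3 + 1) * (q ^ 3 - 1) := by rw [← Nat.sq_sub_sq]; ring_nf
    rw [e1, show q ^ 3 + 1 = N * (q + 1) by rw [hNr, hr]; ring]; ring⟩
  obtain ⟨u, hu⟩ := IsCyclic.exists_ofOrder_eq_natCard (α := Kˣ)
  rw [Nat.card_units, Nat.card_eq_fintype_card, hK] at hu
  obtain ⟨l, hl⟩ : ∃ l : Kˣ, orderOf l = N :=
    ⟨u ^ (orderOf u / N), orderOf_pow_orderOf_div (orderOf_pos u).ne' (hu ▸ hN6)⟩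
  have hlpow : ∀ j, N ∣ j → (l : K) ^ j = 1 := fun j hj => by
    rw [← Units.val_pow_eq_pow_val, Units.val_eq_one, ← orderOf_dvd_iff_pow_eq_one, hl]; exact hj
  obtain ⟨A, hA⟩ := transfer C B hsymm hnd hfin (Algebra.lmul F K (l : K)) (fun x y => by
      show Algebra.trace F K (θ ((l : K) * x) * ((l : K) * y)) = Algebra.trace F K (θ x * y)
      rw [map_mul θ, mul_mul_mul_comm, hθ (l : K), ← pow_succ,
        hlpow _ ⟨q + 1, by rw [hNr, hr]; ring⟩, one_mul])
    (by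
      rw [← Algebra.norm_apply]
      apply (algebraMap F K).injective
      rw [map_one, FiniteField.algebraMap_norm_eq_pow, Nat.card_eq_fintype_card, Nat.card_eq_fintype_card, hK,
        ← hlpow ((q ^ 6 - 1) / (Fintype.card F - 1)) ?_]
      rw [hF]
      have e1 : (q ^ 2 - 1) * (q ^ 4 + q ^ 2 + 1) = q ^ 6 - 1 := by
        rw [Nat.sub_mul, one_mul]
        have : q ^ 2 * (q ^ 4 + q ^ 2 + 1) = q ^ 6 + (q ^ 4 + q ^ 2) := by ring
        have := Nat.one_le_pow 6 q (by omega)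
        omega
      rw [← e1, Nat.mul_div_cancel_left _ (Nat.sub_pos_of_lt (Nat.one_lt_pow two_ne_zero hq))]
      exact ⟨q ^ 2 + q + 1, by rw [hNr, hr]; ring⟩)
  refine ⟨pr A, orderOf_eq_of_iff fun k => (hA k).trans ?_⟩
  have hfix : (∃ c : F, (Algebra.lmul F K (l : K)) ^ k = c • 1) ↔ N ∣ k * (q ^ 2 - 1) := by
    have hc : ∀ c : F, (Algebra.lmul F K (l : K)) ^ k = c • 1 ↔ (l : K) ^ k = algebraMap F K c := fun c => by
      rw [← map_pow, ← Algebra.algebraMap_eq_smul_one, ← AlgHom.commutes (Algebra.lmul F K) c,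
        Algebra.lmul_injective.eq_iff]
    simp only [hc]
    rw [← hF, ← hl, orderOf_dvd_iff_pow_eq_one, pow_mul, ← Units.val_eq_one, Units.val_pow_eq_pow_val, Units.val_pow_eq_pow_val l k]
    constructor
    · rintro ⟨c, h⟩
      rw [h, ← map_pow, FiniteField.pow_card_sub_one_eq_one c, map_one]
      intro h0
      rw [h0, map_zero] at h
      exact pow_ne_zero _ l.ne_zero h
    · intro h
      obtain ⟨c, hc⟩ := CfsgLib.Absorb.pow_card_eq_self_mem (F := F) (x := (l : K) ^ k) (by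
        calc ((l : K) ^ k) ^ Fintype.card F = ((l : K) ^ k) ^ (Fintype.card F - 1 + 1) := by
              rw [Nat.sub_add_cancel Fintype.card_pos]
          _ = (l : K) ^ k := by rw [pow_succ, h, one_mul])
      exact ⟨c, hc.symm⟩
  rw [hfix]
  have hgcd : Nat.gcd N (q ^ 2 - 1) = Nat.gcd 3 (q + 1) := by
    rw [show q ^ 2 - 1 = r * (q + 1) by rw [← one_pow 2, Nat.sq_sub_sq, hr, Nat.add_sub_cancel]; ring]
    have h1 : N.Coprime r := by
      rw [hNr, show r * r + r + 1 = 1 + r * (r + 1) by ring]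
      exact (Nat.coprime_add_mul_left_left 1 r (r + 1)).2 (Nat.coprime_one_left r) 
    rw [Nat.Coprime.gcd_mul_left_cancel_right _ h1.symm]
    rw [hNr, hr]
    have h3 : r * r + r + 1 + (r + 1 + 1) * 1 = 3 + (r + 1 + 1) * r := by ring
    rw [Nat.gcd_comm, Nat.gcd_comm 3, ← Nat.gcd_add_mul_left_right (r + 1 + 1) (r * r + r + 1) 1, h3, Nat.gcd_add_mul_left_right]
  rw [← hgcd]
  have hg0 : 0 < Nat.gcd N (q ^ 2 - 1) := Nat.gcd_pos_of_pos_left _ (by omega)
  constructor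
  · intro h
    obtain ⟨N', M', hco, hN', hM'⟩ := Nat.exists_coprime N (q ^ 2 - 1)
    rw [show k * (q ^ 2 - 1) = (k * M') * Nat.gcd N (q ^ 2 - 1) by rw [mul_assoc, ← hM']] at h
    nth_rewrite 1 [hN'] at h
    conv_lhs => arg 1; rw [hN']
    rw [Nat.mul_div_cancel _ hg0]
    exact hco.dvd_of_dvd_mul_right ((Nat.mul_dvd_mul_iff_right hg0).1 h)
  · intro h
    calc N = N / Nat.gcd N (q ^ 2 - 1) * Nat.gcd N (q ^ 2 - 1) := (Nat.div_mul_cancel (Nat.gcd_dvd_left _ _)).symm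
      _ ∣ k * (q ^ 2 - 1) := mul_dvd_mul h (Nat.gcd_dvd_right _ _)

include C in
theorem psu_upper (p : ℕ) [Fact p.Prime] [CharP F p] (hp2 : p ≠ 2) (hF : Fintype.card F = q ^ 2)
    (g : Cfsg.PSU 3 F q) :
    let d := Nat.gcd 3 (q + 1)
    orderOf g ∣ q + 1 ∨ orderOf g ∣ p * (q + 1) / d ∨ orderOf g ∣ (q ^ 2 - 1) / d ∨
      orderOf g ∣ (q ^ 2 - q + 1) / d := by
  classical
  intro d
  obtain ⟨A, rfl⟩ := QuotientGroup.mk'_surjective _ g
  let K := AlgebraicClosure F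
  let φ : F →+* K := algebraMap F K
  haveI : CharP K p := charP_of_injective_algebraMap φ.injective p
  obtain ⟨a, b, c, hcp, hprod⟩ := exists_roots φ A.1.1
  rw [A.1.2, map_one] at hprod
  have ne0 : ∀ {x y z : K}, x * y * z = 1 → x ≠ 0 ∧ y ≠ 0 ∧ z ≠ 0 := fun h =>
    ⟨fun e => by simp [e] at h, fun e => by simp [e] at h, fun e => by simp [e] at h⟩
  obtain ⟨f, hp, hf⟩ := FiniteField.card F p
  obtain ⟨e, he, hqe⟩ : ∃ e, e ≤ (f : ℕ) ∧ q = p ^ e := (Nat.dvd_prime_pow hp).1 (hf ▸ hF ▸ dvd_pow_self q two_ne_zero)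
  let τ : K →+* K := iterateFrobenius K p e
  have hτ : ∀ x, τ x = x ^ q := fun x => by rw [hqe]; exact iterateFrobenius_def ..
  let N : Matrix (Fin 3) (Fin 3) K := A.1.1.map φ
  have hNd : N.det = 1 := by
    show (A.1.1.map φ).det = 1
    rw [← RingHom.mapMatrix_apply, ← RingHom.map_det, A.1.2, map_one]
  have hunit : N * (N.map τ)ᵀ = 1 := by
    have h : A.1.1ᵀ * A.1.1.map C.bar = 1 := by
      refine Matrix.ext fun i j => ?_
      have := A.2 (Pi.single i 1) (Pi.single j 1)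
      change (∑ l, (A.1.1 *ᵥ Pi.single i 1) l * (A.1.1 *ᵥ Pi.single j 1) l ^ q) = ∑ l, (Pi.single i (1 : F) : Fin 3 → F) l * (Pi.single j (1 : F) : Fin 3 → F) l ^ q at this
      rw [C.hermForm_eq, C.hermForm_eq] at this
      simpa [UCtx.form, Matrix.mulVec_single, Matrix.mul_apply, Matrix.transpose_apply, Pi.single_apply,
        Matrix.one_apply, eq_comm] using this
    have h' := congrArg (fun M : Matrix (Fin 3) (Fin 3) F => (φ.mapMatrix M)ᵀ) h
    simp only [map_mul, map_one, Matrix.transpose_mul, Matrix.transpose_one, RingHom.mapMatrix_apply] at h'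
    rw [show N.map τ = (A.1.1.map C.bar).map φ by
      ext i j; simp [N, hτ, C.bar_eq, φ]]
    rw [Matrix.transpose_map, Matrix.transpose_transpose] at h'
    exact mul_eq_one_comm.1 h'
  have hperm : [(τ a)⁻¹, (τ b)⁻¹, (τ c)⁻¹].Perm [a, b, c] := by
    refine cub_perm (Polynomial.funext fun x => ?_)
    obtain ⟨ha, hb, hc⟩ := ne0 (x := τ a) (y := τ b) (z := τ c) (by rw [← map_mul, ← map_mul, hprod, map_one])
    have hev : ∀ y : K, (cub (τ a) (τ b) (τ c)).eval y = (Matrix.scalar (Fin 3) y - (N.map τ)ᵀ).det := fun y => by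
      rw [← Matrix.eval_charpoly, Matrix.charpoly_transpose, Matrix.charpoly_map, Matrix.charpoly_map, hcp]
      simp [cub]
    have hev' : (cub a b c).eval x = (Matrix.scalar (Fin 3) x - N).det := by
      rw [← Matrix.eval_charpoly, Matrix.charpoly_map, hcp]
    have hNd' : (N.map τ)ᵀ.det = 1 := by
      rw [Matrix.det_transpose, ← RingHom.mapMatrix_apply, ← RingHom.map_det, hNd, map_one]
    have habc' : τ a * τ b * τ c = 1 := by rw [← map_mul, ← map_mul, hprod, map_one]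
    rcases eq_or_ne x 0 with rfl | hx
    · have h1 := congrArg (·⁻¹) habc'
      simp only [mul_inv, inv_one] at h1
      simp [cub]
      linear_combination -h1 + hprod
    · have key : (Matrix.scalar (Fin 3) x - N) * (N.map τ)ᵀ = -(x • (Matrix.scalar (Fin 3) x⁻¹ - (N.map τ)ᵀ)) := by
        rw [sub_mul, hunit, smul_sub, neg_sub, Matrix.scalar_apply, Matrix.scalar_apply, ← Matrix.smul_one_eq_diagonal,
          ← Matrix.smul_one_eq_diagonal, smul_mul_assoc, one_mul, smul_smul, mul_inv_cancel₀ hx, one_smul]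
      have h1 := congrArg Matrix.det key
      rw [Matrix.det_mul, hNd', mul_one, ← hev', Matrix.det_neg, Matrix.det_smul, Fintype.card_fin, ← hev] at h1
      rw [h1]
      simp [cub]
      have hh : ∀ z : K, z ≠ 0 → x - z⁻¹ = -x * (x⁻¹ - z) * z⁻¹ := fun z hz => by
        linear_combination z⁻¹ * mul_inv_cancel₀ hx - x * mul_inv_cancel₀ hz
      have h2 : (τ a)⁻¹ * ((τ b)⁻¹ * (τ c)⁻¹) = 1 := by rw [← mul_inv, ← mul_inv, ← mul_assoc, habc', inv_one]
      rw [hh _ ha, hh _ hb, hh _ hc]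
      linear_combination (-x ^ 3 * ((x⁻¹ - τ a) * (x⁻¹ - τ b) * (x⁻¹ - τ c))) * h2
  have key : ∀ {k : ℕ} {μ : K}, cub a b c ∣ X ^ k - Polynomial.C μ → orderOf (pr A) ∣ k := by
    intro k μ h
    obtain ⟨x, hx⟩ := pow_scalar φ A.1.1 hcp h
    refine orderOf_dvd_of_pow_eq_one ?_
    rw [← map_pow, mk_eq_one_iff C]
    exact ⟨x, hx⟩
  have hfx : ∀ {x y : K}, x ≠ 0 → (τ x)⁻¹ = y → y * x ^ q = 1 := fun {x y} hx h => by
    rw [← h, hτ, inv_mul_cancel₀ (pow_ne_zero _ hx)]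
  have hd3 : d ∣ 3 := Nat.gcd_dvd_left _ _
  have hdq : d ∣ q + 1 := Nat.gcd_dvd_right _ _
  have other : ∀ {x y μ : K} {m : ℕ}, y * x ^ q = 1 → x ^ m = μ → μ ^ d = 1 → y ^ m = μ := by
    intro x y μ m h hx hμ
    have h1 : y ^ m * μ ^ q = 1 := by rw [← hx, ← pow_mul, mul_comm m q, pow_mul, ← mul_pow, h, one_pow]
    obtain ⟨w, hw⟩ := hdq
    have h2 : μ * μ ^ q = 1 := by rw [← pow_succ', hw, pow_mul, hμ, one_pow]
    have hq0 : μ ^ q ≠ 0 := fun h0 => by rw [h0, mul_zero] at h1; exact zero_ne_one h1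
    exact mul_right_cancel₀ hq0 (h1.trans h2.symm)
  have third : ∀ {x y z μ : K} {m : ℕ}, x * y * z = 1 → x ^ m = μ → y ^ m = μ → μ ^ d = 1 → z ^ m = μ := by
    intro x y z μ m h hx hy hμ
    obtain ⟨w, hw⟩ := hd3
    have h3 : μ ^ 3 = 1 := by rw [hw, pow_mul, hμ, one_pow]
    have h1 : x ^ m * y ^ m * z ^ m = 1 := by rw [← mul_pow, ← mul_pow, h, one_pow]
    rw [hx, hy] at h1
    calc z ^ m = μ ^ 3 * z ^ m := by rw [h3, one_mul]
      _ = μ * (μ * μ * z ^ m) := by ring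
      _ = μ := by rw [h1, mul_one]
  have hq : 1 < q := by
    have := Fintype.one_lt_card (α := F)
    rw [hF] at this
    by_contra h
    rcases Nat.le_one_iff_eq_zero_or_eq_one.1 (not_lt.1 h) with h | h <;> simp [h] at this
  have cyc : ∀ x y z : K, cub x y z = cub a b c → x * y * z = 1 → (τ x)⁻¹ = y → (τ y)⁻¹ = z →
      x ≠ y → x ≠ z → y ≠ z → orderOf (pr A) ∣ (q ^ 2 - q + 1) / d := by
    intro x y z hs hxyz hxy hyz e1 e2 e3
    obtain ⟨hx, hy, -⟩ := ne0 hxyz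
    have f1 := hfx hx hxy
    have f2 := hfx hy hyz
    obtain ⟨r, hr⟩ : ∃ r, q = r + 1 := ⟨q - 1, by omega⟩
    have hNr : q ^ 2 - q + 1 = r * r + r + 1 := by
      have : q ^ 2 = r * r + r + q := by rw [hr]; ring
      omega
    have hz : z = x ^ (q * q) := by
      calc z = z * (y * x ^ q) ^ q := by rw [f1, one_pow, mul_one]
        _ = (z * y ^ q) * x ^ (q * q) := by rw [mul_pow, pow_mul]; ring
        _ = x ^ (q * q) := by rw [f2, one_mul]
    have hN : x ^ (q ^ 2 - q + 1) = 1 := by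
      rw [hNr]
      calc x ^ (r * r + r + 1) = x ^ (r * r + r + 1) * (y * x ^ q) := by rw [f1, mul_one]
        _ = x * y * x ^ (q * q) := by rw [show q * q = r * r + r + q by rw [hr]; ring, pow_add x (r * r + r) q]; ring
        _ = 1 := by rw [← hz, hxyz]
    have hdN : d ∣ q ^ 2 - q + 1 := by
      obtain ⟨v, hv⟩ := hdq
      obtain ⟨w, hw⟩ := hd3
      rw [hNr]
      have h6 : r * r + r + 1 + 3 * (d * v) = (d * v) * (d * v) + d * w := by
        rw [← hw, ← hv, hr]; ring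
      have h7 : d ∣ r * r + r + 1 + 3 * (d * v) := by
        rw [h6]; exact dvd_add (dvd_mul_of_dvd_left (dvd_mul_right d v) _) (dvd_mul_right d w)
      exact (Nat.dvd_add_left (dvd_mul_of_dvd_right (dvd_mul_right d v) 3)).1 h7
    set m := (q ^ 2 - q + 1) / d
    have hμ : (x ^ m) ^ d = 1 := by rw [← pow_mul, Nat.div_mul_cancel hdN, hN]
    have hy := other f1 rfl hμ
    exact key (hs ▸ dvd_distinct e1 e2 e3 rfl hy (third hxyz rfl hy hμ))
  have hinj : Function.Injective fun x : K => (τ x)⁻¹ := fun x y h => τ.injective (inv_injective h)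
  rcases perm_cases hinj hperm with ⟨h1, h2, h3⟩ | ⟨x, y, z, hs, hxyz, h1, h2, -, e1, e2, e3⟩ |
      ⟨h1, h2, -, e1, e2, e3⟩ | ⟨h1, h2, -, e1, e2, e3⟩
  · obtain ⟨ha, hb, hc⟩ := ne0 hprod
    have fx : ∀ {x : K}, x ≠ 0 → (τ x)⁻¹ = x → x ^ (q + 1) = 1 := fun hx h => by
      rw [pow_succ']; exact hfx hx h
    obtain ⟨k, hk, μ, hd⟩ := fixed_case p (fx ha h1) (fx hb h2) (fx hc h3) hprod
    have := key hd
    rcases hk with hk | hk | ⟨h2, -⟩
    · exact Or.inl (this.trans hk)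
    · exact Or.inr (Or.inl (this.trans (by rw [Nat.mul_div_assoc _ hdq]; exact hk)))
    · exact absurd h2 hp2
  · obtain ⟨hx, hy, -⟩ := ne0 (hxyz.trans hprod)
    right; right; left
    have f1 := hfx hx h1
    have f2 := hfx hy h2
    have hN : x ^ (q ^ 2 - 1) = 1 := by
      refine mul_right_cancel₀ hx ?_
      rw [← pow_succ, Nat.sub_add_cancel (Nat.one_le_pow _ _ (by omega)), one_mul, pow_two]
      calc x ^ (q * q) = (x * y ^ q) * x ^ (q * q) := by rw [f2, one_mul]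
        _ = x * (y * x ^ q) ^ q := by rw [mul_pow, pow_mul]; ring
        _ = x := by rw [f1, one_pow, mul_one]
    have hdN : d ∣ q ^ 2 - 1 := hdq.trans ⟨q - 1, by rw [← Nat.sq_sub_sq, one_pow]⟩
    set m := (q ^ 2 - 1) / d
    have hμ : (x ^ m) ^ d = 1 := by rw [← pow_mul, Nat.div_mul_cancel hdN, hN]
    have hy := other f1 rfl hμ
    exact key (hs ▸ dvd_distinct e1 e2 e3 rfl hy (third (hxyz.trans hprod) rfl hy hμ))
  · exact Or.inr (Or.inr (Or.inr (cyc a b c rfl hprod h1 h2 e1 e2 e3)))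
  · exact Or.inr (Or.inr (Or.inr (cyc a c b (cub_comm₂ a c b) (by rw [← hprod]; ring) h1 h2 e2 e1 e3.symm)))

end unitary

end CfsgLib.Classical.ThreeSpectra
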