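import Mathlib

/-!
# A factorisation `A B A` of `SL(2, 2^f)`
-/

set_option autoImplicit false

namespace CfsgLib.Classical.TorusBAB

open Matrix

variable {F : Type*} [Field F] [Fintype F] [CharP F 2]

/-- The norm form. -/
def nf (c : F) (v : F × F) : F := v.1 * v.1 + v.1 * v.2 + c * (v.2 * v.2)

omit [Fintype F] [CharP F 2] in
theorem nf_smul (c t : F) (v : F × F) : nf c (t * v.1, t * v.2) = t * t * nf c v := by
  simp only [nf]; ring

/-- The anisotropic torus. -/
def torus (c : F) : Subgroup (Matrix.SpecialLinearGroup (Fin 2) F) where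
  carrier := {M | M.1 0 1 = c * M.1 1 0 ∧ M.1 1 1 = M.1 0 0 + M.1 1 0}
  one_mem' := by simp
  mul_mem' {M N} hM hN := by
    obtain ⟨a, b⟩ := hM
    obtain ⟨a', b'⟩ := hN
    constructor
    · show (M.1 * N.1) 0 1 = c * (M.1 * N.1) 1 0
      simp only [Matrix.mul_apply, Fin.sum_univ_two, a, b, a', b']
      ring
    · show (M.1 * N.1) 1 1 = (M.1 * N.1) 0 0 + (M.1 * N.1) 1 0
      simp only [Matrix.mul_apply, Fin.sum_univ_two, a, b, a', b']
      ring
  inv_mem' {M} hM := by
    obtain ⟨a, b⟩ := hM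
    constructor
    · rw [Matrix.SpecialLinearGroup.SL2_inv_expl M]
      simp [a]
    · rw [Matrix.SpecialLinearGroup.SL2_inv_expl M]
      simp [b, CharTwo.neg_eq]
      linear_combination -(M.1 1 0) * (CharTwo.two_eq_zero : (2 : F) = 0)

omit [Fintype F] in
theorem mem_torus {c : F} {M : Matrix.SpecialLinearGroup (Fin 2) F} :
    M ∈ torus c ↔ M.1 0 1 = c * M.1 1 0 ∧ M.1 1 1 = M.1 0 0 + M.1 1 0 := Iff.rfl

omit [Fintype F] in
theorem torus_det {c : F} (M : torus c) : nf c (M.1.1 0 0, M.1.1 1 0) = 1 := by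
  obtain ⟨a, b⟩ := M.2
  have h := M.1.2
  rw [Matrix.det_fin_two, a, b] at h
  simp only [nf]
  linear_combination h + (c * (M.1.1 1 0 * M.1.1 1 0)) * (CharTwo.two_eq_zero : (2 : F) = 0)

omit [Fintype F] in
theorem exists_torus {c : F} (v : F × F) (hv : nf c v = 1) : ∃ M : torus c, (M.1.1 0 0, M.1.1 1 0) = v := by
  refine ⟨⟨⟨!![v.1, c * v.2; v.2, v.1 + v.2], ?_⟩, mem_torus.2 ⟨rfl, rfl⟩⟩, rfl⟩
  rw [Matrix.det_fin_two_of]
  simp only [nf] at hv
  linear_combination hv - (c * (v.2 * v.2)) * (CharTwo.two_eq_zero : (2 : F) = 0)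

omit [Fintype F] in
theorem torus_ext {c : F} {M N : torus c} (h0 : M.1.1 0 0 = N.1.1 0 0) (h1 : M.1.1 1 0 = N.1.1 1 0) : M = N := by
  refine Subtype.ext (Subtype.ext (Matrix.ext fun i j => ?_))
  fin_cases i <;> fin_cases j <;> simp [M.2.1, N.2.1, M.2.2, N.2.2, h0, h1]

theorem exists_sqrt (t : F) : ∃ r : F, r * r = t := by
  obtain ⟨r, hr⟩ := FiniteField.isSquare_of_char_two (F := F) (ringChar.eq F 2) t
  exact ⟨r, hr.symm⟩

omit [Fintype F] in
theorem sq_inj {a b : F} (h : a * a = b * b) : a = b := by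
  have : (a + b) * (a + b) = 0 := by
    linear_combination h + (a * b + b * b) * (CharTwo.two_eq_zero : (2 : F) = 0)
  exact CharTwo.add_eq_zero.1 (mul_self_eq_zero.1 this)

theorem exists_aniso : ∃ c : F, ∀ t : F, t * t + t + c ≠ 0 := by
  by_contra hc
  push Not at hc
  have hsur : Function.Surjective (fun t : F => t * t + t) := fun c => by
    obtain ⟨t, ht⟩ := hc c
    exact ⟨t, CharTwo.add_eq_zero.1 ht⟩
  exact one_ne_zero ((Finite.injective_iff_surjective.2 hsur)
    (show (1 : F) * 1 + 1 = 0 * 0 + 0 by rw [one_mul, CharTwo.add_self_eq_zero]; simp))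

omit [Fintype F] in
theorem nf_eq_zero {c : F} (hc : ∀ t : F, t * t + t + c ≠ 0) {v : F × F} (h : nf c v = 0) : v = 0 := by
  simp only [nf] at h
  by_cases hy : v.2 = 0
  · rw [hy, mul_zero, mul_zero, mul_zero, add_zero, add_zero, mul_self_eq_zero] at h
    exact Prod.ext h hy
  · exfalso
    refine hc (v.1 / v.2) ?_
    field_simp
    linear_combination h

omit [Fintype F] in
theorem torus_cyclic [Finite F] {c : F} (hc : ∀ t : F, t * t + t + c ≠ 0) : IsCyclic (torus c) := by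
  set k := AlgebraicClosure F
  obtain ⟨r, hr⟩ := IsAlgClosed.exists_root
    ((Polynomial.X ^ 2 + Polynomial.X + Polynomial.C c).map (algebraMap F (AlgebraicClosure F)))
    (by rw [Polynomial.degree_map, show (Polynomial.X ^ 2 + Polynomial.X + Polynomial.C c : Polynomial F).degree = 2 by
      compute_degree!]; norm_num)
  simp at hr
  haveI : CharP k 2 := charP_of_injective_algebraMap (algebraMap F k).injective 2
  have hrF : ∀ t : F, algebraMap F k t ≠ r := fun t ht => hc t ((algebraMap F k).injective (by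
    rw [map_add, map_add, map_mul, ht, map_zero]
    linear_combination hr))
  let f : torus c →* k :=
    { toFun := fun M => algebraMap F k (M.1.1 0 0) + r * algebraMap F k (M.1.1 1 0)
      map_one' := by simp
      map_mul' := fun M N => by
        obtain ⟨a, b⟩ := M.2
        show algebraMap F k ((M.1.1 * N.1.1) 0 0) + r * algebraMap F k ((M.1.1 * N.1.1) 1 0) = _
        simp only [Matrix.mul_apply, Fin.sum_univ_two, a, b, map_add, map_mul]
        linear_combination -(algebraMap F k (M.1.1 1 0) * algebraMap F k (N.1.1 1 0)) * hr +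
          (algebraMap F k (M.1.1 1 0) * algebraMap F k (N.1.1 1 0) * (r + algebraMap F k c)) * (CharTwo.two_eq_zero : (2 : k) = 0) }
  refine isCyclic_of_subgroup_isDomain f fun M N h => ?_
  have h' : algebraMap F k (M.1.1 0 0 - N.1.1 0 0) = r * algebraMap F k (N.1.1 1 0 - M.1.1 1 0) := by
    have h0 : algebraMap F k (M.1.1 0 0) + r * algebraMap F k (M.1.1 1 0) =
      algebraMap F k (N.1.1 0 0) + r * algebraMap F k (N.1.1 1 0) := h
    simp only [map_sub]
    linear_combination h0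
  have h1 : M.1.1 1 0 = N.1.1 1 0 := by
    by_contra hne
    have hs : N.1.1 1 0 - M.1.1 1 0 ≠ 0 := sub_ne_zero.2 (Ne.symm hne)
    refine hrF ((M.1.1 0 0 - N.1.1 0 0) / (N.1.1 1 0 - M.1.1 1 0)) ?_
    rw [map_div₀, h', mul_div_assoc, div_self ((map_ne_zero _).2 hs), mul_one]
  rw [h1, sub_self, map_zero, mul_zero, map_eq_zero, sub_eq_zero] at h'
  exact torus_ext h' h1

theorem card_torus {c : F} (hc : ∀ t : F, t * t + t + c ≠ 0) : Nat.card (torus c) = Fintype.card F + 1 := by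
  classical
  let g : Fˣ × torus c → {v : F × F // v ≠ 0} := fun p => ⟨((p.1 : F) * p.2.1.1 0 0, (p.1 : F) * p.2.1.1 1 0), fun h => by
    have h1 := congrArg (nf c) h
    rw [nf_smul c p.1 (p.2.1.1 0 0, p.2.1.1 1 0), torus_det] at h1
    simp [nf] at h1⟩
  have hg : Function.Bijective g := by
    constructor
    · rintro ⟨t, M⟩ ⟨s, N⟩ h
      have h1 := congrArg Subtype.val h
      have h2 := congrArg (nf c) h1
      simp only [g] at h2
      rw [nf_smul c t (M.1.1 0 0, M.1.1 1 0), nf_smul c s (N.1.1 0 0, N.1.1 1 0), torus_det, torus_det, mul_one, mul_one] at h2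
      obtain rfl : t = s := Units.ext (sq_inj h2)
      simp only [g, Prod.mk.injEq, mul_eq_mul_left_iff, t.ne_zero, or_false] at h1
      rw [torus_ext h1.1 h1.2]
    · rintro ⟨v, hv⟩
      obtain ⟨r, hr⟩ := exists_sqrt (nf c v)
      have hr0 : r ≠ 0 := fun h => hv (nf_eq_zero hc (by rw [← hr, h, mul_zero]))
      obtain ⟨M, hM⟩ := exists_torus (c := c) (r⁻¹ * v.1, r⁻¹ * v.2) (by rw [nf_smul, ← hr]; field_simp)
      refine ⟨(Units.mk0 r hr0, M), Subtype.ext ?_⟩
      simp only [Prod.mk.injEq] at hM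
      simp [g, hM.1, hM.2, hr0]
  have h := Nat.card_eq_of_bijective g hg
  rw [Nat.card_prod, Nat.card_units, Nat.card_eq_fintype_card (α := {v : F × F // v ≠ 0}), Nat.card_eq_fintype_card (α := F),
    Fintype.card_subtype_compl, Fintype.card_subtype_eq, Fintype.card_prod] at h
  have hq : 1 < Fintype.card F := Fintype.one_lt_card
  obtain ⟨q, hq'⟩ : ∃ q, Fintype.card F = q + 2 := ⟨Fintype.card F - 2, by omega⟩
  rw [hq'] at h ⊢
  rw [show q + 2 - 1 = q + 1 from rfl, show (q + 2) * (q + 2) - 1 = (q + 1) * (q + 3) by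
    rw [show (q + 2) * (q + 2) = (q + 1) * (q + 3) + 1 by ring]; rfl] at h
  exact mul_left_cancel₀ (Nat.succ_ne_zero q) h

/-- The unipotent subgroup. -/
def unip : Subgroup (Matrix.SpecialLinearGroup (Fin 2) F) where
  carrier := {M | M.1 0 0 = 1 ∧ M.1 1 0 = 0}
  one_mem' := by simp
  mul_mem' {M N} hM hN := by
    constructor
    · show (M.1 * N.1) 0 0 = 1
      simp [Matrix.mul_apply, Fin.sum_univ_two, hM.1, hM.2, hN.1, hN.2]
    · show (M.1 * N.1) 1 0 = 0
      simp [Matrix.mul_apply, Fin.sum_univ_two, hM.1, hM.2, hN.1, hN.2]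
  inv_mem' {M} hM := by
    have h := M.2
    rw [Matrix.det_fin_two, hM.1, hM.2, mul_zero, sub_zero, one_mul] at h
    constructor <;> rw [Matrix.SpecialLinearGroup.SL2_inv_expl M] <;> simp [h, hM.2]

omit [Fintype F] in
theorem unip_eq {M : Matrix.SpecialLinearGroup (Fin 2) F} (hM : M ∈ unip (F := F)) :
    M.1 = !![1, M.1 0 1; 0, 1] := by
  have h := M.2
  rw [Matrix.det_fin_two, show M.1 0 0 = 1 from hM.1, show M.1 1 0 = 0 from hM.2, mul_zero, sub_zero, one_mul] at h
  rw [Matrix.eta_fin_two M.1, show M.1 0 0 = 1 from hM.1, show M.1 1 0 = 0 from hM.2, h]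
  simp

omit [Fintype F] in
theorem card_unip [Finite F] : Nat.card (unip (F := F)) = Nat.card F := by
  refine Nat.card_eq_of_bijective (fun M => M.1.1 0 1) ⟨fun M N h => ?_, fun t => ⟨⟨⟨!![1, t; 0, 1], by simp⟩, rfl, rfl⟩, rfl⟩⟩
  have h' : M.1.1 0 1 = N.1.1 0 1 := h
  exact Subtype.ext (Subtype.ext (by rw [unip_eq M.2, unip_eq N.2, h']))

omit [Fintype F] in
theorem unip_invol {M : Matrix.SpecialLinearGroup (Fin 2) F} (hM : M ∈ unip (F := F)) : M * M = 1 := by
  refine Subtype.ext ?_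
  rw [Matrix.SpecialLinearGroup.coe_mul, unip_eq hM]
  ext i j
  fin_cases i <;> fin_cases j <;> simp [Matrix.mul_apply, Fin.sum_univ_two]
  exact CharTwo.add_self_eq_zero _

/-- The factorisation. -/
theorem exists_factor {c : F} (hc : ∀ t : F, t * t + t + c ≠ 0) (g : Matrix.SpecialLinearGroup (Fin 2) F) :
    ∃ a ∈ torus c, ∃ b ∈ unip (F := F), ∃ a' ∈ torus c, g = a * b * a' := by
  classical
  have hg := g.2
  rw [Matrix.det_fin_two] at hg
  set p := g.1 0 0
  set r := g.1 0 1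
  set s := g.1 1 0
  set u := g.1 1 1
  let img : F × F → F × F := fun v => (p * v.1 + r * v.2, s * v.1 + u * v.2)
  obtain ⟨α, hα⟩ := exists_sqrt (p * p + p * s + c * (s * s) + 1)
  obtain ⟨β, hβ⟩ := exists_sqrt (r * r + r * u + c * (u * u) + c)
  have hdiff : ∀ v, nf c (img v) + nf c v = (α * v.1 + β * v.2) * (α * v.1 + β * v.2) := by
    intro v
    simp only [img, nf]
    linear_combination -(v.1 * v.1) * hα - (v.2 * v.2) * hβ + (v.1 * v.2) * hg +
      (v.1 * v.2 * (p * r + r * s + c * (s * u) + 1 - α * β)) * (CharTwo.two_eq_zero : (2 : F) = 0)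
  obtain ⟨v, hv0, hv⟩ : ∃ v : F × F, v ≠ 0 ∧ α * v.1 + β * v.2 = 0 := by
    by_cases hab : α = 0
    · exact ⟨(1, 0), by simp, by simp [hab]⟩
    · exact ⟨(β, α), by simp [hab], by linear_combination (α * β) * (CharTwo.two_eq_zero : (2 : F) = 0)⟩
  have heq : nf c (img v) = nf c v := CharTwo.add_eq_zero.1 (by rw [hdiff, hv, mul_zero])
  obtain ⟨t, ht⟩ := exists_sqrt (nf c v)
  have ht0 : t ≠ 0 := fun h => hv0 (nf_eq_zero hc (by rw [← ht, h, mul_zero]))
  obtain ⟨M, hM⟩ := exists_torus (c := c) (t⁻¹ * v.1, t⁻¹ * v.2) (by rw [nf_smul, ← ht]; field_simp)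
  obtain ⟨N, hN⟩ := exists_torus (c := c) (t⁻¹ * (img v).1, t⁻¹ * (img v).2) (by rw [nf_smul, heq, ← ht]; field_simp)
  simp only [Prod.mk.injEq, img] at hM hN
  refine ⟨N, N.2, N.1⁻¹ * g * M.1, ?_, M.1⁻¹, inv_mem M.2, by group⟩
  have hcol : ∀ i, (g.1 * M.1.1) i 0 = N.1.1 i 0 := by
    intro i
    fin_cases i
    · simp [Matrix.mul_apply, Fin.sum_univ_two, hM.1, hM.2, hN.1, p, r]; ring
    · simp [Matrix.mul_apply, Fin.sum_univ_two, hM.1, hM.2, hN.2, s, u]; ring
  have key : ∀ i, (N.1⁻¹ * g * M.1).1 i 0 = (1 : Matrix (Fin 2) (Fin 2) F) i 0 := by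
    intro i
    have h1 : (N.1⁻¹).1 * N.1.1 = 1 := congrArg Subtype.val (inv_mul_cancel N.1)
    rw [Matrix.SpecialLinearGroup.coe_mul, Matrix.SpecialLinearGroup.coe_mul, Matrix.mul_assoc, ← h1, Matrix.mul_apply,
      Matrix.mul_apply (M := (N.1⁻¹).1)]
    exact Finset.sum_congr rfl fun j _ => by rw [hcol]
  exact ⟨(key 0).trans (by simp), (key 1).trans (by simp)⟩

end CfsgLib.Classical.TorusBAB
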