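import Cfsg.Agent.Lib.Classical.ExcIsoSix

/-!
# The dual of an alternating matrix of size four
-/

set_option autoImplicit false

namespace CfsgLib.Classical.WedgeDual

open Matrix CfsgLib.Classical.ExcIsoSix

variable {R : Type*} [Field R]

/-- the dual -/
def dual (A : Matrix (Fin 4) (Fin 4) R) : Matrix (Fin 4) (Fin 4) R :=
  !![0, A 2 3, -A 1 3, A 1 2; -A 2 3, 0, A 0 3, -A 0 2; A 1 3, -A 0 3, 0, A 0 1; -A 1 2, A 0 2, -A 0 1, 0]

theorem dual_wedge (v : Fin 3 ⊕ Fin 3 → R) : dual (wedge v) = wedge (v ∘ Sum.swap) := by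
  ext i j
  fin_cases i <;> fin_cases j <;> simp [dual, wedge, upper]

theorem dual_conj (g : Matrix (Fin 4) (Fin 4) R) (v : Fin 3 ⊕ Fin 3 → R) :
    gᵀ * dual (g * wedge v * gᵀ) * g = g.det • dual (wedge v) := by
  ext i j
  rw [Matrix.smul_apply, Matrix.det_succ_row_zero]
  fin_cases i <;> fin_cases j <;>
    simp [Fin.sum_univ_four, Matrix.det_fin_three, Fin.succAbove, dual, wedge, upper, Matrix.mul_apply] <;> ring

end CfsgLib.Classical.WedgeDual
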